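import Mathlib
import Cfsg.Prelude.Def_Blocks

/-!
Trace facts for representations of finite groups over ℂ, via an invariant inner product.
-/

set_option autoImplicit false

namespace Cfsg.Agent.Lib.Helper25

open scoped ComplexConjugate InnerProductSpace

section Abstract

variable {E : Type*} [NormedAddCommGroup E] [InnerProductSpace ℂ E] [FiniteDimensional ℂ E]

theorem norm_trace_le_of_isometry (U : E →ₗ[ℂ] E) (hU : ∀ x, ‖U x‖ = ‖x‖) :
    ‖LinearMap.trace ℂ E U‖ ≤ Module.finrank ℂ E := by
  classical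
  let b := stdOrthonormalBasis ℂ E
  rw [LinearMap.trace_eq_sum_inner U b]
  calc ‖∑ i, ⟪b i, U (b i)⟫_ℂ‖ ≤ ∑ i, ‖⟪b i, U (b i)⟫_ℂ‖ := norm_sum_le _ _
    _ ≤ ∑ _i : Fin (Module.finrank ℂ E), (1 : ℝ) := by
        apply Finset.sum_le_sum
        intro i _
        calc ‖⟪b i, U (b i)⟫_ℂ‖ ≤ ‖b i‖ * ‖U (b i)‖ := norm_inner_le_norm _ _
          _ = 1 := by rw [hU, b.orthonormal.1 i]; norm_num
    _ = Module.finrank ℂ E := by simp

theorem eq_id_of_isometry_of_trace_eq (U : E →ₗ[ℂ] E) (hU : ∀ x, ‖U x‖ = ‖x‖)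
    (h : LinearMap.trace ℂ E U = Module.finrank ℂ E) : U = LinearMap.id := by
  classical
  let b := stdOrthonormalBasis ℂ E
  rw [LinearMap.trace_eq_sum_inner U b] at h
  have hre : ∀ i, (⟪b i, U (b i)⟫_ℂ).re ≤ 1 := by
    intro i
    calc (⟪b i, U (b i)⟫_ℂ).re ≤ ‖⟪b i, U (b i)⟫_ℂ‖ := Complex.re_le_norm _
      _ ≤ ‖b i‖ * ‖U (b i)‖ := norm_inner_le_norm _ _
      _ = 1 := by rw [hU, b.orthonormal.1 i]; norm_num
  have hsum : ∑ i, (⟪b i, U (b i)⟫_ℂ).re = ∑ _i : Fin (Module.finrank ℂ E), (1 : ℝ) := by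
    have := congrArg Complex.re h
    simpa using this
  have heq : ∀ i, (⟪b i, U (b i)⟫_ℂ).re = 1 := by
    intro i
    have := (Finset.sum_eq_sum_iff_of_le (fun i _ => hre i)).1 hsum
    exact this i (Finset.mem_univ i)
  have hfix : ∀ i, U (b i) = b i := by
    intro i
    have h1 : ‖U (b i) - b i‖ ^ 2 = 0 := by
      rw [@norm_sub_sq ℂ, hU, b.orthonormal.1 i]
      have : RCLike.re ⟪U (b i), b i⟫_ℂ = 1 := by
        rw [inner_re_symm]
        exact heq i
      rw [this]; norm_num
    have h2 : ‖U (b i) - b i‖ = 0 := by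
      exact pow_eq_zero_iff (two_ne_zero) |>.1 h1
    exact sub_eq_zero.1 (norm_eq_zero.1 h2)
  apply b.toBasis.ext
  intro i
  simpa using hfix i

theorem trace_eq_conj_trace_of_inverse_isometry (U U' : E →ₗ[ℂ] E)
    (hU : ∀ x y, ⟪U x, U y⟫_ℂ = ⟪x, y⟫_ℂ) (hinv : ∀ x, U (U' x) = x) :
    LinearMap.trace ℂ E U' = conj (LinearMap.trace ℂ E U) := by
  classical
  let b := stdOrthonormalBasis ℂ E
  rw [LinearMap.trace_eq_sum_inner U b, LinearMap.trace_eq_sum_inner U' b, map_sum]
  apply Finset.sum_congr rfl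
  intro i _
  rw [inner_conj_symm]
  calc ⟪b i, U' (b i)⟫_ℂ = ⟪U (b i), U (U' (b i))⟫_ℂ := (hU _ _).symm
    _ = ⟪U (b i), b i⟫_ℂ := by rw [hinv]

end Abstract

section Invariant

variable {G : Type*} [Group G] [Fintype G] {V : Type*} [AddCommGroup V] [Module ℂ V]
  [FiniteDimensional ℂ V]

set_option warn.classDefReducibility false in
/-- A `G`-invariant inner product core on a finite-dimensional complex representation. -/
noncomputable def invCore (ρ : Representation ℂ G V) : InnerProductSpace.Core ℂ V where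
  inner x y := ∑ g : G, ∑ i, conj ((Module.finBasis ℂ V).repr (ρ g x) i) *
    (Module.finBasis ℂ V).repr (ρ g y) i
  conj_inner_symm x y := by
    simp only [map_sum, map_mul, Complex.conj_conj]
    apply Finset.sum_congr rfl; intro g _
    apply Finset.sum_congr rfl; intro i _
    ring
  re_inner_nonneg x := by
    show 0 ≤ Complex.re (∑ g : G, ∑ i, conj ((Module.finBasis ℂ V).repr (ρ g x) i) *
      (Module.finBasis ℂ V).repr (ρ g x) i)
    simp only [Complex.re_sum]
    apply Finset.sum_nonneg; intro g _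
    apply Finset.sum_nonneg; intro i _
    rw [← Complex.normSq_eq_conj_mul_self]
    simpa using Complex.normSq_nonneg _
  add_left x y z := by
    simp only [map_add, Finsupp.coe_add, Pi.add_apply, add_mul, Finset.sum_add_distrib]
  smul_left x y r := by
    simp only [map_smul, Finsupp.coe_smul, Pi.smul_apply, smul_eq_mul, map_mul, Finset.mul_sum]
    apply Finset.sum_congr rfl; intro g _
    apply Finset.sum_congr rfl; intro i _
    ring
  definite x hx := by
    have h1 : ∀ g ∈ (Finset.univ : Finset G), ∀ i ∈ (Finset.univ : Finset (Fin (Module.finrank ℂ V))),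
        Complex.normSq ((Module.finBasis ℂ V).repr (ρ g x) i) = 0 := by
      have hx' := congrArg Complex.re hx
      simp only [Complex.re_sum, Complex.zero_re] at hx'
      have hnn : ∀ g ∈ (Finset.univ : Finset G), 0 ≤ ∑ i, (conj ((Module.finBasis ℂ V).repr (ρ g x) i) *
          (Module.finBasis ℂ V).repr (ρ g x) i).re := by
        intro g _
        apply Finset.sum_nonneg; intro i _
        rw [← Complex.normSq_eq_conj_mul_self]
        simpa using Complex.normSq_nonneg _
      intro g hg i hi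
      have h2 := (Finset.sum_eq_zero_iff_of_nonneg hnn).1 hx' g hg
      have hnn2 : ∀ i ∈ (Finset.univ : Finset (Fin (Module.finrank ℂ V))),
          0 ≤ (conj ((Module.finBasis ℂ V).repr (ρ g x) i) *
          (Module.finBasis ℂ V).repr (ρ g x) i).re := by
        intro i _
        rw [← Complex.normSq_eq_conj_mul_self]
        simpa using Complex.normSq_nonneg _
      have h3 := (Finset.sum_eq_zero_iff_of_nonneg hnn2).1 h2 i hi
      rw [← Complex.normSq_eq_conj_mul_self] at h3
      simpa using h3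
    have h2 : (Module.finBasis ℂ V).repr x = 0 := by
      ext i
      have := h1 1 (Finset.mem_univ _) i (Finset.mem_univ _)
      simpa using this
    simpa using h2

theorem invCore_inner_apply (ρ : Representation ℂ G V) (h : G) (x y : V) :
    (invCore ρ).inner (ρ h x) (ρ h y) = (invCore ρ).inner x y := by
  show ∑ g : G, ∑ i, conj ((Module.finBasis ℂ V).repr (ρ g (ρ h x)) i) *
    (Module.finBasis ℂ V).repr (ρ g (ρ h y)) i = ∑ g : G, ∑ i, conj ((Module.finBasis ℂ V).repr (ρ g x) i) *
    (Module.finBasis ℂ V).repr (ρ g y) i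
  apply Fintype.sum_equiv (Equiv.mulRight h)
  intro g
  simp [map_mul]


theorem norm_character_le (ρ : Representation ℂ G V) (g : G) :
    ‖ρ.character g‖ ≤ Module.finrank ℂ V := by
  let _ : NormedAddCommGroup V := (invCore ρ).toNormedAddCommGroup
  let _ : InnerProductSpace ℂ V := InnerProductSpace.ofCore (invCore ρ).toCore
  apply norm_trace_le_of_isometry (ρ g)
  intro x
  have h := invCore_inner_apply ρ g x x
  have h1 : ‖ρ g x‖ ^ 2 = ‖x‖ ^ 2 := by
    rw [← @inner_self_eq_norm_sq ℂ, ← @inner_self_eq_norm_sq ℂ]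
    exact congrArg RCLike.re h
  exact (sq_eq_sq₀ (norm_nonneg _) (norm_nonneg _)).1 h1

theorem apply_eq_one_of_character_eq (ρ : Representation ℂ G V) (g : G)
    (h : ρ.character g = Module.finrank ℂ V) : ρ g = 1 := by
  let _ : NormedAddCommGroup V := (invCore ρ).toNormedAddCommGroup
  let _ : InnerProductSpace ℂ V := InnerProductSpace.ofCore (invCore ρ).toCore
  apply eq_id_of_isometry_of_trace_eq (ρ g) _ h
  intro x
  have h := invCore_inner_apply ρ g x x
  have h1 : ‖ρ g x‖ ^ 2 = ‖x‖ ^ 2 := by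
    rw [← @inner_self_eq_norm_sq ℂ, ← @inner_self_eq_norm_sq ℂ]
    exact congrArg RCLike.re h
  exact (sq_eq_sq₀ (norm_nonneg _) (norm_nonneg _)).1 h1

theorem character_inv (ρ : Representation ℂ G V) (g : G) :
    ρ.character g⁻¹ = conj (ρ.character g) := by
  let _ : NormedAddCommGroup V := (invCore ρ).toNormedAddCommGroup
  let _ : InnerProductSpace ℂ V := InnerProductSpace.ofCore (invCore ρ).toCore
  apply trace_eq_conj_trace_of_inverse_isometry (ρ g) (ρ g⁻¹)
  · intro x y
    exact invCore_inner_apply ρ g x y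
  · intro x
    simp

end Invariant

end Cfsg.Agent.Lib.Helper25
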