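import Mathlib
import Cfsg.Prelude.Def_Blocks
import Cfsg.Agent.Lib.Helper25.Unitary

/-!
Basic ordinary character theory for `Cfsg.IsCharacter` / `Cfsg.IsIrrCharacter`.
-/

set_option autoImplicit false
set_option linter.style.haveILetI false

namespace Cfsg.Agent.Lib.Helper25

open Cfsg Representation
open scoped ComplexConjugate

universe u

variable {G : Type u} [Group G]

section Basic

theorem isCharacter_of_irr {χ : G → ℂ} (h : IsIrrCharacter G χ) : IsCharacter G χ := by
  obtain ⟨n, ρ, _, rfl⟩ := h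
  exact ⟨n, ρ, rfl⟩

theorem isClassFunction_of_char {χ : G → ℂ} (h : IsCharacter G χ) : IsClassFunction G χ := by
  obtain ⟨n, ρ, rfl⟩ := h
  intro g k
  exact ρ.char_conj g k

theorem char_one_eq {χ : G → ℂ} (h : IsCharacter G χ) : ∃ n : ℕ, χ 1 = n := by
  obtain ⟨n, ρ, rfl⟩ := h
  exact ⟨n, by simp⟩

theorem rep_char_one {n : ℕ} (ρ : Representation ℂ G (Fin n → ℂ)) : ρ.character 1 = n := by
  simp

theorem charDegree_rep {n : ℕ} (ρ : Representation ℂ G (Fin n → ℂ)) :
    charDegree ρ.character = n := by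
  simp [charDegree]

theorem char_one_eq_charDegree {χ : G → ℂ} (h : IsCharacter G χ) : χ 1 = charDegree χ := by
  obtain ⟨n, ρ, rfl⟩ := h
  rw [charDegree_rep, rep_char_one]

theorem char_inv [Finite G] {χ : G → ℂ} (h : IsCharacter G χ) (g : G) :
    χ g⁻¹ = conj (χ g) := by
  obtain ⟨n, ρ, rfl⟩ := h
  haveI := Fintype.ofFinite G
  exact character_inv ρ g

theorem char_norm_le [Finite G] {χ : G → ℂ} (h : IsCharacter G χ) (g : G) :
    ‖χ g‖ ≤ charDegree χ := by
  obtain ⟨n, ρ, rfl⟩ := h
  haveI := Fintype.ofFinite G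
  rw [charDegree_rep]
  have := norm_character_le ρ g
  simpa using this

theorem irr_degree_pos {χ : G → ℂ} (h : IsIrrCharacter G χ) : 0 < charDegree χ := by
  obtain ⟨n, ρ, hirr, rfl⟩ := h
  rw [charDegree_rep]
  rcases Nat.eq_zero_or_pos n with h0 | h0
  · exfalso
    subst h0
    haveI : Nontrivial (Subrepresentation ρ) := hirr.toNontrivial
    obtain ⟨a, b, hab⟩ := exists_pair_ne (Subrepresentation ρ)
    apply hab
    apply Subrepresentation.toSubmodule_injective
    apply Subsingleton.elim
  · exact h0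

theorem irr_one_ne_zero {χ : G → ℂ} (h : IsIrrCharacter G χ) : χ 1 ≠ 0 := by
  rw [char_one_eq_charDegree (isCharacter_of_irr h)]
  exact_mod_cast (irr_degree_pos h).ne'

end Basic

section Orthogonality

variable [Fintype G]

theorem rep_orthogonality {n m : ℕ} (ρ : Representation ℂ G (Fin n → ℂ))
    (σ : Representation ℂ G (Fin m → ℂ)) (hρ : ρ.IsIrreducible) (hσ : σ.IsIrreducible) :
    (Nat.card G : ℂ)⁻¹ * ∑ g, ρ.character g * σ.character g⁻¹ =
      if ρ.character = σ.character then 1 else 0 := by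
  haveI : Invertible (Nat.card G : ℂ) :=
    invertibleOfNonzero (by exact_mod_cast (Nat.card_pos (α := G)).ne')
  by_cases h : ρ.character = σ.character
  · rw [if_pos h, ← h]
    have := Representation.char_orthonormal ρ ρ
    rw [if_pos ⟨Representation.Equiv.refl ρ⟩] at this
    simpa using this
  · rw [if_neg h]
    have := Representation.char_orthonormal ρ σ
    rw [if_neg] at this
    · simpa using this
    · rintro ⟨e⟩
      exact h (Representation.char_iso e).symm

theorem irr_classInner {χ ψ : G → ℂ} (hχ : IsIrrCharacter G χ) (hψ : IsIrrCharacter G ψ) :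
    classInner χ ψ = if χ = ψ then 1 else 0 := by
  have hψc := isCharacter_of_irr hψ
  obtain ⟨n, ρ, hρ, rfl⟩ := hχ
  obtain ⟨m, σ, hσ, rfl⟩ := hψ
  rw [← rep_orthogonality ρ σ hρ hσ]
  unfold classInner
  congr 1
  apply Finset.sum_congr rfl
  intro g _
  rw [char_inv hψc]

theorem classInner_sum_left {ι : Type*} (s : Finset ι) (c : ι → ℂ) (v : ι → G → ℂ) (ψ : G → ℂ) :
    classInner (∑ i ∈ s, c i • v i) ψ = ∑ i ∈ s, c i * classInner (v i) ψ := by
  unfold classInner
  simp only [Finset.sum_apply, Pi.smul_apply, smul_eq_mul, Finset.sum_mul, Finset.mul_sum]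
  rw [Finset.sum_comm]
  apply Finset.sum_congr rfl; intro i _
  apply Finset.sum_congr rfl; intro g _
  ring

theorem irr_linearIndependent :
    LinearIndependent ℂ (fun χ : IrrCharacter G => (χ : G → ℂ)) := by
  classical
  rw [linearIndependent_iff']
  intro s c hc χ hχ
  have h1 := classInner_sum_left s c (fun χ : IrrCharacter G => (χ : G → ℂ)) (χ : G → ℂ)
  rw [hc] at h1
  have h0 : classInner (0 : G → ℂ) (χ : G → ℂ) = 0 := by simp [classInner]
  rw [h0] at h1
  have h2 : ∑ i ∈ s, c i * classInner (i : G → ℂ) (χ : G → ℂ) = c χ := by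
    rw [Finset.sum_eq_single χ]
    · rw [irr_classInner χ.2 χ.2, if_pos rfl, mul_one]
    · intro ψ _ hne
      rw [irr_classInner ψ.2 χ.2, if_neg, mul_zero]
      intro h
      exact hne (Subtype.ext h)
    · intro h; exact absurd hχ h
  rw [h2] at h1
  exact h1.symm

instance instFiniteIrr : Finite (IrrCharacter G) :=
  LinearIndependent.finite_of_isNoetherian (irr_linearIndependent (G := G))

end Orthogonality

instance instFiniteIrr' [Finite G] : Finite (IrrCharacter G) := by
  haveI := Fintype.ofFinite G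
  infer_instance

end Cfsg.Agent.Lib.Helper25
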