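import Mathlib
import Cfsg.Prelude.Def_Blocks

/-!
Elementary characterisation of irreducibility of a representation and transfer lemmas.
-/

set_option autoImplicit false
set_option linter.style.haveILetI false

namespace Cfsg.Agent.Lib.Helper25

open Representation

section

variable {k : Type*} [Field k] {G : Type*} [Monoid G] {V : Type*} [AddCommGroup V] [Module k V]

theorem isIrreducible_iff (ρ : Representation k G V) :
    ρ.IsIrreducible ↔ Nontrivial V ∧
      ∀ W : Submodule k V, (∀ g, ∀ v ∈ W, ρ g v ∈ W) → W = ⊥ ∨ W = ⊤ := by
  constructor
  · intro h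
    refine ⟨?_, ?_⟩
    · by_contra hV
      rw [not_nontrivial_iff_subsingleton] at hV
      haveI : Nontrivial (Subrepresentation ρ) := h.toNontrivial
      obtain ⟨a, b, hab⟩ := exists_pair_ne (Subrepresentation ρ)
      apply hab
      apply Subrepresentation.toSubmodule_injective
      apply Subsingleton.elim
    · intro W hW
      have := h.eq_bot_or_eq_top (⟨W, fun g v hv => hW g v hv⟩ : Subrepresentation ρ)
      rcases this with h1 | h1
      · left; exact congrArg Subrepresentation.toSubmodule h1
      · right; exact congrArg Subrepresentation.toSubmodule h1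
  · rintro ⟨hV, hW⟩
    refine { exists_pair_ne := ?_, eq_bot_or_eq_top := ?_ }
    · refine ⟨⊥, ⊤, ?_⟩
      intro h
      have h1 : (⊥ : Submodule k V) = ⊤ := congrArg Subrepresentation.toSubmodule h
      exact bot_ne_top h1
    · intro W
      rcases hW W.toSubmodule (fun g v hv => W.apply_mem_toSubmodule g hv) with h1 | h1
      · left; exact Subrepresentation.toSubmodule_injective h1
      · right; exact Subrepresentation.toSubmodule_injective h1

variable {V' : Type*} [AddCommGroup V'] [Module k V']

theorem isIrreducible_of_linearEquiv (ρ : Representation k G V) (σ : Representation k G V')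
    (e : V ≃ₗ[k] V') (he : ∀ g v, e (ρ g v) = σ g (e v)) (h : ρ.IsIrreducible) :
    σ.IsIrreducible := by
  rw [isIrreducible_iff] at h ⊢
  obtain ⟨hV, hW⟩ := h
  refine ⟨e.symm.toEquiv.nontrivial, ?_⟩
  intro W hWinv
  have := hW (W.comap e.toLinearMap) (by
    intro g v hv
    simp only [Submodule.mem_comap, LinearEquiv.coe_coe] at hv ⊢
    rw [he]
    exact hWinv g _ hv)
  rcases this with h1 | h1
  · left
    rw [eq_bot_iff]
    intro w hw
    have : e.symm w ∈ W.comap e.toLinearMap := by simpa using hw
    rw [h1] at this
    simp only [Submodule.mem_bot] at this ⊢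
    simpa using congrArg e this
  · right
    rw [eq_top_iff]
    intro w _
    have : e.symm w ∈ W.comap e.toLinearMap := by rw [h1]; trivial
    simpa using this

end

section

variable {k : Type*} [Field k] {G H : Type*} [Monoid G] [Monoid H] {V : Type*} [AddCommGroup V]
  [Module k V]

/-- Pulling back along a surjective monoid hom preserves and reflects irreducibility. -/
theorem isIrreducible_comp_iff (ρ : Representation k H V) (f : G →* H)
    (hf : Function.Surjective f) :
    Representation.IsIrreducible (MonoidHom.comp ρ f : Representation k G V) ↔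
      ρ.IsIrreducible := by
  rw [isIrreducible_iff, isIrreducible_iff]
  constructor
  · rintro ⟨hV, hW⟩
    refine ⟨hV, fun W hWinv => hW W (fun g v hv => hWinv (f g) v hv)⟩
  · rintro ⟨hV, hW⟩
    refine ⟨hV, fun W hWinv => hW W (fun h v hv => ?_)⟩
    obtain ⟨g, rfl⟩ := hf h
    exact hWinv g v hv

end

end Cfsg.Agent.Lib.Helper25
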