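import Mathlib
import Cfsg.Prelude.Def_Blocks
import Cfsg.Agent.Lib.Helper25.Irred

/-!
Characters of arbitrary finite-dimensional representations are characters in the Prelude's sense.
-/

set_option autoImplicit false
set_option linter.style.haveILetI false

namespace Cfsg.Agent.Lib.Helper25

open Cfsg Representation

universe u

variable {G : Type u} [Group G] {V : Type*} [AddCommGroup V] [Module ℂ V]

/-- Transport of a representation along a linear equivalence. -/
noncomputable def conjRep {W : Type*} [AddCommGroup W] [Module ℂ W] (ρ : Representation ℂ G V)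
    (e : V ≃ₗ[ℂ] W) : Representation ℂ G W where
  toFun g := e.conj (ρ g)
  map_one' := by
    rw [map_one]
    exact LinearEquiv.conj_id e
  map_mul' a b := by
    rw [map_mul]
    exact LinearEquiv.conj_comp e (ρ b) (ρ a)

theorem conjRep_apply {W : Type*} [AddCommGroup W] [Module ℂ W] (ρ : Representation ℂ G V)
    (e : V ≃ₗ[ℂ] W) (g : G) (v : V) : conjRep ρ e g (e v) = e (ρ g v) := by
  simp [conjRep, LinearEquiv.conj_apply]

theorem conjRep_character {W : Type*} [AddCommGroup W] [Module ℂ W] (ρ : Representation ℂ G V)
    (e : V ≃ₗ[ℂ] W) : (conjRep ρ e).character = ρ.character := by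
  ext g
  simp only [Representation.character, conjRep, MonoidHom.coe_mk, OneHom.coe_mk]
  exact LinearMap.trace_conj' (ρ g) e

theorem isCharacter_of_rep [FiniteDimensional ℂ V] (ρ : Representation ℂ G V) : IsCharacter G ρ.character := by
  refine ⟨Module.finrank ℂ V, conjRep ρ (Module.finBasis ℂ V).equivFun, conjRep_character _ _⟩

theorem isIrrCharacter_of_rep [FiniteDimensional ℂ V] (ρ : Representation ℂ G V) (h : ρ.IsIrreducible) :
    IsIrrCharacter G ρ.character := by
  refine ⟨Module.finrank ℂ V, conjRep ρ (Module.finBasis ℂ V).equivFun, ?_, conjRep_character _ _⟩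
  exact isIrreducible_of_linearEquiv ρ _ (Module.finBasis ℂ V).equivFun
    (fun g v => (conjRep_apply ρ _ g v).symm) h

end Cfsg.Agent.Lib.Helper25
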