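import Mathlib
import Cfsg.Prelude.Def_Blocks
import Cfsg.Agent.Lib.Helper25.Irred
import Cfsg.Agent.Lib.Helper25.RepToChar
import Cfsg.Agent.Lib.Helper25.CharBasic

/-!
Schur scalars, and completeness of irreducible characters among class functions.
-/

set_option autoImplicit false
set_option linter.style.haveILetI false
set_option linter.unusedSectionVars false

namespace Cfsg.Agent.Lib.Helper25

open Cfsg Representation
open scoped ComplexConjugate

universe u

variable {G : Type u} [Group G]

section Schur

variable {V : Type*} [AddCommGroup V] [Module ℂ V] [FiniteDimensional ℂ V]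

/-- Schur's lemma: an endomorphism commuting with an irreducible finite-dimensional complex
representation is a scalar. -/
theorem schur_scalar (ρ : Representation ℂ G V) (h : ρ.IsIrreducible) (T : V →ₗ[ℂ] V)
    (hT : ∀ g, T ∘ₗ ρ g = ρ g ∘ₗ T) : ∃ c : ℂ, T = c • LinearMap.id := by
  haveI := h
  obtain ⟨c, hc⟩ :=
    (IsIrreducible.algebraMap_intertwiningMap_bijective_of_isAlgClosed (ρ := ρ)).2 ⟨T, hT⟩
  refine ⟨c, ?_⟩
  have := congrArg IntertwiningMap.toLinearMap hc
  simp only [IntertwiningMap.algebraMap_apply, IntertwiningMap.toLinearMap_smul] at this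
  rw [← this]
  rfl

end Schur

section Op

variable [Fintype G] {V : Type*} [AddCommGroup V] [Module ℂ V]

/-- The operator `∑ g, f g • ρ g`. -/
noncomputable def opOf (ρ : Representation ℂ G V) (f : G → ℂ) : V →ₗ[ℂ] V := ∑ g, f g • ρ g

theorem opOf_apply (ρ : Representation ℂ G V) (f : G → ℂ) (v : V) :
    opOf ρ f v = ∑ g, f g • ρ g v := by
  simp [opOf, LinearMap.sum_apply]

theorem opOf_comm (ρ : Representation ℂ G V) (f : G → ℂ) (hf : IsClassFunction G f) (h : G) :
    opOf ρ f ∘ₗ ρ h = ρ h ∘ₗ opOf ρ f := by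
  ext v
  simp only [LinearMap.comp_apply, opOf_apply, map_sum, map_smul]
  -- ∑ g, f g • ρ g (ρ h v) = ∑ g, f g • ρ h (ρ g v)
  have : ∀ g, ρ g (ρ h v) = ρ h (ρ (h⁻¹ * g * h) v) := by
    intro g
    rw [← Module.End.mul_apply, ← Module.End.mul_apply, ← map_mul, ← map_mul]
    congr 2
    group
  simp_rw [this]
  apply Fintype.sum_equiv (MulAut.conj h⁻¹).toEquiv
  intro g
  simp only [MulEquiv.toEquiv_eq_coe, MulEquiv.coe_toEquiv, MulAut.conj_apply, inv_inv]
  rw [show f (h⁻¹ * g * h) = f g from by
    have := hf g h⁻¹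
    simpa using this]

theorem trace_opOf [FiniteDimensional ℂ V] (ρ : Representation ℂ G V) (f : G → ℂ) :
    LinearMap.trace ℂ V (opOf ρ f) = ∑ g, f g * ρ.character g := by
  simp [opOf, map_sum, Representation.character]

theorem opOf_eq_smul [FiniteDimensional ℂ V] (ρ : Representation ℂ G V) (h : ρ.IsIrreducible)
    (f : G → ℂ) (hf : IsClassFunction G f) :
    opOf ρ f = ((∑ g, f g * ρ.character g) / (Module.finrank ℂ V : ℂ)) • LinearMap.id := by
  obtain ⟨c, hc⟩ := schur_scalar ρ h (opOf ρ f) (opOf_comm ρ f hf)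
  have htr := trace_opOf ρ f
  rw [hc] at htr
  simp only [map_smul, LinearMap.trace_id, smul_eq_mul] at htr
  have hV : Nontrivial V := ((isIrreducible_iff ρ).1 h).1
  have hn : (Module.finrank ℂ V : ℂ) ≠ 0 := by
    exact_mod_cast (Module.finrank_pos (R := ℂ) (M := V)).ne'
  rw [hc, ← htr]
  congr 1
  field_simp

theorem opOf_subrep (ρ : Representation ℂ G V) (f : G → ℂ) (W : Subrepresentation ρ) (w : V)
    (hw : w ∈ W.toSubmodule) :
    opOf ρ f w = ((opOf W.toRepresentation f ⟨w, hw⟩ : W.toSubmodule) : V) := by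
  rw [opOf_apply, opOf_apply, Submodule.coe_sum]
  apply Finset.sum_congr rfl
  intro g _
  rfl

end Op

section Completeness

variable [Fintype G]

/-- If a class function is orthogonal to all irreducible characters, the operator it defines
vanishes on every finite-dimensional representation. -/
theorem opOf_eq_zero_of_orthogonal (f : G → ℂ) (hf : IsClassFunction G f)
    (h : ∀ χ : IrrCharacter G, ∑ g, f g * (χ : G → ℂ) g = 0) :
    ∀ (n : ℕ) (V : Type u) [AddCommGroup V] [Module ℂ V] [FiniteDimensional ℂ V]
      (ρ : Representation ℂ G V), Module.finrank ℂ V = n → opOf ρ f = 0 := by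
  intro n
  induction n using Nat.strong_induction_on with
  | _ n ih =>
    intro V _ _ _ ρ hn
    rcases subsingleton_or_nontrivial V with hV | hV
    · ext v; exact Subsingleton.elim _ _
    by_cases hirr : ρ.IsIrreducible
    · rw [opOf_eq_smul ρ hirr f hf]
      have := h ⟨ρ.character, isIrrCharacter_of_rep ρ hirr⟩
      simp only at this
      rw [this, zero_div, zero_smul]
    · rw [isIrreducible_iff] at hirr
      push Not at hirr
      obtain ⟨W, hWinv, hWbot, hWtop⟩ := hirr hV
      let Wr : Subrepresentation ρ := ⟨W, fun g v hv => hWinv g v hv⟩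
      haveI : NeZero (Nat.card G : ℂ) := ⟨by exact_mod_cast (Nat.card_pos (α := G)).ne'⟩
      obtain ⟨Wr', hcompl⟩ := (inferInstance : IsSemisimpleRepresentation ρ).exists_isCompl Wr
      have hW'top : Wr'.toSubmodule ≠ ⊤ := by
        intro htop
        apply hWbot
        have h1 : Wr ⊓ Wr' = ⊥ := hcompl.inf_eq_bot
        have h2 := congrArg Subrepresentation.toSubmodule h1
        simp only [Subrepresentation.toSubmodule_inf, htop, inf_top_eq] at h2
        exact h2
      have hlt1 : Module.finrank ℂ Wr.toSubmodule < n := by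
        rw [← hn]; exact Submodule.finrank_lt hWtop
      have hlt2 : Module.finrank ℂ Wr'.toSubmodule < n := by
        rw [← hn]; exact Submodule.finrank_lt hW'top
      have ih1 := ih _ hlt1 Wr.toSubmodule Wr.toRepresentation rfl
      have ih2 := ih _ hlt2 Wr'.toSubmodule Wr'.toRepresentation rfl
      ext v
      have hv : v ∈ Wr.toSubmodule ⊔ Wr'.toSubmodule := by
        have h1 : Wr ⊔ Wr' = ⊤ := hcompl.sup_eq_top
        have h2 := congrArg Subrepresentation.toSubmodule h1
        simp only [Subrepresentation.toSubmodule_sup] at h2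
        rw [h2]; trivial
      obtain ⟨w, hw, w', hw', rfl⟩ := Submodule.mem_sup.1 hv
      rw [map_add, opOf_subrep ρ f Wr w hw, opOf_subrep ρ f Wr' w' hw', ih1, ih2]
      simp

/-- Completeness: a class function orthogonal to all irreducible characters vanishes. -/
theorem eq_zero_of_orthogonal (f : G → ℂ) (hf : IsClassFunction G f)
    (h : ∀ χ : IrrCharacter G, ∑ g, f g * (χ : G → ℂ) g = 0) : f = 0 := by
  classical
  have key := opOf_eq_zero_of_orthogonal f hf h _ (MonoidAlgebra ℂ G)
    (Representation.ofMulAction ℂ G G) rfl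
  ext g₀
  have h1 := congrArg (fun T => (T (MonoidAlgebra.single (1 : G) (1 : ℂ))).coeff g₀) key
  simp only [opOf_apply, Representation.ofMulAction_single, smul_eq_mul, mul_one,
    LinearMap.zero_apply, MonoidAlgebra.coeff_sum, MonoidAlgebra.coeff_smul,
    MonoidAlgebra.coeff_single, MonoidAlgebra.coeff_zero] at h1
  rw [Finsupp.finset_sum_apply] at h1
  simp only [Finsupp.smul_apply, Finsupp.single_apply, smul_eq_mul, mul_ite, mul_one, mul_zero,
    Finsupp.coe_zero, Pi.zero_apply] at h1
  simpa using h1

end Completeness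

end Cfsg.Agent.Lib.Helper25
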