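import Mathlib
import Cfsg.Prelude.Def_Blocks
import Cfsg.Agent.Lib.Helper25.Complete

/-!
Expansion of class functions in irreducible characters, second orthogonality, sum of squares.
-/

set_option autoImplicit false
set_option linter.style.haveILetI false
set_option linter.unusedSectionVars false

namespace Cfsg.Agent.Lib.Helper25

open Cfsg Representation
open scoped ComplexConjugate

universe u

variable {G : Type u} [Group G] [Fintype G]

theorem card_ne_zero_complex : (Nat.card G : ℂ) ≠ 0 := by
  exact_mod_cast (Nat.card_pos (α := G)).ne'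

theorem classInner_sub (φ ψ θ : G → ℂ) :
    classInner (φ - ψ) θ = classInner φ θ - classInner ψ θ := by
  unfold classInner
  simp only [Pi.sub_apply, sub_mul, Finset.sum_sub_distrib, mul_sub]

theorem classInner_sum' {ι : Type*} (s : Finset ι) (c : ι → ℂ) (v : ι → G → ℂ) (ψ : G → ℂ) :
    classInner (fun g => ∑ i ∈ s, c i * v i g) ψ = ∑ i ∈ s, c i * classInner (v i) ψ := by
  have := classInner_sum_left s c v ψ
  rw [← this]
  congr 1
  ext g
  simp [Finset.sum_apply]

/-- Expansion of a class function in the irreducible characters. -/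
theorem classFunction_expansion [Fintype (IrrCharacter G)] (φ : G → ℂ)
    (hφ : IsClassFunction G φ) (g : G) :
    φ g = ∑ χ : IrrCharacter G, classInner φ (χ : G → ℂ) * (χ : G → ℂ) g := by
  classical
  set φ' : G → ℂ := φ - fun g => ∑ χ : IrrCharacter G, classInner φ (χ : G → ℂ) * (χ : G → ℂ) g
    with hφ'
  have hcf : IsClassFunction G φ' := by
    intro x k
    simp only [hφ', Pi.sub_apply]
    rw [hφ x k]
    congr 1
    apply Finset.sum_congr rfl
    intro χ _
    rw [isClassFunction_of_char (isCharacter_of_irr χ.2) x k]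
  have horth : ∀ ψ : IrrCharacter G, classInner φ' (ψ : G → ℂ) = 0 := by
    intro ψ
    rw [hφ', classInner_sub, classInner_sum']
    rw [Finset.sum_eq_single ψ]
    · rw [irr_classInner ψ.2 ψ.2, if_pos rfl, mul_one, sub_self]
    · intro χ _ hne
      rw [irr_classInner χ.2 ψ.2, if_neg, mul_zero]
      intro h; exact hne (Subtype.ext h)
    · intro h; exact absurd (Finset.mem_univ ψ) h
  have hzero : (fun g => φ' g⁻¹) = 0 := by
    apply eq_zero_of_orthogonal
    · intro x k
      have := hcf x⁻¹ k
      simpa [mul_assoc] using this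
    · intro ψ
      have h1 := horth ψ
      unfold classInner at h1
      have h2 : ∑ g, φ' g * conj ((ψ : G → ℂ) g) = 0 := by
        rcases mul_eq_zero.1 h1 with h3 | h3
        · exact absurd (inv_eq_zero.1 h3) card_ne_zero_complex
        · exact h3
      rw [← h2]
      apply Fintype.sum_equiv (Equiv.inv G)
      intro x
      simp only [Equiv.inv_apply]
      rw [← char_inv (isCharacter_of_irr ψ.2), inv_inv]
  have := congrFun hzero g⁻¹
  simp only [inv_inv, Pi.zero_apply, hφ', Pi.sub_apply] at this
  exact sub_eq_zero.1 this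

/-- Second orthogonality, counting form. -/
theorem second_orthogonality_count [Fintype (IrrCharacter G)] (g h : G) :
    ∑ χ : IrrCharacter G, (χ : G → ℂ) g * conj ((χ : G → ℂ) h) =
      (Nat.card {k : G // k * h * k⁻¹ = g} : ℂ) := by
  classical
  let φ : G → ℂ := fun x => ∑ k : G, if k * h * k⁻¹ = x then 1 else 0
  have hφ : IsClassFunction G φ := by
    intro x y
    simp only [φ]
    apply Fintype.sum_equiv (Equiv.mulLeft y⁻¹)
    intro k
    simp only [Equiv.coe_mulLeft]
    congr 1
    apply propext
    constructor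
    · intro hk
      have : x = y⁻¹ * (y * x * y⁻¹) * y := by group
      rw [this, ← hk]; group
    · intro hk
      rw [← hk]; group
  have hinner : ∀ χ : IrrCharacter G, classInner φ (χ : G → ℂ) = conj ((χ : G → ℂ) h) := by
    intro χ
    unfold classInner
    simp only [φ, Finset.sum_mul]
    rw [Finset.sum_comm]
    have : ∀ k : G, ∑ x : G, (if k * h * k⁻¹ = x then (1 : ℂ) else 0) * conj ((χ : G → ℂ) x) =
        conj ((χ : G → ℂ) h) := by
      intro k
      rw [Finset.sum_eq_single (k * h * k⁻¹)]
      · rw [if_pos rfl, one_mul, isClassFunction_of_char (isCharacter_of_irr χ.2) h k]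
      · intro x _ hx
        rw [if_neg (Ne.symm hx), zero_mul]
      · intro hx; exact absurd (Finset.mem_univ _) hx
    simp_rw [this]
    rw [Finset.sum_const, Finset.card_univ, nsmul_eq_mul, ← Nat.card_eq_fintype_card, ← mul_assoc,
      inv_mul_cancel₀ card_ne_zero_complex, one_mul]
  have hexp := classFunction_expansion φ hφ g
  simp_rw [hinner] at hexp
  have hφg : φ g = (Nat.card {k : G // k * h * k⁻¹ = g} : ℂ) := by
    simp only [φ]
    rw [Finset.sum_boole, Nat.card_eq_fintype_card, Fintype.card_subtype]
  rw [← hφg, hexp]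
  apply Finset.sum_congr rfl
  intro χ _
  ring

theorem second_orthogonality_self [Fintype (IrrCharacter G)] (g : G) :
    ∑ χ : IrrCharacter G, (χ : G → ℂ) g * conj ((χ : G → ℂ) g) =
      (Nat.card (Subgroup.centralizer ({g} : Set G)) : ℂ) := by
  rw [second_orthogonality_count g g]
  congr 1
  apply Nat.card_congr
  refine Equiv.subtypeEquivRight ?_
  intro k
  rw [Subgroup.mem_centralizer_singleton_iff]
  constructor
  · intro hk
    calc k * g = k * g * k⁻¹ * k := by group
      _ = g * k := by rw [hk]
  · intro hk
    calc k * g * k⁻¹ = g * k * k⁻¹ := by rw [hk]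
      _ = g := by group

theorem second_orthogonality_ne [Fintype (IrrCharacter G)] (g h : G) (hgh : ¬ IsConj g h) :
    ∑ χ : IrrCharacter G, (χ : G → ℂ) g * conj ((χ : G → ℂ) h) = 0 := by
  rw [second_orthogonality_count g h]
  have : IsEmpty {k : G // k * h * k⁻¹ = g} := by
    constructor
    rintro ⟨k, hk⟩
    apply hgh
    apply IsConj.symm
    rw [isConj_iff]
    exact ⟨k, hk⟩
  simp

/-- Sum of squares of the degrees. -/
theorem sum_degree_sq [Fintype (IrrCharacter G)] :
    ∑ χ : IrrCharacter G, (χ : G → ℂ) 1 * (χ : G → ℂ) 1 = (Nat.card G : ℂ) := by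
  have h := second_orthogonality_count (G := G) 1 1
  have h2 : Nat.card {k : G // k * 1 * k⁻¹ = 1} = Nat.card G := by
    apply Nat.card_congr
    exact Equiv.subtypeUnivEquiv (by intro k; simp)
  rw [h2] at h
  rw [← h]
  apply Finset.sum_congr rfl
  intro χ _
  obtain ⟨n, hn⟩ := char_one_eq (isCharacter_of_irr χ.2)
  rw [hn]
  simp

/-- The regular character vanishes off the identity. -/
theorem sum_degree_mul_char [Fintype (IrrCharacter G)] (g : G) (hg : g ≠ 1) :
    ∑ χ : IrrCharacter G, (χ : G → ℂ) 1 * (χ : G → ℂ) g = 0 := by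
  have h := second_orthogonality_ne (G := G) g 1 (by
    intro hc
    apply hg
    exact (isConj_one_left.1 hc))
  rw [← h]
  apply Finset.sum_congr rfl
  intro χ _
  obtain ⟨n, hn⟩ := char_one_eq (isCharacter_of_irr χ.2)
  rw [hn]
  simp [mul_comm]

end Cfsg.Agent.Lib.Helper25
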