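import Mathlib
import Cfsg.Prelude.Def_Blocks
import Cfsg.Agent.Lib.Helper25.Ortho2

/-!
Generalized orthogonality relations obtained from Schur's lemma.
-/

set_option autoImplicit false
set_option linter.style.haveILetI false
set_option linter.unusedSectionVars false

namespace Cfsg.Agent.Lib.Helper25

open Cfsg Representation
open scoped ComplexConjugate

universe u

variable {G : Type u} [Group G] [Fintype G]

section Rep

variable {V : Type*} [AddCommGroup V] [Module ℂ V] [FiniteDimensional ℂ V]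

theorem sum_conj_rep_comm (ρ : Representation ℂ G V) (a k : G) :
    (∑ h : G, ρ (h * a * h⁻¹)) ∘ₗ ρ k = ρ k ∘ₗ ∑ h : G, ρ (h * a * h⁻¹) := by
  rw [← Module.End.mul_eq_comp, ← Module.End.mul_eq_comp, Finset.sum_mul, Finset.mul_sum]
  apply Fintype.sum_equiv (Equiv.mulLeft k⁻¹)
  intro h
  simp only [Equiv.coe_mulLeft]
  rw [← map_mul, ← map_mul]
  congr 1
  group

/-- Averaging a group element over its conjugates gives a scalar on an irreducible
representation. -/
theorem sum_conj_rep (ρ : Representation ℂ G V) (hirr : ρ.IsIrreducible) (a : G) :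
    ∑ h : G, ρ (h * a * h⁻¹) =
      ((Nat.card G : ℂ) * ρ.character a / (Module.finrank ℂ V : ℂ)) • LinearMap.id := by
  obtain ⟨c, hc⟩ := schur_scalar ρ hirr (∑ h : G, ρ (h * a * h⁻¹)) (sum_conj_rep_comm ρ a)
  have htr : LinearMap.trace ℂ V (∑ h : G, ρ (h * a * h⁻¹)) = (Nat.card G : ℂ) * ρ.character a := by
    rw [map_sum]
    have : ∀ h : G, LinearMap.trace ℂ V (ρ (h * a * h⁻¹)) = ρ.character a := by
      intro h
      exact ρ.char_conj a h
    simp_rw [this]
    rw [Finset.sum_const, Finset.card_univ, nsmul_eq_mul, Nat.card_eq_fintype_card]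
  rw [hc] at htr
  simp only [map_smul, LinearMap.trace_id, smul_eq_mul] at htr
  have hV : Nontrivial V := ((isIrreducible_iff ρ).1 hirr).1
  have hn : (Module.finrank ℂ V : ℂ) ≠ 0 := by
    exact_mod_cast (Module.finrank_pos (R := ℂ) (M := V)).ne'
  rw [hc, ← htr]
  congr 1
  field_simp

end Rep

/-- `∑ h, χ (g * (h a h⁻¹)) = |G| χ(g) χ(a) / χ(1)` for irreducible `χ`. -/
theorem sum_char_mul_conj {χ : G → ℂ} (hχ : IsIrrCharacter G χ) (g a : G) :
    ∑ h : G, χ (g * (h * a * h⁻¹)) = (Nat.card G : ℂ) * χ g * χ a / χ 1 := by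
  obtain ⟨n, ρ, hirr, rfl⟩ := hχ
  have h1 := sum_conj_rep ρ hirr a
  have h2 : ∑ h : G, ρ.character (g * (h * a * h⁻¹)) =
      LinearMap.trace ℂ _ (ρ g ∘ₗ ∑ h : G, ρ (h * a * h⁻¹)) := by
    rw [← Module.End.mul_eq_comp, Finset.mul_sum, map_sum]
    apply Finset.sum_congr rfl
    intro h _
    rw [Representation.character, map_mul]
  rw [h2, h1]
  simp only [LinearMap.comp_smul, LinearMap.comp_id, map_smul, smul_eq_mul]
  rw [rep_char_one]
  simp only [Module.finrank_fin_fun]
  rw [show LinearMap.trace ℂ (Fin n → ℂ) (ρ g) = ρ.character g from rfl]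
  ring

/-- Convolution of irreducible characters. -/
theorem sum_char_mul_char_inv {χ ψ : G → ℂ} (hχ : IsIrrCharacter G χ) (hψ : IsIrrCharacter G ψ)
    (g : G) :
    ∑ h : G, χ (g * h) * ψ h⁻¹ = if χ = ψ then (Nat.card G : ℂ) * χ g / χ 1 else 0 := by
  have hψc := isCharacter_of_irr hψ
  have hinner := irr_classInner hχ hψ
  obtain ⟨n, ρ, hirr, rfl⟩ := hχ
  have hcf : IsClassFunction G (fun h => ψ h⁻¹) := by
    intro x k
    have := isClassFunction_of_char hψc x⁻¹ k
    simpa [mul_assoc] using this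
  have h1 := opOf_eq_smul ρ hirr (fun h => ψ h⁻¹) hcf
  have h2 : ∑ h : G, ρ.character (g * h) * ψ h⁻¹ =
      LinearMap.trace ℂ _ (ρ g ∘ₗ opOf ρ (fun h => ψ h⁻¹)) := by
    rw [opOf, ← Module.End.mul_eq_comp, Finset.mul_sum, map_sum]
    apply Finset.sum_congr rfl
    intro h _
    rw [mul_smul_comm, map_smul, Representation.character, map_mul, smul_eq_mul, mul_comm]
  have h3 : ∑ h : G, ψ h⁻¹ * ρ.character h = (Nat.card G : ℂ) * classInner ρ.character ψ := by
    unfold classInner
    rw [← mul_assoc, mul_inv_cancel₀ card_ne_zero_complex, one_mul]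
    apply Finset.sum_congr rfl
    intro h _
    rw [char_inv hψc, mul_comm]
  rw [h2, h1, h3, hinner]
  simp only [LinearMap.comp_smul, LinearMap.comp_id, map_smul, smul_eq_mul, Module.finrank_fin_fun]
  rw [show LinearMap.trace ℂ (Fin n → ℂ) (ρ g) = ρ.character g from rfl, rep_char_one]
  split_ifs <;> ring

end Cfsg.Agent.Lib.Helper25
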