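import Mathlib
import Cfsg.Prelude.Def_Blocks
import Cfsg.Agent.Lib.Helper25.GenOrtho

/-!
Linear characters: every homomorphism `G →* ℂˣ` gives an irreducible character.
-/

set_option autoImplicit false
set_option linter.style.haveILetI false
set_option linter.unusedSectionVars false

namespace Cfsg.Agent.Lib.Helper25

open Cfsg Representation
open scoped ComplexConjugate

universe u

variable {G : Type u} [Group G]

/-- The one-dimensional representation attached to a homomorphism to `ℂˣ`. -/
noncomputable def linRep (lam : G →* ℂˣ) : Representation ℂ G (Fin 1 → ℂ) where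
  toFun g := ((lam g : ℂˣ) : ℂ) • LinearMap.id
  map_one' := by
    simp only [map_one, Units.val_one, one_smul]
    rfl
  map_mul' a b := by
    rw [map_mul, Units.val_mul]
    refine LinearMap.ext fun v => ?_
    simp only [LinearMap.smul_apply, LinearMap.id_coe, id_eq, Module.End.mul_apply, mul_smul,
      map_smul]
    exact smul_comm _ _ _

theorem linRep_character (lam : G →* ℂˣ) (g : G) :
    (linRep lam).character g = ((lam g : ℂˣ) : ℂ) := by
  simp [Representation.character, linRep]

theorem linRep_irreducible (lam : G →* ℂˣ) : (linRep lam).IsIrreducible := by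
  rw [isIrreducible_iff]
  refine ⟨inferInstance, fun W _ => ?_⟩
  haveI : IsSimpleOrder (Submodule ℂ (Fin 1 → ℂ)) :=
    is_simple_module_of_finrank_eq_one (Module.finrank_fin_fun ℂ)
  exact eq_bot_or_eq_top W

theorem isIrrCharacter_of_hom (lam : G →* ℂˣ) :
    IsIrrCharacter G (fun g => ((lam g : ℂˣ) : ℂ)) :=
  ⟨1, linRep lam, linRep_irreducible lam, funext (linRep_character lam)⟩

theorem isIrrCharacter_one : IsIrrCharacter G (fun _ => (1 : ℂ)) := by
  have := isIrrCharacter_of_hom (1 : G →* ℂˣ)
  simpa using this

/-- The principal character as an element of `IrrCharacter G`. -/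
noncomputable def irrOne (G : Type u) [Group G] : IrrCharacter G := ⟨fun _ => 1, isIrrCharacter_one⟩

end Cfsg.Agent.Lib.Helper25
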