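import Mathlib
import Cfsg.Prelude.Def_Blocks
import Cfsg.Agent.Lib.Helper25.Linear

/-!
Linear characters (degree one) are exactly the homomorphisms `G →* ℂˣ`; their number is the
index of the commutator subgroup.
-/

set_option autoImplicit false
set_option linter.style.haveILetI false
set_option linter.unusedSectionVars false

namespace Cfsg.Agent.Lib.Helper25

open Cfsg Representation
open scoped ComplexConjugate

universe u

variable {G : Type u} [Group G]

/-- An endomorphism of a one-dimensional coordinate space is the scalar given by its trace. -/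
theorem end_fin_one (f : Module.End ℂ (Fin 1 → ℂ)) :
    f = (LinearMap.trace ℂ _ f) • (LinearMap.id : Module.End ℂ (Fin 1 → ℂ)) := by
  have h1 : LinearMap.trace ℂ _ f = f (fun _ => 1) 0 := by
    rw [LinearMap.trace_eq_matrix_trace ℂ (Pi.basisFun ℂ (Fin 1)), Matrix.trace_fin_one,
      LinearMap.toMatrix_apply]
    simp only [Pi.basisFun_apply, Pi.basisFun_repr]
    have : (Pi.single (0 : Fin 1) (1 : ℂ)) = fun _ => (1 : ℂ) := by
      funext i
      fin_cases i
      simp
    rw [this]
  refine LinearMap.ext fun v => ?_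
  funext i
  fin_cases i
  have hv : v = (v 0) • (fun _ => (1 : ℂ)) := by
    funext j
    fin_cases j
    simp
  rw [h1]
  conv_lhs => rw [hv]
  rw [map_smul]
  simp [mul_comm]

theorem trace_mul_fin_one (f g : Module.End ℂ (Fin 1 → ℂ)) :
    LinearMap.trace ℂ _ (f * g) = LinearMap.trace ℂ _ f * LinearMap.trace ℂ _ g := by
  conv_lhs => rw [end_fin_one f, end_fin_one g]
  rw [smul_mul_smul_comm, map_smul]
  have : ((LinearMap.id : Module.End ℂ (Fin 1 → ℂ)) * LinearMap.id) = LinearMap.id := rfl
  rw [this]
  simp

/-- A character of degree one is multiplicative. -/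
theorem linear_char_mul {χ : G → ℂ} (h : IsCharacter G χ) (h1 : χ 1 = 1) (g k : G) :
    χ (g * k) = χ g * χ k := by
  obtain ⟨n, ρ, rfl⟩ := h
  have hn : n = 1 := by
    have := rep_char_one ρ
    rw [h1] at this
    exact_mod_cast this.symm
  subst hn
  simp only [Representation.character, map_mul]
  exact trace_mul_fin_one _ _

/-- A character of degree one comes from a homomorphism to `ℂˣ`. -/
theorem exists_hom_of_linear {χ : G → ℂ} (h : IsCharacter G χ) (h1 : χ 1 = 1) :
    ∃ lam : G →* ℂˣ, ∀ g, χ g = ((lam g : ℂˣ) : ℂ) := by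
  let f : G →* ℂ :=
    { toFun := χ
      map_one' := h1
      map_mul' := linear_char_mul h h1 }
  refine ⟨f.toHomUnits, fun g => ?_⟩
  simp [f, MonoidHom.coe_toHomUnits]

/-- The bijection between linear irreducible characters and homomorphisms to `ℂˣ`. -/
noncomputable def linearCharEquiv (G : Type u) [Group G] :
    {χ : IrrCharacter G // (χ : G → ℂ) 1 = 1} ≃ (G →* ℂˣ) where
  toFun χ := (exists_hom_of_linear (isCharacter_of_irr χ.1.2) χ.2).choose
  invFun lam := ⟨⟨fun g => ((lam g : ℂˣ) : ℂ), isIrrCharacter_of_hom lam⟩, by simp⟩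
  left_inv χ := by
    apply Subtype.ext
    apply Subtype.ext
    funext g
    exact ((exists_hom_of_linear (isCharacter_of_irr χ.1.2) χ.2).choose_spec g).symm
  right_inv lam := by
    apply MonoidHom.ext
    intro g
    apply Units.ext
    have := (exists_hom_of_linear (isCharacter_of_irr
      (isIrrCharacter_of_hom lam)) (by simp)).choose_spec g
    exact this.symm

theorem linearCharEquiv_apply (χ : {χ : IrrCharacter G // (χ : G → ℂ) 1 = 1}) (g : G) :
    ((linearCharEquiv G χ g : ℂˣ) : ℂ) = (χ.1 : G → ℂ) g :=
  ((exists_hom_of_linear (isCharacter_of_irr χ.1.2) χ.2).choose_spec g).symm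

/-- The number of linear characters is the index of the commutator subgroup. -/
theorem card_linear_char [Finite G] :
    Nat.card {χ : IrrCharacter G // (χ : G → ℂ) 1 = 1} = (commutator G).index := by
  rw [Nat.card_congr (linearCharEquiv G), Nat.card_congr (Abelianization.lift (G := G) (A := ℂˣ))]
  haveI : NeZero ((Monoid.exponent (Abelianization G) : ℕ) : ℂ) := by
    refine ⟨?_⟩
    have : Monoid.exponent (Abelianization G) ≠ 0 := Monoid.exponent_ne_zero_of_finite
    exact_mod_cast this
  rw [CommGroup.card_monoidHom_of_hasEnoughRootsOfUnity (Abelianization G) ℂ]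
  rw [Subgroup.index_eq_card]
  rfl

/-- Linear characters have values of norm one. -/
theorem norm_linear_char [Finite G] {χ : G → ℂ} (h : IsCharacter G χ) (h1 : χ 1 = 1) (g : G) :
    ‖χ g‖ = 1 := by
  obtain ⟨lam, hlam⟩ := exists_hom_of_linear h h1
  rw [hlam]
  have hpow : ((lam g : ℂˣ) : ℂ) ^ orderOf g = 1 := by
    rw [← Units.val_pow_eq_pow_val, ← map_pow, pow_orderOf_eq_one, map_one, Units.val_one]
  exact Complex.norm_eq_one_of_pow_eq_one hpow (orderOf_pos g).ne'

/-- A homomorphism to `ℂˣ` kills the commutator subgroup. -/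
theorem hom_eq_of_mem_commutator (lam : G →* ℂˣ) {g k : G} (h : g⁻¹ * k ∈ commutator G) :
    lam g = lam k := by
  have hle : commutator G ≤ lam.ker := Abelianization.commutator_subset_ker lam
  have := hle h
  rw [MonoidHom.mem_ker, map_mul, map_inv, inv_mul_eq_one] at this
  exact this

theorem linear_char_eq_of_mem_commutator {χ : G → ℂ} (h : IsCharacter G χ) (h1 : χ 1 = 1)
    {g k : G} (hgk : g⁻¹ * k ∈ commutator G) : χ g = χ k := by
  obtain ⟨lam, hlam⟩ := exists_hom_of_linear h h1
  rw [hlam, hlam, hom_eq_of_mem_commutator lam hgk]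

end Cfsg.Agent.Lib.Helper25
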