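import Mathlib
import Cfsg.Prelude.Def_Blocks
import Cfsg.Agent.Lib.Helper25.LinearChar

/-!
Kernels of characters, sums over normal subgroups, inflation and deflation.
-/

set_option autoImplicit false
set_option linter.style.haveILetI false
set_option linter.unusedSectionVars false

namespace Cfsg.Agent.Lib.Helper25

open Cfsg Representation
open scoped ComplexConjugate

universe u

variable {G : Type u} [Group G]

section Rep

variable {V : Type*} [AddCommGroup V] [Module ℂ V] [FiniteDimensional ℂ V]

/-- `ρ g = 1` iff the character takes its value at `1` on `g`. -/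
theorem rep_apply_eq_one_iff [Finite G] (ρ : Representation ℂ G V) (g : G) :
    ρ g = 1 ↔ ρ.character g = ρ.character 1 := by
  haveI := Fintype.ofFinite G
  constructor
  · intro h
    simp only [Representation.character, h, map_one]
  · intro h
    apply apply_eq_one_of_character_eq ρ g
    rw [h]
    simp [Representation.character]

/-- Sum of an irreducible representation over a normal subgroup: either the subgroup acts
trivially, or the sum vanishes. -/
theorem sum_normal_rep [Fintype G] (ρ : Representation ℂ G V) (hirr : ρ.IsIrreducible)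
    (N : Subgroup G) [N.Normal] [Fintype N] :
    (∀ n ∈ N, ρ n = 1) ∨ ∑ n : N, ρ (n : G) = 0 := by
  set T : Module.End ℂ V := ∑ n : N, ρ (n : G) with hT
  have hcomm : ∀ g, T ∘ₗ ρ g = ρ g ∘ₗ T := by
    intro g
    change T * ρ g = ρ g * T
    rw [hT, Finset.sum_mul, Finset.mul_sum]
    symm
    apply Fintype.sum_equiv (MulAut.conjNormal g : N ≃* N).toEquiv
    intro n
    rw [← map_mul, ← map_mul]
    congr 1
    simp [MulAut.conjNormal_apply]
  obtain ⟨c, hc⟩ := schur_scalar ρ hirr T hcomm
  have hmul : ∀ m ∈ N, ρ m * T = T := by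
    intro m hm
    rw [hT, Finset.mul_sum]
    apply Fintype.sum_equiv (Equiv.mulLeft (⟨m, hm⟩ : N))
    intro n
    rw [← map_mul]
    rfl
  by_cases h0 : c = 0
  · right
    rw [hc, h0, zero_smul]
  · left
    intro m hm
    have h1 := hmul m hm
    rw [hc] at h1
    have h2 : c • ρ m = c • (1 : Module.End ℂ V) := by
      have : ρ m * c • (LinearMap.id : Module.End ℂ V) = c • ρ m := by
        rw [mul_smul_comm]
        congr 1
      rw [← this, h1]
      rfl
    exact smul_right_injective _ h0 h2

end Rep

/-- The kernel of a character is a normal subgroup. -/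
theorem exists_kernel [Finite G] {χ : G → ℂ} (h : IsCharacter G χ) :
    ∃ K : Subgroup G, K.Normal ∧ ∀ g, g ∈ K ↔ χ g = χ 1 := by
  obtain ⟨n, ρ, rfl⟩ := h
  refine ⟨MonoidHom.ker ρ, MonoidHom.normal_ker _, fun g => ?_⟩
  rw [MonoidHom.mem_ker]
  exact rep_apply_eq_one_iff ρ g

/-- Elements of the kernel can be cancelled inside the character. -/
theorem char_mul_of_mem_ker [Finite G] {χ : G → ℂ} (h : IsCharacter G χ) {n : G}
    (hn : χ n = χ 1) (g : G) : χ (g * n) = χ g ∧ χ (n * g) = χ g := by
  obtain ⟨k, ρ, rfl⟩ := h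
  have h1 : ρ n = 1 := (rep_apply_eq_one_iff ρ n).2 hn
  constructor
  · simp only [Representation.character, map_mul, h1, mul_one]
  · simp only [Representation.character, map_mul, h1, one_mul]

/-- Sum of an irreducible character over a coset of a normal subgroup. -/
theorem sum_normal_char [Finite G] {χ : G → ℂ} (h : IsIrrCharacter G χ)
    (N : Subgroup G) [N.Normal] [Fintype N] :
    (∀ n ∈ N, χ n = χ 1) ∨ ∀ g : G, ∑ n : N, χ (g * (n : G)) = 0 := by
  haveI := Fintype.ofFinite G
  obtain ⟨k, ρ, hirr, rfl⟩ := h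
  rcases sum_normal_rep ρ hirr N with h1 | h1
  · left
    intro n hn
    exact (rep_apply_eq_one_iff ρ n).1 (h1 n hn)
  · right
    intro g
    have : ∑ n : N, ρ.character (g * (n : G)) =
        LinearMap.trace ℂ _ (ρ g * ∑ n : N, ρ (n : G)) := by
      rw [Finset.mul_sum, map_sum]
      apply Finset.sum_congr rfl
      intro n _
      simp only [Representation.character, map_mul]
    rw [this, h1, mul_zero, map_zero]

/-- Pulling back an irreducible character along a surjective homomorphism. -/
theorem isIrrCharacter_comp {H : Type u} [Group H] (f : G →* H) (hf : Function.Surjective f)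
    {ψ : H → ℂ} (h : IsIrrCharacter H ψ) : IsIrrCharacter G (fun g => ψ (f g)) := by
  obtain ⟨n, ρ, hirr, rfl⟩ := h
  refine ⟨n, MonoidHom.comp ρ f, (isIrreducible_comp_iff ρ f hf).2 hirr, ?_⟩
  funext g
  simp [Representation.character]

/-- Pulling back a character along a homomorphism. -/
theorem isCharacter_comp {H : Type u} [Group H] (f : G →* H)
    {ψ : H → ℂ} (h : IsCharacter H ψ) : IsCharacter G (fun g => ψ (f g)) := by
  obtain ⟨n, ρ, rfl⟩ := h
  refine ⟨n, MonoidHom.comp ρ f, ?_⟩
  funext g
  simp [Representation.character]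

/-- Inflation of an irreducible character of a quotient. -/
theorem isIrrCharacter_inflation (N : Subgroup G) [N.Normal] {ψ : G ⧸ N → ℂ}
    (h : IsIrrCharacter (G ⧸ N) ψ) : IsIrrCharacter G (fun g => ψ (g : G ⧸ N)) :=
  isIrrCharacter_comp (QuotientGroup.mk' N) (QuotientGroup.mk'_surjective N) h

/-- Deflation: an irreducible character with `N` in its kernel comes from the quotient. -/
theorem exists_deflation [Finite G] (N : Subgroup G) [N.Normal] {χ : G → ℂ}
    (h : IsIrrCharacter G χ) (hN : ∀ n ∈ N, χ n = χ 1) :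
    ∃ ψ : G ⧸ N → ℂ, IsIrrCharacter (G ⧸ N) ψ ∧ ∀ g : G, χ g = ψ (g : G ⧸ N) := by
  obtain ⟨k, ρ, hirr, rfl⟩ := h
  have hker : N ≤ MonoidHom.ker ρ := by
    intro n hn
    rw [MonoidHom.mem_ker]
    exact (rep_apply_eq_one_iff ρ n).2 (hN n hn)
  let σ : Representation ℂ (G ⧸ N) (Fin k → ℂ) := QuotientGroup.lift N ρ hker
  have hσ : MonoidHom.comp σ (QuotientGroup.mk' N) = ρ := by
    apply MonoidHom.ext
    intro g
    rfl
  refine ⟨σ.character, ⟨k, σ, ?_, rfl⟩, fun g => ?_⟩
  · rw [← isIrreducible_comp_iff σ (QuotientGroup.mk' N) (QuotientGroup.mk'_surjective N), hσ]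
    exact hirr
  · rfl

end Cfsg.Agent.Lib.Helper25
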