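import Mathlib
import Cfsg.Prelude.Def_Blocks
import Cfsg.Agent.Lib.Helper25.Kernel
import Cfsg.Agent.Lib.Helper2.Integrality

/-!
Degrees divide the index of the kernel; the codegree `[G : ker χ] / χ(1)`.
-/

set_option autoImplicit false
set_option linter.style.haveILetI false
set_option linter.unusedSectionVars false

namespace Cfsg.Agent.Lib.Helper25

open Cfsg Representation
open scoped ComplexConjugate

universe u

variable {G : Type u} [Group G]

/-- The degree of an irreducible character divides the group order. -/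
theorem charDegree_dvd_card [Finite G] {χ : G → ℂ} (h : IsIrrCharacter G χ) :
    charDegree χ ∣ Nat.card G := by
  haveI := Fintype.ofFinite G
  obtain ⟨n, ρ, hirr, rfl⟩ := h
  rw [charDegree_rep]
  haveI := hirr
  have := Cfsg.Agent.Lib.Helper2.finrank_dvd_card ρ
  rwa [Module.finrank_fin_fun] at this

/-- The degree of an irreducible character divides the index of its kernel. -/
theorem charDegree_dvd_index_ker [Finite G] {χ : G → ℂ} (h : IsIrrCharacter G χ)
    (K : Subgroup G) [K.Normal] (hK : ∀ g, g ∈ K ↔ χ g = χ 1) : charDegree χ ∣ K.index := by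
  obtain ⟨ψ, hψ, hχψ⟩ := exists_deflation K h (fun n hn => (hK n).1 hn)
  have h1 := charDegree_dvd_card hψ
  have h2 : charDegree χ = charDegree ψ := by
    unfold charDegree
    rw [hχψ 1]
    rfl
  rw [h2, Subgroup.index_eq_card]
  exact h1

theorem card_ker_set {χ : G → ℂ} (K : Subgroup G) (hK : ∀ g, g ∈ K ↔ χ g = χ 1) :
    Nat.card {g : G // χ g = χ 1} = Nat.card K :=
  Nat.card_congr (Equiv.subtypeEquivRight (fun g => (hK g).symm))

/-- The codegree times the degree is the index of the kernel. -/
theorem codegree_mul [Finite G] {χ : G → ℂ} (h : IsIrrCharacter G χ)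
    (K : Subgroup G) [K.Normal] (hK : ∀ g, g ∈ K ↔ χ g = χ 1) :
    Nat.card G / (Nat.card {g : G // χ g = χ 1} * charDegree χ) * charDegree χ = K.index := by
  obtain ⟨m, hm⟩ := charDegree_dvd_index_ker h K hK
  have hd := irr_degree_pos h
  have hKpos : 0 < Nat.card K := Nat.card_pos
  rw [card_ker_set K hK, ← Subgroup.card_mul_index K, hm]
  rw [← mul_assoc, Nat.mul_div_cancel_left _ (Nat.mul_pos hKpos hd), mul_comm]

/-- Codegree for a faithful character. -/
theorem codegree_mul_of_faithful [Finite G] {χ : G → ℂ} (h : IsIrrCharacter G χ)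
    (hK : ∀ g, χ g = χ 1 → g = 1) :
    Nat.card G / (Nat.card {g : G // χ g = χ 1} * charDegree χ) * charDegree χ = Nat.card G := by
  have := codegree_mul h ⊥ (fun g => by
    rw [Subgroup.mem_bot]
    exact ⟨fun hg => by rw [hg], hK g⟩)
  rw [this, Subgroup.index_bot]

/-- The codegree of an inflated character equals the codegree in the quotient. -/
theorem codegree_inflation [Finite G] (N : Subgroup G) [N.Normal] {ψ : G ⧸ N → ℂ}
    (h : IsIrrCharacter (G ⧸ N) ψ) :
    Nat.card G / (Nat.card {g : G // ψ (g : G ⧸ N) = ψ ((1 : G) : G ⧸ N)} *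
        charDegree (fun g : G => ψ (g : G ⧸ N))) =
      Nat.card (G ⧸ N) / (Nat.card {q : G ⧸ N // ψ q = ψ 1} * charDegree ψ) := by
  obtain ⟨K, hKn, hK⟩ := exists_kernel (isCharacter_of_irr h)
  have hχ := isIrrCharacter_inflation N h
  have hK' : ∀ g : G, g ∈ K.comap (QuotientGroup.mk' N) ↔
      (fun g : G => ψ (g : G ⧸ N)) g = (fun g : G => ψ (g : G ⧸ N)) 1 := by
    intro g
    rw [Subgroup.mem_comap]
    exact hK _
  haveI : (K.comap (QuotientGroup.mk' N)).Normal := Subgroup.Normal.comap hKn _
  have h1 := codegree_mul hχ (K.comap (QuotientGroup.mk' N)) hK'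
  have h2 := codegree_mul h K hK
  rw [Subgroup.index_comap_of_surjective K (QuotientGroup.mk'_surjective N)] at h1
  have hd : charDegree (fun g : G => ψ (g : G ⧸ N)) = charDegree ψ := rfl
  have hpos := irr_degree_pos h
  rw [hd] at h1 ⊢
  exact Nat.eq_of_mul_eq_mul_right hpos (h1.trans h2.symm)

end Cfsg.Agent.Lib.Helper25
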