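import Mathlib
import Cfsg.Prelude.Def_Blocks
import Cfsg.Agent.Lib.Helper2.FrobeniusSchur
import Cfsg.Agent.Lib.Helper2.Column
import Cfsg.Agent.Lib.Helper2.Integrality
import Cfsg.Agent.Lib.Helper24.Loc
import Cfsg.Agent.Lib.Helper25.CharBasic

/-!
# Existence of characters of even degree (helper25 library)

* `exists_isPModular`: every prime lies in some maximal ideal of the ring of algebraic integers.
* `memLocalIdeal_char_sub_degree`: `χ(y) ≡ χ(1)` modulo the local ideal for a `p`-element `y`.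
* `memLocalIdeal_sum_of_invol`: sums over fixed-point-free involutions vanish modulo `2`.
* `sum_fs_mul_char`: `∑ ν(χ) χ(u)` is the number of square roots of `u`.
* `exists_even_degree`: a group of even order with a real element whose centralizer has odd
  order has an irreducible character of even degree.
-/

set_option autoImplicit false

namespace Cfsg.Agent.Lib.Helper25

open Cfsg.Agent.Lib.Helper24
open scoped ComplexConjugate

/-- Every rational prime lies in a maximal ideal of the ring of algebraic integers. -/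
theorem exists_isPModular (p : ℕ) (hp : p.Prime) :
    ∃ M : Ideal Cfsg.AlgInt, Cfsg.IsPModular p M := by
  have hne : Ideal.span {(p : Cfsg.AlgInt)} ≠ ⊤ := by
    intro h
    rw [Ideal.eq_top_iff_one, Ideal.mem_span_singleton'] at h
    obtain ⟨w, hw⟩ := h
    have h1 : (w : ℂ) * (p : ℂ) = 1 := by
      have := congrArg (fun z : Cfsg.AlgInt => (z : ℂ)) hw
      simpa using this
    have hp0 : (p : ℂ) ≠ 0 := by exact_mod_cast hp.ne_zero
    have h2 : (w : ℂ) = ((1 / (p : ℚ) : ℚ) : ℂ) := by
      push_cast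
      field_simp
      exact h1
    obtain ⟨z, hz⟩ := Cfsg.Agent.Lib.Helper2.exists_int_of_isIntegral_of_rat _ h2 w.2
    rw [hz] at h1
    have h3 : z * (p : ℤ) = 1 := by exact_mod_cast h1
    have h4 : (p : ℤ) ∣ 1 := ⟨z, by rw [mul_comm]; exact h3.symm⟩
    have h5 : p ∣ 1 := by exact_mod_cast h4
    exact hp.one_lt.ne' (Nat.dvd_one.1 h5)
  obtain ⟨M, hMmax, hle⟩ := Ideal.exists_le_maximal _ hne
  exact ⟨M, hp, hMmax, hle (Ideal.subset_span rfl)⟩

variable {p : ℕ} {M : Ideal Cfsg.AlgInt}

/-- Sums of a function invariant under a fixed-point-free involution lie in the local ideal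
above `2`. -/
theorem memLocalIdeal_sum_of_invol (hM : Cfsg.IsPModular 2 M) {X : Type*} [DecidableEq X]
    (σ : X → X) (hσ : ∀ x, σ (σ x) = x) (f : X → ℂ) (hf : ∀ x, f (σ x) = f x)
    (hR : ∀ x, Cfsg.MemLocalRing M (f x)) :
    ∀ s : Finset X, (∀ x ∈ s, σ x ∈ s ∧ σ x ≠ x) → Cfsg.MemLocalIdeal M (∑ x ∈ s, f x) := by
  intro s
  induction' hn : s.card using Nat.strong_induction_on with n ih generalizing s
  intro hs
  by_cases hempty : s = ∅
  · rw [hempty, Finset.sum_empty]
    exact memLocalIdeal_zero hM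
  obtain ⟨x, hx⟩ := Finset.nonempty_iff_ne_empty.2 hempty
  obtain ⟨hy, hyx⟩ := hs x hx
  have hy' : σ x ∈ s.erase x := Finset.mem_erase.2 ⟨hyx, hy⟩
  have hsum : ∑ z ∈ s, f z = 2 * f x + ∑ z ∈ (s.erase x).erase (σ x), f z := by
    rw [← Finset.add_sum_erase s f hx, ← Finset.add_sum_erase (s.erase x) f hy', hf x]
    ring
  rw [hsum]
  apply memLocalIdeal_add hM
  · apply memLocalIdeal_mul_right hM _ (hR x)
    have := (memLocalIdeal_natCast_iff hM 2).2 (dvd_refl 2)
    simpa using this
  · have hlt : ((s.erase x).erase (σ x)).card < n := by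
      rw [← hn]
      calc ((s.erase x).erase (σ x)).card < (s.erase x).card := Finset.card_erase_lt_of_mem hy'
        _ ≤ s.card := Finset.card_erase_le
    apply ih ((s.erase x).erase (σ x)).card hlt _ rfl
    intro z hz
    have hz1 : z ≠ σ x := (Finset.mem_erase.1 hz).1
    have hz2 : z ≠ x := (Finset.mem_erase.1 (Finset.mem_erase.1 hz).2).1
    have hz3 : z ∈ s := (Finset.mem_erase.1 (Finset.mem_erase.1 hz).2).2
    obtain ⟨h1, h2⟩ := hs z hz3
    refine ⟨?_, h2⟩
    rw [Finset.mem_erase, Finset.mem_erase]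
    refine ⟨?_, ?_, h1⟩
    · intro h
      apply hz2
      have h3 : σ (σ z) = σ (σ x) := congrArg σ h
      rw [hσ, hσ] at h3
      exact h3
    · intro h
      apply hz1
      have h3 : σ (σ z) = σ x := congrArg σ h
      rw [hσ] at h3
      exact h3


section Chars

variable {G : Type*} [Group G] [Fintype G]

/-- The value of an irreducible character at a `p`-element is congruent to its degree. -/
theorem memLocalIdeal_char_sub_degree (hM : Cfsg.IsPModular p M) (χ : Cfsg.IrrCharacter G)
    (y : G) (k : ℕ) (hy : y ^ (p ^ k) = 1) :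
    Cfsg.MemLocalIdeal M ((χ : G → ℂ) y - (χ : G → ℂ) 1) := by
  obtain ⟨n, ρ, _, hρ⟩ := χ.2
  obtain ⟨μ, hμ, hpow, _⟩ := Cfsg.Agent.Lib.Helper2.exists_eigenvalues ρ y
  have h1 := hpow 1
  have h0 := hpow 0
  rw [pow_one] at h1
  rw [pow_zero] at h0
  rw [← hρ, h1, h0, ← Finset.sum_sub_distrib]
  apply memLocalIdeal_sum hM
  intro i _
  rw [pow_one, pow_zero]
  apply memLocalIdeal_sub_one_of_pow_eq_one hM (k := k)
  obtain ⟨c, hc⟩ := orderOf_dvd_of_pow_eq_one hy
  rw [hc, pow_mul, hμ i, one_pow]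

/-- The number of square roots of `u`, as a complex number. -/
noncomputable def sqCount (u : G) : ℂ := by
  classical exact ∑ s : G, if s * s = u then (1 : ℂ) else 0

theorem sqCount_isClassFunction : Cfsg.IsClassFunction G (sqCount (G := G)) := by
  classical
  intro g h
  unfold sqCount
  rw [← Equiv.sum_comp (MulAut.conj h).toEquiv]
  apply Finset.sum_congr rfl
  intro s _
  have e1 : (MulAut.conj h).toEquiv s = h * s * h⁻¹ := rfl
  rw [e1]
  have : (h * s * h⁻¹ * (h * s * h⁻¹) = h * g * h⁻¹) ↔ s * s = g := by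
    constructor
    · intro h1
      have h2 : h * (s * s) * h⁻¹ = h * g * h⁻¹ := by rw [← h1]; group
      exact mul_left_cancel (mul_right_cancel h2)
    · intro h1
      rw [← h1]; group
  simp only [this]

/-- `∑ ν(χ) χ(u)` counts the square roots of `u` (with the complex conjugate of the
Frobenius–Schur indicator, which is real anyway). -/
theorem sum_fs_mul_char [Fintype (Cfsg.IrrCharacter G)] (u : G) :
    ∑ χ : Cfsg.IrrCharacter G,
      conj ((Nat.card G : ℂ)⁻¹ * ∑ s : G, (χ : G → ℂ) (s * s)) * (χ : G → ℂ) u = sqCount u := by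
  classical
  have hexp := Cfsg.Agent.Lib.Helper2.classFunction_expansion (sqCount (G := G))
    sqCount_isClassFunction
  have hu := congrFun hexp u
  rw [Finset.sum_apply] at hu
  rw [hu]
  apply Finset.sum_congr rfl
  intro χ _
  simp only [Pi.smul_apply, smul_eq_mul]
  congr 1
  rw [Cfsg.Agent.Lib.Helper2.classInner_def, map_mul, map_inv₀, Complex.conj_natCast, map_sum]
  congr 1
  unfold sqCount
  simp only [Finset.sum_mul]
  rw [Finset.sum_comm]
  apply Finset.sum_congr rfl
  intro s _
  rw [Finset.sum_eq_single (s * s)]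
  · rw [if_pos rfl, one_mul]
  · intro g _ hg
    rw [if_neg (Ne.symm hg), zero_mul]
  · intro h; exact absurd (Finset.mem_univ _) h

/-- An element with centralizer of odd order has exactly one square root. -/
theorem sqCount_eq_one (u : G) (hodd : Odd (Nat.card (Subgroup.centralizer ({u} : Set G)))) :
    sqCount u = 1 := by
  classical
  obtain ⟨k, hk⟩ := hodd
  -- every element of the centralizer has order dividing `2k+1`
  have hpow : ∀ c : G, c ∈ Subgroup.centralizer ({u} : Set G) → c ^ (2 * k + 1) = 1 := by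
    intro c hc
    have h1 : (⟨c, hc⟩ : Subgroup.centralizer ({u} : Set G)) ^ (2 * k + 1) = 1 := by
      rw [← hk]; exact pow_card_eq_one'
    exact congrArg Subtype.val h1
  have huC : u ∈ Subgroup.centralizer ({u} : Set G) := by
    rw [Subgroup.mem_centralizer_iff]
    intro y hy
    rw [Set.mem_singleton_iff] at hy
    rw [hy]
  unfold sqCount
  rw [Finset.sum_eq_single (u ^ (k + 1))]
  · rw [if_pos]
    rw [← pow_add]
    have : k + 1 + (k + 1) = (2 * k + 1) + 1 := by ring
    rw [this, pow_succ, hpow u huC, one_mul]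
  · intro s _ hs
    rw [if_neg]
    intro hsu
    apply hs
    have hsC : s ∈ Subgroup.centralizer ({u} : Set G) := by
      rw [Subgroup.mem_centralizer_iff]
      intro y hy
      rw [Set.mem_singleton_iff] at hy
      rw [hy, ← hsu, mul_assoc]
    have h1 := hpow s hsC
    rw [← hsu, ← pow_two, ← pow_mul]
    have : 2 * (k + 1) = (2 * k + 1) + 1 := by ring
    rw [this, pow_succ, h1, one_mul]
  · intro h; exact absurd (Finset.mem_univ _) h

/-- The complex conjugate of an irreducible character. -/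
noncomputable def barIrr (χ : Cfsg.IrrCharacter G) : Cfsg.IrrCharacter G :=
  ⟨fun g => conj ((χ : G → ℂ) g), Cfsg.Agent.Lib.Helper2.isIrrCharacter_conj χ.2⟩

theorem barIrr_apply (χ : Cfsg.IrrCharacter G) (g : G) :
    (barIrr χ : G → ℂ) g = conj ((χ : G → ℂ) g) := rfl

theorem barIrr_barIrr (χ : Cfsg.IrrCharacter G) : barIrr (barIrr χ) = χ := by
  apply Subtype.ext
  funext g
  rw [barIrr_apply, barIrr_apply, Complex.conj_conj]

/-- The Frobenius–Schur indicator of an irreducible character is `0` if the character is not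
real and `±1` if it is. -/
theorem fs_cases (χ : Cfsg.IrrCharacter G) :
    (barIrr χ ≠ χ → (Nat.card G : ℂ)⁻¹ * ∑ s : G, (χ : G → ℂ) (s * s) = 0) ∧
    (barIrr χ = χ → ((Nat.card G : ℂ)⁻¹ * ∑ s : G, (χ : G → ℂ) (s * s) = 1 ∨
      (Nat.card G : ℂ)⁻¹ * ∑ s : G, (χ : G → ℂ) (s * s) = -1)) := by
  obtain ⟨n, ρ, hirr, hρ⟩ := χ.2
  have := hirr
  obtain ⟨h1, h2⟩ := Cfsg.Agent.Lib.Helper2.frobenius_schur ρ
  rw [hρ] at h1 h2
  constructor
  · intro hne
    rw [h2]
    by_contra hcon
    push Not at hcon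
    apply hne
    apply Subtype.ext
    funext g
    rw [barIrr_apply]
    exact Complex.conj_eq_iff_im.2 (hcon g)
  · intro heq
    rcases h1 with h | h
    · exfalso
      obtain ⟨s, hs⟩ := h2.1 h
      apply hs
      have := congrFun (congrArg Subtype.val heq) s
      rw [barIrr_apply] at this
      exact Complex.conj_eq_iff_im.1 this
    · exact h

end Chars

/-- **Even degrees.**  A finite group of even order containing an element `u` conjugate to its
inverse whose centralizer has odd order has an irreducible character of even degree. -/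
theorem exists_even_degree {G : Type*} [Group G] [Finite G] (h2 : 2 ∣ Nat.card G) (u : G)
    (hreal : IsConj u u⁻¹) (hodd : Odd (Nat.card (Subgroup.centralizer ({u} : Set G)))) :
    ∃ χ : Cfsg.IrrCharacter G, Even (Cfsg.charDegree (χ : G → ℂ)) := by
  classical
  have : Fintype G := Fintype.ofFinite G
  have : Fintype (Cfsg.IrrCharacter G) := Fintype.ofFinite _
  by_contra hall
  push Not at hall
  obtain ⟨M, hM⟩ := exists_isPModular 2 Nat.prime_two
  have : Fact (Nat.Prime 2) := ⟨Nat.prime_two⟩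
  obtain ⟨t, ht⟩ := exists_prime_orderOf_dvd_card' 2 h2
  have ht2 : t ^ (2 ^ 1) = 1 := by rw [pow_one, ← ht]; exact pow_orderOf_eq_one t
  have h2mem : Cfsg.MemLocalIdeal M (2 : ℂ) := by
    have := (memLocalIdeal_natCast_iff hM 2).2 (dvd_refl 2)
    simpa using this
  have hint : ∀ (χ : Cfsg.IrrCharacter G) (g : G), Cfsg.MemLocalRing M ((χ : G → ℂ) g) := by
    intro χ g
    apply memLocalRing_of_isIntegral hM
    obtain ⟨n, ρ, _, hρ⟩ := χ.2
    rw [← hρ]
    exact Cfsg.Agent.Lib.Helper2.char_isIntegral ρ g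
  -- (a) `χ(t) ≡ 1`
  have ha : ∀ χ : Cfsg.IrrCharacter G, Cfsg.MemLocalIdeal M (1 - (χ : G → ℂ) t) := by
    intro χ
    have h1 := memLocalIdeal_char_sub_degree hM χ t 1 ht2
    have hdeg : (χ : G → ℂ) 1 = (Cfsg.charDegree (χ : G → ℂ) : ℂ) :=
      char_one_eq_charDegree (isCharacter_of_irr χ.2)
    have hoddχ := hall χ
    rw [Nat.not_even_iff_odd] at hoddχ
    obtain ⟨m, hm⟩ := hoddχ
    have h3 : Cfsg.MemLocalIdeal M ((χ : G → ℂ) 1 - 1) := by
      rw [hdeg, hm]
      have h4 : (((2 * m + 1 : ℕ) : ℂ) - 1) = ((2 * m : ℕ) : ℂ) := by push_cast; ring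
      rw [h4]
      exact (memLocalIdeal_natCast_iff hM _).2 (dvd_mul_right 2 m)
    have h5 := memLocalIdeal_neg (memLocalIdeal_add hM h1 h3)
    have h6 : -((χ : G → ℂ) t - (χ : G → ℂ) 1 + ((χ : G → ℂ) 1 - 1)) = 1 - (χ : G → ℂ) t := by ring
    rw [h6] at h5
    exact h5
  -- (b) column orthogonality
  have hnc : ¬ IsConj t u := by
    intro hc
    obtain ⟨c, hc⟩ := isConj_iff.1 hc
    have hou : orderOf u = 2 := by
      rw [← hc, ← ht]
      have := (MulAut.conj c).orderOf_eq t
      simpa using this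
    have huC : u ∈ Subgroup.centralizer ({u} : Set G) := by
      rw [Subgroup.mem_centralizer_iff]
      intro y hy
      rw [Set.mem_singleton_iff] at hy
      rw [hy]
    have h3 : orderOf (⟨u, huC⟩ : Subgroup.centralizer ({u} : Set G)) = 2 := by
      rw [← hou, ← Subgroup.orderOf_coe]
    have h4 : 2 ∣ Nat.card (Subgroup.centralizer ({u} : Set G)) := by
      rw [← h3]; exact orderOf_dvd_natCard _
    rw [Nat.odd_iff] at hodd
    omega
  have hb := Cfsg.Agent.Lib.Helper2.column_orthogonality t u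
  rw [if_neg hnc] at hb
  -- (d) the values at `u` are real
  have hd : ∀ χ : Cfsg.IrrCharacter G, conj ((χ : G → ℂ) u) = (χ : G → ℂ) u := by
    intro χ
    rw [← char_inv (isCharacter_of_irr χ.2)]
    obtain ⟨c, hc⟩ := isConj_iff.1 hreal
    rw [← hc]
    exact Cfsg.Agent.Lib.Helper2.IrrCharacter.isClassFunction χ u c
  -- (c) `∑ χ(u) ≡ 0`
  have hc : Cfsg.MemLocalIdeal M (∑ χ : Cfsg.IrrCharacter G, (χ : G → ℂ) u) := by
    have h1 : ∑ χ : Cfsg.IrrCharacter G, (χ : G → ℂ) u =
        ∑ χ : Cfsg.IrrCharacter G, (1 - (χ : G → ℂ) t) * (χ : G → ℂ) u := by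
      have h3 : ∑ χ : Cfsg.IrrCharacter G, (1 - (χ : G → ℂ) t) * (χ : G → ℂ) u =
          ∑ χ : Cfsg.IrrCharacter G, (χ : G → ℂ) u -
          ∑ χ : Cfsg.IrrCharacter G, (χ : G → ℂ) t * conj ((χ : G → ℂ) u) := by
        rw [← Finset.sum_sub_distrib]
        apply Finset.sum_congr rfl
        intro χ _
        rw [hd χ]; ring
      rw [h3, hb, sub_zero]
    rw [h1]
    apply memLocalIdeal_sum hM
    intro χ _
    exact memLocalIdeal_mul_right hM (ha χ) (hint χ u)
  -- (e) `∑ χ(u) ≡ sqCount u = 1`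
  have he : Cfsg.MemLocalIdeal M (∑ χ : Cfsg.IrrCharacter G, (χ : G → ℂ) u - sqCount u) := by
    rw [← sum_fs_mul_char u, ← Finset.sum_sub_distrib]
    rw [← Finset.sum_filter_add_sum_filter_not Finset.univ (fun χ : Cfsg.IrrCharacter G => barIrr χ = χ)]
    apply memLocalIdeal_add hM
    · apply memLocalIdeal_sum hM
      intro χ hχ
      have hχ' : barIrr χ = χ := (Finset.mem_filter.1 hχ).2
      rcases (fs_cases χ).2 hχ' with h | h
      · rw [h, map_one, one_mul, sub_self]
        exact memLocalIdeal_zero hM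
      · rw [h, map_neg, map_one]
        have h3 : (χ : G → ℂ) u - -1 * (χ : G → ℂ) u = 2 * (χ : G → ℂ) u := by ring
        rw [h3]
        exact memLocalIdeal_mul_right hM h2mem (hint χ u)
    · have h3 : ∑ χ ∈ Finset.univ.filter (fun χ : Cfsg.IrrCharacter G => ¬ barIrr χ = χ),
          ((χ : G → ℂ) u - conj ((Nat.card G : ℂ)⁻¹ * ∑ s : G, (χ : G → ℂ) (s * s)) *
            (χ : G → ℂ) u) =
          ∑ χ ∈ Finset.univ.filter (fun χ : Cfsg.IrrCharacter G => ¬ barIrr χ = χ),
          (χ : G → ℂ) u := by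
        apply Finset.sum_congr rfl
        intro χ hχ
        have hχ' : barIrr χ ≠ χ := (Finset.mem_filter.1 hχ).2
        rw [(fs_cases χ).1 hχ', map_zero, zero_mul, sub_zero]
      rw [h3]
      apply memLocalIdeal_sum_of_invol hM (barIrr (G := G)) barIrr_barIrr
        (fun χ : Cfsg.IrrCharacter G => (χ : G → ℂ) u)
      · intro χ
        rw [barIrr_apply, hd χ]
      · intro χ
        exact hint χ u
      · intro χ hχ
        have hχ' : barIrr χ ≠ χ := (Finset.mem_filter.1 hχ).2
        refine ⟨?_, hχ'⟩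
        rw [Finset.mem_filter]
        refine ⟨Finset.mem_univ _, ?_⟩
        rw [barIrr_barIrr]
        exact fun h => hχ' h.symm
  rw [sqCount_eq_one u hodd] at he
  have hf := memLocalIdeal_sub hM hc he
  rw [sub_sub_cancel] at hf
  exact not_memLocalIdeal_one hM hf

end Cfsg.Agent.Lib.Helper25
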