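import Mathlib
import Cfsg.Prelude.Def_Blocks
import Cfsg.Agent.Lib.Helper25.GenOrtho

/-!
Class multiplication constants via characters, and sums of characters over subgroups.
-/

set_option autoImplicit false
set_option linter.style.haveILetI false
set_option linter.unusedSectionVars false

namespace Cfsg.Agent.Lib.Helper25

open Cfsg Representation
open scoped ComplexConjugate

universe u

variable {G : Type u} [Group G]

/-- `∑ χ(1) χ(w) = δ_{w = 1} |G|`. -/
theorem regular_char_sum [Fintype G] [Fintype (IrrCharacter G)] [DecidableEq G] (w : G) :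
    ∑ χ : IrrCharacter G, (χ : G → ℂ) 1 * (χ : G → ℂ) w =
      if w = 1 then (Nat.card G : ℂ) else 0 := by
  by_cases h : w = 1
  · subst h
    rw [if_pos rfl, sum_degree_sq]
  · rw [if_neg h, sum_degree_mul_char w h]

/-- The number of pairs `(h₁, h₂)` with `h₁ x h₁⁻¹ * h₂ y h₂⁻¹ = z`. -/
theorem class_mult_count [Fintype G] [Fintype (IrrCharacter G)] (x y z : G) :
    (Nat.card {h : G × G // h.1 * x * h.1⁻¹ * (h.2 * y * h.2⁻¹) = z} : ℂ) =
      (Nat.card G : ℂ) * ∑ χ : IrrCharacter G,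
        (χ : G → ℂ) x * (χ : G → ℂ) y * (χ : G → ℂ) z⁻¹ / (χ : G → ℂ) 1 := by
  classical
  have hG : (Nat.card G : ℂ) ≠ 0 := card_ne_zero_complex
  have h1 : (Nat.card {h : G × G // h.1 * x * h.1⁻¹ * (h.2 * y * h.2⁻¹) = z} : ℂ) =
      ∑ h₁ : G, ∑ h₂ : G,
        if h₁ * x * h₁⁻¹ * (h₂ * y * h₂⁻¹) * z⁻¹ = 1 then (1 : ℂ) else 0 := by
    rw [Nat.card_eq_fintype_card, Fintype.card_subtype, Finset.card_filter]
    push_cast
    rw [Fintype.sum_prod_type]
    apply Finset.sum_congr rfl; intro h₁ _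
    apply Finset.sum_congr rfl; intro h₂ _
    congr 1
    apply propext
    constructor
    · intro h; rw [h, mul_inv_cancel]
    · intro h; exact mul_inv_eq_one.1 h
  have h2 : ∀ w : G, (if w = 1 then (1 : ℂ) else 0) =
      (Nat.card G : ℂ)⁻¹ * ∑ χ : IrrCharacter G, (χ : G → ℂ) 1 * (χ : G → ℂ) w := by
    intro w
    rw [regular_char_sum]
    split_ifs
    · rw [inv_mul_cancel₀ hG]
    · rw [mul_zero (M₀ := ℂ)]
  rw [h1]
  simp_rw [h2]
  simp_rw [Finset.mul_sum]
  -- move the character sum outside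
  have h3 : ∀ h₁ : G, (∑ h₂ : G, ∑ χ : IrrCharacter G,
      (Nat.card G : ℂ)⁻¹ * ((χ : G → ℂ) 1 * (χ : G → ℂ) (h₁ * x * h₁⁻¹ * (h₂ * y * h₂⁻¹) * z⁻¹))) =
      ∑ χ : IrrCharacter G, (χ : G → ℂ) (z⁻¹ * (h₁ * x * h₁⁻¹)) * (χ : G → ℂ) y := by
    intro h₁
    rw [Finset.sum_comm]
    apply Finset.sum_congr rfl; intro χ _
    have hcf := isClassFunction_of_char (isCharacter_of_irr χ.2)
    have h4 : ∀ h₂ : G, (χ : G → ℂ) (h₁ * x * h₁⁻¹ * (h₂ * y * h₂⁻¹) * z⁻¹) =
        (χ : G → ℂ) ((z⁻¹ * (h₁ * x * h₁⁻¹)) * (h₂ * y * h₂⁻¹)) := by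
      intro h₂
      have := hcf (h₁ * x * h₁⁻¹ * (h₂ * y * h₂⁻¹) * z⁻¹) z⁻¹
      rw [← this]
      group
    simp_rw [h4]
    rw [← Finset.mul_sum, ← Finset.mul_sum, sum_char_mul_conj χ.2]
    have h1ne := irr_one_ne_zero χ.2
    field_simp
  simp_rw [h3]
  rw [Finset.sum_comm]
  apply Finset.sum_congr rfl; intro χ _
  rw [← Finset.sum_mul, sum_char_mul_conj χ.2]
  have h1ne := irr_one_ne_zero χ.2
  field_simp

section Invariants

variable {H : Type*} [Group H] [Fintype H]
variable {V : Type*} [AddCommGroup V] [Module ℂ V] [FiniteDimensional ℂ V]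

/-- The sum of a character over the group is the group order times the dimension of the
invariants. -/
theorem sum_character_eq (ρ : Representation ℂ H V) :
    ∑ h : H, ρ.character h = (Nat.card H : ℂ) * (Module.finrank ℂ (invariants ρ) : ℂ) := by
  haveI : Invertible (Fintype.card H : ℂ) :=
    invertibleOfNonzero (by exact_mod_cast Fintype.card_ne_zero)
  have h1 := (isProj_averageMap ρ).trace
  rw [← h1]
  have hne : (Fintype.card H : ℂ) ≠ 0 := by exact_mod_cast Fintype.card_ne_zero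
  simp only [averageMap, GroupAlgebra.average, map_smul, map_sum, MonoidAlgebra.of_apply,
    asAlgebraHom_single, one_smul, Representation.character, smul_eq_mul]
  rw [Nat.card_eq_fintype_card, invOf_eq_inv, ← mul_assoc, mul_inv_cancel₀ hne, one_mul]

end Invariants

/-- The sum of a character of `G` over a subgroup is a natural multiple of the subgroup
order. -/
theorem sum_char_subgroup {χ : G → ℂ} (h : IsCharacter G χ) (P : Subgroup G) [Fintype P] :
    ∃ m : ℕ, ∑ z : P, χ (z : G) = (Nat.card P : ℂ) * (m : ℂ) := by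
  obtain ⟨n, ρ, rfl⟩ := h
  let σ : Representation ℂ P (Fin n → ℂ) := MonoidHom.comp ρ P.subtype
  refine ⟨Module.finrank ℂ (invariants σ), ?_⟩
  rw [← sum_character_eq σ]
  rfl

end Cfsg.Agent.Lib.Helper25
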