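import Mathlib
import Cfsg.Prelude.Def_Blocks
import Cfsg.Agent.Lib.Helper25.Kernel
import Cfsg.Agent.Lib.Helper2.Column

/-!
Irreducible characters that are nonzero on exactly two conjugacy classes (Gagola characters):
basic structure.
-/

set_option autoImplicit false
set_option linter.style.haveILetI false
set_option linter.unusedSectionVars false

namespace Cfsg.Agent.Lib.Helper25

open Cfsg Representation
open scoped ComplexConjugate

universe u

variable {G : Type u} [Group G] [Finite G]

/-- Unpacking the hypothesis "nonzero on exactly two classes". -/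
theorem two_class_data (χ : IrrCharacter G)
    (hχ : Nat.card {C : ConjClasses G // ∃ g ∈ C.carrier, (χ : G → ℂ) g ≠ 0} = 2) :
    ∃ x : G, x ≠ 1 ∧ (χ : G → ℂ) x ≠ 0 ∧ ∀ g, (χ : G → ℂ) g ≠ 0 → g = 1 ∨ IsConj x g := by
  have h1ne := irr_one_ne_zero χ.2
  let c₁ : {C : ConjClasses G // ∃ g ∈ C.carrier, (χ : G → ℂ) g ≠ 0} :=
    ⟨ConjClasses.mk 1, 1, ConjClasses.mem_carrier_mk, h1ne⟩
  obtain ⟨c₂, hc₂, huniq⟩ := (Nat.card_eq_two_iff' c₁).1 hχ
  obtain ⟨x, hxC, hx⟩ := c₂.2
  have hxC' : ConjClasses.mk x = c₂.1 := ConjClasses.mem_carrier_iff_mk_eq.1 hxC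
  refine ⟨x, ?_, hx, ?_⟩
  · intro h
    apply hc₂
    apply Subtype.ext
    rw [← hxC', h]
  · intro g hg
    let c : {C : ConjClasses G // ∃ g ∈ C.carrier, (χ : G → ℂ) g ≠ 0} :=
      ⟨ConjClasses.mk g, g, ConjClasses.mem_carrier_mk, hg⟩
    by_cases hc : c = c₁
    · left
      have : ConjClasses.mk g = ConjClasses.mk 1 := congrArg Subtype.val hc
      exact isConj_one_left.1 (ConjClasses.mk_eq_mk_iff_isConj.1 this)
    · right
      have h2 : c = c₂ := huniq c hc
      have : ConjClasses.mk g = c₂.1 := congrArg Subtype.val h2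
      rw [← hxC'] at this
      exact (ConjClasses.mk_eq_mk_iff_isConj.1 this).symm

/-- Main computation for a character nonzero exactly on `{1}` and the class of `x`. -/
theorem gagola_main (hG : 2 < Nat.card G) (χ : IrrCharacter G) (x : G) (hx1 : x ≠ 1)
    (hx : (χ : G → ℂ) x ≠ 0) (hall : ∀ g, (χ : G → ℂ) g ≠ 0 → g = 1 ∨ IsConj x g) :
    (∀ g, (χ : G → ℂ) g = (χ : G → ℂ) 1 → g = 1) ∧
    (∀ g h, (χ : G → ℂ) g ≠ 0 → (χ : G → ℂ) h ≠ 0 → (χ : G → ℂ) (g * h) ≠ 0) ∧
    (charDegree (χ : G → ℂ) ^ 2 * (Nat.card {g : G // IsConj x g} + 1) =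
      Nat.card G * Nat.card {g : G // IsConj x g}) := by
  classical
  haveI := Fintype.ofFinite G
  set d : ℂ := (χ : G → ℂ) 1 with hd
  set a : ℂ := (χ : G → ℂ) x with ha
  have hd0 : d ≠ 0 := irr_one_ne_zero χ.2
  have hchar := isCharacter_of_irr χ.2
  have hcf := isClassFunction_of_char hchar
  have hdn : d = (charDegree (χ : G → ℂ) : ℂ) := char_one_eq_charDegree hchar
  have hconj : ∀ g, IsConj x g → (χ : G → ℂ) g = a := by
    intro g hg
    obtain ⟨k, rfl⟩ := isConj_iff.1 hg
    exact hcf x k
  have hnot : ∀ g, IsConj x g → g ≠ 1 := by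
    intro g hg h1
    rw [h1] at hg
    exact hx1 (isConj_one_left.1 hg)
  have hval : ∀ g, (χ : G → ℂ) g =
      (if g = 1 then d else 0) + (if IsConj x g then a else 0) := by
    intro g
    by_cases h1 : g = 1
    · rw [if_pos h1, if_neg (fun hc => hnot g hc h1), add_zero, h1]
    · by_cases h2 : IsConj x g
      · rw [if_neg h1, if_pos h2, zero_add, hconj g h2]
      · rw [if_neg h1, if_neg h2, add_zero]
        by_contra h3
        rcases hall g h3 with h4 | h4
        · exact h1 h4
        · exact h2 h4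
  set c : ℕ := Nat.card {g : G // IsConj x g} with hc
  have hcfilter : (Finset.univ.filter (fun g : G => IsConj x g)).card = c := by
    rw [hc, Nat.card_eq_fintype_card, Fintype.card_subtype]
  have hcpos : 0 < c := by
    rw [hc]
    haveI : Nonempty {g : G // IsConj x g} := ⟨⟨x, IsConj.refl x⟩⟩
    exact Nat.card_pos
  have hc0 : (c : ℂ) ≠ 0 := by exact_mod_cast hcpos.ne'
  set m : ℕ := Nat.card (Subgroup.centralizer ({x} : Set G)) with hm
  have hmc : m * c = Nat.card G := Cfsg.Agent.Lib.Helper2.card_centralizer_mul_card_conj x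
  -- sums of functions of the special shape
  have hsum : ∀ (F : G → ℂ) (u v : ℂ), (∀ g, F g =
      (if g = 1 then u else 0) + (if IsConj x g then v else 0)) →
      ∑ g : G, F g = u + (c : ℂ) * v := by
    intro F u v hF
    simp_rw [hF]
    rw [Finset.sum_add_distrib, Finset.sum_ite_eq' Finset.univ (1 : G), if_pos (Finset.mem_univ _),
      Finset.sum_ite, Finset.sum_const_zero, add_zero, Finset.sum_const, nsmul_eq_mul, hcfilter]
  -- χ is not the principal character
  have hnontriv : (χ : G → ℂ) ≠ fun _ => (1 : ℂ) := by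
    intro h
    have hall' : ∀ g : G, g = 1 ∨ IsConj x g := fun g => hall g (by rw [h]; exact one_ne_zero)
    have hcard : Nat.card G = 1 + c := by
      have hnm : (1 : G) ∉ Finset.univ.filter (fun g : G => IsConj x g) := by
        simp only [Finset.mem_filter, Finset.mem_univ, true_and]
        exact fun hc1 => hnot 1 hc1 rfl
      have hu : (Finset.univ : Finset G) =
          insert 1 (Finset.univ.filter (fun g : G => IsConj x g)) := by
        ext g
        simp only [Finset.mem_univ, Finset.mem_insert, Finset.mem_filter, true_and, true_iff]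
        exact hall' g
      have hu' := congrArg Finset.card hu
      rw [Finset.card_insert_of_notMem hnm, hcfilter, Finset.card_univ,
        ← Nat.card_eq_fintype_card] at hu'
      rw [hu', add_comm]
    have hdvd : c ∣ 1 + c := by
      rw [← hcard, ← hmc]
      exact Dvd.intro_left m rfl
    have hc1 : c = 1 := by
      have : c ∣ 1 := (Nat.dvd_add_left (dvd_refl c)).1 hdvd
      exact Nat.dvd_one.1 this
    rw [hcard, hc1] at hG
    omega
  -- orthogonality with the principal character
  have hE1 : d + (c : ℂ) * a = 0 := by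
    rw [← hsum (χ : G → ℂ) d a hval]
    have h1 := irr_classInner χ.2 (isIrrCharacter_one (G := G))
    rw [if_neg hnontriv] at h1
    unfold classInner at h1
    have h1' : (Nat.card G : ℂ)⁻¹ * ∑ g : G, (χ : G → ℂ) g = 0 := by
      rw [← h1]
      congr 1
      apply Finset.sum_congr rfl
      intro g _
      rw [map_one, mul_one]
    rcases mul_eq_zero.1 h1' with h2 | h2
    · exact absurd (inv_eq_zero.1 h2) card_ne_zero_complex
    · exact h2
  have haeq : a = -d / (c : ℂ) := by
    field_simp
    linear_combination hE1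
  have hda : (starRingEnd ℂ) d = d := by rw [hdn, Complex.conj_natCast]
  have haa : (starRingEnd ℂ) a = a := by
    rw [haeq, map_div₀, map_neg, hda, Complex.conj_natCast]
  -- norm
  have hE2 : d * d + (c : ℂ) * (a * a) = (Nat.card G : ℂ) := by
    have hF : ∀ g, (χ : G → ℂ) g * (starRingEnd ℂ) ((χ : G → ℂ) g) =
        (if g = 1 then d * d else 0) + (if IsConj x g then a * a else 0) := by
      intro g
      rw [hval g]
      by_cases h1 : g = 1
      · rw [if_pos h1, if_pos h1, if_neg (fun hc => hnot g hc h1), if_neg (fun hc => hnot g hc h1),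
          add_zero, add_zero, hda]
      · by_cases h2 : IsConj x g
        · rw [if_neg h1, if_neg h1, if_pos h2, if_pos h2, zero_add, zero_add, haa]
        · rw [if_neg h1, if_neg h1, if_neg h2, if_neg h2, add_zero, zero_mul]
    rw [← hsum _ (d * d) (a * a) hF]
    have h1 := irr_classInner χ.2 χ.2
    rw [if_pos rfl] at h1
    unfold classInner at h1
    have hGne : (Nat.card G : ℂ) ≠ 0 := card_ne_zero_complex
    field_simp at h1
    exact h1
  have hnum : d * d * ((c : ℂ) + 1) = (Nat.card G : ℂ) * (c : ℂ) := by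
    rw [← hE2, haeq]
    field_simp
  refine ⟨?_, ?_, ?_⟩
  · -- faithful
    intro g hg
    by_contra h1
    have h2 := hval g
    rw [if_neg h1, zero_add, hg] at h2
    by_cases h3 : IsConj x g
    · rw [if_pos h3] at h2
      have : d * (1 + (c : ℂ)) = 0 := by
        rw [← h2] at hE1
        linear_combination hE1
      rcases mul_eq_zero.1 this with h4 | h4
      · exact hd0 h4
      · have : ((1 + c : ℕ) : ℂ) = 0 := by push_cast; exact h4
        have : (1 + c : ℕ) = 0 := by exact_mod_cast this
        omega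
    · rw [if_neg h3] at h2
      exact hd0 h2
  · -- closure under multiplication
    have hkey : ∀ h : G, (χ : G → ℂ) (x * (h * x * h⁻¹)) ≠ 0 := by
      -- the element `x⁻¹` is conjugate to `x`
      have hxinv : (χ : G → ℂ) x⁻¹ ≠ 0 := by
        rw [char_inv hchar, haa]; exact hx
      have hxinv1 : x⁻¹ ≠ 1 := fun h => hx1 (inv_eq_one.1 h)
      obtain ⟨h₀, hh₀⟩ : ∃ h₀ : G, h₀ * x * h₀⁻¹ = x⁻¹ := by
        rcases hall x⁻¹ hxinv with h | h
        · exact absurd h hxinv1
        · exact isConj_iff.1 h
      have hPcard : (Finset.univ.filter (fun h : G => x * (h * x * h⁻¹) = 1)).card = m := by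
        rw [hm, Nat.card_eq_fintype_card, ← Fintype.card_subtype]
        apply Fintype.card_congr
        refine ⟨fun h => ⟨h₀⁻¹ * h.1, ?_⟩, fun z => ⟨h₀ * z.1, ?_⟩, ?_, ?_⟩
        · rw [Subgroup.mem_centralizer_singleton_iff]
          have h1 : h.1 * x * h.1⁻¹ = x⁻¹ := by
            have := h.2
            exact eq_inv_of_mul_eq_one_right this
          have h2 : h₀⁻¹ * x⁻¹ * h₀ = x := by
            rw [← hh₀]; group
          calc h₀⁻¹ * h.1 * x = h₀⁻¹ * (h.1 * x * h.1⁻¹) * h.1 := by group
            _ = h₀⁻¹ * x⁻¹ * h.1 := by rw [h1]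
            _ = (h₀⁻¹ * x⁻¹ * h₀) * (h₀⁻¹ * h.1) := by group
            _ = x * (h₀⁻¹ * h.1) := by rw [h2]
        · have hz := Subgroup.mem_centralizer_singleton_iff.1 z.2
          have : h₀ * z.1 * x * (h₀ * z.1)⁻¹ = x⁻¹ := by
            calc h₀ * z.1 * x * (h₀ * z.1)⁻¹ = h₀ * (z.1 * x) * z.1⁻¹ * h₀⁻¹ := by group
              _ = h₀ * (x * z.1) * z.1⁻¹ * h₀⁻¹ := by rw [hz]
              _ = h₀ * x * h₀⁻¹ := by group
              _ = x⁻¹ := hh₀
          rw [this, mul_inv_cancel]
        · intro h; apply Subtype.ext; simp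
        · intro z; apply Subtype.ext; simp
      -- evaluate the generalized orthogonality sum
      have hF : ∀ h : G, (χ : G → ℂ) (x * (h * x * h⁻¹)) =
          (if x * (h * x * h⁻¹) = 1 then d else 0) +
          (if IsConj x (x * (h * x * h⁻¹)) then a else 0) := fun h => hval _
      have hS := sum_char_mul_conj χ.2 x x
      rw [← ha, ← hd] at hS
      simp_rw [hF] at hS
      rw [Finset.sum_add_distrib, Finset.sum_ite, Finset.sum_const_zero, add_zero,
        Finset.sum_const, nsmul_eq_mul, hPcard, Finset.sum_ite, Finset.sum_const_zero, add_zero,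
        Finset.sum_const, nsmul_eq_mul] at hS
      set Q := Finset.univ.filter (fun h : G => IsConj x (x * (h * x * h⁻¹))) with hQ
      have hGmc : (Nat.card G : ℂ) = (m : ℂ) * (c : ℂ) := by exact_mod_cast hmc.symm
      have hQcard : ((Q.card : ℕ) : ℂ) = (m : ℂ) * (c : ℂ) - (m : ℂ) := by
        rw [hGmc] at hS
        have h2 := (eq_div_iff hd0).1 hS
        have h3 : d * d * ((m : ℂ) * (c : ℂ) - (Q.card : ℂ) - (m : ℂ)) = 0 := by
          linear_combination (c : ℂ) * h2 +
            (-(Q.card : ℂ) * d + (m : ℂ) * ((c : ℂ) * a - d)) * hE1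
        rcases mul_eq_zero.1 h3 with h4 | h4
        · exact absurd h4 (mul_ne_zero hd0 hd0)
        · linear_combination (-1 : ℂ) * h4
      have hQcard' : Q.card + m = Nat.card G := by
        have : ((Q.card + m : ℕ) : ℂ) = ((Nat.card G : ℕ) : ℂ) := by
          push_cast; rw [hQcard, hGmc]; ring
        exact_mod_cast this
      set Pf := Finset.univ.filter (fun h : G => x * (h * x * h⁻¹) = 1) with hPf
      have hdisj : Disjoint Pf Q := by
        rw [Finset.disjoint_left]
        intro h hP hQ'
        rw [hPf, Finset.mem_filter] at hP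
        rw [hQ, Finset.mem_filter] at hQ'
        exact hnot _ hQ'.2 hP.2
      have hunion : Pf ∪ Q = Finset.univ := by
        apply Finset.eq_univ_of_card
        rw [Finset.card_union_of_disjoint hdisj, hPcard, ← Nat.card_eq_fintype_card, ← hQcard',
          add_comm]
      intro h
      have hmem : h ∈ Pf ∪ Q := by rw [hunion]; exact Finset.mem_univ h
      rcases Finset.mem_union.1 hmem with h1 | h1
      · rw [hPf, Finset.mem_filter] at h1
        rw [h1.2]; exact hd0
      · rw [hQ, Finset.mem_filter] at h1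
        rw [hconj _ h1.2]; exact hx
    intro g h hg hh
    rcases hall g hg with rfl | hg'
    · rwa [one_mul]
    rcases hall h hh with rfl | hh'
    · rwa [mul_one]
    obtain ⟨k, rfl⟩ := isConj_iff.1 hg'
    obtain ⟨l, rfl⟩ := isConj_iff.1 hh'
    have := hkey (k⁻¹ * l)
    rw [← hcf _ k] at this
    convert this using 2
    group
  · -- the numerical identity
    have : ((charDegree (χ : G → ℂ) ^ 2 * (c + 1) : ℕ) : ℂ) = ((Nat.card G * c : ℕ) : ℂ) := by
      push_cast
      rw [← hdn, pow_two]
      exact hnum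
    exact_mod_cast this

end Cfsg.Agent.Lib.Helper25
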