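import Mathlib
import Cfsg.Prelude.Def_Blocks
import Cfsg.Agent.Lib.Helper25.Gagola
import Cfsg.Agent.Lib.Helper25.Codegree
import Cfsg.Agent.Lib.Helper2.Linear
import Cfsg.Agent.Lib.Helper2.Regular

/-!
Gagola characters (irreducible characters nonzero on exactly two classes) whose nonvanishing set
is a normal `p`-subgroup `N`: centralizers of elements of `N`, the irreducible characters of `G`,
centralizer orders outside `N`.
-/

set_option autoImplicit false
set_option linter.style.haveILetI false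
set_option linter.unusedSectionVars false

namespace Cfsg.Agent.Lib.Helper25

open Cfsg Representation
open scoped ComplexConjugate

universe u

variable {G : Type u} [Group G] [Finite G]

/-- Every nonidentity element of the nonvanishing set can serve as the base point. -/
theorem gagola_all_conj (χ : IrrCharacter G)
    (hχ : Nat.card {C : ConjClasses G // ∃ g ∈ C.carrier, (χ : G → ℂ) g ≠ 0} = 2)
    {x : G} (hx1 : x ≠ 1) (hx : (χ : G → ℂ) x ≠ 0) :
    ∀ g, (χ : G → ℂ) g ≠ 0 → g = 1 ∨ IsConj x g := by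
  obtain ⟨x₀, hx₀1, hx₀, hall⟩ := two_class_data χ hχ
  have h1 : IsConj x₀ x := by
    rcases hall x hx with h | h
    · exact absurd h hx1
    · exact h
  intro g hg
  rcases hall g hg with h | h
  · exact Or.inl h
  · exact Or.inr (h1.symm.trans h)

/-- The nonvanishing set has one more element than the class of `x`. -/
theorem gagola_card_N (χ : IrrCharacter G) (N : Subgroup G)
    (hN : ∀ g : G, g ∈ N ↔ (χ : G → ℂ) g ≠ 0) {x : G} (hx1 : x ≠ 1) (hx : x ∈ N)
    (hall : ∀ g, (χ : G → ℂ) g ≠ 0 → g = 1 ∨ IsConj x g) :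
    Nat.card N = Nat.card {g : G // IsConj x g} + 1 := by
  classical
  have hcf := isClassFunction_of_char (isCharacter_of_irr χ.2)
  have hset : (N : Set G) = insert 1 {g : G | IsConj x g} := by
    ext g
    simp only [SetLike.mem_coe, Set.mem_insert_iff, Set.mem_ofPred_eq]
    constructor
    · intro hg
      exact hall g ((hN g).1 hg)
    · rintro (h | h)
      · rw [h]; exact N.one_mem
      · obtain ⟨k, rfl⟩ := isConj_iff.1 h
        rw [hN, hcf x k]
        exact (hN x).1 hx
  have hnot : (1 : G) ∉ {g : G | IsConj x g} := by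
    simp only [Set.mem_ofPred_eq]
    intro h
    exact hx1 (isConj_one_left.1 h)
  have h1 : Nat.card N = Set.ncard (N : Set G) := (Nat.card_coe_set_eq _)
  rw [h1, hset, Set.ncard_insert_of_notMem hnot (Set.toFinite _)]
  rfl

/-- For a nonidentity element `x` of `N` the centralizer of `x` has the order of a Sylow
`p`-subgroup. -/
theorem gagola_card_centralizer (hG : 2 < Nat.card G) (χ : IrrCharacter G)
    (hχ : Nat.card {C : ConjClasses G // ∃ g ∈ C.carrier, (χ : G → ℂ) g ≠ 0} = 2)
    (p : ℕ) [Fact p.Prime] (N : Subgroup G)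
    (hN : ∀ g : G, g ∈ N ↔ (χ : G → ℂ) g ≠ 0) (hNp : IsPGroup p N)
    {x : G} (hx : x ∈ N) (hx1 : x ≠ 1) :
    Nat.card (Subgroup.centralizer ({x} : Set G)) = p ^ (Nat.card G).factorization p := by
  classical
  haveI := Fintype.ofFinite G
  have hp : p.Prime := Fact.out
  have hχx : (χ : G → ℂ) x ≠ 0 := (hN x).1 hx
  have hall := gagola_all_conj χ hχ hx1 hχx
  obtain ⟨-, -, hmain⟩ := gagola_main hG χ x hx1 hχx hall
  have hcardN := gagola_card_N χ N hN hx1 hx hall
  set c := Nat.card {g : G // IsConj x g} with hc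
  set d := charDegree (χ : G → ℂ) with hd
  set m := Nat.card (Subgroup.centralizer ({x} : Set G)) with hm
  have hmc : m * c = Nat.card G := Cfsg.Agent.Lib.Helper2.card_centralizer_mul_card_conj x
  have hGpos : 0 < Nat.card G := Nat.card_pos
  have hmpos : 0 < m := Nat.pos_of_ne_zero (fun h => by rw [h, zero_mul] at hmc; omega)
  have hcpos : 0 < c := Nat.pos_of_ne_zero (fun h => by rw [h, mul_zero] at hmc; omega)
  have hdpos : 0 < d := irr_degree_pos χ.2
  -- |N| is a power of p
  obtain ⟨a, ha⟩ := IsPGroup.iff_card.1 hNp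
  have hapos : 0 < a := by
    rcases Nat.eq_zero_or_pos a with h | h
    · rw [h, pow_zero, hcardN] at ha; omega
    · exact h
  have hpc : ¬ p ∣ c := by
    intro h
    have h1 : p ∣ c + 1 := by
      rw [← hcardN, ha]; exact dvd_pow_self p hapos.ne'
    have h2 : p ∣ 1 := (Nat.dvd_add_right h).1 h1
    exact hp.one_lt.ne' (Nat.dvd_one.1 h2)
  -- d^2 * p^a = m * c^2
  have hkey : d ^ 2 * p ^ a = m * c ^ 2 := by
    rw [← ha, hcardN, hmain, ← hmc]; ring
  -- every prime divisor of m is p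
  have hprime : ∀ {q : ℕ}, q.Prime → q ∣ m → q = p := by
    intro q hq hqm
    by_contra hqp
    haveI : Fact q.Prime := ⟨hq⟩
    obtain ⟨Q⟩ : Nonempty (Sylow q G) := inferInstance
    have hQcard : Nat.card (Q : Subgroup G) = q ^ (Nat.card G).factorization q :=
      Sylow.card_eq_multiplicity Q
    have hvan : ∀ g : G, g ∈ (Q : Subgroup G) → g ≠ 1 → (χ : G → ℂ) g = 0 := by
      intro g hgQ hg1
      by_contra hne
      have hgN : g ∈ N := (hN g).2 hne
      obtain ⟨k₁, hk₁⟩ := (IsPGroup.iff_orderOf.1 hNp) ⟨g, hgN⟩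
      obtain ⟨k₂, hk₂⟩ := (IsPGroup.iff_orderOf.1 Q.isPGroup') ⟨g, hgQ⟩
      rw [Subgroup.orderOf_mk] at hk₁ hk₂
      have h1 : p ^ k₁ = q ^ k₂ := by rw [← hk₁, ← hk₂]
      have hk₁0 : k₁ ≠ 0 := by
        intro h0
        rw [h0, pow_zero, orderOf_eq_one_iff] at hk₁
        exact hg1 hk₁
      have h2 : p ∣ q ^ k₂ := by rw [← h1]; exact dvd_pow_self p hk₁0
      have h3 : p ∣ q := hp.dvd_of_dvd_pow h2
      exact hqp ((Nat.prime_dvd_prime_iff_eq hp hq).1 h3).symm
    obtain ⟨k, hk⟩ := Cfsg.Agent.Lib.Helper2.card_dvd_degree_of_vanish (Q : Subgroup G)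
      (χ : G → ℂ) (isCharacter_of_irr χ.2) hvan
    rw [char_one_eq_charDegree (isCharacter_of_irr χ.2), hQcard] at hk
    have hdQ : d = q ^ (Nat.card G).factorization q * k := by exact_mod_cast hk
    set e := (Nat.card G).factorization q with he
    -- factorization count
    have h1 : 2 * e ≤ (d ^ 2 * p ^ a).factorization q := by
      have h2 : q ^ (2 * e) ∣ d ^ 2 * p ^ a := by
        refine Dvd.dvd.mul_right ?_ _
        rw [hdQ, mul_pow, ← pow_mul, mul_comm e 2]
        exact Dvd.intro _ rfl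
      exact (hq.pow_dvd_iff_le_factorization
        (mul_ne_zero (pow_ne_zero _ hdpos.ne') (pow_ne_zero _ hp.ne_zero))).1 h2
    rw [hkey, Nat.factorization_mul hmpos.ne' (pow_ne_zero _ hcpos.ne'),
      Nat.factorization_pow] at h1
    have h3 : e = m.factorization q + c.factorization q := by
      rw [he, ← hmc, Nat.factorization_mul hmpos.ne' hcpos.ne']
      rfl
    have h4 : 1 ≤ m.factorization q :=
      (hq.dvd_iff_one_le_factorization hmpos.ne').1 hqm
    simp only [Finsupp.coe_add, Finsupp.coe_smul, Pi.add_apply, Pi.smul_apply, smul_eq_mul] at h1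
    omega
  have hmpow := Nat.eq_prime_pow_of_unique_prime_dvd hmpos.ne' hprime
  set t := m.primeFactorsList.length with ht
  have hfac : (Nat.card G).factorization p = t := by
    rw [← hmc, Nat.factorization_mul hmpos.ne' hcpos.ne']
    simp only [Finsupp.coe_add, Pi.add_apply]
    rw [Nat.factorization_eq_zero_of_not_dvd hpc, add_zero, hmpow, Nat.factorization_pow]
    simp [hp.factorization_self]
  rw [hfac]
  exact hmpow

/-- Inflation of irreducible characters from a quotient. -/
noncomputable def inflIrr (N : Subgroup G) [N.Normal] (ψ : IrrCharacter (G ⧸ N)) :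
    IrrCharacter G :=
  ⟨fun g => (ψ : G ⧸ N → ℂ) (g : G ⧸ N), isIrrCharacter_inflation N ψ.2⟩

theorem inflIrr_apply (N : Subgroup G) [N.Normal] (ψ : IrrCharacter (G ⧸ N)) (g : G) :
    (inflIrr N ψ : G → ℂ) g = (ψ : G ⧸ N → ℂ) (g : G ⧸ N) := rfl

theorem inflIrr_injective (N : Subgroup G) [N.Normal] : Function.Injective (inflIrr N) := by
  intro ψ φ h
  apply Subtype.ext
  funext q
  obtain ⟨g, rfl⟩ := QuotientGroup.mk_surjective q
  have := congrFun (congrArg Subtype.val h) g
  exact this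

/-- The irreducible characters of `G` are `χ` and the inflations from `G ⧸ N`. -/
theorem gagola_irr_exhaust (hG : 2 < Nat.card G) (χ : IrrCharacter G)
    (hχ : Nat.card {C : ConjClasses G // ∃ g ∈ C.carrier, (χ : G → ℂ) g ≠ 0} = 2)
    (N : Subgroup G) [N.Normal]
    (hN : ∀ g : G, g ∈ N ↔ (χ : G → ℂ) g ≠ 0) (hN1 : N ≠ ⊥) :
    (∀ φ : IrrCharacter (G ⧸ N), inflIrr N φ ≠ χ) ∧
    ∀ ψ : IrrCharacter G, ψ = χ ∨ ∃ φ : IrrCharacter (G ⧸ N), ψ = inflIrr N φ := by
  classical
  haveI := Fintype.ofFinite G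
  haveI : Fintype (IrrCharacter G) := Fintype.ofFinite _
  haveI : Fintype (IrrCharacter (G ⧸ N)) := Fintype.ofFinite _
  obtain ⟨x, hxN, hx1⟩ : ∃ x ∈ N, x ≠ 1 := by
    by_contra h
    push Not at h
    exact hN1 ((Subgroup.eq_bot_iff_forall N).2 h)
  have hχx : (χ : G → ℂ) x ≠ 0 := (hN x).1 hxN
  have hall := gagola_all_conj χ hχ hx1 hχx
  obtain ⟨hfaith, -, hmain⟩ := gagola_main hG χ x hx1 hχx hall
  have hcardN := gagola_card_N χ N hN hx1 hxN hall
  set c := Nat.card {g : G // IsConj x g} with hc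
  set d := charDegree (χ : G → ℂ) with hd
  have hnotinfl : ∀ φ : IrrCharacter (G ⧸ N), inflIrr N φ ≠ χ := by
    intro φ h
    apply hx1
    apply hfaith
    rw [← h, inflIrr_apply, inflIrr_apply]
    have hx' : ((x : G) : G ⧸ N) = ((1 : G) : G ⧸ N) := by
      rw [QuotientGroup.mk_one, QuotientGroup.eq_one_iff]
      exact hxN
    rw [hx']
  refine ⟨hnotinfl, ?_⟩
  -- degree square sums, in ℕ
  have hsumG : ∑ ψ : IrrCharacter G, charDegree (ψ : G → ℂ) ^ 2 = Nat.card G := by
    have h := Cfsg.Agent.Lib.Helper2.sum_irr_degree_sq (G := G)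
    have h2 : ((∑ ψ : IrrCharacter G, charDegree (ψ : G → ℂ) ^ 2 : ℕ) : ℂ) = (Nat.card G : ℂ) := by
      rw [← h]
      push_cast
      apply Finset.sum_congr rfl
      intro ψ _
      rw [char_one_eq_charDegree (isCharacter_of_irr ψ.2)]
    exact_mod_cast h2
  have hsumQ : ∑ φ : IrrCharacter (G ⧸ N), charDegree (inflIrr N φ : G → ℂ) ^ 2 =
      Nat.card (G ⧸ N) := by
    have h := Cfsg.Agent.Lib.Helper2.sum_irr_degree_sq (G := G ⧸ N)
    have h2 : ((∑ φ : IrrCharacter (G ⧸ N), charDegree (inflIrr N φ : G → ℂ) ^ 2 : ℕ) : ℂ) =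
        (Nat.card (G ⧸ N) : ℂ) := by
      rw [← h]
      push_cast
      apply Finset.sum_congr rfl
      intro φ _
      rw [← char_one_eq_charDegree (isCharacter_of_irr (inflIrr N φ).2), inflIrr_apply,
        QuotientGroup.mk_one]
    exact_mod_cast h2
  set S : Finset (IrrCharacter G) := insert χ (Finset.univ.image (inflIrr N)) with hS
  have hχnot : χ ∉ Finset.univ.image (inflIrr N) := by
    simp only [Finset.mem_image, Finset.mem_univ, true_and, not_exists]
    exact hnotinfl
  have hsumS : ∑ ψ ∈ S, charDegree (ψ : G → ℂ) ^ 2 = d ^ 2 + Nat.card (G ⧸ N) := by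
    rw [hS, Finset.sum_insert hχnot, Finset.sum_image (fun a _ b _ h => inflIrr_injective N h),
      hsumQ]
  have hquot : Nat.card (G ⧸ N) * (c + 1) = Nat.card G := by
    rw [← hcardN, mul_comm]
    exact (Subgroup.card_eq_card_quotient_mul_card_subgroup N).symm ▸ (by ring)
  have htotal : ∑ ψ ∈ S, charDegree (ψ : G → ℂ) ^ 2 = Nat.card G := by
    rw [hsumS]
    have h1 : (d ^ 2 + Nat.card (G ⧸ N)) * (c + 1) = Nat.card G * (c + 1) := by
      rw [add_mul, hmain, hquot]; ring
    exact Nat.eq_of_mul_eq_mul_right (Nat.succ_pos c) h1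
  have hcompl : ∑ ψ ∈ Sᶜ, charDegree (ψ : G → ℂ) ^ 2 = 0 := by
    have h1 := Finset.sum_add_sum_compl S (fun ψ : IrrCharacter G => charDegree (ψ : G → ℂ) ^ 2)
    rw [htotal, hsumG] at h1
    omega
  intro ψ
  by_cases hψ : ψ ∈ S
  · rw [hS, Finset.mem_insert, Finset.mem_image] at hψ
    rcases hψ with h | ⟨φ, -, h⟩
    · exact Or.inl h
    · exact Or.inr ⟨φ, h.symm⟩
  · exfalso
    have h1 := (Finset.sum_eq_zero_iff.1 hcompl) ψ (Finset.mem_compl.2 hψ)
    have h2 := irr_degree_pos ψ.2
    have h3 : 0 < charDegree (ψ : G → ℂ) ^ 2 := pow_pos h2 2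
    omega

/-- Outside `N`, centralizer orders in `G` and in `G ⧸ N` agree. -/
theorem gagola_card_centralizer_quot (hG : 2 < Nat.card G) (χ : IrrCharacter G)
    (hχ : Nat.card {C : ConjClasses G // ∃ g ∈ C.carrier, (χ : G → ℂ) g ≠ 0} = 2)
    (N : Subgroup G) [N.Normal]
    (hN : ∀ g : G, g ∈ N ↔ (χ : G → ℂ) g ≠ 0) (hN1 : N ≠ ⊥) (y : G) (hy : y ∉ N) :
    Nat.card (Subgroup.centralizer ({y} : Set G)) =
      Nat.card (Subgroup.centralizer ({(y : G ⧸ N)} : Set (G ⧸ N))) := by
  classical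
  haveI := Fintype.ofFinite G
  haveI : Fintype (IrrCharacter G) := Fintype.ofFinite _
  haveI : Fintype (IrrCharacter (G ⧸ N)) := Fintype.ofFinite _
  obtain ⟨hnotinfl, hex⟩ := gagola_irr_exhaust hG χ hχ N hN hN1
  have hχy : (χ : G → ℂ) y = 0 := by
    by_contra h
    exact hy ((hN y).2 h)
  have h1 := Cfsg.Agent.Lib.Helper2.column_orthogonality y y
  rw [if_pos (IsConj.refl y)] at h1
  have h2 := Cfsg.Agent.Lib.Helper2.column_orthogonality (y : G ⧸ N) (y : G ⧸ N)
  rw [if_pos (IsConj.refl _)] at h2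
  have hχnot : χ ∉ Finset.univ.image (inflIrr N) := by
    simp only [Finset.mem_image, Finset.mem_univ, true_and, not_exists]
    exact hnotinfl
  have huniv : (Finset.univ : Finset (IrrCharacter G)) =
      insert χ (Finset.univ.image (inflIrr N)) := by
    ext ψ
    simp only [Finset.mem_univ, Finset.mem_insert, Finset.mem_image, true_and, true_iff]
    rcases hex ψ with h | ⟨φ, h⟩
    · exact Or.inl h
    · exact Or.inr ⟨φ, h.symm⟩
  rw [huniv, Finset.sum_insert hχnot, hχy, zero_mul, zero_add,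
    Finset.sum_image (fun a _ b _ h => inflIrr_injective N h)] at h1
  have h3 : (Nat.card (Subgroup.centralizer ({y} : Set G)) : ℂ) =
      (Nat.card (Subgroup.centralizer ({(y : G ⧸ N)} : Set (G ⧸ N))) : ℂ) := by
    rw [← h1, ← h2]
    rfl
  exact_mod_cast h3

end Cfsg.Agent.Lib.Helper25
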