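import Mathlib

/-!
Sums of Galois conjugates of sums of roots of unity: the trace is an integer; a power-sum
function invariant under all exponents prime to `m` takes a rational value.
-/

set_option autoImplicit false
set_option linter.style.haveILetI false

namespace Cfsg.Agent.Lib.Helper25

open Polynomial

theorem sum_galois_conj_aux (m : ℕ) [NeZero m] (K : Type) [Field K] [Algebra ℚ K]
    [IsCyclotomicExtension {m} ℚ K] {ι : Type*} [Fintype ι] (μ : ι → ℂ)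
    (hμ : ∀ i, μ i ^ m = 1) :
    ∃ z : ℤ, (∑ k : (ZMod m)ˣ, ∑ i, μ i ^ (k : ZMod m).val) = (z : ℂ) := by
  classical
  haveI : IsGalois ℚ K := IsCyclotomicExtension.isGalois {m} ℚ K
  haveI : FiniteDimensional ℚ K := IsCyclotomicExtension.finiteDimensional {m} ℚ K
  set ζ0 : K := IsCyclotomicExtension.zeta m ℚ K with hζ0def
  have hζ0 : IsPrimitiveRoot ζ0 m := IsCyclotomicExtension.zeta_spec m ℚ K
  let ι' : K →ₐ[ℚ] ℂ := IsAlgClosed.lift
  have hιinj : Function.Injective ι' := ι'.toRingHom.injective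
  have hζ : IsPrimitiveRoot (ι' ζ0) m := hζ0.map_of_injective hιinj
  choose a ha1 ha2 using fun i => hζ.eq_pow_of_pow_eq_one (hμ i)
  set α0 : K := ∑ i, ζ0 ^ a i with hα0
  have hint : IsIntegral ℤ α0 := by
    apply IsIntegral.sum
    intro i _
    apply IsIntegral.pow
    exact ⟨X ^ m - 1, monic_X_pow_sub_C 1 (NeZero.ne m), by simp [hζ0.pow_eq_one]⟩
  have hirr : Irreducible (cyclotomic m ℚ) := cyclotomic.irreducible_rat (NeZero.pos m)
  let e : (K ≃ₐ[ℚ] K) ≃* (ZMod m)ˣ := IsCyclotomicExtension.autEquivPow K hirr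
  have hσ : ∀ σ : K ≃ₐ[ℚ] K, σ ζ0 = ζ0 ^ ((e σ : (ZMod m)ˣ) : ZMod m).val := by
    intro σ
    have h1 := IsPrimitiveRoot.autToPow_spec ℚ hζ0 σ
    rw [← h1]
    congr 2
  have hσα : ∀ σ : K ≃ₐ[ℚ] K, ι' (σ α0) = ∑ i, μ i ^ ((e σ : (ZMod m)ˣ) : ZMod m).val := by
    intro σ
    rw [hα0, map_sum, map_sum]
    apply Finset.sum_congr rfl; intro i _
    rw [map_pow, hσ, map_pow, map_pow, ← ha2 i, ← pow_mul, ← pow_mul, mul_comm]
  have htrace := trace_eq_sum_automorphisms (K := ℚ) α0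
  have hTint : IsIntegral ℤ (Algebra.trace ℚ K α0) := Algebra.isIntegral_trace hint
  obtain ⟨z, hz⟩ := IsIntegrallyClosed.isIntegral_iff.mp hTint
  refine ⟨z, ?_⟩
  have h2 : ι' (algebraMap ℚ K (Algebra.trace ℚ K α0)) = (z : ℂ) := by
    rw [← hz]
    simp
  have h3 : ι' (∑ σ : Gal(K/ℚ), σ α0) = ∑ σ : Gal(K/ℚ), ι' (σ α0) := map_sum ι' _ _
  rw [← h2, htrace, h3]
  symm
  apply Fintype.sum_equiv e.toEquiv
  intro σ
  rw [hσα]
  rfl

/-- The sum over all exponents prime to `m` of a sum of powers of `m`-th roots of unity is an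
integer. -/
theorem sum_galois_conj (m : ℕ) [NeZero m] {ι : Type*} [Fintype ι] (μ : ι → ℂ)
    (hμ : ∀ i, μ i ^ m = 1) :
    ∃ z : ℤ, (∑ k : (ZMod m)ˣ, ∑ i, μ i ^ (k : ZMod m).val) = (z : ℂ) := by
  haveI : IsCyclotomicExtension {m} ℚ (CyclotomicField m ℚ) :=
    CyclotomicField.isCyclotomicExtension m ℚ
  exact sum_galois_conj_aux m (CyclotomicField m ℚ) μ hμ

/-- `F : ℕ → ℂ` is a power-sum function of `m`-th roots of unity. -/
def IsPowerSum (m : ℕ) (F : ℕ → ℂ) : Prop :=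
  ∃ (ι : Type) (_ : Fintype ι) (μ : ι → ℂ), (∀ i, μ i ^ m = 1) ∧ ∀ k, F k = ∑ i, μ i ^ k

theorem isPowerSum_zero (m : ℕ) : IsPowerSum m (fun _ => 0) :=
  ⟨Empty, inferInstance, fun e => e.elim, fun e => e.elim, fun _ => by simp⟩

theorem IsPowerSum.add {m : ℕ} {F F' : ℕ → ℂ} (h : IsPowerSum m F) (h' : IsPowerSum m F') :
    IsPowerSum m (fun k => F k + F' k) := by
  obtain ⟨ι, _, μ, hμ, hF⟩ := h
  obtain ⟨κ, _, ν, hν, hF'⟩ := h'
  refine ⟨ι ⊕ κ, inferInstance, Sum.elim μ ν, ?_, ?_⟩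
  · rintro (i | j)
    · exact hμ i
    · exact hν j
  · intro k
    show F k + F' k = _
    rw [Fintype.sum_sum_type, hF, hF']
    rfl

theorem IsPowerSum.mul {m : ℕ} {F F' : ℕ → ℂ} (h : IsPowerSum m F) (h' : IsPowerSum m F') :
    IsPowerSum m (fun k => F k * F' k) := by
  obtain ⟨ι, _, μ, hμ, hF⟩ := h
  obtain ⟨κ, _, ν, hν, hF'⟩ := h'
  refine ⟨ι × κ, inferInstance, fun x => μ x.1 * ν x.2, ?_, ?_⟩
  · rintro ⟨i, j⟩
    show (μ i * ν j) ^ m = 1
    rw [mul_pow, hμ i, hν j, one_mul]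
  · intro k
    show F k * F' k = _
    rw [Fintype.sum_prod_type, hF, hF', Finset.sum_mul_sum]
    apply Finset.sum_congr rfl
    intro i _
    apply Finset.sum_congr rfl
    intro j _
    rw [mul_pow]

theorem IsPowerSum.finset_sum {m : ℕ} {α : Type*} (s : Finset α) (F : α → ℕ → ℂ)
    (h : ∀ a ∈ s, IsPowerSum m (F a)) : IsPowerSum m (fun k => ∑ a ∈ s, F a k) := by
  classical
  induction s using Finset.induction_on with
  | empty => simpa using isPowerSum_zero m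
  | insert a s ha ih =>
    have h1 := (h a (Finset.mem_insert_self a s)).add
      (ih (fun b hb => h b (Finset.mem_insert_of_mem hb)))
    convert h1 using 1
    funext k
    rw [Finset.sum_insert ha]

/-- A power-sum function invariant under exponents prime to `m` has a rational value at `1`. -/
theorem IsPowerSum.rat_of_invariant {m : ℕ} [NeZero m] {F : ℕ → ℂ} (h : IsPowerSum m F)
    (hinv : ∀ k : ℕ, k.Coprime m → F k = F 1) : ∃ q : ℚ, F 1 = (q : ℂ) := by
  obtain ⟨ι, _, μ, hμ, hF⟩ := h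
  obtain ⟨z, hz⟩ := sum_galois_conj m μ hμ
  have h1 : ∑ k : (ZMod m)ˣ, ∑ i, μ i ^ (k : ZMod m).val =
      (Fintype.card (ZMod m)ˣ : ℂ) * F 1 := by
    rw [← nsmul_eq_mul, ← Finset.card_univ, ← Finset.sum_const]
    apply Finset.sum_congr rfl
    intro k _
    rw [← hF, hinv _ (ZMod.val_coe_unit_coprime k)]
  rw [h1] at hz
  have hpos : (Fintype.card (ZMod m)ˣ : ℂ) ≠ 0 := by
    have : 0 < Fintype.card (ZMod m)ˣ := Fintype.card_pos
    exact_mod_cast this.ne'
  refine ⟨(z : ℚ) / (Fintype.card (ZMod m)ˣ : ℚ), ?_⟩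
  push_cast
  field_simp
  rw [mul_comm]
  exact hz

end Cfsg.Agent.Lib.Helper25
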