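import Mathlib
import Cfsg.Prelude.Def_Blocks
import Cfsg.Agent.Lib.Helper25.GaloisSum
import Cfsg.Agent.Lib.Helper25.Gagola2
import Cfsg.Agent.Lib.Helper25.Linear
import Cfsg.Agent.Lib.Helper25.Ortho2
import Cfsg.Agent.Lib.Helper7.QuotientBlock
import Cfsg.Agent.Lib.Helper7.PPrimeNormal
import Cfsg.Agent.Lib.Helper11.GaloisTwist
import Cfsg.Agent.Lib.Helper24.Defect
import Cfsg.Agent.Lib.Helper2.Integrality

/-!
The principal block: stability under the Galois twists `χ ↦ χ (· ^ k)`, integrality of the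
sums `∑_{χ ∈ B₀} |χ x|²`, and the bijection of the principal blocks of `G` and `G ⧸ N` for a
normal `p'`-subgroup `N`.
-/

set_option autoImplicit false
set_option linter.style.haveILetI false
set_option linter.unusedSectionVars false

namespace Cfsg.Agent.Lib.Helper25

open Cfsg
open scoped ComplexConjugate

universe u

variable {G : Type u} [Group G] [Finite G]

theorem centralizer_pow_coprime (g : G) {k : ℕ} (hk : k.Coprime (Nat.card G)) :
    Subgroup.centralizer ({g ^ k} : Set G) = Subgroup.centralizer ({g} : Set G) := by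
  have hk' : k.Coprime (orderOf g) := Nat.Coprime.coprime_dvd_right (orderOf_dvd_natCard g) hk
  obtain ⟨m, hm⟩ := exists_pow_eq_self_of_coprime hk'
  ext y
  rw [Subgroup.mem_centralizer_singleton_iff, Subgroup.mem_centralizer_singleton_iff]
  constructor
  · intro h
    have h1 : Commute y (g ^ k) := h
    have h2 : Commute y ((g ^ k) ^ m) := h1.pow_right m
    rw [hm] at h2
    exact h2
  · intro h
    have h1 : Commute y g := h
    exact h1.pow_right k

/-- The Galois twist `χ ↦ χ (· ^ k)` on irreducible characters, `k` prime to `|G|`. -/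
noncomputable def powIrr (k : ℕ) (hk : k.Coprime (Nat.card G)) (χ : IrrCharacter G) :
    IrrCharacter G :=
  ⟨fun g => (χ : G → ℂ) (g ^ k), by
    haveI := Fintype.ofFinite G
    exact Cfsg.Agent.Lib.Helper11.isIrrCharacter_pow_coprime k hk χ.2⟩

theorem powIrr_apply (k : ℕ) (hk : k.Coprime (Nat.card G)) (χ : IrrCharacter G) (g : G) :
    (powIrr k hk χ : G → ℂ) g = (χ : G → ℂ) (g ^ k) := rfl

theorem powIrr_injective (k : ℕ) (hk : k.Coprime (Nat.card G)) :
    Function.Injective (powIrr (G := G) k hk) := by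
  intro χ ψ h
  apply Subtype.ext
  funext g
  have h1 := congrFun (congrArg Subtype.val h) ((powCoprime hk.symm).symm g)
  have h2 : ((powCoprime hk.symm).symm g) ^ k = g := (powCoprime hk.symm).apply_symm_apply g
  simp only [powIrr] at h1
  rw [h2] at h1
  exact h1

variable {p : ℕ} {M : Ideal Cfsg.AlgInt}

theorem powIrr_mem_principalBlock (k : ℕ) (hk : k.Coprime (Nat.card G))
    {χ : IrrCharacter G} (h : χ ∈ principalBlock M G) : powIrr k hk χ ∈ principalBlock M G := by
  intro g
  have h1 := h (g ^ k)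
  have h2 : centralChar (fun _ : G => (1 : ℂ)) g - centralChar (powIrr k hk χ : G → ℂ) g =
      centralChar (fun _ : G => (1 : ℂ)) (g ^ k) - centralChar (χ : G → ℂ) (g ^ k) := by
    unfold centralChar
    rw [centralizer_pow_coprime g hk, powIrr_apply, powIrr_apply, one_pow]
  rw [h2]
  exact h1

theorem powIrr_bijOn_principalBlock (k : ℕ) (hk : k.Coprime (Nat.card G)) :
    Set.BijOn (powIrr (G := G) k hk) (principalBlock M G) (principalBlock M G) :=
  (Set.Finite.injOn_iff_bijOn_of_mapsTo (Set.toFinite _)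
    (fun _ h => powIrr_mem_principalBlock k hk h)).1 (powIrr_injective k hk).injOn

theorem sum_principalBlock_pow_coprime (x : G) {k : ℕ} (hk : k.Coprime (Nat.card G)) :
    ∑ᶠ χ ∈ principalBlock M G, Complex.normSq ((χ : G → ℂ) (x ^ k)) =
      ∑ᶠ χ ∈ principalBlock M G, Complex.normSq ((χ : G → ℂ) x) :=
  finsum_mem_eq_of_bijOn (powIrr k hk) (powIrr_bijOn_principalBlock k hk) (fun _ _ => rfl)

theorem isPowerSum_char_normSq {χ : G → ℂ} (hχ : IsCharacter G χ) (x : G) :
    IsPowerSum (Nat.card G) (fun k => χ (x ^ k) * conj (χ (x ^ k))) := by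
  obtain ⟨n, ρ, rfl⟩ := hχ
  obtain ⟨μ, hμ, h1, -⟩ := Cfsg.Agent.Lib.Helper2.exists_eigenvalues ρ x
  have hμ' : ∀ i, μ i ^ Nat.card G = 1 := by
    intro i
    obtain ⟨c, hc⟩ := orderOf_dvd_natCard x
    rw [hc, pow_mul, hμ, one_pow]
  have hA : IsPowerSum (Nat.card G) (fun k => ρ.character (x ^ k)) :=
    ⟨Fin _, inferInstance, μ, hμ', h1⟩
  have hB : IsPowerSum (Nat.card G) (fun k => conj (ρ.character (x ^ k))) := by
    refine ⟨Fin _, inferInstance, fun i => conj (μ i), ?_, ?_⟩
    · intro i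
      rw [← map_pow, hμ', map_one]
    · intro k
      show conj (ρ.character (x ^ k)) = _
      rw [h1, map_sum]
      apply Finset.sum_congr rfl
      intro i _
      rw [map_pow]
  exact hA.mul hB

/-- `∑_{χ ∈ B₀} |χ x|²` is a positive integer. -/
theorem principalBlock_normSq_sum_nat (hM : IsPModular p M) (x : G) :
    ∃ n : ℕ, 0 < n ∧ ∑ᶠ χ ∈ principalBlock M G, Complex.normSq ((χ : G → ℂ) x) = n := by
  classical
  haveI := Fintype.ofFinite G
  have hfin : (principalBlock M G).Finite := Set.toFinite _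
  set F : ℕ → ℂ := fun k => ∑ χ ∈ hfin.toFinset,
    (χ : G → ℂ) (x ^ k) * conj ((χ : G → ℂ) (x ^ k)) with hFdef
  have hF : IsPowerSum (Nat.card G) F :=
    IsPowerSum.finset_sum hfin.toFinset _
      (fun χ _ => isPowerSum_char_normSq (isCharacter_of_irr χ.2) x)
  have hFk : ∀ k, F k =
      ((∑ᶠ χ ∈ principalBlock M G, Complex.normSq ((χ : G → ℂ) (x ^ k)) : ℝ) : ℂ) := by
    intro k
    rw [finsum_mem_eq_finite_toFinset_sum _ hfin]
    push_cast
    apply Finset.sum_congr rfl
    intro χ _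
    rw [Complex.mul_conj]
  have hinv : ∀ k : ℕ, k.Coprime (Nat.card G) → F k = F 1 := by
    intro k hk
    rw [hFk, hFk, pow_one, sum_principalBlock_pow_coprime x hk]
  haveI : NeZero (Nat.card G) := ⟨Nat.card_pos.ne'⟩
  obtain ⟨q, hq⟩ := hF.rat_of_invariant hinv
  have hint : IsIntegral ℤ (F 1) := by
    apply IsIntegral.sum
    intro χ _
    apply IsIntegral.mul
    · exact Cfsg.Agent.Lib.Helper7.irr_value_isIntegral χ _
    · exact Cfsg.Agent.Lib.Helper7.irr_value_conj_isIntegral χ _
  obtain ⟨z, hz⟩ := Cfsg.Agent.Lib.Helper2.exists_int_of_isIntegral_of_rat q hq hint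
  have hreal : (∑ᶠ χ ∈ principalBlock M G, Complex.normSq ((χ : G → ℂ) x)) = (z : ℝ) := by
    have h1 := hFk 1
    rw [pow_one, hz] at h1
    exact_mod_cast h1.symm
  have hge : (1 : ℝ) ≤ ∑ᶠ χ ∈ principalBlock M G, Complex.normSq ((χ : G → ℂ) x) := by
    rw [finsum_mem_eq_finite_toFinset_sum _ hfin]
    have hmem : irrOne G ∈ hfin.toFinset := by
      rw [Set.Finite.mem_toFinset]
      exact Cfsg.Agent.Lib.Helper24.sameBlock_refl hM _
    have h1 : (1 : ℝ) = Complex.normSq ((irrOne G : G → ℂ) x) := by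
      show (1 : ℝ) = Complex.normSq (1 : ℂ)
      rw [map_one]
    rw [h1]
    exact Finset.single_le_sum (f := fun χ : IrrCharacter G => Complex.normSq ((χ : G → ℂ) x))
      (fun χ _ => Complex.normSq_nonneg _) hmem
  rw [hreal] at hge
  have hz1 : (1 : ℤ) ≤ z := by exact_mod_cast hge
  refine ⟨z.toNat, ?_, ?_⟩
  · omega
  · rw [hreal]
    have : ((z.toNat : ℤ) : ℝ) = (z : ℝ) := by
      rw [Int.toNat_of_nonneg (by omega)]
    exact_mod_cast this.symm

section Quot

variable (N : Subgroup G) [N.Normal]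

theorem index_centralizer_mk_dvd (g : G) :
    (Subgroup.centralizer ({(g : G ⧸ N)} : Set (G ⧸ N))).index ∣
      (Subgroup.centralizer ({g} : Set G)).index := by
  have h1 : ((Subgroup.centralizer ({(g : G ⧸ N)} : Set (G ⧸ N))).comap
      (QuotientGroup.mk' N)).index =
      (Subgroup.centralizer ({(g : G ⧸ N)} : Set (G ⧸ N))).index :=
    Subgroup.index_comap_of_surjective _ (QuotientGroup.mk'_surjective N)
  rw [← h1]
  apply Subgroup.index_dvd_of_le
  intro y hy
  rw [Subgroup.mem_comap, Subgroup.mem_centralizer_singleton_iff]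
  rw [Subgroup.mem_centralizer_singleton_iff] at hy
  show (y : G ⧸ N) * (g : G ⧸ N) = (g : G ⧸ N) * (y : G ⧸ N)
  rw [← QuotientGroup.mk_mul, ← QuotientGroup.mk_mul, hy]

theorem inflIrr_mem_principalBlock (hM : IsPModular p M) {ψ : IrrCharacter (G ⧸ N)}
    (h : ψ ∈ principalBlock M (G ⧸ N)) : inflIrr N ψ ∈ principalBlock M G := by
  intro g
  obtain ⟨r, hr⟩ := index_centralizer_mk_dvd N g
  have h1 := h (g : G ⧸ N)
  have h2 : centralChar (fun _ : G => (1 : ℂ)) g - centralChar (inflIrr N ψ : G → ℂ) g =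
      (r : ℂ) * (centralChar (fun _ : G ⧸ N => (1 : ℂ)) (g : G ⧸ N) -
        centralChar (ψ : G ⧸ N → ℂ) (g : G ⧸ N)) := by
    unfold centralChar
    rw [hr, inflIrr_apply, inflIrr_apply, QuotientGroup.mk_one]
    push_cast
    ring
  rw [h2]
  exact Cfsg.Agent.Lib.Helper24.memLocalIdeal_mul_left hM
    (Cfsg.Agent.Lib.Helper24.memLocalRing_natCast hM r) h1

theorem exists_defl_principalBlock (hM : IsPModular p M) (hpN : ¬ p ∣ Nat.card N)
    {χ : IrrCharacter G} (h : χ ∈ principalBlock M G) :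
    ∃ ψ ∈ principalBlock M (G ⧸ N), inflIrr N ψ = χ := by
  classical
  haveI := Fintype.ofFinite G
  haveI : Fintype N := Fintype.ofFinite _
  haveI : Fintype (G ⧸ N) := Fintype.ofFinite _
  have hker := Cfsg.Agent.Lib.Helper7.kernel_of_sameBlock N hM hpN (irrOne G) χ
    (fun _ _ => rfl) h
  obtain ⟨ψ, hψ, hχψ⟩ := exists_deflation N χ.2 hker
  have hfun : (fun g : G => ψ (g : G ⧸ N)) = (χ : G → ℂ) := by
    funext g
    exact (hχψ g).symm
  refine ⟨⟨ψ, hψ⟩, ?_, ?_⟩
  · apply Cfsg.Agent.Lib.Helper7.sameBlock_of_inflation N hM hpN (irrOne (G ⧸ N)) ⟨ψ, hψ⟩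
    show SameBlock M (fun _ : G => (1 : ℂ)) (fun g : G => ψ (g : G ⧸ N))
    rw [hfun]
    exact h
  · apply Subtype.ext
    exact hfun

theorem inflIrr_bijOn_principalBlock (hM : IsPModular p M) (hpN : ¬ p ∣ Nat.card N) :
    Set.BijOn (inflIrr N) (principalBlock M (G ⧸ N)) (principalBlock M G) :=
  ⟨fun _ h => inflIrr_mem_principalBlock N hM h, (inflIrr_injective N).injOn,
    fun _ h => exists_defl_principalBlock N hM hpN h⟩

end Quot

/-- `∑_{χ ∈ B₀} |χ x|² ≤ |C_G(x)|`. -/
theorem principalBlock_normSq_sum_le (x : G) :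
    ∑ᶠ χ ∈ principalBlock M G, Complex.normSq ((χ : G → ℂ) x) ≤
      (Nat.card (Subgroup.centralizer ({x} : Set G)) : ℝ) := by
  classical
  haveI := Fintype.ofFinite G
  haveI : Fintype (IrrCharacter G) := Fintype.ofFinite _
  have hfin : (principalBlock M G).Finite := Set.toFinite _
  have h1 := second_orthogonality_self x
  have h2 : ∑ χ : IrrCharacter G, Complex.normSq ((χ : G → ℂ) x) =
      (Nat.card (Subgroup.centralizer ({x} : Set G)) : ℝ) := by
    have h3 : ((∑ χ : IrrCharacter G, Complex.normSq ((χ : G → ℂ) x) : ℝ) : ℂ) =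
        ((Nat.card (Subgroup.centralizer ({x} : Set G)) : ℝ) : ℂ) := by
      push_cast
      rw [← h1]
      apply Finset.sum_congr rfl
      intro χ _
      rw [Complex.mul_conj]
    exact_mod_cast h3
  rw [finsum_mem_eq_finite_toFinset_sum _ hfin, ← h2]
  exact Finset.sum_le_sum_of_subset_of_nonneg (Finset.subset_univ _)
    (fun χ _ _ => Complex.normSq_nonneg _)

/-- The degree square sum over the principal block is `|G|` iff there is only one block. -/
theorem principalBlock_degree_sum_eq_card_iff (hM : IsPModular p M) :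
    (∑ᶠ ψ ∈ principalBlock M G, charDegree (ψ : G → ℂ) ^ 2) = Nat.card G ↔
      ∀ B : Set (IrrCharacter G), IsPBlock M B → B = principalBlock M G := by
  classical
  haveI := Fintype.ofFinite G
  haveI : Fintype (IrrCharacter G) := Fintype.ofFinite _
  have hfin : (principalBlock M G).Finite := Set.toFinite _
  have hsumG : ∑ ψ : IrrCharacter G, charDegree (ψ : G → ℂ) ^ 2 = Nat.card G := by
    have h := Cfsg.Agent.Lib.Helper2.sum_irr_degree_sq (G := G)
    have h2 : ((∑ ψ : IrrCharacter G, charDegree (ψ : G → ℂ) ^ 2 : ℕ) : ℂ) = (Nat.card G : ℂ) := by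
      rw [← h]
      push_cast
      apply Finset.sum_congr rfl
      intro ψ _
      rw [char_one_eq_charDegree (isCharacter_of_irr ψ.2)]
    exact_mod_cast h2
  have hsplit := Finset.sum_add_sum_compl hfin.toFinset
    (fun ψ : IrrCharacter G => charDegree (ψ : G → ℂ) ^ 2)
  rw [hsumG] at hsplit
  rw [finsum_mem_eq_finite_toFinset_sum _ hfin]
  have hPB : IsPBlock M (principalBlock M G) := ⟨irrOne G, rfl⟩
  constructor
  · intro h
    rw [h] at hsplit
    have h0 : ∑ ψ ∈ hfin.toFinsetᶜ, charDegree (ψ : G → ℂ) ^ 2 = 0 := by omega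
    have hall : ∀ ψ : IrrCharacter G, ψ ∈ principalBlock M G := by
      intro ψ
      by_contra hψ
      have hmem : ψ ∈ hfin.toFinsetᶜ := by
        rw [Finset.mem_compl, Set.Finite.mem_toFinset]
        exact hψ
      have := (Finset.sum_eq_zero_iff.1 h0) ψ hmem
      have hpos := irr_degree_pos ψ.2
      have : charDegree (ψ : G → ℂ) = 0 := by
        rcases Nat.eq_zero_or_pos (charDegree (ψ : G → ℂ)) with h' | h'
        · exact h'
        · exfalso
          have : 0 < charDegree (ψ : G → ℂ) ^ 2 := Nat.pow_pos h'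
          omega
      omega
    intro B hB
    obtain ⟨χ₀, rfl⟩ := hB
    exact (Cfsg.Agent.Lib.Helper24.eq_blockOf_of_mem hM hPB (hall χ₀)).symm
  · intro h
    have hall : ∀ ψ : IrrCharacter G, ψ ∈ principalBlock M G := by
      intro ψ
      rw [← h _ ⟨ψ, rfl⟩]
      exact Cfsg.Agent.Lib.Helper24.sameBlock_refl hM _
    have huniv : hfin.toFinset = Finset.univ := by
      ext ψ
      simp only [Set.Finite.mem_toFinset, Finset.mem_univ, iff_true]
      exact hall ψ
    rw [huniv]
    exact hsumG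

end Cfsg.Agent.Lib.Helper25
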