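import Mathlib
import Cfsg.Prelude.Def_Blocks
import Cfsg.Prelude.Def_Local
import Cfsg.Agent.Lib.Helper25.PrincipalQuot
import Cfsg.Agent.Lib.Helper10.PComponent
import Cfsg.Agent.Lib.Helper1.Cores
import Cfsg.Agent.Lib.Helper1.SZ
import Cfsg.Agent.H5.PSolvable
import Cfsg.Agent.S0915

/-!
`p`-solvability: extensions, solvable groups are `p`-solvable; the principal block of a
`p`-solvable group consists of the characters with `O_{p'}(G)` in their kernel.
-/

set_option autoImplicit false
set_option linter.style.haveILetI false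
set_option linter.unusedSectionVars false

namespace Cfsg.Agent.Lib.Helper25

open Cfsg

universe u

section Ext

variable {G : Type u} [Group G]

theorem relIndex_comap_comap_of_surjective {G' : Type*} [Group G'] (f : G →* G')
    (hf : Function.Surjective f) (A B : Subgroup G') :
    (A.comap f).relIndex (B.comap f) = A.relIndex B := by
  rw [Subgroup.relIndex_comap, Subgroup.map_comap_eq_self_of_surjective hf]

/-- An extension of a `p`-solvable group by a normal `p`-subgroup or `p'`-subgroup is
`p`-solvable. -/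
theorem isPSolvable_of_extension {p : ℕ} (N : Subgroup G) [N.Normal]
    (hN : (∃ m : ℕ, Nat.card N = p ^ m) ∨ (Nat.card N).Coprime p)
    (h : IsPSolvable p (G ⧸ N)) : IsPSolvable p G := by
  obtain ⟨n, H, h0, hlast, hmono, hnorm, hfac⟩ := h
  have hsurj := QuotientGroup.mk'_surjective N
  refine ⟨n + 1, Fin.cons ⊥ (fun i => (H i).comap (QuotientGroup.mk' N)), ?_, ?_, ?_, ?_, ?_⟩
  · rfl
  · rw [← Fin.succ_last, Fin.cons_succ, hlast, Subgroup.comap_top]
  · apply Fin.monotone_iff_le_succ.mpr
    intro i
    refine Fin.cases ?_ (fun j => ?_) i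
    · show (⊥ : Subgroup G) ≤ _
      exact bot_le
    · rw [← Fin.succ_castSucc, Fin.cons_succ, Fin.cons_succ]
      exact Subgroup.comap_mono (hmono (Fin.castSucc_le_succ j))
  · intro i
    refine Fin.cases ?_ (fun j => ?_) i
    · exact (inferInstance : (⊥ : Subgroup G).Normal)
    · rw [Fin.cons_succ]
      exact (hnorm j).comap _
  · intro i
    refine Fin.cases ?_ (fun j => ?_) i
    · have h1 : (Fin.cons ⊥ (fun i => (H i).comap (QuotientGroup.mk' N)) :
          Fin (n + 2) → Subgroup G) (Fin.castSucc 0) = ⊥ := rfl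
      have h2 : (Fin.cons ⊥ (fun i => (H i).comap (QuotientGroup.mk' N)) :
          Fin (n + 2) → Subgroup G) (Fin.succ 0) = N := by
        rw [Fin.cons_succ, h0, MonoidHom.comap_bot, QuotientGroup.ker_mk']
      rw [h1, h2, Subgroup.relIndex_bot_left]
      exact hN
    · rw [← Fin.succ_castSucc, Fin.cons_succ, Fin.cons_succ,
        relIndex_comap_comap_of_surjective _ hsurj]
      exact hfac j

end Ext

/-- A finite solvable group is `p`-solvable. -/
theorem isPSolvable_of_isSolvable_aux (p : ℕ) [Fact p.Prime] :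
    ∀ (n : ℕ) (G : Type u) [Group G] [Finite G], Nat.card G = n → Group.IsSolvable G →
      IsPSolvable p G := by
  intro n
  induction n using Nat.strong_induction_on with
  | _ n ih =>
  intro G _ _ hcard hsolv
  rcases subsingleton_or_nontrivial G with hs | hnt
  · refine ⟨0, fun _ => ⊥, rfl, ?_, ?_, ?_, ?_⟩
    · exact Subsingleton.elim _ _
    · intro i j _
      exact le_refl _
    · intro i
      exact (inferInstance : (⊥ : Subgroup G).Normal)
    · intro i
      exact i.elim0
  · haveI := hsolv
    haveI := hnt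
    obtain ⟨q, hq, L, hLn, -, hL1, -, hLe⟩ :=
      Cfsg.Agent.Lib.Helper1.exists_normal_elementary_abelian_le
        (Nat.card (⊤ : Subgroup G)) (⊤ : Subgroup G) rfl top_ne_bot inferInstance
    haveI := hLn
    haveI : Fact q.Prime := ⟨hq⟩
    have hLq : IsPGroup q L := by
      intro x
      refine ⟨1, ?_⟩
      rw [pow_one]
      apply Subtype.ext
      simpa using hLe x.1 x.2
    obtain ⟨k, hk⟩ := hLq.exists_card_eq
    have hlt : Nat.card (G ⧸ L) < n := by
      rw [← hcard, Subgroup.card_eq_card_quotient_mul_card_subgroup L]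
      have h1 : 1 < Nat.card L := (Subgroup.one_lt_card_iff_ne_bot L).2 hL1
      have hpos : 0 < Nat.card (G ⧸ L) := Nat.card_pos
      nlinarith
    have hq' := ih _ hlt (G ⧸ L) rfl inferInstance
    apply isPSolvable_of_extension L _ hq'
    by_cases hqp : q = p
    · left
      exact ⟨k, by rw [hk, hqp]⟩
    · right
      rw [hk]
      exact Nat.Coprime.pow_left k ((Nat.coprime_primes hq Fact.out).2 hqp)

theorem isPSolvable_of_isSolvable {G : Type u} [Group G] [Finite G] (p : ℕ) [Fact p.Prime]
    (h : Group.IsSolvable G) : IsPSolvable p G :=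
  isPSolvable_of_isSolvable_aux p (Nat.card G) G rfl h

section Principal

variable {G : Type u} [Group G] [Finite G] {p : ℕ} [Fact p.Prime] {M : Ideal Cfsg.AlgInt}

/-- In a `p`-solvable group the principal block consists of the irreducible characters with
`O_{p'}(G)` in their kernel. -/
theorem mem_principalBlock_iff_of_isPSolvable (hM : IsPModular p M) (hsolv : IsPSolvable p G)
    (χ : IrrCharacter G) :
    χ ∈ principalBlock M G ↔ ∀ n ∈ pPrimeCore p G, (χ : G → ℂ) n = (χ : G → ℂ) 1 := by
  classical
  have hp : p.Prime := Fact.out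
  have hcop := Cfsg.Agent.Lib.Helper1.pPrimeCore_coprime (G := G) p
  have hpN : ¬ p ∣ Nat.card (pPrimeCore p G) :=
    (Nat.Prime.coprime_iff_not_dvd hp).1 hcop.symm
  constructor
  · intro h
    obtain ⟨ψ, -, rfl⟩ := exists_defl_principalBlock (pPrimeCore p G) hM hpN h
    intro n hn
    rw [inflIrr_apply, inflIrr_apply, QuotientGroup.mk_one, (QuotientGroup.eq_one_iff n).2 hn]
  · intro h
    obtain ⟨ψ, hψ, hχψ⟩ := exists_deflation (pPrimeCore p G) χ.2 h
    have hQsolv : IsPSolvable p (G ⧸ pPrimeCore p G) := Cfsg.H5.isPSolvable_quotient _ hsolv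
    have hQcore : pPrimeCore p (G ⧸ pPrimeCore p G) = ⊥ :=
      Cfsg.Agent.Lib.Helper10.pPrimeCore_quotient_eq_bot p
    have hmem : (⟨ψ, hψ⟩ : IrrCharacter (G ⧸ pPrimeCore p G)) ∈
        principalBlock M (G ⧸ pPrimeCore p G) :=
      Cfsg.Agent.S0915.result p M hM hQsolv hQcore (irrOne _) ⟨ψ, hψ⟩
    have h1 := inflIrr_mem_principalBlock (pPrimeCore p G) hM hmem
    have h2 : inflIrr (pPrimeCore p G) ⟨ψ, hψ⟩ = χ := by
      apply Subtype.ext
      funext g
      exact (hχψ g).symm
    rw [h2] at h1
    exact h1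

end Principal

end Cfsg.Agent.Lib.Helper25
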