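import Mathlib
import Cfsg.Agent.Lib.Helper28.TensUDefs

/-!
# S5670 farm-out piece FO-HS (architect helper28): the standard hermitian form `hs`
-/

set_option autoImplicit false
set_option linter.unusedSectionVars false
set_option linter.unusedVariables false

namespace Cfsg.Agent.Lib.Helper25.S5670HS

open Matrix Module
open Cfsg.Agent.Lib.Helper16.Tens Cfsg.Agent.Lib.Helper10.TensFund Cfsg.Agent.Lib.Helper28.TensU
open scoped Kronecker

variable {F : Type*} [Field F] [Fintype F] {a b : ℕ} {q : ℕ}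

local notation "V" => (Fin a × Fin b → F)

/-- `q` is a power of the characteristic -/
theorem exists_char_pow (hF : Fintype.card F = q ^ 2) :
    ∃ p m : ℕ, p.Prime ∧ CharP F p ∧ q = p ^ m := by
  obtain ⟨p, hp⟩ := CharP.exists F
  haveI := hp
  haveI hpp : Fact p.Prime := ⟨CharP.char_is_prime F p⟩
  obtain ⟨k, hk⟩ := FiniteField.card F p
  have hk1 : Fintype.card F = p ^ (k : ℕ) := hk.2
  have hdvd : q ∣ p ^ (k : ℕ) := by
    rw [← hk1, hF]; exact Dvd.intro_left (q ^ 1) (by ring)
  obtain ⟨m, _, hm⟩ := (Nat.dvd_prime_pow hpp.out).mp hdvd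
  exact ⟨p, m, hpp.out, hp, hm⟩

theorem add_pow_q (hF : Fintype.card F = q ^ 2) (x y : F) : (x + y) ^ q = x ^ q + y ^ q := by
  obtain ⟨p, m, hp, hc, rfl⟩ := exists_char_pow hF
  haveI := hc
  haveI : Fact p.Prime := ⟨hp⟩
  exact add_pow_char_pow x y p m

theorem sum_pow_q (hF : Fintype.card F = q ^ 2) {ι : Type*} (s : Finset ι) (f : ι → F) :
    (∑ i ∈ s, f i) ^ q = ∑ i ∈ s, (f i) ^ q := by
  obtain ⟨p, m, hp, hc, rfl⟩ := exists_char_pow hF
  haveI := hc
  haveI : Fact p.Prime := ⟨hp⟩
  exact sum_pow_char_pow p m s f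

theorem q_pos (hF : Fintype.card F = q ^ 2) : 0 < q := by
  rcases Nat.eq_zero_or_pos q with h | h
  · subst h
    have : 0 < Fintype.card F := Fintype.card_pos
    omega
  · exact h

/-- FO-HS (k) -/
theorem pow_q_pow_q (hF : Fintype.card F = q ^ 2) (x : F) : (x ^ q) ^ q = x := by
  rw [← pow_mul, ← sq, ← hF, FiniteField.pow_card]

/-- FO-HS (a) -/
theorem hs_add_left {κ : Type*} [Fintype κ] (x x' y : κ → F) :
    hs q (x + x') y = hs q x y + hs q x' y := by
  simp only [hs, Pi.add_apply, add_mul, Finset.sum_add_distrib]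

/-- FO-HS (b) -/
theorem hs_smul_left {κ : Type*} [Fintype κ] (c : F) (x y : κ → F) :
    hs q (c • x) y = c * hs q x y := by
  simp only [hs, Pi.smul_apply, smul_eq_mul, Finset.mul_sum, mul_assoc]

/-- FO-HS (c) -/
theorem hs_add_right {κ : Type*} [Fintype κ] (hF : Fintype.card F = q ^ 2) (x y y' : κ → F) :
    hs q x (y + y') = hs q x y + hs q x y' := by
  simp only [hs, Pi.add_apply, add_pow_q hF, mul_add, Finset.sum_add_distrib]

/-- FO-HS (d) -/
theorem hs_smul_right {κ : Type*} [Fintype κ] (c : F) (x y : κ → F) :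
    hs q x (c • y) = c ^ q * hs q x y := by
  simp only [hs, Pi.smul_apply, smul_eq_mul, Finset.mul_sum, mul_pow]
  apply Finset.sum_congr rfl
  intro i _
  ring

/-- FO-HS (e) -/
theorem hs_conj {κ : Type*} [Fintype κ] (hF : Fintype.card F = q ^ 2) (x y : κ → F) :
    hs q y x = (hs q x y) ^ q := by
  simp only [hs]
  rw [sum_pow_q hF]
  apply Finset.sum_congr rfl
  intro i _
  rw [mul_pow, pow_q_pow_q hF, mul_comm]

/-- FO-HS (f) -/
theorem hs_pur (u u' : Fin a → F) (w w' : Fin b → F) :
    hs q (pur u w) (pur u' w') = hs q u u' * hs q w w' := by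
  simp only [hs, Fintype.sum_prod_type, pur_apply, Finset.sum_mul_sum]
  apply Finset.sum_congr rfl
  intro i _
  apply Finset.sum_congr rfl
  intro j _
  ring

/-- FO-HS (g): `h(v, u ⊗ k) = h(ctr (cj k) v, u)` -/
theorem hs_pur_right (v : V) (u : Fin a → F) (k : Fin b → F) :
    hs q v (pur u k) = hs q (ctr (cj q k) v) u := by
  simp only [hs, Fintype.sum_prod_type, pur_apply, ctr_apply, cj_apply, Finset.sum_mul]
  apply Finset.sum_congr rfl
  intro i _
  apply Finset.sum_congr rfl
  intro j _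
  ring

/-- FO-HS (h): `h(v, u ⊗ w) = h(ctrL (cj u) v, w)` -/
theorem hs_pur_right' (v : V) (u : Fin a → F) (w : Fin b → F) :
    hs q v (pur u w) = hs q (ctrL (cj q u) v) w := by
  simp only [hs, Fintype.sum_prod_type, pur_apply, ctrL_apply, cj_apply, Finset.sum_mul]
  rw [Finset.sum_comm]
  apply Finset.sum_congr rfl
  intro j _
  apply Finset.sum_congr rfl
  intro i _
  ring

/-- FO-HS (i), with the necessary hypothesis `q ≠ 0` (for `q = 0` the statement is false:
`hs 0 x y = ∑ i, x i`) -/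
theorem hs_nondeg_of_ne_zero {κ : Type*} [Fintype κ] [DecidableEq κ] (hq : q ≠ 0) (x : κ → F)
    (h : ∀ y, hs q x y = 0) : x = 0 := by
  funext i
  have hi := h (Pi.single i 1)
  simp only [hs] at hi
  rw [Finset.sum_eq_single i] at hi
  · simpa using hi
  · intro j _ hj
    rw [Pi.single_eq_of_ne hj, zero_pow hq, mul_zero]
  · intro hi'
    exact absurd (Finset.mem_univ i) hi'

/-- FO-HS (i), with `hF` -/
theorem hs_nondeg {κ : Type*} [Fintype κ] [DecidableEq κ] (hF : Fintype.card F = q ^ 2) (x : κ → F)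
    (h : ∀ y, hs q x y = 0) : x = 0 :=
  hs_nondeg_of_ne_zero (q_pos hF).ne' x h

/-- FO-HS (j) -/
theorem exists_trace_zero (hF : Fintype.card F = q ^ 2) : ∃ c : F, c ≠ 0 ∧ c + c ^ q = 0 := by
  classical
  have hq2 : 2 ≤ q := by
    by_contra h
    have hq1 : q ≤ 1 := by omega
    have h2 : q ^ 2 ≤ 1 := by nlinarith
    have h1 : 1 < Fintype.card F := Fintype.one_lt_card
    omega
  have hP0 : (Polynomial.X ^ q - Polynomial.X : Polynomial F) ≠ 0 :=
    FiniteField.X_pow_card_sub_X_ne_zero F (by omega)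
  have hdeg : (Polynomial.X ^ q - Polynomial.X : Polynomial F).natDegree = q :=
    FiniteField.X_pow_card_sub_X_natDegree_eq F (by omega)
  have hS : (Polynomial.X ^ q - Polynomial.X : Polynomial F).roots.toFinset.card ≤ q := by
    calc (Polynomial.X ^ q - Polynomial.X : Polynomial F).roots.toFinset.card
        ≤ Multiset.card (Polynomial.X ^ q - Polynomial.X : Polynomial F).roots :=
          Multiset.toFinset_card_le _
      _ ≤ (Polynomial.X ^ q - Polynomial.X : Polynomial F).natDegree := Polynomial.card_roots' _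
      _ = q := hdeg
  have hmaps : ∀ c ∈ (Finset.univ : Finset F),
      c + c ^ q ∈ (Polynomial.X ^ q - Polynomial.X : Polynomial F).roots.toFinset := by
    intro c _
    rw [Multiset.mem_toFinset, Polynomial.mem_roots hP0]
    simp only [Polynomial.IsRoot, Polynomial.eval_sub, Polynomial.eval_pow, Polynomial.eval_X]
    rw [add_pow_q hF, pow_q_pow_q hF]
    ring
  have hlt : (Polynomial.X ^ q - Polynomial.X : Polynomial F).roots.toFinset.card <
      (Finset.univ : Finset F).card := by
    rw [Finset.card_univ, hF]; nlinarith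
  obtain ⟨x, _, y, _, hxy, hfxy⟩ := Finset.exists_ne_map_eq_of_card_lt_of_maps_to hlt hmaps
  refine ⟨x - y, sub_ne_zero.2 hxy, ?_⟩
  have hsub : (x - y) ^ q = x ^ q - y ^ q := by
    have h := add_pow_q hF (x - y) y
    rw [sub_add_cancel] at h
    rw [h]; ring
  rw [hsub]
  linear_combination hfxy

end Cfsg.Agent.Lib.Helper25.S5670HS
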