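import Mathlib
import Cfsg.Agent.Lib.Helper28.TensUDefs
import Cfsg.Agent.Lib.Helper25.S5670FOHS

/-!
# S5670 farm-out piece FO-PERP (architect helper28): orthogonality of the standard subspaces

NOTE: (a)-(d) are false for `q = 0` (then `hs 0 v x = ∑ p, v p`), so they carry the extra
hypothesis `hF : Fintype.card F = q ^ 2` (versions with `q ≠ 0` are provided too).
-/

set_option autoImplicit false
set_option linter.unusedSectionVars false
set_option linter.unusedVariables false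

namespace Cfsg.Agent.Lib.Helper25.S5670PERP

open Matrix Module
open Cfsg.Agent.Lib.Helper16.Tens Cfsg.Agent.Lib.Helper10.TensFund Cfsg.Agent.Lib.Helper28.TensU
open Cfsg.Agent.Lib.Helper25.S5670HS
open scoped Kronecker

variable {F : Type*} [Field F] [Fintype F] {a b : ℕ} {q : ℕ}

local notation "V" => (Fin a × Fin b → F)

/-- FO-PERP (a), `q ≠ 0` -/
theorem mem_hyp_cj_iff_of_ne_zero (hq : q ≠ 0) (k : Fin b → F) (v : V) :
    v ∈ hyp (cj q k) ↔ ∀ x ∈ pt (a := a) k, hs q v x = 0 := by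
  rw [mem_hyp_iff]
  constructor
  · intro h x hx
    obtain ⟨u, rfl⟩ := (mem_pt_iff k x).1 hx
    rw [hs_pur_right, h]
    simp [hs]
  · intro h
    apply hs_nondeg_of_ne_zero hq
    intro u
    rw [← hs_pur_right]
    exact h _ (pur_mem_pt u k)

/-- FO-PERP (a): `U ⊗ k^⊥` is the orthogonal of `U ⊗ k` -/
theorem mem_hyp_cj_iff (hF : Fintype.card F = q ^ 2) (k : Fin b → F) (v : V) :
    v ∈ hyp (cj q k) ↔ ∀ x ∈ pt (a := a) k, hs q v x = 0 :=
  mem_hyp_cj_iff_of_ne_zero (q_pos hF).ne' k v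

/-- FO-PERP (b), `q ≠ 0` -/
theorem mem_hypL_cj_iff_of_ne_zero (hq : q ≠ 0) (u : Fin a → F) (v : V) :
    v ∈ hypL (cj q u) ↔ ∀ x ∈ ptL (b := b) u, hs q v x = 0 := by
  rw [mem_hypL_iff]
  constructor
  · intro h x hx
    obtain ⟨w, rfl⟩ := (mem_ptL_iff u x).1 hx
    rw [hs_pur_right', h]
    simp [hs]
  · intro h
    apply hs_nondeg_of_ne_zero hq
    intro w
    rw [← hs_pur_right']
    exact h _ (pur_mem_ptL u w)

/-- FO-PERP (b) -/
theorem mem_hypL_cj_iff (hF : Fintype.card F = q ^ 2) (u : Fin a → F) (v : V) :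
    v ∈ hypL (cj q u) ↔ ∀ x ∈ ptL (b := b) u, hs q v x = 0 :=
  mem_hypL_cj_iff_of_ne_zero (q_pos hF).ne' u v

omit [Fintype F] in
/-- unitarity, moved to one side -/
theorem hs_act_inv (g : GL (Fin a × Fin b) F) (hg : g ∈ UG (Fin a × Fin b) F q) (v x : V) :
    hs q (act g⁻¹ v) x = hs q v (act g x) := by
  have h := (mem_UG_iff q g).1 hg (act g⁻¹ v) x
  rw [← act_apply, ← act_apply, act_act_inv] at h
  exact h.symm

omit [Fintype F] in
/-- the orthogonal of an image under a unitary element -/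
theorem forall_img_iff (g : GL (Fin a × Fin b) F) (hg : g ∈ UG (Fin a × Fin b) F q)
    (P : Submodule F V) (v : V) :
    (∀ x ∈ img g P, hs q v x = 0) ↔ ∀ x ∈ P, hs q (act g⁻¹ v) x = 0 := by
  constructor
  · intro h x hx
    rw [hs_act_inv g hg]
    apply h
    rw [mem_img_iff, act_inv_act]
    exact hx
  · intro h x hx
    have h1 := h _ ((mem_img_iff g P x).1 hx)
    rw [hs_act_inv g hg, act_act_inv] at h1
    exact h1

/-- FO-PERP (c), `q ≠ 0` -/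
theorem mem_img_hyp_cj_iff_of_ne_zero (hq : q ≠ 0) (g : GL (Fin a × Fin b) F)
    (hg : g ∈ UG (Fin a × Fin b) F q) (k : Fin b → F) (v : V) :
    v ∈ img g (hyp (cj q k)) ↔ ∀ x ∈ img g (pt (a := a) k), hs q v x = 0 := by
  rw [mem_img_iff, mem_hyp_cj_iff_of_ne_zero hq, forall_img_iff g hg]

/-- FO-PERP (c) -/
theorem mem_img_hyp_cj_iff (hF : Fintype.card F = q ^ 2) (g : GL (Fin a × Fin b) F)
    (hg : g ∈ UG (Fin a × Fin b) F q) (k : Fin b → F) (v : V) :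
    v ∈ img g (hyp (cj q k)) ↔ ∀ x ∈ img g (pt (a := a) k), hs q v x = 0 :=
  mem_img_hyp_cj_iff_of_ne_zero (q_pos hF).ne' g hg k v

/-- FO-PERP (d), `q ≠ 0` -/
theorem mem_img_hypL_cj_iff_of_ne_zero (hq : q ≠ 0) (g : GL (Fin a × Fin b) F)
    (hg : g ∈ UG (Fin a × Fin b) F q) (u : Fin a → F) (v : V) :
    v ∈ img g (hypL (cj q u)) ↔ ∀ x ∈ img g (ptL (b := b) u), hs q v x = 0 := by
  rw [mem_img_iff, mem_hypL_cj_iff_of_ne_zero hq, forall_img_iff g hg]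

/-- FO-PERP (d) -/
theorem mem_img_hypL_cj_iff (hF : Fintype.card F = q ^ 2) (g : GL (Fin a × Fin b) F)
    (hg : g ∈ UG (Fin a × Fin b) F q) (u : Fin a → F) (v : V) :
    v ∈ img g (hypL (cj q u)) ↔ ∀ x ∈ img g (ptL (b := b) u), hs q v x = 0 :=
  mem_img_hypL_cj_iff_of_ne_zero (q_pos hF).ne' g hg u v

/-- FO-PERP (e) -/
theorem pt_le_hyp_cj (k k' : Fin b → F) (h : hs q k k' = 0) : pt (a := a) k ≤ hyp (cj q k') := by
  intro x hx
  obtain ⟨u, rfl⟩ := (mem_pt_iff k x).1 hx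
  rw [mem_hyp_iff, ctr_pur, ← hs_eq_dotProduct, h, zero_smul]

/-- FO-PERP (f) -/
theorem ptL_le_hypL_cj (u u' : Fin a → F) (h : hs q u u' = 0) : ptL (b := b) u ≤ hypL (cj q u') := by
  intro x hx
  obtain ⟨w, rfl⟩ := (mem_ptL_iff u x).1 hx
  rw [mem_hypL_iff, ctrL_pur, ← hs_eq_dotProduct, h, zero_smul]

/-- FO-PERP (g): `(U ⊗ k + U ⊗ k'') ∩ U ⊗ k^⊥ = U ⊗ k` when `h(k'',k) ≠ 0`, `h(k,k) = 0` -/
theorem sup_inf_hyp_le (k k'' : Fin b → F) (hk : hs q k k = 0) (h : hs q k'' k ≠ 0) :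
    (pt (a := a) k ⊔ pt k'') ⊓ hyp (cj q k) ≤ pt k := by
  rintro v ⟨hv1, hv2⟩
  obtain ⟨x, hx, y, hy, rfl⟩ := Submodule.mem_sup.1 hv1
  obtain ⟨u, rfl⟩ := (mem_pt_iff k x).1 hx
  obtain ⟨u'', rfl⟩ := (mem_pt_iff k'' y).1 hy
  have h2 := (mem_hyp_iff _ _).1 hv2
  rw [map_add, ctr_pur, ctr_pur, ← hs_eq_dotProduct, ← hs_eq_dotProduct, hk, zero_smul, zero_add,
    smul_eq_zero] at h2
  have hu'' : u'' = 0 := h2.resolve_left h
  rw [hu'', pur_zero_left, add_zero]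
  exact pur_mem_pt u k

/-- FO-PERP (h) -/
theorem supL_inf_hypL_le (u u'' : Fin a → F) (hu : hs q u u = 0) (h : hs q u'' u ≠ 0) :
    (ptL (b := b) u ⊔ ptL u'') ⊓ hypL (cj q u) ≤ ptL u := by
  rintro v ⟨hv1, hv2⟩
  obtain ⟨x, hx, y, hy, rfl⟩ := Submodule.mem_sup.1 hv1
  obtain ⟨w, rfl⟩ := (mem_ptL_iff u x).1 hx
  obtain ⟨w'', rfl⟩ := (mem_ptL_iff u'' y).1 hy
  have h2 := (mem_hypL_iff _ _).1 hv2
  rw [map_add, ctrL_pur, ctrL_pur, ← hs_eq_dotProduct, ← hs_eq_dotProduct, hu, zero_smul, zero_add,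
    smul_eq_zero] at h2
  have hw'' : w'' = 0 := h2.resolve_left h
  rw [hw'', pur_zero_right, add_zero]
  exact pur_mem_ptL u w

end Cfsg.Agent.Lib.Helper25.S5670PERP
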