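import Mathlib

/-!
# Involutions inverting Sylow subgroups (helper25 library)

* `exists_inverted_sylow_of_odd`: an involution `g` normalizing a subgroup `C` of odd order and
  fixing no non-identity `p`-element of `C` inverts some Sylow `p`-subgroup of `C`.
* `exists_sylow_inverted`: if centralizers of non-identity `p`-elements have odd order and the
  involution `g` inverts a non-identity `p`-element, then `g` inverts a Sylow `p`-subgroup of `G`.
* `isConj_of_odd_orderOf_mul`: two involutions with product of odd order are conjugate.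
-/

set_option autoImplicit false
set_option linter.style.haveILetI false

namespace Cfsg.Agent.Lib.Helper25

open scoped Pointwise

variable {G : Type*} [Group G]

/-- Conjugation by an involution `g` normalizing `C`, as an automorphism of `C`. -/
def conjInvol (C : Subgroup G) (g : G) (hg2 : g * g = 1) (hgC : ∀ c ∈ C, g * c * g⁻¹ ∈ C) :
    MulAut C where
  toFun c := ⟨g * c * g⁻¹, hgC c c.2⟩
  invFun c := ⟨g * c * g⁻¹, hgC c c.2⟩
  left_inv c := by
    apply Subtype.ext
    change g * (g * (c : G) * g⁻¹) * g⁻¹ = c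
    calc g * (g * (c : G) * g⁻¹) * g⁻¹ = (g * g) * c * (g * g)⁻¹ := by group
      _ = c := by rw [hg2]; simp
  right_inv c := by
    apply Subtype.ext
    change g * (g * (c : G) * g⁻¹) * g⁻¹ = c
    calc g * (g * (c : G) * g⁻¹) * g⁻¹ = (g * g) * c * (g * g)⁻¹ := by group
      _ = c := by rw [hg2]; simp
  map_mul' a b := by
    apply Subtype.ext
    change g * ((a : G) * b) * g⁻¹ = (g * a * g⁻¹) * (g * b * g⁻¹)
    group

theorem conjInvol_apply (C : Subgroup G) (g : G) (hg2 : g * g = 1)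
    (hgC : ∀ c ∈ C, g * c * g⁻¹ ∈ C) (c : C) :
    ((conjInvol C g hg2 hgC c : C) : G) = g * c * g⁻¹ := rfl

theorem conjInvol_mul_self (C : Subgroup G) (g : G) (hg2 : g * g = 1)
    (hgC : ∀ c ∈ C, g * c * g⁻¹ ∈ C) : conjInvol C g hg2 hgC * conjInvol C g hg2 hgC = 1 := by
  ext c
  change g * (g * (c : G) * g⁻¹) * g⁻¹ = c
  calc g * (g * (c : G) * g⁻¹) * g⁻¹ = (g * g) * c * (g * g)⁻¹ := by group
    _ = c := by rw [hg2]; simp

/-- An involution `g` normalizing the odd-order subgroup `C` and fixing no non-identity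
`p`-element of `C` inverts a Sylow `p`-subgroup of `C`. -/
theorem exists_inverted_sylow_of_odd [Finite G] (p : ℕ) [Fact p.Prime] (C : Subgroup G)
    (hCodd : Odd (Nat.card C)) (g : G) (hg2 : g * g = 1) (hgC : ∀ c ∈ C, g * c * g⁻¹ ∈ C)
    (hfix : ∀ c ∈ C, (∃ k : ℕ, orderOf c = p ^ k) → g * c * g⁻¹ = c → c = 1) :
    ∃ Q : Sylow p C, ∀ x : C, x ∈ Q → g * (x : G) * g⁻¹ = (x : G)⁻¹ := by
  classical
  haveI : Fintype (Sylow p C) := Fintype.ofFinite _
  set α := conjInvol C g hg2 hgC with hα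
  -- the involution on the set of Sylow subgroups
  let f : Function.End (Sylow p C) := fun Q => α • Q
  have hf : f ^ 2 ^ 1 = 1 := by
    rw [pow_one, pow_two]
    funext Q
    change α • (α • Q) = Q
    rw [← mul_smul, conjInvol_mul_self, one_smul]
  haveI : Fact (Nat.Prime 2) := ⟨Nat.prime_two⟩
  have hmod := Equiv.Perm.card_fixedPoints_modEq (p := 2) (n := 1) hf
  -- the number of Sylow subgroups is odd
  obtain ⟨Q₀⟩ : Nonempty (Sylow p C) := inferInstance
  have hodd : Odd (Fintype.card (Sylow p C)) := by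
    have h1 : Nat.card (Sylow p C) ∣ Nat.card C :=
      dvd_trans (Sylow.card_dvd_index Q₀) (Subgroup.index_dvd_card _)
    rw [← Nat.card_eq_fintype_card]
    exact Odd.of_dvd_nat hCodd h1
  have hne : Fintype.card (Function.fixedPoints f) ≠ 0 := by
    intro h0
    rw [h0] at hmod
    have : Fintype.card (Sylow p C) % 2 = 0 := hmod
    rw [Nat.odd_iff] at hodd
    omega
  obtain ⟨⟨Q, hQ⟩⟩ := Fintype.card_pos_iff.1 (Nat.pos_of_ne_zero hne)
  have hQfix : α • Q = Q := hQ
  have hQmem : ∀ x : C, x ∈ Q → α x ∈ Q := by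
    intro x hx
    have h1 : α • x ∈ α • (Q : Subgroup C) := Subgroup.smul_mem_pointwise_smul x α _ hx
    rw [← Sylow.pointwise_smul_def, hQfix] at h1
    exact h1
  -- the restriction of `α` to `Q`
  let φ : (Q : Subgroup C) →* (Q : Subgroup C) :=
    { toFun := fun x => ⟨α x, hQmem x x.2⟩
      map_one' := by apply Subtype.ext; simp
      map_mul' := fun a b => by apply Subtype.ext; simp }
  have hφinv : Function.Involutive φ := by
    intro x
    apply Subtype.ext
    change α (α (x : C)) = x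
    have := congrArg (fun β : MulAut C => β (x : C)) (conjInvol_mul_self C g hg2 hgC)
    exact this
  have hφfpf : MonoidHom.FixedPointFree φ := by
    intro x hx
    have h1 : α (x : C) = x := congrArg Subtype.val hx
    have h2 : g * ((x : C) : G) * g⁻¹ = ((x : C) : G) := congrArg Subtype.val h1
    have hpx : ∃ k : ℕ, orderOf (((x : C) : G)) = p ^ k := by
      have := (IsPGroup.iff_orderOf.1 Q.isPGroup') x
      obtain ⟨k, hk⟩ := this
      refine ⟨k, ?_⟩
      rw [← hk, ← Subgroup.orderOf_coe, ← Subgroup.orderOf_coe]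
    have h3 := hfix _ (x : C).2 hpx h2
    apply Subtype.ext; apply Subtype.ext
    exact h3
  have hinv := MonoidHom.FixedPointFree.coe_eq_inv_of_involutive hφfpf hφinv
  refine ⟨Q, ?_⟩
  intro y hy
  have h1 := congrFun hinv ⟨y, hy⟩
  have h2 : ((φ ⟨y, hy⟩ : (Q : Subgroup C)) : C) = ((⟨y, hy⟩ : (Q : Subgroup C))⁻¹ : (Q : Subgroup C)) :=
    congrArg Subtype.val h1
  have h3 := congrArg Subtype.val h2
  exact h3

/-- Two involutions whose product has odd order are conjugate. -/
theorem isConj_of_odd_orderOf_mul (s t : G) (hs : s * s = 1) (ht : t * t = 1)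
    (hodd : Odd (orderOf (s * t))) : IsConj s t := by
  obtain ⟨m, hm⟩ := hodd
  set r := s * t with hr
  have hsinv : s⁻¹ = s := inv_eq_of_mul_eq_one_right hs
  have htinv : t⁻¹ = t := inv_eq_of_mul_eq_one_right ht
  have hrinv : r⁻¹ = t * s := by rw [hr, mul_inv_rev, hsinv, htinv]
  have h1 : s * r * s⁻¹ = r⁻¹ := by
    rw [hrinv, hr, hsinv]
    calc s * (s * t) * s = (s * s) * t * s := by group
      _ = t * s := by rw [hs, one_mul]
  have h2 : ∀ k : ℕ, s * r ^ k * s⁻¹ = (r ^ k)⁻¹ := by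
    intro k
    rw [← conj_pow, h1, inv_pow]
  have h3 : t = r⁻¹ * s := by
    rw [hrinv, mul_assoc, hs, mul_one]
  rw [isConj_iff]
  refine ⟨r ^ m, ?_⟩
  have h4 : r ^ (2 * m + 1) = 1 := by rw [← hm]; exact pow_orderOf_eq_one r
  calc r ^ m * s * (r ^ m)⁻¹ = r ^ m * s * (s * r ^ m * s⁻¹) := by rw [h2]
    _ = r ^ m * (s * s) * r ^ m * s⁻¹ := by group
    _ = r ^ m * r ^ m * s := by rw [hs, mul_one, hsinv]
    _ = r ^ (2 * m + 1) * r⁻¹ * s := by
        rw [pow_succ, mul_assoc (r ^ (2 * m)), mul_inv_cancel, mul_one, two_mul, pow_add]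
    _ = t := by rw [h4, one_mul, ← h3]

theorem mem_centralizer_singleton {y c : G} :
    c ∈ Subgroup.centralizer ({y} : Set G) ↔ y * c = c * y := by
  rw [Subgroup.mem_centralizer_iff]
  constructor
  · intro h; exact h y (Set.mem_singleton y)
  · intro h z hz
    rw [Set.mem_singleton_iff] at hz
    rw [hz]; exact h

/-- For a non-identity `p`-element `y` inverted by the involution `g` (centralizers of
non-identity `p`-elements being of odd order), `g` inverts a Sylow `p`-subgroup of `C_G(y)`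
containing `y`. -/
theorem exists_inverted_sylow_centralizer [Finite G] (p : ℕ) [Fact p.Prime]
    (hC : ∀ y : G, y ≠ 1 → (∃ k : ℕ, orderOf y = p ^ k) →
      Odd (Nat.card (Subgroup.centralizer ({y} : Set G))))
    (g : G) (hg2 : g * g = 1) (hg1 : g ≠ 1) (y : G) (hy1 : y ≠ 1)
    (hy : ∃ k : ℕ, orderOf y = p ^ k) (hgy : g * y * g⁻¹ = y⁻¹) :
    ∃ Q : Sylow p (Subgroup.centralizer ({y} : Set G)),
      (∀ x : Subgroup.centralizer ({y} : Set G), x ∈ Q → g * (x : G) * g⁻¹ = (x : G)⁻¹) ∧
      ∀ hyC : y ∈ Subgroup.centralizer ({y} : Set G),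
        (⟨y, hyC⟩ : Subgroup.centralizer ({y} : Set G)) ∈ Q := by
  have hginv : g⁻¹ = g := inv_eq_of_mul_eq_one_right hg2
  have hgC : ∀ c ∈ Subgroup.centralizer ({y} : Set G),
      g * c * g⁻¹ ∈ Subgroup.centralizer ({y} : Set G) := by
    intro c hc
    rw [mem_centralizer_singleton] at hc ⊢
    have hy' : y = g * y⁻¹ * g⁻¹ := by
      have h1 : g * y⁻¹ * g⁻¹ = (g * y * g⁻¹)⁻¹ := by group
      rw [h1, hgy, inv_inv]
    have hc' : y⁻¹ * c = c * y⁻¹ := by
      calc y⁻¹ * c = y⁻¹ * (c * y) * y⁻¹ := by group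
        _ = y⁻¹ * (y * c) * y⁻¹ := by rw [hc]
        _ = c * y⁻¹ := by group
    calc y * (g * c * g⁻¹) = (g * y⁻¹ * g⁻¹) * (g * c * g⁻¹) := by rw [← hy']
      _ = g * (y⁻¹ * c) * g⁻¹ := by group
      _ = g * (c * y⁻¹) * g⁻¹ := by rw [hc']
      _ = (g * c * g⁻¹) * (g * y⁻¹ * g⁻¹) := by group
      _ = (g * c * g⁻¹) * y := by rw [← hy']
  have hfix : ∀ c ∈ Subgroup.centralizer ({y} : Set G),
      (∃ k : ℕ, orderOf c = p ^ k) → g * c * g⁻¹ = c → c = 1 := by
    intro c _ hcp hgc
    by_contra hc1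
    have hodd := hC c hc1 hcp
    have hgmem : g ∈ Subgroup.centralizer ({c} : Set G) := by
      rw [mem_centralizer_singleton]
      calc c * g = (g * c * g⁻¹) * g := by rw [hgc]
        _ = g * c := by group
    have h2 : orderOf g = 2 := by
      apply orderOf_eq_prime
      · rw [pow_two]; exact hg2
      · exact hg1
    have h3 : orderOf (⟨g, hgmem⟩ : Subgroup.centralizer ({c} : Set G)) = 2 := by
      rw [← h2, ← Subgroup.orderOf_coe]
    have h4 : 2 ∣ Nat.card (Subgroup.centralizer ({c} : Set G)) := by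
      rw [← h3]; exact orderOf_dvd_natCard _
    rw [Nat.odd_iff] at hodd
    omega
  obtain ⟨Q, hQ⟩ := exists_inverted_sylow_of_odd p _ (hC y hy1 hy) g hg2 hgC hfix
  refine ⟨Q, hQ, ?_⟩
  intro hyC
  -- `⟨y⟩` is a normal `p`-subgroup of the centralizer
  have hcentral : ∀ c : Subgroup.centralizer ({y} : Set G),
      c * (⟨y, hyC⟩ : Subgroup.centralizer ({y} : Set G)) = ⟨y, hyC⟩ * c := by
    intro c
    apply Subtype.ext
    have := mem_centralizer_singleton.1 c.2
    exact this.symm
  haveI hnorm : (Subgroup.zpowers (⟨y, hyC⟩ : Subgroup.centralizer ({y} : Set G))).Normal := by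
    constructor
    intro n hn c
    obtain ⟨k, rfl⟩ := Subgroup.mem_zpowers_iff.1 hn
    have : c * (⟨y, hyC⟩ : Subgroup.centralizer ({y} : Set G)) ^ k * c⁻¹ =
        (⟨y, hyC⟩ : Subgroup.centralizer ({y} : Set G)) ^ k := by
      have hcomm : Commute c ((⟨y, hyC⟩ : Subgroup.centralizer ({y} : Set G)) ^ k) :=
        (show Commute c (⟨y, hyC⟩ : Subgroup.centralizer ({y} : Set G)) from
          hcentral c).zpow_right k
      rw [hcomm.eq]; group
    rw [this]
    exact Subgroup.zpow_mem_zpowers _ k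
  have hpz : IsPGroup p (Subgroup.zpowers (⟨y, hyC⟩ : Subgroup.centralizer ({y} : Set G))) := by
    obtain ⟨k, hk⟩ := hy
    apply IsPGroup.of_card (n := k)
    rw [Nat.card_zpowers, ← hk, ← Subgroup.orderOf_coe]
  have hle := IsPGroup.le_sylow_of_normal hpz Q
  exact hle (Subgroup.mem_zpowers _)

/-- If centralizers of non-identity `p`-elements have odd order and the involution `g` inverts a
non-identity `p`-element, then `g` inverts a Sylow `p`-subgroup of `G`. -/
theorem exists_sylow_inverted [Finite G] (p : ℕ) [Fact p.Prime]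
    (hC : ∀ y : G, y ≠ 1 → (∃ k : ℕ, orderOf y = p ^ k) →
      Odd (Nat.card (Subgroup.centralizer ({y} : Set G))))
    (g : G) (hg2 : g * g = 1) (hg1 : g ≠ 1) (u : G) (hu1 : u ≠ 1)
    (hu : ∃ k : ℕ, orderOf u = p ^ k) (hgu : g * u * g⁻¹ = u⁻¹) :
    ∃ P : Sylow p G, ∀ x ∈ P, g * x * g⁻¹ = x⁻¹ := by
  have hp : p.Prime := Fact.out
  obtain ⟨Qu, hQu, huQ⟩ := exists_inverted_sylow_centralizer p hC g hg2 hg1 u hu1 hu hgu
  have huC : u ∈ Subgroup.centralizer ({u} : Set G) := mem_centralizer_singleton.2 rfl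
  -- a Sylow subgroup of `G` containing the image of `Qu`
  have hQ'p : IsPGroup p ((Qu : Subgroup (Subgroup.centralizer ({u} : Set G))).map
      (Subgroup.centralizer ({u} : Set G)).subtype) := Qu.isPGroup'.map _
  obtain ⟨P, hP⟩ := hQ'p.exists_le_sylow
  have huP : u ∈ P := hP (Subgroup.mem_map.2 ⟨⟨u, huC⟩, huQ huC, rfl⟩)
  -- a non-identity central element of `P`
  haveI : Nontrivial (P : Subgroup G) := ⟨⟨⟨u, huP⟩, 1, fun h => hu1 (congrArg Subtype.val h)⟩⟩
  haveI := IsPGroup.center_nontrivial P.isPGroup'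
  obtain ⟨⟨w₀, hw₀c⟩, hw₀1⟩ := exists_ne (1 : Subgroup.center (P : Subgroup G))
  have hw1 : (w₀ : G) ≠ 1 := by
    intro h
    apply hw₀1
    apply Subtype.ext; apply Subtype.ext
    exact h
  have hwcomm : ∀ x ∈ P, (w₀ : G) * x = x * (w₀ : G) := by
    intro x hx
    have := Subgroup.mem_center_iff.1 hw₀c ⟨x, hx⟩
    exact (congrArg Subtype.val this).symm
  have hwC : (w₀ : G) ∈ Subgroup.centralizer ({u} : Set G) := by
    rw [mem_centralizer_singleton]
    exact (hwcomm u huP).symm
  -- `P ∩ C` is a `p`-subgroup of `C` containing `Qu`, hence equals `Qu`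
  have hR : IsPGroup p ((P : Subgroup G).subgroupOf (Subgroup.centralizer ({u} : Set G))) :=
    P.isPGroup'.comap_subtype
  have hQR : (Qu : Subgroup (Subgroup.centralizer ({u} : Set G))) ≤
      (P : Subgroup G).subgroupOf (Subgroup.centralizer ({u} : Set G)) := by
    intro x hx
    rw [Subgroup.mem_subgroupOf]
    exact hP (Subgroup.mem_map.2 ⟨x, hx, rfl⟩)
  have hReq := Qu.is_maximal' hR hQR
  have hwQ : (⟨(w₀ : G), hwC⟩ : Subgroup.centralizer ({u} : Set G)) ∈ Qu := by
    change (⟨(w₀ : G), hwC⟩ : Subgroup.centralizer ({u} : Set G)) ∈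
      (Qu : Subgroup (Subgroup.centralizer ({u} : Set G)))
    rw [← hReq, Subgroup.mem_subgroupOf]
    exact w₀.2
  have hgw : g * (w₀ : G) * g⁻¹ = (w₀ : G)⁻¹ := hQu ⟨(w₀ : G), hwC⟩ hwQ
  have hwp : ∃ k : ℕ, orderOf (w₀ : G) = p ^ k := by
    obtain ⟨k, hk⟩ := (IsPGroup.iff_orderOf.1 P.isPGroup') w₀
    exact ⟨k, by rw [← hk, Subgroup.orderOf_coe]⟩
  -- second application
  obtain ⟨Qw, hQw, _⟩ := exists_inverted_sylow_centralizer p hC g hg2 hg1 (w₀ : G) hw1 hwp hgw
  have hPC' : (P : Subgroup G) ≤ Subgroup.centralizer ({(w₀ : G)} : Set G) := by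
    intro x hx
    rw [mem_centralizer_singleton]
    exact hwcomm x hx
  have hfac : (Nat.card (Subgroup.centralizer ({(w₀ : G)} : Set G))).factorization p =
      (Nat.card G).factorization p := by
    apply le_antisymm
    · exact (Nat.factorization_le_iff_dvd Nat.card_pos.ne' Nat.card_pos.ne').2
        (Subgroup.card_subgroup_dvd_card _) p
    · have h1 : Nat.card (P : Subgroup G) ∣
          Nat.card (Subgroup.centralizer ({(w₀ : G)} : Set G)) := Subgroup.card_dvd_of_le hPC'
      rw [Sylow.card_eq_multiplicity] at h1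
      exact (hp.pow_dvd_iff_le_factorization Nat.card_pos.ne').1 h1
  have hcard : Nat.card ((Qw : Subgroup (Subgroup.centralizer ({(w₀ : G)} : Set G))).map
      (Subgroup.centralizer ({(w₀ : G)} : Set G)).subtype) =
      p ^ (Nat.card G).factorization p := by
    rw [Subgroup.card_map_of_injective (Subgroup.subtype_injective _),
      Sylow.card_eq_multiplicity, hfac]
  refine ⟨Sylow.ofCard _ hcard, ?_⟩
  intro x hx
  have hx2 : x ∈ ((Sylow.ofCard _ hcard : Sylow p G) : Subgroup G) := hx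
  rw [Sylow.coe_ofCard] at hx2
  obtain ⟨x', hx', rfl⟩ := Subgroup.mem_map.1 hx2
  exact hQw x' hx'

end Cfsg.Agent.Lib.Helper25
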