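import Mathlib
import Cfsg.Agent.S1404
import Cfsg.Agent.S1409
import Cfsg.Agent.S1414
import Cfsg.Agent.S1423
import Cfsg.Agent.S1425
import Cfsg.Agent.S1426
import Cfsg.Agent.Lib.Helper3.BG14H
import Cfsg.Agent.Lib.Helper10.BGThirteenA
import Cfsg.Agent.Lib.Helper10.BGTwelveG
import Cfsg.Agent.Lib.Helper10.FittingHall
import Cfsg.Agent.Lib.Helper1.CoprimeSylow

/-!
# Helper25: `S1431` from the frozen statement of `S1430` (as the hypothesis `P1430`)

See `notes/BG_S1431_from_S1430_helper25.md`.  Key claim: for `Q₀ ≤ K* = C_{M_σ}(K)` of prime order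
`q`, either `q ∈ β(M)` or `Q₀ ≤ (M_σ)'`; then `S1423` applies.
-/

set_option autoImplicit false
set_option linter.unusedSectionVars false
set_option linter.style.haveILetI false
set_option linter.unusedVariables false

open Cfsg
open scoped commutatorElement
open Cfsg.Agent.Lib.Helper10.BG
open Cfsg.Agent.Lib.Helper9.BGExc
open Cfsg.Agent.Lib.Helper3.BGStubs
open Cfsg.Agent.Lib.Helper3.BG14
open Cfsg.Agent.Lib.Helper1 (CoprimeAct)

namespace Cfsg.Agent.Lib.Helper25.BG1431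

variable {G : Type*} [Group G] [Finite G]

/-- `E = U K` is a complement of `M_σ` in `M` (no cyclicity of `K` needed). -/
theorem isComplIn_UK' (hG : IsMinSimpleOddOrder G) {M : Subgroup G} (hM : IsCoatom M)
    {K U : Subgroup G} (hK : IsPiHallOf (kappa M) K M)
    (hU : IsPiHallOf {q | q.Prime ∧ q ∉ kappa M ∧ q ∉ sigma M} U M)
    (hKU : K ≤ Subgroup.normalizer (U : Set G)) :
    IsComplIn (U ⊔ K) (sigmaCore M) M := by
  have hB : K ⊔ sigmaCore M ≤ M := sup_le hK.1 (sigmaCore_le M)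
  have hBcard := card_kappa_group_sup_sigmaCore hG hM hK.1 hK.2.1
  set π : Set ℕ := {q | q ∈ kappa M ∨ q ∈ sigma M} with hπ
  have hBπ : ∀ p : ℕ, p.Prime → p ∣ Nat.card ↥(K ⊔ sigmaCore M) → p ∈ π := by
    intro p hp hd
    rw [hBcard] at hd
    rcases (Nat.Prime.dvd_mul hp).mp hd with h | h
    · exact Or.inl (hK.2.1 p hp h)
    · exact Or.inr (mem_sigma_of_dvd_card_sigmaCore hG hM hp h)
  have hBi : ∀ p : ℕ, p.Prime → p ∈ π → ¬ p ∣ (K ⊔ sigmaCore M).relIndex M := by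
    intro p hp hpπ hd
    rcases hpπ with h | h
    · exact hK.2.2 p hp h (hd.trans (Subgroup.relIndex_dvd_of_le_left M le_sup_left))
    · exact not_dvd_relIndex_sigmaCore hG hM hp h
        (hd.trans (Subgroup.relIndex_dvd_of_le_left M le_sup_right))
  have hUπ : ∀ p : ℕ, p.Prime → p ∣ Nat.card U → p ∉ π := by
    intro p hp hd hpπ
    obtain ⟨-, h1, h2⟩ := hU.2.1 p hp hd
    rcases hpπ with h | h
    · exact h1 h
    · exact h2 h
  have hUi : ∀ p : ℕ, p.Prime → p ∉ π → ¬ p ∣ U.relIndex M := by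
    intro p hp hpπ
    apply hU.2.2 p hp
    exact ⟨hp, fun h => hpπ (Or.inl h), fun h => hpπ (Or.inr h)⟩
  have hcard := card_mul_card_of_hall hB hU.1 hBπ hBi hUπ hUi
  -- `|U K| = |U| |K|`
  have hUKcop : (Nat.card K).Coprime (Nat.card U) := by
    apply Nat.coprime_of_dvd
    intro k hk hk1 hk2
    exact hUπ k hk hk2 (Or.inl (hK.2.1 k hk hk1))
  have hUKcard : Nat.card ↥(U ⊔ K) = Nat.card U * Nat.card K := by
    have h1 := Cfsg.H5.card_sup_mul_card_inf hKU
    rw [inf_eq_bot_of_coprime hUKcop, Subgroup.card_bot, mul_one, sup_comm, mul_comm] at h1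
    exact h1
  have hEM : U ⊔ K ≤ M := sup_le hU.1 hK.1
  apply isComplIn_of_card hEM (sigmaCore_le M) (hEM.trans (le_normalizer_sigmaCore M))
  · rw [hUKcard]
    apply Nat.Coprime.symm
    apply Nat.coprime_of_dvd
    intro q hq hd1 hd2
    have hqσ := mem_sigma_of_dvd_card_sigmaCore hG hM hq hd1
    rcases (Nat.Prime.dvd_mul hq).mp hd2 with h | h
    · exact hUπ q hq h (Or.inr hqσ)
    · exact (hK.2.1 q hq h).2.2.1 hqσ
  · rw [hUKcard, ← hcard, hBcard]; ring

/-- `U ≤ M'` when some `k₀` of `K` acts freely on the `K`-invariant subgroup `U`. -/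
theorem U_le_commutator' {M K U : Subgroup G} (hUM : U ≤ M) (hKM : K ≤ M)
    (hKU : K ≤ Subgroup.normalizer (U : Set G)) {k0 : G} (hk0 : k0 ∈ K)
    (hfree : U ⊓ Subgroup.centralizer ({k0} : Set G) = ⊥) :
    U ≤ ⁅M, M⁆ := by
  have hmem : ∀ u ∈ U, ⁅u, k0⁆ ∈ U := by
    intro u hu
    have e : ⁅u, k0⁆ = u * (k0 * u⁻¹ * k0⁻¹) := by rw [commutatorElement_def]; group
    rw [e]
    exact mul_mem hu ((Subgroup.mem_normalizer_iff.mp (hKU hk0) u⁻¹).mp (inv_mem hu))
  let f : ↥U → ↥U := fun u => ⟨⁅(u : G), k0⁆, hmem u u.2⟩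
  have hinj : Function.Injective f := by
    intro u v huv
    have h1 : ⁅(u : G), k0⁆ = ⁅(v : G), k0⁆ := congrArg Subtype.val huv
    rw [commutatorElement_def, commutatorElement_def] at h1
    have h2 : (u : G) * k0 * (u : G)⁻¹ = v * k0 * (v : G)⁻¹ := mul_right_cancel h1
    have h3 : ((v : G)⁻¹ * u) * k0 = k0 * ((v : G)⁻¹ * u) := by
      calc ((v : G)⁻¹ * u) * k0 = (v : G)⁻¹ * ((u : G) * k0 * (u : G)⁻¹) * u := by group
        _ = (v : G)⁻¹ * ((v : G) * k0 * (v : G)⁻¹) * u := by rw [h2]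
        _ = _ := by group
    have h4 : (v : G)⁻¹ * u ∈ U ⊓ Subgroup.centralizer ({k0} : Set G) :=
      Subgroup.mem_inf.mpr ⟨mul_mem (inv_mem v.2) u.2, Subgroup.mem_centralizer_singleton_iff.mpr h3⟩
    rw [hfree, Subgroup.mem_bot] at h4
    apply Subtype.ext
    have : (u : G) = v * ((v : G)⁻¹ * u) := by group
    rw [this, h4, mul_one]
  have hsurj : Function.Surjective f := Finite.injective_iff_surjective.mp hinj
  intro u hu
  obtain ⟨u', hu'⟩ := hsurj ⟨u, hu⟩
  have : ⁅(u' : G), k0⁆ = u := congrArg Subtype.val hu'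
  rw [← this]
  exact Subgroup.commutator_mem_commutator (hUM u'.2) (hKM hk0)


/-- The nilpotent-Hall trick: if `q ∈ σ(M) ∖ β(M)`, a `q`-subgroup `S ≤ M_σ` commutes elementwise with
every `σ(M)'`-subgroup `U ≤ M'` normalizing it (`SU` lies in a nilpotent Hall `β(M)'`-subgroup of
`M'`, `S1414`). -/
theorem commute_of_not_mem_beta (hG : IsMinSimpleOddOrder G) {M : Subgroup G} (hM : IsCoatom M)
    {q : ℕ} (hq : q.Prime) (hqσ : q ∈ sigma M) (hqβ : q ∉ beta M)
    {S U : Subgroup G} (hS : IsPGroup q S) (hSσ : S ≤ sigmaCore M) (hUM' : U ≤ ⁅M, M⁆)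
    (hUσ : ∀ p : ℕ, p.Prime → p ∣ Nat.card U → p ∉ sigma M)
    (hUS : U ≤ Subgroup.normalizer (S : Set G)) :
    ∀ s ∈ S, ∀ u ∈ U, s * u = u * s := by
  haveI : Fact q.Prime := ⟨hq⟩
  obtain ⟨H, hH, hHn⟩ := (Cfsg.Agent.S1414.result hG M hM).2.2.1
  set L : Subgroup G := ⁅M, M⁆ with hL
  have hLM : L ≤ M := by
    rw [hL, Subgroup.commutator_le]
    intro a ha b hb
    rw [commutatorElement_def]
    exact M.mul_mem (M.mul_mem (M.mul_mem ha hb) (M.inv_mem ha)) (M.inv_mem hb)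
  have hLtop : L ≠ ⊤ := fun h => hM.1 (top_le_iff.mp (h ▸ hLM))
  have hLs : Group.IsSolvable L := isSolvable_of_ne_top hG hLtop
  have hSL : S ≤ L := hSσ.trans (sigmaCore_le_commutator hG hM)
  set J : Subgroup G := U ⊔ S with hJ
  have hJL : J ≤ L := sup_le hUM' hSL
  have hβσ : ∀ p, p ∈ beta M → p ∈ sigma M := fun p hp => alpha_subset_sigma hG hM hp.1
  have hJcard : Nat.card J ∣ Nat.card U * Nat.card S :=
    Dvd.intro _ (Cfsg.H5.card_sup_mul_card_inf hUS)
  have hSq : ∀ p : ℕ, p.Prime → p ∣ Nat.card S → p = q := by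
    intro p hp h
    obtain ⟨n, hn⟩ := IsPGroup.iff_card.mp hS
    rw [hn] at h
    exact (Nat.prime_dvd_prime_iff_eq hp hq).mp (hp.dvd_of_dvd_pow h)
  have hJβ : ∀ p : ℕ, p.Prime → p ∣ Nat.card J → p ∉ beta M := by
    intro p hp hd hpβ
    rcases (Nat.Prime.dvd_mul hp).mp (hd.trans hJcard) with h | h
    · exact hUσ p hp h (hβσ p hpβ)
    · exact hqβ ((hSq p hp h) ▸ hpβ)
  have hidxβ : ∀ p : ℕ, p.Prime → p ∣ H.relIndex L → p ∈ beta M := by
    intro p hp hd
    by_contra hpβ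
    exact hH.2.2 p hp ⟨hp, hpβ⟩ hd
  have hcopH : (Nat.card H).Coprime (H.relIndex L) := by
    apply Nat.coprime_of_dvd
    intro p hp h1 h2
    exact (hH.2.1 p hp h1).2 (hidxβ p hp h2)
  have hcopJ : (Nat.card J).Coprime (H.relIndex L) := by
    apply Nat.coprime_of_dvd
    intro p hp h1 h2
    exact hJβ p hp h1 (hidxβ p hp h2)
  obtain ⟨g, hgL, hgJ⟩ := hall_le_conj_in hLs hH.1 hJL hcopH hcopJ
  intro s hs u hu
  have hs' : g * s * g⁻¹ ∈ H := hgJ ⟨s, Subgroup.mem_sup_right hs, rfl⟩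
  have hu' : g * u * g⁻¹ ∈ H := hgJ ⟨u, Subgroup.mem_sup_left hu, rfl⟩
  haveI := hHn
  have hcopSU : (Nat.card S).Coprime (Nat.card U) := by
    apply Nat.coprime_of_dvd
    intro p hp h1 h2
    exact hUσ p hp h2 ((hSq p hp h1) ▸ hqσ)
  have hos : orderOf (g * s * g⁻¹) = orderOf s := (MulAut.conj g).orderOf_eq s
  have hou : orderOf (g * u * g⁻¹) = orderOf u := (MulAut.conj g).orderOf_eq u
  have hcop : (orderOf (⟨g * s * g⁻¹, hs'⟩ : H)).Coprime (orderOf (⟨g * u * g⁻¹, hu'⟩ : H)) := by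
    rw [← Subgroup.orderOf_coe, ← Subgroup.orderOf_coe]
    show (orderOf (g * s * g⁻¹)).Coprime (orderOf (g * u * g⁻¹))
    rw [hos, hou]
    have h1 : orderOf s ∣ Nat.card S := by
      have := orderOf_dvd_natCard (⟨s, hs⟩ : S)
      rwa [← Subgroup.orderOf_coe] at this
    have h2 : orderOf u ∣ Nat.card U := by
      have := orderOf_dvd_natCard (⟨u, hu⟩ : U)
      rwa [← Subgroup.orderOf_coe] at this
    exact (hcopSU.coprime_dvd_left h1).coprime_dvd_right h2
  have hc := Cfsg.Agent.Lib.Helper10.commute_of_coprime_orderOf ↥H _ _ hcop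
  have hc' : g * s * g⁻¹ * (g * u * g⁻¹) = g * u * g⁻¹ * (g * s * g⁻¹) :=
    congrArg Subtype.val hc.eq
  have : g * (s * u) * g⁻¹ = g * (u * s) * g⁻¹ := by
    calc g * (s * u) * g⁻¹ = g * s * g⁻¹ * (g * u * g⁻¹) := by group
      _ = g * u * g⁻¹ * (g * s * g⁻¹) := hc'
      _ = g * (u * s) * g⁻¹ := by group
  exact mul_left_cancel (mul_right_cancel this)

/-- **Key claim.**  For `Q₀ ≤ K* = C_{M_σ}(K)` of prime order `q`: `q ∈ β(M)` or `Q₀ ≤ (M_σ)'`. -/
theorem key_claim (hG : IsMinSimpleOddOrder G) (h30 : P1430 G) {M : Subgroup G} (hM : IsCoatom M)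
    {K : Subgroup G} (hK : IsPiHallOf (kappa M) K M) (hK1 : K ≠ ⊥)
    {q : ℕ} (hq : q.Prime) {Q₀ : Subgroup G}
    (hQ₀ : Q₀ ≤ sigmaCore M ⊓ Subgroup.centralizer (K : Set G)) (hcard : Nat.card Q₀ = q) :
    q ∈ beta M ∨ Q₀ ≤ ⁅sigmaCore M, sigmaCore M⁆ := by
  haveI : Fact q.Prime := ⟨hq⟩
  by_cases hqβ : q ∈ beta M
  · exact Or.inl hqβ
  right
  obtain ⟨-, ⟨U, hUc, hUH, hKU, hfree⟩, -⟩ := h30 M hM K hK hK1
  have hE := isComplIn_UK' hG hM hK hUH hKU
  set E : Subgroup G := U ⊔ K with hEdef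
  haveI hMs : Group.IsSolvable M := isSolvable_of_ne_top hG hM.1
  have hσM : sigmaCore M ≤ M := sigmaCore_le M
  have hσs : Group.IsSolvable (sigmaCore M) := by
    apply isSolvable_of_ne_top hG
    intro h
    exact hM.1 (top_le_iff.mp (h ▸ hσM))
  have hQ₀σ : Q₀ ≤ sigmaCore M := hQ₀.trans inf_le_left
  have hQ₀p : IsPGroup q Q₀ := IsPGroup.of_card (n := 1) (by rw [hcard, pow_one])
  have hqd : q ∣ Nat.card (sigmaCore M) := by
    rw [← hcard]; exact Subgroup.card_dvd_of_le hQ₀σ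
  have hqσ : q ∈ sigma M := mem_sigma_of_dvd_card_sigmaCore hG hM hq hqd
  -- coprimality of `E` and `M_σ`
  have hEcop : (Nat.card E).Coprime (Nat.card (sigmaCore M)) := by
    apply Nat.coprime_of_dvd
    intro p hp h1 h2
    have hpσ := mem_sigma_of_dvd_card_sigmaCore hG hM hp h2
    have h3 : Nat.card E ∣ Nat.card U * Nat.card K := by
      have := Cfsg.H5.card_sup_mul_card_inf hKU
      rw [sup_comm] at this
      exact Dvd.intro _ (this.trans (mul_comm _ _))
    rcases (Nat.Prime.dvd_mul hp).mp (h1.trans h3) with h | h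
    · exact (hUH.2.1 p hp h).2.2 hpσ
    · exact (hK.2.1 p hp h).2.2.1 hpσ
  have hEnorm : E ≤ Subgroup.normalizer (sigmaCore M : Set G) :=
    hE.1.trans (le_normalizer_sigmaCore M)
  have hactE : CoprimeAct E (sigmaCore M) := ⟨hEnorm, hEcop, Or.inr hσs⟩
  have hKE : K ≤ E := le_sup_right
  have hUE : U ≤ E := le_sup_left
  have hactK : CoprimeAct K (sigmaCore M) :=
    ⟨hKE.trans hEnorm, Nat.Coprime.coprime_dvd_left (Subgroup.card_dvd_of_le hKE) hEcop, Or.inr hσs⟩
  -- an `E`-invariant Sylow `q`-subgroup `S` of `M_σ`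
  obtain ⟨S, hS⟩ := hactE.exists_invariant_sylSet q
  -- a `K`-invariant Sylow `q`-subgroup `S₁ ≥ Q₀`
  have hKQ₀ : K ≤ Subgroup.normalizer (Q₀ : Set G) := by
    intro k hk
    rw [Subgroup.mem_normalizer_iff]
    intro x
    have hcomm : ∀ y ∈ Q₀, k * y * k⁻¹ = y := by
      intro y hy
      have := Subgroup.mem_centralizer_iff.mp (hQ₀ hy).2 k hk
      rw [this, mul_inv_cancel_right]
    constructor
    · intro hx; rw [hcomm x hx]; exact hx
    · intro hx
      have := hcomm _ hx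
      have e : x = k⁻¹ * (k * x * k⁻¹) * k := by group
      have h2 : k * (k * x * k⁻¹) * k⁻¹ = k * x * k⁻¹ := hcomm _ hx
      have h3 : k * x * k⁻¹ = x := by
        have := mul_left_cancel (mul_right_cancel h2)
        exact this
      rw [← h3]; exact hx
  obtain ⟨S₁, hQ₀S₁, hKS₁⟩ := hactK.exists_invariant_sylSet_ge _ Q₀ rfl hQ₀σ hQ₀p hKQ₀
  obtain ⟨c, hc, hcS⟩ := hactK.exists_conj_sylSet S₁ S hKS₁ (hKE.trans hS)
  obtain ⟨hcσ, hcK⟩ := Subgroup.mem_inf.mp hc
  -- `Q₁ = c Q₀ c⁻¹ ≤ S`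
  have hSp : IsPGroup q S.1 := IsPGroup.of_card S.2.2
  have hQ₁S : ∀ x ∈ Q₀, c * x * c⁻¹ ∈ S.1 := by
    intro x hx
    rw [← hcS]
    exact ⟨x, hQ₀S₁ hx, rfl⟩
  have hUM' : U ≤ ⁅M, M⁆ := by
    obtain ⟨k0, hk0, hk01⟩ := exists_ne_one_of_ne_bot hK1
    exact U_le_commutator' hUH.1 hK.1 hKU hk0 (hfree k0 hk0 hk01)
  have hcommSU := commute_of_not_mem_beta hG hM hq hqσ hqβ hSp S.2.1 hUM'
    (fun p hp hd => (hUH.2.1 p hp hd).2.2) (hUE.trans hS)
  -- `Q₁ ≤ C_{M_σ}(E) ≤ (M_σ)'`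
  have h26 := (Cfsg.Agent.S1426.result hG M hM E hE).1
  have hder_norm : ∀ y ∈ ⁅sigmaCore M, sigmaCore M⁆, c⁻¹ * y * c ∈ ⁅sigmaCore M, sigmaCore M⁆ := by
    intro y hy
    have hn : (⁅sigmaCore M, sigmaCore M⁆).Normal → True := fun _ => trivial
    have hcn : c⁻¹ ∈ Subgroup.normalizer ((⁅sigmaCore M, sigmaCore M⁆ : Subgroup G) : Set G) := by
      apply Cfsg.Agent.Lib.Helper1.le_normalizer_commutator_left (K := sigmaCore M) (A := sigmaCore M) |>.trans' ?_ |> fun h => h (inv_mem hcσ)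
      exact le_rfl
    have := (Subgroup.mem_normalizer_iff.mp hcn y).mp hy
    simpa using this
  intro x hx
  have hx1 : c * x * c⁻¹ ∈ sigmaCore M ⊓ Subgroup.centralizer (E : Set G) := by
    refine Subgroup.mem_inf.mpr ⟨S.2.1 (hQ₁S x hx), ?_⟩
    rw [Subgroup.mem_centralizer_iff]
    intro e he
    -- `e ∈ U ⊔ K`: closure induction
    have hcent : c * x * c⁻¹ ∈ Subgroup.centralizer ((U : Set G)) ⊓ Subgroup.centralizer ((K : Set G)) := by
      refine Subgroup.mem_inf.mpr ⟨?_, ?_⟩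
      · rw [Subgroup.mem_centralizer_iff]
        intro u hu
        exact (hcommSU _ (hQ₁S x hx) u hu).symm
      · rw [Subgroup.mem_centralizer_iff]
        intro k hk
        have h1 : k * x = x * k := Subgroup.mem_centralizer_iff.mp (hQ₀ hx).2 k hk
        have h2 : k * c = c * k := Subgroup.mem_centralizer_iff.mp hcK k hk
        have h3 : k * c⁻¹ = c⁻¹ * k := by
          have : c⁻¹ * (k * c) * c⁻¹ = c⁻¹ * (c * k) * c⁻¹ := by rw [h2]
          simpa [mul_assoc] using this.symm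
        calc k * (c * x * c⁻¹) = (k * c) * x * c⁻¹ := by group
          _ = c * (k * x) * c⁻¹ := by rw [h2]; group
          _ = c * x * (k * c⁻¹) := by rw [h1]; group
          _ = c * x * c⁻¹ * k := by rw [h3]; group
    have hle : E ≤ Subgroup.centralizer ({c * x * c⁻¹} : Set G) := by
      rw [hEdef, sup_le_iff]
      constructor
      · intro u hu
        rw [Subgroup.mem_centralizer_singleton_iff]
        exact Subgroup.mem_centralizer_iff.mp hcent.1 u hu
      · intro k hk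
        rw [Subgroup.mem_centralizer_singleton_iff]
        exact Subgroup.mem_centralizer_iff.mp hcent.2 k hk
    exact Subgroup.mem_centralizer_singleton_iff.mp (hle he)
  have hx2 := h26 hx1
  have hx3 := hder_norm _ hx2
  have e : c⁻¹ * (c * x * c⁻¹) * c = x := by group
  rwa [e] at hx3


/-- Consequence of the key claim and `S1423` (this is B&G 13.6 for `K*`): for `Q₀ ≤ K*` of prime
order `q`, `C_G(Q₀) ≤ M`, `M` is the only maximal subgroup containing `C_G(Q₀)`, and every Sylow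
`q`-subgroup of `M_σ` lies in `M` only. -/
theorem uniq_of_le_Kstar (hG : IsMinSimpleOddOrder G) (h30 : P1430 G) {M : Subgroup G}
    (hM : IsCoatom M) {K : Subgroup G} (hK : IsPiHallOf (kappa M) K M) (hK1 : K ≠ ⊥)
    {q : ℕ} (hq : q.Prime) {Q₀ : Subgroup G}
    (hQ₀ : Q₀ ≤ sigmaCore M ⊓ Subgroup.centralizer (K : Set G)) (hcard : Nat.card Q₀ = q) :
    q ∈ sigma M ∧
    (Subgroup.centralizer (Q₀ : Set G) ≤ M ∧
      ∀ L : Subgroup G, IsCoatom L → Subgroup.centralizer (Q₀ : Set G) ≤ L → L = M) ∧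
    ∀ P : Sylow q ↥(sigmaCore M),
      InUniqueMaximal ((P : Subgroup ↥(sigmaCore M)).map (sigmaCore M).subtype) ∧
      (P : Subgroup ↥(sigmaCore M)).map (sigmaCore M).subtype ≤ M := by
  haveI : Fact q.Prime := ⟨hq⟩
  have hQ₀σ : Q₀ ≤ sigmaCore M := hQ₀.trans inf_le_left
  have hqd : q ∣ Nat.card (sigmaCore M) := by
    rw [← hcard]; exact Subgroup.card_dvd_of_le hQ₀σ
  have hqσ : q ∈ sigma M := mem_sigma_of_dvd_card_sigmaCore hG hM hq hqd
  have hkey := key_claim hG h30 hM hK hK1 hq hQ₀ hcard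
  have hQ₀M : Q₀ ≤ M := hQ₀σ.trans (sigmaCore_le M)
  refine ⟨hqσ, ?_, ?_⟩
  · obtain ⟨P⟩ := (inferInstance : Nonempty (Sylow q ↥(sigmaCore M)))
    exact (Cfsg.Agent.S1423.result hG M hM q hqσ Q₀ hQ₀M hcard P hkey).1
  · intro P
    exact (Cfsg.Agent.S1423.result hG M hM q hqσ Q₀ hQ₀M hcard P hkey).2

/-- a nontrivial subgroup contains a subgroup of prime order (with the prime). -/
theorem exists_prime_card_le' {K : Subgroup G} (hK : K ≠ ⊥) :
    ∃ (X : Subgroup G) (p : ℕ), p.Prime ∧ X ≤ K ∧ Nat.card X = p := by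
  obtain ⟨X, hXK, hXp⟩ := exists_prime_card_le hK
  exact ⟨X, Nat.card X, hXp, hXK, rfl⟩

/-- `g ∈ M` as soon as `g Q₀ g⁻¹ ≤ M`, for `Q₀ ≤ K*` of prime order. -/
theorem mem_of_conj_le (hG : IsMinSimpleOddOrder G) (h30 : P1430 G) {M : Subgroup G}
    (hM : IsCoatom M) {K : Subgroup G} (hK : IsPiHallOf (kappa M) K M) (hK1 : K ≠ ⊥)
    {q : ℕ} (hq : q.Prime) {Q₀ : Subgroup G}
    (hQ₀ : Q₀ ≤ sigmaCore M ⊓ Subgroup.centralizer (K : Set G)) (hcard : Nat.card Q₀ = q)
    {g : G} (hg : Q₀.map (MulAut.conj g).toMonoidHom ≤ M) : g ∈ M := by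
  haveI : Fact q.Prime := ⟨hq⟩
  obtain ⟨hqσ, ⟨hC, -⟩, -⟩ := uniq_of_le_Kstar hG h30 hM hK hK1 hq hQ₀ hcard
  have hQ₀p : IsPGroup q Q₀ := IsPGroup.of_card (n := 1) (by rw [hcard, pow_one])
  have hQ₀1 : Q₀ ≠ ⊥ := by
    intro h
    rw [h, Subgroup.card_bot] at hcard
    exact hq.one_lt.ne hcard
  have hQ₀M : Q₀ ≤ M := (hQ₀.trans inf_le_left).trans (sigmaCore_le M)
  obtain ⟨m, hm, c, hc, rfl⟩ :=
    (Cfsg.Agent.S1404.result hG M hM q hqσ Q₀ hQ₀p hQ₀1 hQ₀M).1 g hg
  exact M.mul_mem hm (hC hc)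

/-- a subgroup with a cyclic Sylow `r`-subgroup has `r`-rank at most one. -/
theorem pRankLE_one_of_cyclic_sylow {r : ℕ} (hr : r.Prime) {M : Subgroup G} (T : Sylow r ↥M)
    (hTc : IsCyclic T) : PRankLE r 1 ↥M := by
  haveI : Fact r.Prime := ⟨hr⟩
  by_contra h
  have hT := isSylowIn_of_sylow T
  apply not_pRankLE_sylow_of_not_pRankLE hT h
  have hc : IsCyclic ↥((T : Subgroup M).map M.subtype) := by
    have e := (T : Subgroup M).equivMapOfInjective M.subtype M.subtype_injective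
    exact isCyclic_of_surjective e e.surjective
  exact pRankLE_one_of_isCyclic hr hc

/-- **S1431 from the frozen S1430.** -/
theorem p1431_of_p1430 (hG : IsMinSimpleOddOrder G) (h30 : P1430 G) : P1431 G := by
  intro M hM K hK hK1
  set Ks : Subgroup G := sigmaCore M ⊓ Subgroup.centralizer (K : Set G) with hKs
  obtain ⟨ha, ⟨U, hUc, hUH, hKU, hfree⟩, hc⟩ := h30 M hM K hK hK1
  refine ⟨?_, ?_, ?_, ?_⟩
  · -- (1)
    intro g hg
    by_contra hne
    obtain ⟨Q₀, q, hq, hQ₀le, hcard⟩ := exists_prime_card_le' hne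
    have hQ₀ : Q₀ ≤ Ks := hQ₀le.trans inf_le_left
    have hQ₀g : Q₀ ≤ M.map (MulAut.conj g).toMonoidHom := hQ₀le.trans inf_le_right
    have hconj : Q₀.map (MulAut.conj g⁻¹).toMonoidHom ≤ M := by
      rintro _ ⟨x, hx, rfl⟩
      obtain ⟨m, hm, hmx⟩ := hQ₀g hx
      have e : (MulAut.conj g⁻¹).toMonoidHom x = m := by
        rw [← hmx]
        simp [MulAut.conj_apply, mul_assoc]
      rw [e]; exact hm
    have := mem_of_conj_le hG h30 hM hK hK1 hq hQ₀ hcard hconj
    exact hg (by simpa using M.inv_mem this)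
  · -- (2)
    intro g hgM hgN
    by_contra hne
    obtain ⟨X, hXle, hXp⟩ := exists_prime_card_le hne
    have hXK : X ≤ K := hXle.trans inf_le_left
    set K' : Subgroup G := K.map (MulAut.conj g).toMonoidHom with hK'
    have hXK' : X ≤ K' := hXle.trans inf_le_right
    -- `K'` is again a Hall `κ(M)`-subgroup
    have hK'card : Nat.card K' = Nat.card K :=
      Subgroup.card_map_of_injective (MulAut.conj g).injective
    have hK'M : K' ≤ M := by
      rintro _ ⟨k, hk, rfl⟩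
      have : (MulAut.conj g).toMonoidHom k = g * k * g⁻¹ := by simp [MulAut.conj_apply]
      rw [this]
      exact M.mul_mem (M.mul_mem hgM (hK.1 hk)) (M.inv_mem hgM)
    have hK'H : IsPiHallOf (kappa M) K' M := by
      refine ⟨hK'M, ?_, ?_⟩
      · intro p hp hd
        rw [hK'card] at hd
        exact hK.2.1 p hp hd
      · intro p hp hpκ hd
        apply hK.2.2 p hp hpκ
        have e1 := Cfsg.Agent.Lib.Helper12.card_mul_relIndex_eq hK.1
        have e2 := Cfsg.Agent.Lib.Helper12.card_mul_relIndex_eq hK'M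
        rw [hK'card] at e2
        have : K'.relIndex M = K.relIndex M :=
          Nat.eq_of_mul_eq_mul_left Nat.card_pos (e2.trans e1.symm)
        rwa [this] at hd
    have hK'1 : K' ≠ ⊥ := by
      intro h
      apply hK1
      apply Subgroup.card_eq_one.mp
      rw [← hK'card, h, Subgroup.card_bot]
    obtain ⟨-, -, hc'⟩ := h30 M hM K' hK'H hK'1
    have h1 := (hc X hXK hXp)
    have h2 := (hc' X hXK' hXp)
    -- `N := N_M(K) = N_M(X) = N_M(K')`
    have hN : M ⊓ Subgroup.normalizer (K : Set G) = M ⊓ Subgroup.normalizer (K' : Set G) := by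
      rw [h1.2.1, ← h1.1, h2.1, ← h2.2.1]
    have hK'N : K' ≤ M ⊓ Subgroup.normalizer (K : Set G) := by
      rw [hN]; exact le_inf hK'M Subgroup.le_normalizer
    -- `K' ≤ K` by coprimality of `|K'|` and `|N : K|`
    have hNK : M ⊓ Subgroup.normalizer (K : Set G) = K ⊔ Ks := h1.2.1
    have hKsK : Ks ≤ Subgroup.normalizer (K : Set G) := by
      intro x hx
      have hxc := hx.2
      rw [Subgroup.mem_normalizer_iff]
      intro k
      have hcomm : ∀ y ∈ K, x * y * x⁻¹ = y := by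
        intro y hy
        have := Subgroup.mem_centralizer_iff.mp hxc y hy
        rw [← this, mul_inv_cancel_right]
      constructor
      · intro hk; rw [hcomm k hk]; exact hk
      · intro hk
        have h2' : x * (x * k * x⁻¹) * x⁻¹ = x * k * x⁻¹ := hcomm _ hk
        have h3 : x * k * x⁻¹ = k := mul_left_cancel (mul_right_cancel h2')
        rw [← h3]; exact hk
    have hKscop : (Nat.card K).Coprime (Nat.card Ks) := by
      apply Nat.coprime_of_dvd
      intro p hp h1' h2'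
      have hpσ := mem_sigma_of_dvd_card_sigmaCore hG hM hp
        (h2'.trans (Subgroup.card_dvd_of_le inf_le_left))
      exact (hK.2.1 p hp h1').2.2.1 hpσ
    have hrel : (Nat.card K').Coprime (K.relIndex (K ⊔ Ks)) := by
      have h3 := Cfsg.H5.card_sup_mul_card_inf hKsK
      rw [sup_comm] at h3
      have hinf : Ks ⊓ K = ⊥ := inf_eq_bot_of_coprime hKscop.symm
      rw [hinf, Subgroup.card_bot, mul_one] at h3
      have e1 := Cfsg.Agent.Lib.Helper12.card_mul_relIndex_eq (le_sup_left : K ≤ K ⊔ Ks)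
      have : K.relIndex (K ⊔ Ks) = Nat.card Ks := by
        apply Nat.eq_of_mul_eq_mul_left (Nat.card_pos (α := K))
        rw [e1, h3, mul_comm]
      rw [this, hK'card]; exact hKscop
    have hK'K : K' ≤ K := by
      apply le_of_coprime_relIndex (X := K ⊔ Ks) _ (hNK ▸ hK'N) hrel
      rw [← hNK]; exact inf_le_right
    have hKK' : K' = K := by
      apply Subgroup.eq_of_le_of_card_ge hK'K
      rw [hK'card]
    have hgnorm : g ∈ Subgroup.normalizer (K : Set G) := by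
      rw [← Cfsg.Agent.Lib.Helper1.conj_smul_eq_self_iff_mem_normalizer]
      exact hKK'
    exact hgN (hNK ▸ Subgroup.mem_inf.mpr ⟨hgM, hgnorm⟩)
  · -- (3)
    intro p hp hpd S
    haveI : Fact p.Prime := ⟨hp⟩
    obtain ⟨x, hx⟩ := exists_prime_orderOf_dvd_card' (G := Ks) p hpd
    set Q₀ : Subgroup G := Subgroup.zpowers (x : G) with hQ₀def
    have hQ₀ : Q₀ ≤ Ks := Subgroup.zpowers_le.mpr x.2
    have hcard : Nat.card Q₀ = p := by
      rw [hQ₀def, Nat.card_zpowers, Subgroup.orderOf_coe, hx]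
    obtain ⟨hpσ, -, hS⟩ := uniq_of_le_Kstar hG h30 hM hK hK1 hp hQ₀ hcard
    refine ⟨(hS S).1, (hS S).2, ?_⟩
    intro hSle
    set S' : Subgroup G := (S : Subgroup ↥(sigmaCore M)).map (sigmaCore M).subtype with hS'
    obtain ⟨X, r, hr, hXK, hXr⟩ := exists_prime_card_le' hK1
    haveI : Fact r.Prime := ⟨hr⟩
    have hrκ : r ∈ kappa M := hK.2.1 r hr (hXr ▸ Subgroup.card_dvd_of_le hXK)
    -- `N_G(X) ≥ S'`
    have hS'N : S' ≤ Subgroup.normalizer (X : Set G) := by
      intro s hs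
      have hsc : s ∈ Subgroup.centralizer (K : Set G) := (hSle hs).2
      rw [Subgroup.mem_normalizer_iff]
      intro k
      have hcomm : ∀ y ∈ X, s * y * s⁻¹ = y := by
        intro y hy
        have := Subgroup.mem_centralizer_iff.mp hsc y (hXK hy)
        rw [← this, mul_inv_cancel_right]
      constructor
      · intro hk; rw [hcomm k hk]; exact hk
      · intro hk
        have h2' : s * (s * k * s⁻¹) * s⁻¹ = s * k * s⁻¹ := hcomm _ hk
        have h3 : s * k * s⁻¹ = k := mul_left_cancel (mul_right_cancel h2')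
        rw [← h3]; exact hk
    have hX1 : X ≠ ⊥ := by
      intro h
      rw [h, Subgroup.card_bot] at hXr
      exact hr.one_lt.ne hXr
    have hNtop : Subgroup.normalizer (X : Set G) ≠ ⊤ := by
      intro h
      have hXn : X.Normal := Subgroup.normalizer_eq_top_iff.mp h
      haveI := hG.2.1
      rcases hXn.eq_bot_or_eq_top with h' | h'
      · exact hX1 h'
      · exact hM.1 (top_le_iff.mp (h' ▸ hXK.trans hK.1))
    obtain ⟨L, hL, hNL⟩ := exists_isCoatom_ge hNtop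
    obtain ⟨M', ⟨hM'1, hM'2⟩, huniq⟩ := (hS S).1
    have hLM : L = M := by
      rw [huniq L ⟨hL, hS'N.trans hNL⟩, huniq M ⟨hM, (hS S).2⟩]
    have hNM : Subgroup.normalizer (X : Set G) ≤ M := hLM ▸ hNL
    have h09 := (Cfsg.Agent.S1409.result hG M hM r hrκ.2.2.1 X hXr hNM).1.2
    apply h09
    obtain ⟨T⟩ := (inferInstance : Nonempty (Sylow r ↥M))
    have hTc : IsCyclic T := (hrκ.2.2.2 T).1
    -- rank of `M` at the prime `r`
    exact Cfsg.Agent.Lib.Helper25.BG1431.pRankLE_one_of_cyclic_sylow hr T hTc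
  · -- (4)
    intro Y hY hYK
    obtain ⟨Q₀, q, hq, hQ₀le, hcard⟩ := exists_prime_card_le' hYK
    have hQ₀ : Q₀ ≤ Ks := hQ₀le.trans inf_le_right
    have hQ₀Y : Q₀ ≤ Y := hQ₀le.trans inf_le_left
    have hY1 : Y ≠ ⊥ := by
      intro h
      apply hYK
      rw [h, bot_inf_eq]
    obtain ⟨g, hg⟩ := Cfsg.Agent.S1425.result hG M hM Y hY1 hY
    have hconj : Q₀.map (MulAut.conj g).toMonoidHom ≤ M :=
      ((Subgroup.map_mono hQ₀Y).trans hg).trans (sigmaCore_le M)
    have hgM := mem_of_conj_le hG h30 hM hK hK1 hq hQ₀ hcard hconj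
    intro y hy
    have h1 : g * y * g⁻¹ ∈ sigmaCore M := hg ⟨y, hy, by simp [MulAut.conj_apply]⟩
    have hn := le_normalizer_sigmaCore M (M.inv_mem hgM)
    have h2 := (Subgroup.mem_normalizer_iff.mp hn (g * y * g⁻¹)).mp h1
    have e : g⁻¹ * (g * y * g⁻¹) * g⁻¹⁻¹ = y := by group
    rwa [e] at h2

end Cfsg.Agent.Lib.Helper25.BG1431
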