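import Mathlib
import Cfsg.Agent.Lib.Helper19.BG14D
import Cfsg.Agent.Lib.Helper29.BG1430A

/-!
B & G, Section 13/14, "Case II" (`E₃` not regular on `M_σ`), exclusion of (II-α), Steps 1 and 2
of `notes/BG_S1430_C1_and_13_6_helper21.md`, section C1.

Setting (`CII` of helper19's `BG14C`): `E` a complement of `M_σ` in `M`, `E₃` a Hall
`τ₃(M)`-subgroup of `E`, `P ≤ E₃` of prime order, `H` maximal containing `N_G(P)`,
`D = M_σ ∩ C_G(E₃)`.  Let `R ≤ E` have prime order `r ∈ τ₁(M)` and not centralize `P`.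

* `step1`: `r ∉ σ(H)`.
* `step2`: `r ∈ τ₁(H)` (needs `D ≠ 1`).
-/

set_option autoImplicit false
set_option linter.unusedVariables false
set_option linter.unusedSectionVars false
set_option linter.style.longLine false
set_option linter.unusedSimpArgs false
set_option linter.style.haveILetI false

open Cfsg
open scoped commutatorElement
open Cfsg.Agent.Lib.Helper10.BG
open Cfsg.Agent.Lib.Helper10
open Cfsg.Agent.Lib.Helper9.BGExc
open Cfsg.Agent.Lib.Helper19.BG12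
open Cfsg.Agent.Lib.Helper19.BGCompl
open Cfsg.Agent.Lib.Helper29.BG1212
open Cfsg.Agent.Lib.Helper29.BG13K
open Cfsg.Agent.Lib.Helper7.BG13
open Cfsg.Agent.Lib.Helper19.BG14C
open Cfsg.Agent.Lib.Helper19.BG14D

namespace Cfsg.Agent.Lib.Helper25.BG14A1

variable {G : Type*} [Group G] [Finite G]

variable {M E E₃ P H R : Subgroup G}

/-- **Step 1**: `r ∉ σ(H)`. -/
theorem step1 (hG : IsMinSimpleOddOrder G) (hC1 : C1 G) (hM : IsCoatom M)
    (hE : IsComplIn E (sigmaCore M) M) (hE₃ : IsPiHallOf (tau3 M) E₃ E)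
    (hPE₃ : P ≤ E₃) (hP : (Nat.card P).Prime) (hH : IsCoatom H)
    (hNH : Subgroup.normalizer (P : Set G) ≤ H)
    (hRE : R ≤ E) (hr : Nat.card R ∈ tau1 M)
    (hRP : ¬ R ≤ Subgroup.centralizer (P : Set G)) : Nat.card R ∉ sigma H := by
  intro hrH
  have hRp : (Nat.card R).Prime := hr.1
  haveI : Fact (Nat.card R).Prime := ⟨hRp⟩
  have hS0 := not_le_of_not_centralize hG hM hE hE₃ hPE₃ hP hRE hRp hRP
  have hY1 : sigmaCore M ⊓ Subgroup.centralizer (R : Set G) ≠ ⊥ := by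
    intro h
    apply hS0
    rw [h]
    exact bot_le
  obtain ⟨L, hL, hNL⟩ := exists_coatom_normalizer_ge hG hRp
  have hRM : R ≤ M := hRE.trans hE.1
  have hrL : Nat.card R ∈ sigma L := hC1 M L R hM hL _ (Or.inl hr) hRM rfl hY1 hNL
  obtain ⟨g, hg⟩ := (Cfsg.Agent.S1378.result hG).2 H L hH hL ⟨_, hrH, hrL⟩
  have hRH : R ≤ H := hRE.trans (compl_le hG hM hE hE₃ hPE₃ hNH)
  have hRpg : IsPGroup (Nat.card R) R := isPGroup_of_card_prime hRp
  have hR1 : R ≠ ⊥ := ne_bot_of_card_prime rfl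
  obtain ⟨h1404, -⟩ := Cfsg.Agent.S1404.result hG H hH _ hrH R hRpg hR1 hRH
  have hRL : R ≤ L := Subgroup.le_normalizer.trans hNL
  obtain ⟨m, hm, c, hc, hgmc⟩ := h1404 g⁻¹ (by
    show cj g⁻¹ R ≤ H
    rw [cj_le_iff, inv_inv]
    rw [hg] at hRL
    exact hRL)
  have hg' : g = c⁻¹ * m⁻¹ := by
    have h1 : g = (g⁻¹)⁻¹ := (inv_inv g).symm
    rw [h1, hgmc]
    group
  have h1 : L = cj c⁻¹ H := by
    rw [hg, hg']
    show cj (c⁻¹ * m⁻¹) H = cj c⁻¹ H
    rw [← cj_cj, cj_eq_self_of_mem (H.inv_mem hm)]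
  have h2 : cj c L = H := by rw [h1, cj_cj_inv]
  have h3 : cj c L = L :=
    cj_eq_self_of_mem (hNL (Subgroup.centralizer_le_normalizer _ hc))
  have h4 : L = H := h3.symm.trans h2
  apply hS0
  have hYH : sigmaCore M ⊓ Subgroup.centralizer (R : Set G) ≤ sigmaCore M ⊓ H := by
    apply le_inf inf_le_left
    refine inf_le_right.trans ((Subgroup.centralizer_le_normalizer _).trans ?_)
    rw [← h4]
    exact hNL
  rw [sigmaCore_inf_eq hG hM hE hE₃ hPE₃ hP hH hNH] at hYH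
  exact hYH.trans (D_le_centralizer hPE₃)

/-- **Step 2**: `r ∈ τ₁(H)`. -/
theorem step2 (hG : IsMinSimpleOddOrder G) (hC1 : C1 G) (hM : IsCoatom M)
    (hE : IsComplIn E (sigmaCore M) M) (hE₃ : IsPiHallOf (tau3 M) E₃ E)
    (hD : sigmaCore M ⊓ Subgroup.centralizer (E₃ : Set G) ≠ ⊥)
    (hPE₃ : P ≤ E₃) (hP : (Nat.card P).Prime) (hH : IsCoatom H)
    (hNH : Subgroup.normalizer (P : Set G) ≤ H)
    (hRE : R ≤ E) (hr : Nat.card R ∈ tau1 M)
    (hRP : ¬ R ≤ Subgroup.centralizer (P : Set G)) : Nat.card R ∈ tau1 H := by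
  by_contra hr1
  have hRp : (Nat.card R).Prime := hr.1
  haveI : Fact (Nat.card R).Prime := ⟨hRp⟩
  have hs1 : Nat.card R ∉ sigma H := step1 hG hC1 hM hE hE₃ hPE₃ hP hH hNH hRE hr hRP
  -- `R` centralizes `D`
  have hRD : R ≤ Subgroup.centralizer
      ((sigmaCore M ⊓ Subgroup.centralizer (E₃ : Set G) : Subgroup G) : Set G) := by
    by_contra hnc
    exact hr1 (mem_tau1_of_not_centralize hG hM hE hE₃ hPE₃ hP hH hNH hRE rfl hr hnc)
  obtain ⟨X, hXD, hX⟩ := exists_le_card_prime hD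
  haveI : Fact (Nat.card X).Prime := ⟨hX⟩
  have hqd : Nat.card X ∣ Nat.card ↥(sigmaCore M ⊓ Subgroup.centralizer (E₃ : Set G)) :=
    Subgroup.card_dvd_of_le hXD
  obtain ⟨hqM, hqH⟩ := D_primes hG hM hE hE₃ hPE₃ hP hH hNH _ hX hqd
  have h13 := mem_tau13 hG hC1 hM hE hE₃ hD hPE₃ hP hH hNH _ hX hqd
  have hRH : R ≤ H := hRE.trans (compl_le hG hM hE hE₃ hPE₃ hNH)
  have hXH : X ≤ H := hXD.trans (D_le hPE₃ hNH)
  have hRX : R ≤ Subgroup.centralizer (X : Set G) := hRD.trans (Subgroup.centralizer_le hXD)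
  have hXR : X ≤ Subgroup.centralizer (R : Set G) := by
    rw [Subgroup.le_centralizer_iff]
    exact hRX
  have hX1 : X ≠ ⊥ := ne_bot_of_card_prime rfl
  have hPσ : P ≤ sigmaCore H := le_sigmaCore hG hC1 hM hE hE₃ hD hPE₃ hP hH hNH
  have hPX : P ≤ Subgroup.centralizer (X : Set G) := by
    rw [Subgroup.le_centralizer_iff]
    exact hXD.trans (D_le_centralizer hPE₃)
  -- a complement of `H_σ` containing `R X`
  have hcard : Nat.card ↥(R ⊔ X) ∣ Nat.card R * Nat.card X := by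
    have := Cfsg.H5.card_sup_mul_card_inf
      (hRX.trans (Subgroup.centralizer_le_normalizer (X : Set G)))
    exact Dvd.intro _ this
  have hcop : (Nat.card ↥(R ⊔ X)).Coprime (Nat.card (sigmaCore H)) := by
    apply coprime_card_sigmaCore_of hG hH
    intro q hq hd
    rcases (Nat.Prime.dvd_mul hq).mp (hd.trans hcard) with h | h
    · rw [(Nat.prime_dvd_prime_iff_eq hq hRp).mp h]
      exact hs1
    · rw [(Nat.prime_dvd_prime_iff_eq hq hX).mp h]
      exact hqH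
  obtain ⟨EH, hEH, hRXEH⟩ := exists_isComplIn_sigmaCore_ge hG hH (sup_le hRH hXH) hcop
  have hREH : R ≤ EH := le_sup_left.trans hRXEH
  have hXEH : X ≤ EH := le_sup_right.trans hRXEH
  apply hRP
  rw [Subgroup.le_centralizer_iff]
  rcases h13 with hq1 | hq3
  · -- `q ∈ τ₁(H)`: 13.3 in `H`
    have h28 := Cfsg.Agent.S1428.result hG H hH EH hEH _ hq1 X hXEH rfl R
      (le_inf hREH hRX) hRp
    exact ((le_inf hPσ hPX).trans h28).trans inf_le_right
  · -- `q ∈ τ₃(H)`: `H` is in Case II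
    obtain ⟨EH₃, hEH₃⟩ := Cfsg.Agent.Lib.Helper29.BG1430Asm.exists_hall hG (E := EH) (by
      intro h
      rw [h] at hEH
      exact hH.1 (top_le_iff.mp hEH.1)) (tau3 H)
    obtain ⟨hXEH₃, -, -, hPc, hDH⟩ :=
      caseII_of_tau3 hG hC1 hM hE hE₃ hD hPE₃ hP hH hNH hXD hX hq3 hEH hEH₃ hXEH
    have hEH₃1 : EH₃ ≠ ⊥ := by
      intro h
      apply hX1
      rw [eq_bot_iff, ← h]
      exact hXEH₃
    have hr2 : Nat.card R ∉ tau2 H :=
      not_mem_tau2_of_tau3_nonregular hG hH hEH hEH₃ hEH₃1 hDH _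
    have hr3 : Nat.card R ∈ tau3 H := by
      rcases Cfsg.Agent.Lib.Helper29.BG1430Asm.mem_tau_of_not_sigma hG hH hRp
        (Subgroup.card_dvd_of_le hRH) hs1 with h | h | h
      · exact absurd h hr1
      · exact absurd h hr2
      · exact h
    obtain ⟨-, -, h3⟩ := Cfsg.Agent.S1415.result hG H hH EH hEH
    obtain ⟨-, -, hEHn⟩ := h3 EH₃ hEH₃
    have hREH₃ : R ≤ EH₃ := by
      apply Cfsg.Agent.Lib.Helper3.BG14.le_of_coprime_relIndex hEHn hREH
      exact (Nat.Prime.coprime_iff_not_dvd hRp).mpr (hEH₃.2.2 _ hRp hr3)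
    exact (hPc.trans inf_le_right).trans (Subgroup.centralizer_le hREH₃)

end Cfsg.Agent.Lib.Helper25.BG14A1
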