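import Mathlib
import Cfsg.Agent.S1427
import Cfsg.Agent.S1428
import Cfsg.Agent.Lib.Helper25.BG1431
import Cfsg.Agent.Lib.Helper19.BGCompl

/-!
# Helper25: B&G Theorem 13.6 for `τ₁` (`cent_uniq_of_tau1`)

`M` maximal, `E` a complement of `M_σ`, `P ≤ E` of order `p ∈ τ₁(M)`, `X ≤ C_{M_σ}(P)` of prime
order `q`.  Then `q ∈ β(M)` or `X ≤ (M_σ)'`, hence (`S1423`) `M` is the unique maximal subgroup
containing `C_G(X)` and every Sylow `q`-subgroup of `M_σ` lies in `M` only.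

The `τ₂`-elements of `C_E(P)` are handled through the hypothesis `hτ2` (to be discharged by the
abelian / nonabelian `τ₂` lemmas of helper9 / helper22).
-/

set_option autoImplicit false
set_option linter.unusedSectionVars false
set_option linter.style.haveILetI false
set_option linter.unusedVariables false

open Cfsg
open scoped commutatorElement
open Cfsg.Agent.Lib.Helper10.BG
open Cfsg.Agent.Lib.Helper9.BGExc
open Cfsg.Agent.Lib.Helper19.BGCompl
open Cfsg.Agent.Lib.Helper1 (CoprimeAct)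
open Cfsg.Agent.Lib.Helper25.BG1431

namespace Cfsg.Agent.Lib.Helper25.BG136

variable {G : Type*} [Group G] [Finite G]

/-- the hypothesis on the `τ₂`-elements of `C_E(P)`: they centralize `C_{M_σ}(P)`. -/
def Tau2Hyp (M E P : Subgroup G) : Prop :=
  ∀ s ∈ tau2 M, ∀ t ∈ E ⊓ Subgroup.centralizer (P : Set G), (∃ k : ℕ, orderOf t = s ^ k) →
    t ∈ Subgroup.centralizer ((sigmaCore M ⊓ Subgroup.centralizer (P : Set G) : Subgroup G) : Set G)

/-- `⁅E, E⁆ ≤ ⁅M, M⁆`-type facts: the order of `E'` is prime to `p ∈ τ₁(M)`. -/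
theorem not_dvd_card_commutator_of_tau1 {M E : Subgroup G} (hEM : E ≤ M) {p : ℕ}
    (hp : p ∈ tau1 M) : ¬ p ∣ Nat.card ↥⁅E, E⁆ := by
  intro hd
  apply hp.2.2.2.1
  exact hd.trans (Subgroup.card_dvd_of_le (Subgroup.commutator_mono hEM hEM))

/-- `N_E(P) = C_E(P)` for `P ≤ E` of order `p ∈ τ₁(M)`. -/
theorem normalizer_le_centralizer_of_tau1 {M E P : Subgroup G} (hEM : E ≤ M) {p : ℕ}
    [Fact p.Prime] (hp : p ∈ tau1 M) (hPE : P ≤ E) (hP : Nat.card P = p) :
    E ⊓ Subgroup.normalizer (P : Set G) ≤ Subgroup.centralizer (P : Set G) := by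
  intro e he
  rw [Subgroup.mem_centralizer_iff]
  intro a ha
  -- `⁅e, a⁆ ∈ P ⊓ E' = ⊥`
  have h1 : ⁅e, a⁆ ∈ P := by
    rw [commutatorElement_def]
    have h2 : e * a * e⁻¹ ∈ P := (Subgroup.mem_normalizer_iff.mp he.2 a).mp ha
    exact P.mul_mem h2 (P.inv_mem ha)
  have h2 : ⁅e, a⁆ ∈ ⁅E, E⁆ := Subgroup.commutator_mem_commutator he.1 (hPE ha)
  have hcop : (Nat.card P).Coprime (Nat.card ↥⁅E, E⁆) := by
    rw [hP]
    exact (Nat.Prime.coprime_iff_not_dvd Fact.out).mpr (not_dvd_card_commutator_of_tau1 hEM hp)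
  have h3 : ⁅e, a⁆ ∈ P ⊓ ⁅E, E⁆ := ⟨h1, h2⟩
  rw [inf_eq_bot_of_coprime hcop, Subgroup.mem_bot] at h3
  have h4 := commutatorElement_eq_one_iff_mul_comm.mp h3
  exact h4.symm

/-- `E = C_E(P) E'` for `P ≤ E` of order `p ∈ τ₁(M)`. -/
theorem exists_mul_mem_centralizer_of_tau1 {M E P : Subgroup G} (hEM : E ≤ M)
    (hEs : Group.IsSolvable E) {p : ℕ}
    [Fact p.Prime] (hp : p ∈ tau1 M) (hPE : P ≤ E) (hP : Nat.card P = p) {e : G} (he : e ∈ E) :
    ∃ u ∈ ⁅E, E⁆, e * u ∈ E ⊓ Subgroup.centralizer (P : Set G) := by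
  have hcop : (Nat.card P).Coprime (Nat.card ↥⁅E, E⁆) := by
    rw [hP]
    exact (Nat.Prime.coprime_iff_not_dvd Fact.out).mpr (not_dvd_card_commutator_of_tau1 hEM hp)
  have hE'E : ⁅E, E⁆ ≤ E := by
    rw [Subgroup.commutator_le]
    intro a ha b hb
    rw [commutatorElement_def]
    exact E.mul_mem (E.mul_mem (E.mul_mem ha hb) (E.inv_mem ha)) (E.inv_mem hb)
  have hnorm : P ≤ Subgroup.normalizer ((⁅E, E⁆ : Subgroup G) : Set G) :=
    hPE.trans Cfsg.Agent.Lib.Helper1.le_normalizer_commutator_left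
  have hPs : Group.IsSolvable P := by
    haveI := hEs
    exact Group.isSolvable_of_isSolvable_injective (Subgroup.inclusion_injective hPE)
  have hact : CoprimeAct P ⁅E, E⁆ := ⟨hnorm, hcop, Or.inl hPs⟩
  have hx : ∀ a ∈ P, e⁻¹ * (a * e * a⁻¹) ∈ ⁅E, E⁆ := by
    intro a ha
    have : e⁻¹ * (a * e * a⁻¹) = ⁅e⁻¹, a⁆ := by rw [commutatorElement_def]; group
    rw [this]
    exact Subgroup.commutator_mem_commutator (E.inv_mem he) (hPE ha)
  obtain ⟨u, hu, hn⟩ := hact.exists_mul_mem_normalizer e hx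
  have heu : e * u ∈ E := E.mul_mem he (hE'E hu)
  exact ⟨u, hu, heu, normalizer_le_centralizer_of_tau1 hEM hp hPE hP ⟨heu, hn⟩⟩

/-- **Core of 13.6.**  Under the hypotheses, `q ∈ β(M)` or `X ≤ (M_σ)'`. -/
theorem beta_or_le_commutator (hG : IsMinSimpleOddOrder G) {M E P : Subgroup G} (hM : IsCoatom M)
    (hE : IsComplIn E (sigmaCore M) M) {p : ℕ} [Fact p.Prime] (hp : p ∈ tau1 M) (hPE : P ≤ E)
    (hP : Nat.card P = p) (hτ2 : Tau2Hyp M E P) {q : ℕ} (hq : q.Prime) {X : Subgroup G}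
    (hX : X ≤ sigmaCore M ⊓ Subgroup.centralizer (P : Set G)) (hXq : Nat.card X = q) :
    q ∈ beta M ∨ X ≤ ⁅sigmaCore M, sigmaCore M⁆ := by
  haveI : Fact q.Prime := ⟨hq⟩
  by_cases hqβ : q ∈ beta M
  · exact Or.inl hqβ
  right
  haveI hMs : Group.IsSolvable M := isSolvable_of_ne_top hG hM.1
  have hσM : sigmaCore M ≤ M := sigmaCore_le M
  have hEM : E ≤ M := hE.1
  have hEtop : E ≠ ⊤ := fun h => hM.1 (top_le_iff.mp (h ▸ hEM))
  have hEs : Group.IsSolvable E := isSolvable_of_ne_top hG hEtop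
  have hσs : Group.IsSolvable (sigmaCore M) := by
    apply isSolvable_of_ne_top hG
    intro h
    exact hM.1 (top_le_iff.mp (h ▸ hσM))
  have hXσ : X ≤ sigmaCore M := hX.trans inf_le_left
  have hXp : IsPGroup q X := IsPGroup.of_card (n := 1) (by rw [hXq, pow_one])
  have hqd : q ∣ Nat.card (sigmaCore M) := by
    rw [← hXq]; exact Subgroup.card_dvd_of_le hXσ
  have hqσ : q ∈ sigma M := mem_sigma_of_dvd_card_sigmaCore hG hM hq hqd
  have hEcop : (Nat.card E).Coprime (Nat.card (sigmaCore M)) := compl_coprime hG hM hE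
  have hEnorm : E ≤ Subgroup.normalizer (sigmaCore M : Set G) :=
    hEM.trans (le_normalizer_sigmaCore M)
  have hactE : CoprimeAct E (sigmaCore M) := ⟨hEnorm, hEcop, Or.inr hσs⟩
  have hactP : CoprimeAct P (sigmaCore M) :=
    ⟨hPE.trans hEnorm, Nat.Coprime.coprime_dvd_left (Subgroup.card_dvd_of_le hPE) hEcop, Or.inr hσs⟩
  obtain ⟨S, hS⟩ := hactE.exists_invariant_sylSet q
  -- `P` normalizes `X`
  have hPX : P ≤ Subgroup.normalizer (X : Set G) := by
    intro k hk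
    rw [Subgroup.mem_normalizer_iff]
    intro x
    have hcomm : ∀ y ∈ X, k * y * k⁻¹ = y := by
      intro y hy
      have := Subgroup.mem_centralizer_iff.mp (hX hy).2 k hk
      rw [this, mul_inv_cancel_right]
    constructor
    · intro hx; rw [hcomm x hx]; exact hx
    · intro hx
      have h2 : k * (k * x * k⁻¹) * k⁻¹ = k * x * k⁻¹ := hcomm _ hx
      have h3 : k * x * k⁻¹ = x := mul_left_cancel (mul_right_cancel h2)
      rw [← h3]; exact hx
  obtain ⟨S₁, hXS₁, hPS₁⟩ := hactP.exists_invariant_sylSet_ge _ X rfl hXσ hXp hPX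
  obtain ⟨c, hc, hcS⟩ := hactP.exists_conj_sylSet S₁ S hPS₁ (hPE.trans hS)
  obtain ⟨hcσ, hcP⟩ := Subgroup.mem_inf.mp hc
  have hSp : IsPGroup q S.1 := IsPGroup.of_card S.2.2
  have hyS : ∀ x ∈ X, c * x * c⁻¹ ∈ S.1 := by
    intro x hx
    rw [← hcS]
    exact ⟨x, hXS₁ hx, rfl⟩
  -- `c x c⁻¹` centralizes `P`
  have hyP : ∀ x ∈ X, c * x * c⁻¹ ∈ Subgroup.centralizer (P : Set G) := by
    intro x hx
    rw [Subgroup.mem_centralizer_iff]
    intro k hk
    have h1 : k * x = x * k := Subgroup.mem_centralizer_iff.mp (hX hx).2 k hk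
    have h2 : k * c = c * k := Subgroup.mem_centralizer_iff.mp hcP k hk
    have h3 : k * c⁻¹ = c⁻¹ * k := by
      have : c⁻¹ * (k * c) * c⁻¹ = c⁻¹ * (c * k) * c⁻¹ := by rw [h2]
      simpa [mul_assoc] using this.symm
    calc k * (c * x * c⁻¹) = (k * c) * x * c⁻¹ := by group
      _ = c * (k * x) * c⁻¹ := by rw [h2]; group
      _ = c * x * (k * c⁻¹) := by rw [h1]; group
      _ = c * x * c⁻¹ * k := by rw [h3]; group
  -- `E'` centralizes `S`
  have hE'M' : ⁅E, E⁆ ≤ ⁅M, M⁆ := Subgroup.commutator_mono hEM hEM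
  have hE'E : ⁅E, E⁆ ≤ E := by
    rw [Subgroup.commutator_le]
    intro a ha b hb
    rw [commutatorElement_def]
    exact E.mul_mem (E.mul_mem (E.mul_mem ha hb) (E.inv_mem ha)) (E.inv_mem hb)
  have hE'σ : ∀ r : ℕ, r.Prime → r ∣ Nat.card ↥⁅E, E⁆ → r ∉ sigma M := fun r hr hd =>
    compl_not_mem_sigma hG hM hE hr (hd.trans (Subgroup.card_dvd_of_le hE'E))
  have hcommSE' := commute_of_not_mem_beta hG hM hq hqσ hqβ hSp S.2.1 hE'M' hE'σ (hE'E.trans hS)
  -- `C_E(P)` centralizes `c x c⁻¹`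
  have hodd : ∀ r : ℕ, r.Prime → r ∣ Nat.card E → r ≠ 2 := by
    intro r hr hd h2
    have h3 : 2 ∣ Nat.card G := (h2 ▸ hd).trans (Subgroup.card_subgroup_dvd_card E)
    exact (Nat.not_even_iff_odd.mpr hG.1) (even_iff_two_dvd.mpr h3)
  have hC₀ : ∀ x ∈ X, E ⊓ Subgroup.centralizer (P : Set G) ≤
      Subgroup.centralizer ({c * x * c⁻¹} : Set G) := by
    intro x hx
    set y := c * x * c⁻¹ with hy
    have hyσP : y ∈ sigmaCore M ⊓ Subgroup.centralizer (P : Set G) := ⟨S.2.1 (hyS x hx), hyP x hx⟩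
    apply le_of_forall_sylow_le
    intro r hr
    haveI : Fact r.Prime := ⟨hr⟩
    obtain ⟨Q, hQ⟩ := exists_isSylowIn r (E ⊓ Subgroup.centralizer (P : Set G))
    refine ⟨Q, hQ, ?_⟩
    by_cases hQ1 : Q = ⊥
    · rw [hQ1]; exact bot_le
    have hQE : Q ≤ E := hQ.le.trans inf_le_left
    have hrE : r ∣ Nat.card E := by
      have h1 : r ∣ Nat.card Q := by
        rcases hQ.isPGroup.card_eq_or_dvd with h | h
        · exact absurd (Subgroup.card_eq_one.mp h) hQ1
        · exact h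
      exact h1.trans (Subgroup.card_dvd_of_le hQE)
    have hrσ : r ∉ sigma M := compl_not_mem_sigma hG hM hE hr hrE
    by_cases hr1 : PRankLE r 1 ↥M
    · -- cyclic Sylow
      have hQ' : IsPGroup r (Q.subgroupOf E) := hQ.isPGroup.comap_subtype
      obtain ⟨T, hQT⟩ := hQ'.exists_le_sylow
      set T' : Subgroup G := (T : Subgroup E).map E.subtype with hT'
      have hQT' : Q ≤ T' := by
        intro t ht
        exact ⟨⟨t, hQE ht⟩, hQT (Subgroup.mem_subgroupOf.mpr ht), rfl⟩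
      have hT'M : T' ≤ M := (Subgroup.map_subtype_le _).trans hEM
      have hT'p : IsPGroup r T' := T.2.map _
      have hT'c : IsCyclic T' := isCyclic_of_pRankLE_one (hodd r hr hrE) hr1 hT'M hT'p
      have hTc : IsCyclic (T : Subgroup E) := by
        have e := (T : Subgroup E).equivMapOfInjective E.subtype E.subtype_injective
        exact isCyclic_of_surjective e.symm e.symm.surjective
      have hT1 : (T : Subgroup E) ≠ ⊥ := by
        intro h
        apply hQ1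
        rw [eq_bot_iff]
        intro t ht
        have := hQT' ht
        rw [hT', h, Subgroup.map_bot, Subgroup.mem_bot] at this
        rw [Subgroup.mem_bot]; exact this
      have h27 := Cfsg.Agent.S1427.result hG M hM E hE r T hT1 hTc
      -- an element `y₀` of order `r` in `Q`
      have hrQ : r ∣ Nat.card Q := by
        rcases hQ.isPGroup.card_eq_or_dvd with h | h
        · exact absurd (Subgroup.card_eq_one.mp h) hQ1
        · exact h
      obtain ⟨y₀, hy₀⟩ := exists_prime_orderOf_dvd_card' (G := Q) r hrQ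
      set R : Subgroup G := Subgroup.zpowers (y₀ : G) with hR
      have hRQ : R ≤ Q := Subgroup.zpowers_le.mpr y₀.2
      have hRcard : Nat.card R = r := by
        rw [hR, Nat.card_zpowers, Subgroup.orderOf_coe, hy₀]
      have h28 := Cfsg.Agent.S1428.result hG M hM E hE p hp P hPE hP R (hRQ.trans hQ.le)
        (hRcard ▸ hr)
      have hyR := h28 hyσP
      have hy₀1 : (y₀ : G) ≠ 1 := by
        intro h
        have h1 : orderOf (y₀ : G) = 1 := by rw [h, orderOf_one]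
        rw [Subgroup.orderOf_coe, hy₀] at h1
        exact hr.one_lt.ne' h1
      have hyy₀ : y ∈ sigmaCore M ⊓ Subgroup.centralizer ({(y₀ : G)} : Set G) := by
        refine Subgroup.mem_inf.mpr ⟨hyR.1, ?_⟩
        rw [Subgroup.mem_centralizer_singleton_iff]
        exact (Subgroup.mem_centralizer_iff.mp hyR.2 (y₀ : G) (Subgroup.mem_zpowers _)).symm
      rw [h27 (y₀ : G) (hQT' y₀.2) hy₀1] at hyy₀
      intro t ht
      rw [Subgroup.mem_centralizer_singleton_iff]
      exact Subgroup.mem_centralizer_iff.mp hyy₀.2 t (hQT' ht)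
    · -- `r ∈ τ₂(M)`
      have hr2 : r ∈ tau2 M := by
        refine ⟨hr, hrσ, ?_, hr1⟩
        by_contra h
        exact hrσ (alpha_subset_sigma hG hM ⟨hr, h⟩)
      intro t ht
      obtain ⟨k, hk⟩ := (IsPGroup.iff_orderOf.mp hQ.isPGroup) ⟨t, ht⟩
      have hk' : orderOf t = r ^ k := by rw [← hk, Subgroup.orderOf_mk]
      have := hτ2 r hr2 t (hQ.le ht) ⟨k, hk'⟩
      rw [Subgroup.mem_centralizer_singleton_iff]
      exact (Subgroup.mem_centralizer_iff.mp this y hyσP).symm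
  -- `E` centralizes `c x c⁻¹`, hence it lies in `(M_σ)'`
  have h26 := (Cfsg.Agent.S1426.result hG M hM E hE).1
  intro x hx
  have hx1 : c * x * c⁻¹ ∈ sigmaCore M ⊓ Subgroup.centralizer (E : Set G) := by
    refine Subgroup.mem_inf.mpr ⟨S.2.1 (hyS x hx), ?_⟩
    rw [Subgroup.mem_centralizer_iff]
    intro e he
    obtain ⟨u, hu, heu⟩ := exists_mul_mem_centralizer_of_tau1 hEM hEs hp hPE hP he
    have h1 : (e * u) * (c * x * c⁻¹) = (c * x * c⁻¹) * (e * u) :=
      Subgroup.mem_centralizer_singleton_iff.mp (hC₀ x hx heu)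
    have h2 : (c * x * c⁻¹) * u = u * (c * x * c⁻¹) := hcommSE' _ (hyS x hx) u hu
    have h3 : (c * x * c⁻¹) * u⁻¹ = u⁻¹ * (c * x * c⁻¹) := by
      have : u⁻¹ * ((c * x * c⁻¹) * u) * u⁻¹ = u⁻¹ * (u * (c * x * c⁻¹)) * u⁻¹ := by rw [h2]
      simpa [mul_assoc] using this.symm
    calc e * (c * x * c⁻¹) = (e * u) * (u⁻¹ * (c * x * c⁻¹)) := by group
      _ = (e * u) * ((c * x * c⁻¹) * u⁻¹) := by rw [h3]
      _ = ((e * u) * (c * x * c⁻¹)) * u⁻¹ := by group
      _ = ((c * x * c⁻¹) * (e * u)) * u⁻¹ := by rw [h1]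
      _ = c * x * c⁻¹ * e := by group
  have hx2 := h26 hx1
  have hcn : c⁻¹ ∈ Subgroup.normalizer ((⁅sigmaCore M, sigmaCore M⁆ : Subgroup G) : Set G) :=
    Cfsg.Agent.Lib.Helper1.le_normalizer_commutator_left (inv_mem hcσ)
  have hx3 := (Subgroup.mem_normalizer_iff.mp hcn _).mp hx2
  have e : c⁻¹ * (c * x * c⁻¹) * c⁻¹⁻¹ = x := by group
  rwa [e] at hx3

/-- **B&G Theorem 13.6 for `τ₁`.** -/
theorem cent_uniq_of_tau1 (hG : IsMinSimpleOddOrder G) {M E P : Subgroup G} (hM : IsCoatom M)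
    (hE : IsComplIn E (sigmaCore M) M) {p : ℕ} [Fact p.Prime] (hp : p ∈ tau1 M) (hPE : P ≤ E)
    (hP : Nat.card P = p) (hτ2 : Tau2Hyp M E P) {X : Subgroup G}
    (hX : X ≤ sigmaCore M ⊓ Subgroup.centralizer (P : Set G)) (hXp : (Nat.card X).Prime) :
    (Subgroup.centralizer (X : Set G) ≤ M ∧
      ∀ L : Subgroup G, IsCoatom L → Subgroup.centralizer (X : Set G) ≤ L → L = M) ∧
    Nat.card X ∈ sigma M ∧
    ∀ T : Sylow (Nat.card X) ↥(sigmaCore M),
      InUniqueMaximal ((T : Subgroup ↥(sigmaCore M)).map (sigmaCore M).subtype) ∧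
      (T : Subgroup ↥(sigmaCore M)).map (sigmaCore M).subtype ≤ M := by
  set q := Nat.card X with hq
  haveI : Fact q.Prime := ⟨hXp⟩
  have hXσ : X ≤ sigmaCore M := hX.trans inf_le_left
  have hqd : q ∣ Nat.card (sigmaCore M) := Subgroup.card_dvd_of_le hXσ
  have hqσ : q ∈ sigma M := mem_sigma_of_dvd_card_sigmaCore hG hM hXp hqd
  have hkey := beta_or_le_commutator hG hM hE hp hPE hP hτ2 hXp hX rfl
  have hXM : X ≤ M := hXσ.trans (sigmaCore_le M)
  refine ⟨?_, hqσ, ?_⟩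
  · obtain ⟨T⟩ := (inferInstance : Nonempty (Sylow q ↥(sigmaCore M)))
    exact (Cfsg.Agent.S1423.result hG M hM q hqσ X hXM rfl T hkey).1
  · intro T
    exact (Cfsg.Agent.S1423.result hG M hM q hqσ X hXM rfl T hkey).2

end Cfsg.Agent.Lib.Helper25.BG136
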