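import Mathlib
import Cfsg.Agent.Lib.Helper25.BG136
import Cfsg.Agent.Lib.Helper9.BG1430b
import Cfsg.Agent.Lib.Helper9.BG1430d
import Cfsg.Agent.Lib.Helper29.BG1430C

/-!
B&G 13.6 for `τ₁` (L1 of `notes/BG_S1430_split_helper21.md`), **unconditional**: the
`Tau2Hyp` hypothesis of `BG136.cent_uniq_of_tau1` is discharged by helper9's
`tau2_elt_centralizes`.  Consequences: `Stmt136 G` (helper22's shape), hence `C1 G` (= L2) and
`L3 G` in helper29's assembly shapes, and the reduction of the frozen S1430 statement to `L5 G`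
alone.
-/

set_option autoImplicit false
set_option linter.style.haveILetI false
set_option linter.unusedSectionVars false
set_option linter.unusedVariables false
set_option linter.style.longLine false
open Cfsg
open scoped commutatorElement

namespace Cfsg.Agent.Lib.Helper25.BG136

variable {G : Type*} [Group G] [Finite G]

/-- the `τ₂`-hypothesis of `cent_uniq_of_tau1` always holds (helper9's `tau2_elt_centralizes`). -/
theorem tau2Hyp (hG : IsMinSimpleOddOrder G) {M E P : Subgroup G} (hM : IsCoatom M)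
    (hE : IsComplIn E (sigmaCore M) M) {p : ℕ} (hp : p ∈ tau1 M) (hPE : P ≤ E)
    (hP : Nat.card P = p) : Tau2Hyp M E P :=
  fun s hs t ht ⟨k, hk⟩ =>
    Cfsg.Agent.Lib.Helper9.BG1430a.tau2_elt_centralizes hG hM hE hp hPE hP hs ht hk

/-- **B&G 13.6 for `τ₁`, unconditional.**  `P ≤ E` of order `p ∈ τ₁(M)`, `X ≤ C_{M_σ}(P)` of
prime order: `𝓜(C_G(X)) = {M}`, `|X| ∈ σ(M)`, and every Sylow `|X|`-subgroup of `M_σ` lies in a
unique maximal subgroup. -/
theorem cent_uniq_of_tau1' (hG : IsMinSimpleOddOrder G) {M E P : Subgroup G} (hM : IsCoatom M)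
    (hE : IsComplIn E (sigmaCore M) M) {p : ℕ} (hp : p ∈ tau1 M) (hPE : P ≤ E)
    (hP : Nat.card P = p) {X : Subgroup G}
    (hX : X ≤ sigmaCore M ⊓ Subgroup.centralizer (P : Set G)) (hXp : (Nat.card X).Prime) :
    (Subgroup.centralizer (X : Set G) ≤ M ∧
        ∀ L : Subgroup G, IsCoatom L → Subgroup.centralizer (X : Set G) ≤ L → L = M) ∧
      Nat.card X ∈ sigma M ∧
      ∀ T : Sylow (Nat.card X) (sigmaCore M),
        InUniqueMaximal ((T : Subgroup (sigmaCore M)).map (sigmaCore M).subtype) ∧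
          (T : Subgroup (sigmaCore M)).map (sigmaCore M).subtype ≤ M := by
  haveI : Fact p.Prime := ⟨hp.1⟩
  exact cent_uniq_of_tau1 hG hM hE hp hPE hP (tau2Hyp hG hM hE hp hPE hP) hX hXp

/-- `Stmt136 G` in helper22's shape. -/
theorem stmt136 (hG : IsMinSimpleOddOrder G) : Cfsg.Agent.Lib.Helper22.BG1430N.Stmt136 G :=
  fun L E P X q hL hE hq hPE hP hX hXp => (cent_uniq_of_tau1' hG hL hE hq hPE hP hX hXp).1

/-- **L2 = C1, unconditional** (helper22's `StmtC1` shape). -/
theorem stmtC1 (hG : IsMinSimpleOddOrder G) : Cfsg.Agent.Lib.Helper22.BG1430L.StmtC1 G :=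
  Cfsg.Agent.Lib.Helper9.BG1430a.stmtC1_of_stmt136 hG (stmt136 hG)

/-- **L2 = C1, unconditional** (helper9's `C1` shape). -/
theorem c1_h9 (hG : IsMinSimpleOddOrder G) : Cfsg.Agent.Lib.Helper9.BG1430a.C1 G :=
  Cfsg.Agent.Lib.Helper9.BG1430a.c1_of_stmt136 hG (stmt136 hG)

/-- **L2 = C1, unconditional** (helper29's assembly shape). -/
theorem c1 (hG : IsMinSimpleOddOrder G) : Cfsg.Agent.Lib.Helper29.BG1430Asm.C1 G :=
  c1_h9 hG

/-- **L3, unconditional** (helper29's assembly shape). -/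
theorem l3 (hG : IsMinSimpleOddOrder G) : Cfsg.Agent.Lib.Helper29.BG1430Asm.L3 G :=
  fun M E P Y hM hE p s hp hPE hP hK hs hYE hY =>
    Cfsg.Agent.Lib.Helper9.BG1430a.tau1_tau2_regular hG (c1_h9 hG) hM hE hp hPE hP hK hs hYE hY

end Cfsg.Agent.Lib.Helper25.BG136
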