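import Mathlib
import Cfsg.Prelude.Def_GeometricClasses
import Cfsg.Agent.Lib.Helper1.OEDefs
import Cfsg.Agent.Lib.Helper6.Lagrangian

/-!
# Even-dimensional orthogonal rows: TYPE CALCULUS, TC5 (helper25) -- tensor POWER structures are of plus type

Frozen vocabulary (`IsPlusTypeOn`, `IsTensorPowerFormStructure`, `IsNondegenerateQuadraticForm`), quadratic FUNCTION
`Q : (ι → F) → F`, generic index type `ι`.

* `plus_of_tensorPower_symp` : class (7s) with `k = 2`: `polar Q` is (similar to) the `t`-th tensor power of an alternating form on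
  `F^2` and `Q` vanishes on the pure tensors  ⇒  `IsPlusTypeOn Q ⊤` (any `q`, any `t ≥ 1`);
* `plus_of_tensorPower_symm` : class (7o): `q` odd, `polar Q` is (similar to) the `t`-th tensor power of ANY form on `F^k`, `k` even,
  `t ≥ 2`  ⇒  `IsPlusTypeOn Q ⊤` (discriminant criterion `Helper6.hasTI_iff_isSquare`);
* by-products: `trL` (the transport `x ↦ P *ᵥ (x ∘ e)` as a linear equivalence), `totallySingular_span`, `polarB`
  (the polar form as a Mathlib bilinear form), `isPlusTypeOn_top_of_hasTI`, `powMat`, `isSquare_det_powMat`.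
-/

set_option autoImplicit false
set_option linter.unusedSectionVars false

namespace Cfsg.Agent.Lib.Helper25.OETypePow

open Matrix Cfsg Cfsg.Geo QuadraticMap Module
open scoped Kronecker
open Cfsg.Agent.Lib.Helper1.OE (pureT)

variable {F : Type*} [Field F] {ι : Type} [Fintype ι] [DecidableEq ι]

section transport

variable {κ : Type} [Fintype κ] [DecidableEq κ]

/-- the transport map `x ↦ P *ᵥ (x ∘ e)` as a linear equivalence -/
def trL (e : ι ≃ κ) (P : GL ι F) : (κ → F) ≃ₗ[F] (ι → F) where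
  toFun x := (P : Matrix ι ι F) *ᵥ (x ∘ e)
  invFun v := (((P⁻¹ : GL ι F) : Matrix ι ι F) *ᵥ v) ∘ e.symm
  map_add' x y := by
    show (P : Matrix ι ι F) *ᵥ ((x + y) ∘ e) = _
    rw [show (x + y) ∘ e = x ∘ e + y ∘ e from rfl, Matrix.mulVec_add]
  map_smul' c x := by
    show (P : Matrix ι ι F) *ᵥ ((c • x) ∘ e) = c • ((P : Matrix ι ι F) *ᵥ (x ∘ e))
    rw [show (c • x) ∘ e = c • (x ∘ e) from rfl, Matrix.mulVec_smul]
  left_inv x := by
    show (((P⁻¹ : GL ι F) : Matrix ι ι F) *ᵥ ((P : Matrix ι ι F) *ᵥ (x ∘ e))) ∘ e.symm = x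
    rw [Matrix.mulVec_mulVec, ← Units.val_mul, inv_mul_cancel, Units.val_one, Matrix.one_mulVec]
    ext a
    simp
  right_inv v := by
    show (P : Matrix ι ι F) *ᵥ (((((P⁻¹ : GL ι F) : Matrix ι ι F) *ᵥ v) ∘ e.symm) ∘ e) = v
    have : ((((P⁻¹ : GL ι F) : Matrix ι ι F) *ᵥ v) ∘ e.symm) ∘ e = ((P⁻¹ : GL ι F) : Matrix ι ι F) *ᵥ v := by
      ext i
      simp
    rw [this, Matrix.mulVec_mulVec, ← Units.val_mul, mul_inv_cancel, Units.val_one, Matrix.one_mulVec]

theorem trL_apply (e : ι ≃ κ) (P : GL ι F) (x : κ → F) : trL e P x = (P : Matrix ι ι F) *ᵥ (x ∘ e) := rfl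

end transport

/-- `Q (x + y) = Q x + Q y + polar Q x y` -/
theorem Q_add' (Q : (ι → F) → F) (x y : ι → F) : Q (x + y) = Q x + Q y + polar Q x y := by
  unfold polar
  ring

/-- `Q` vanishes on the span of a set on which `Q` and its polar form vanish -/
theorem totallySingular_span {Q : (ι → F) → F} (hQ : IsNondegenerateQuadraticForm Q) (T : Set (ι → F))
    (h1 : ∀ v ∈ T, Q v = 0) (h2 : ∀ v ∈ T, ∀ w ∈ T, polar Q v w = 0) :
    ∀ v ∈ Submodule.span F T, Q v = 0 := by
  have hb := hQ.polar_bilinear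
  have hQ0 : Q 0 = 0 := by
    have := hQ.smul 0 0
    simpa using this
  have hz1 : ∀ w, polar Q 0 w = 0 := by
    intro w
    have := hb.smul_left 0 0 w
    simpa using this
  have hz2 : ∀ w, polar Q w 0 = 0 := by
    intro w
    have := hb.smul_right 0 w 0
    simpa using this
  have hp1 : ∀ v ∈ Submodule.span F T, ∀ w ∈ T, polar Q v w = 0 := by
    intro v hv w hw
    induction hv using Submodule.span_induction with
    | mem x hx => exact h2 x hx w hw
    | zero => exact hz1 w
    | add x y _ _ hx hy => rw [hb.add_left, hx, hy, add_zero]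
    | smul c x _ hx => rw [hb.smul_left, hx, mul_zero]
  have hp2 : ∀ v ∈ Submodule.span F T, ∀ w ∈ Submodule.span F T, polar Q v w = 0 := by
    intro v hv w hw
    induction hw using Submodule.span_induction with
    | mem x hx => exact hp1 v hv x hx
    | zero => exact hz2 v
    | add x y _ _ hx hy => rw [hb.add_right, hx, hy, add_zero]
    | smul c x _ hx => rw [hb.smul_right, hx, mul_zero]
  intro v hv
  induction hv using Submodule.span_induction with
  | mem x hx => exact h1 x hx
  | zero => exact hQ0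
  | add x y hx hy ihx ihy => rw [Q_add' Q x y, ihx, ihy, hp2 x hx y hy]; simp
  | smul c x _ ih => rw [hQ.smul, ih, mul_zero]

/-- a basis vector is a pure tensor -/
theorem single_eq_pureT {k t : ℕ} (a : Fin t → Fin k) :
    (Pi.single a 1 : (Fin t → Fin k) → F) = pureT (fun i => Pi.single (a i) 1) := by
  ext a'
  unfold pureT
  by_cases h : a' = a
  · subst h
    simp
  · rw [Pi.single_apply, if_neg h]
    obtain ⟨i, hi⟩ : ∃ i, a' i ≠ a i := by
      by_contra hcon
      apply h
      funext i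
      by_contra hi
      exact hcon ⟨i, hi⟩
    symm
    apply Finset.prod_eq_zero (Finset.mem_univ i)
    show (Pi.single (a i) (1 : F) : Fin k → F) (a' i) = 0
    rw [Pi.single_apply, if_neg hi]

/-- the polar form on the transported basis vectors -/
theorem polar_basis {Q : (ι → F) → F} {k t : ℕ} (e : ι ≃ (Fin t → Fin k)) (P : GL ι F)
    (f₁ : (Fin k → F) → (Fin k → F) → F) (c : F)
    (hc : ∀ x y : (Fin t → Fin k) → F,
      polar Q ((P : Matrix ι ι F) *ᵥ (x ∘ e)) ((P : Matrix ι ι F) *ᵥ (y ∘ e)) =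
        c * ∑ a, ∑ b, x a * (∏ i, gramMatrix f₁ (a i) (b i)) * id (y b))
    (a b : Fin t → Fin k) :
    polar Q (trL e P (Pi.single a 1)) (trL e P (Pi.single b 1)) = c * ∏ i, gramMatrix f₁ (a i) (b i) := by
  rw [trL_apply, trL_apply, hc]
  congr 1
  rw [Finset.sum_eq_single a, Finset.sum_eq_single b]
  · simp
  · intro b' _ hb'
    simp [hb']
  · intro h
    exact absurd (Finset.mem_univ b) h
  · intro a' _ ha'
    apply Finset.sum_eq_zero
    intro b' _
    simp [Pi.single_apply, ha']
  · intro h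
    exact absurd (Finset.mem_univ a) h

/-- **TC5 (7s), `k = 2`**: a tensor power of an alternating form on `F^2`, `Q` vanishing on the pure tensors: plus type -/
theorem plus_of_tensorPower_symp {Q : (ι → F) → F} (hQ : IsNondegenerateQuadraticForm Q) {t : ℕ} (ht : 1 ≤ t)
    (e : ι ≃ (Fin t → Fin 2)) (P : GL ι F) (f₁ : (Fin 2 → F) → (Fin 2 → F) → F)
    (halt : ∀ v, f₁ v v = 0)
    (hT : IsTensorPowerFormStructure id (polar Q) f₁ e P)
    (hpure : ∀ x : Fin t → Fin 2 → F, Q ((P : Matrix ι ι F) *ᵥ (pureT x ∘ e)) = 0) :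
    IsPlusTypeOn Q ⊤ := by
  obtain ⟨c, _, hc⟩ := hT
  set i₀ : Fin t := ⟨0, ht⟩ with hi₀
  -- the index set
  let S := {a : Fin t → Fin 2 // a i₀ = 0}
  let v : S → (ι → F) := fun a => trL e P (Pi.single a.1 1)
  have hli : LinearIndependent F v := by
    have h1 : LinearIndependent F (fun a : S => (Pi.basisFun F (Fin t → Fin 2)) a.1) :=
      (Pi.basisFun F (Fin t → Fin 2)).linearIndependent.comp Subtype.val Subtype.val_injective
    have h2 := h1.map' (trL e P).toLinearMap (LinearEquiv.ker _)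
    have h3 : v = (trL e P).toLinearMap ∘ (fun a : S => (Pi.basisFun F (Fin t → Fin 2)) a.1) := by
      funext a
      simp [v, Pi.basisFun_apply]
    rw [h3]
    exact h2
  have hTS : IsTotallySingularQuad Q (Submodule.span F (Set.range v)) := by
    apply totallySingular_span hQ
    · rintro _ ⟨a, rfl⟩
      show Q (trL e P (Pi.single a.1 1)) = 0
      rw [trL_apply, single_eq_pureT]
      exact hpure _
    · rintro _ ⟨a, rfl⟩ _ ⟨b, rfl⟩
      show polar Q (trL e P (Pi.single a.1 1)) (trL e P (Pi.single b.1 1)) = 0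
      rw [polar_basis e P f₁ c hc]
      have h0 : gramMatrix f₁ (a.1 i₀) (b.1 i₀) = 0 := by
        rw [a.2, b.2]
        exact halt _
      rw [Finset.prod_eq_zero (Finset.mem_univ i₀) h0, mul_zero]
  -- counting
  have hcard : Fintype.card (Fin t → Fin 2) = 2 * Fintype.card S := by
    have eqv : (Fin t → Fin 2) ≃ Fin 2 × S :=
      { toFun := fun a => (a i₀, ⟨Function.update a i₀ 0, by simp⟩)
        invFun := fun p => Function.update p.2.1 i₀ p.1
        left_inv := by
          intro a
          simp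
        right_inv := by
          rintro ⟨j, s, hs⟩
          ext1
          · simp
          · apply Subtype.ext
            simp only [Function.update_idem]
            rw [← hs]
            exact Function.update_eq_self i₀ s }
    rw [Fintype.card_congr eqv, Fintype.card_prod, Fintype.card_fin]
  refine ⟨Submodule.span F (Set.range v), le_top, hTS, ?_⟩
  rw [finrank_span_eq_card hli, finrank_top, Module.finrank_fintype_fun_eq_card, Fintype.card_congr e, hcard]

/-! ### the discriminant route (`q` odd) -/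

/-- the polar form as a Mathlib bilinear form -/
noncomputable def polarB {Q : (ι → F) → F} (hQ : IsNondegenerateQuadraticForm Q) : LinearMap.BilinForm F (ι → F) :=
  LinearMap.mk₂ F (polar Q) hQ.polar_bilinear.add_left
    (fun c x v => by rw [hQ.polar_bilinear.smul_left, smul_eq_mul]) hQ.polar_bilinear.add_right
    (fun c v x => by rw [hQ.polar_bilinear.smul_right, smul_eq_mul])

theorem polarB_apply {Q : (ι → F) → F} (hQ : IsNondegenerateQuadraticForm Q) (x y : ι → F) :
    polarB hQ x y = polar Q x y := rfl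

theorem polarB_isSymm {Q : (ι → F) → F} (hQ : IsNondegenerateQuadraticForm Q) : (polarB hQ).IsSymm :=
  ⟨fun x y => by
    show polar Q x y = polar Q y x
    unfold polar
    rw [add_comm x y]
    ring⟩

theorem polarB_nondegenerate {Q : (ι → F) → F} (hQ : IsNondegenerateQuadraticForm Q) : (polarB hQ).Nondegenerate := by
  constructor
  · intro x hx
    by_contra hne
    obtain ⟨y, hy⟩ := (hQ.nondegenerate x hne).2
    exact hy (hx y)
  · intro y hy
    by_contra hne
    obtain ⟨x, hx⟩ := (hQ.nondegenerate y hne).1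
    exact hx (hy x)

/-- for `2 ≠ 0`, a half-dimensional totally isotropic subspace of the polar form gives plus type -/
theorem isPlusTypeOn_top_of_hasTI {Q : (ι → F) → F} (hQ : IsNondegenerateQuadraticForm Q) (h2 : (2 : F) ≠ 0) (n : ℕ)
    (hn : Fintype.card ι = 2 * n) (h : Cfsg.Agent.Lib.Helper6.HasTI (polarB hQ) n) : IsPlusTypeOn Q ⊤ := by
  obtain ⟨X, hX, hB⟩ := h
  refine ⟨X, le_top, ?_, ?_⟩
  · intro x hx
    have h1 : polar Q x x = 0 := hB x hx x hx
    have h3 : Q (x + x) = 4 * Q x := by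
      have := hQ.smul 2 x
      rw [two_smul] at this
      rw [this]
      ring
    have h4 : polar Q x x = 2 * Q x := by
      unfold polar
      rw [h3]
      ring
    rw [h4] at h1
    exact (mul_eq_zero.mp h1).resolve_left h2
  · rw [hX, finrank_top, Module.finrank_fintype_fun_eq_card, hn]

/-- the Gram matrix of a tensor power -/
def powMat {k : ℕ} (G : Matrix (Fin k) (Fin k) F) (t : ℕ) : Matrix (Fin t → Fin k) (Fin t → Fin k) F :=
  fun a b => ∏ i, G (a i) (b i)

theorem powMat_succ {k : ℕ} (G : Matrix (Fin k) (Fin k) F) (t : ℕ) :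
    powMat G (t + 1) = (G ⊗ₖ powMat G t).submatrix (Fin.consEquiv (fun _ : Fin (t + 1) => Fin k)).symm
      (Fin.consEquiv (fun _ : Fin (t + 1) => Fin k)).symm := by
  ext a b
  simp only [powMat, Matrix.submatrix_apply, Matrix.kroneckerMap_apply]
  rw [Fin.prod_univ_succ]
  rfl

/-- for `k` even and `t ≥ 1`, the determinant of the `(t+1)`-st tensor power of a `k × k` matrix is a square -/
theorem isSquare_det_powMat {k : ℕ} (hk : Even k) (G : Matrix (Fin k) (Fin k) F) (t : ℕ) (ht : 1 ≤ t) :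
    IsSquare (powMat G (t + 1)).det := by
  rw [powMat_succ, Matrix.det_submatrix_equiv_self, Matrix.det_kronecker]
  obtain ⟨j, rfl⟩ := hk
  have e1 : Fintype.card (Fin t → Fin (j + j)) = 2 * (j * (j + j) ^ (t - 1)) := by
    rw [Fintype.card_fun, Fintype.card_fin, Fintype.card_fin]
    obtain ⟨t', rfl⟩ : ∃ t', t = t' + 1 := ⟨t - 1, by omega⟩
    rw [Nat.add_sub_cancel, pow_succ]
    ring
  have e2 : Fintype.card (Fin (j + j)) = 2 * j := by
    rw [Fintype.card_fin]
    ring
  rw [e1, e2, pow_mul, pow_mul]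
  exact ⟨G.det ^ (j * (j + j) ^ (t - 1)) * (powMat G t).det ^ j, by ring⟩

/-- **TC5 (7o)**: `q` odd, `polar Q` similar to the `t`-th tensor power of a form on `F^k`, `k` even, `t ≥ 2`: plus type -/
theorem plus_of_tensorPower_symm [Fintype F] {Q : (ι → F) → F} (hQ : IsNondegenerateQuadraticForm Q)
    (hodd : Odd (Fintype.card F)) {k t : ℕ} (hk : Even k) (ht : 2 ≤ t)
    (e : ι ≃ (Fin t → Fin k)) (P : GL ι F) (f₁ : (Fin k → F) → (Fin k → F) → F)
    (hT : IsTensorPowerFormStructure id (polar Q) f₁ e P) : IsPlusTypeOn Q ⊤ := by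
  have h2 : (2 : F) ≠ 0 := by
    intro h
    have hc : ringChar F = 2 := by
      have h1 : ringChar F ∣ 2 := ringChar.dvd (R := F) (by exact_mod_cast h)
      have : Fact (ringChar F).Prime := ⟨CharP.char_is_prime F (ringChar F)⟩
      exact (Nat.prime_dvd_prime_iff_eq (Fact.out) Nat.prime_two).mp h1
    have h3 := FiniteField.even_card_of_char_two hc
    rw [Nat.odd_iff] at hodd
    omega
  obtain ⟨c, _, hc⟩ := hT
  obtain ⟨t', rfl⟩ : ∃ t', t = t' + 1 := ⟨t - 1, by omega⟩
  have ht' : 1 ≤ t' := by omega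
  have hk' := hk
  obtain ⟨j, rfl⟩ := hk
  -- the half dimension is even
  obtain ⟨n, hn⟩ : ∃ n, Fintype.card ι = 2 * (2 * n) := by
    refine ⟨j * j * (j + j) ^ (t' - 1), ?_⟩
    rw [Fintype.card_congr e, Fintype.card_fun, Fintype.card_fin, Fintype.card_fin]
    obtain ⟨t'', rfl⟩ : ∃ t'', t' = t'' + 1 := ⟨t' - 1, by omega⟩
    rw [Nat.add_sub_cancel, pow_succ, pow_succ]
    ring
  apply isPlusTypeOn_top_of_hasTI hQ h2 (2 * n) hn
  have hfin : finrank F (ι → F) = 2 * (2 * n) := by
    rw [Module.finrank_fintype_fun_eq_card, hn]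
  let b : Basis (Fin (t' + 1) → Fin (j + j)) F (ι → F) := (Pi.basisFun F (Fin (t' + 1) → Fin (j + j))).map (trL e P)
  rw [Cfsg.Agent.Lib.Helper6.hasTI_iff_isSquare h2 (polarB hQ) (polarB_isSymm hQ) (polarB_nondegenerate hQ) (2 * n)
    hfin b]
  have hM : LinearMap.BilinForm.toMatrix b (polarB hQ) = c • powMat (gramMatrix f₁) (t' + 1) := by
    ext a a'
    rw [LinearMap.BilinForm.toMatrix_apply, polarB_apply]
    show polar Q (trL e P (Pi.basisFun F _ a)) (trL e P (Pi.basisFun F _ a')) = _
    rw [Pi.basisFun_apply, Pi.basisFun_apply, polar_basis e P f₁ c hc]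
    rfl
  rw [hM, Matrix.det_smul, pow_mul, neg_one_sq, one_pow, one_mul]
  have e1 : Fintype.card (Fin (t' + 1) → Fin (j + j)) = 2 * (2 * n) := by
    rw [← Fintype.card_congr e, hn]
  rw [e1]
  have hsq : IsSquare (c ^ (2 * (2 * n))) := ⟨c ^ (2 * n), by ring⟩
  exact hsq.mul (isSquare_det_powMat hk' _ t' ht')

/-! ### row-level wrappers -/

/-- **class (7o) is of plus type in every even dimension**: `q` odd, `card ι` even, `2 ≤ t` -/
theorem plus_of_class7o [Fintype F] {Q : (ι → F) → F} (hQ : IsNondegenerateQuadraticForm Q)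
    (hodd : Odd (Fintype.card F)) (heven : Even (Fintype.card ι)) {k t : ℕ} (ht : 2 ≤ t)
    (e : ι ≃ (Fin t → Fin k)) (P : GL ι F) (f₁ : (Fin k → F) → (Fin k → F) → F)
    (hT : IsTensorPowerFormStructure id (polar Q) f₁ e P) : IsPlusTypeOn Q ⊤ := by
  have hk : Even k := by
    rw [Fintype.card_congr e, Fintype.card_fun, Fintype.card_fin, Fintype.card_fin, Nat.even_pow] at heven
    exact heven.1
  exact plus_of_tensorPower_symm hQ hodd hk ht e P f₁ hT

theorem two_three_of_pow_eq_eight {k t : ℕ} (hk : 2 ≤ k) (ht : 2 ≤ t) (h : k ^ t = 8) : k = 2 ∧ t = 3 := by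
  have hk3 : k < 3 := by
    by_contra hcon
    have hcon' : 3 ≤ k := by omega
    have : 3 ^ 2 ≤ k ^ t := (Nat.pow_le_pow_left hcon' 2).trans (Nat.pow_le_pow_right (by omega) ht)
    omega
  have hk2 : k = 2 := by omega
  subst hk2
  have ht4 : t < 4 := by
    by_contra hcon
    have hcon' : 4 ≤ t := by omega
    have : 2 ^ 4 ≤ 2 ^ t := Nat.pow_le_pow_right (by norm_num) hcon'
    omega
  interval_cases t
  · norm_num at h
  · exact ⟨rfl, rfl⟩

/-- **class (7s) is of plus type in dimension 8** (any `q`) -/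
theorem plus_of_class7s_eight {Q : (ι → F) → F} (hQ : IsNondegenerateQuadraticForm Q)
    (hcard : Fintype.card ι = 8) {k t : ℕ} (hk : 2 ≤ k) (ht : 2 ≤ t)
    (e : ι ≃ (Fin t → Fin k)) (P : GL ι F) (f₁ : (Fin k → F) → (Fin k → F) → F) (hf₁ : IsSymplecticForm f₁)
    (hT : IsTensorPowerFormStructure id (polar Q) f₁ e P)
    (hpure : ∀ x : Fin t → Fin k → F, Q ((P : Matrix ι ι F) *ᵥ (pureT x ∘ e)) = 0) : IsPlusTypeOn Q ⊤ := by
  have h8 : k ^ t = 8 := by
    rw [← hcard, Fintype.card_congr e, Fintype.card_fun, Fintype.card_fin, Fintype.card_fin]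
  obtain ⟨rfl, rfl⟩ := two_three_of_pow_eq_eight hk ht h8
  exact plus_of_tensorPower_symp hQ (by norm_num) e P f₁ hf₁.alternating hT hpure

/-- **no tensor-power class in `Ω₈⁻`**: a minus-type form in dimension 8 has no class (7o) structure -/
theorem not_class7o_of_minus [Fintype F] {Q : (ι → F) → F} (hQ : IsNondegenerateQuadraticForm Q)
    (hminus : ¬ IsPlusTypeOn Q ⊤) (hodd : Odd (Fintype.card F)) (heven : Even (Fintype.card ι)) {k t : ℕ} (ht : 2 ≤ t)
    (e : ι ≃ (Fin t → Fin k)) (P : GL ι F) (f₁ : (Fin k → F) → (Fin k → F) → F)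
    (hT : IsTensorPowerFormStructure id (polar Q) f₁ e P) : False :=
  hminus (plus_of_class7o hQ hodd heven ht e P f₁ hT)

end Cfsg.Agent.Lib.Helper25.OETypePow
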