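import Mathlib
import Cfsg.Prelude.Def_GeometricClasses

/-!
# S5707 (helper25): vocabulary for the spin / Clifford overgroup of `Sp_k(q) wr S_t`, `q` even, `k ∈ {2, 4}`

Index type `S → Fin m` (`S` = finite type of tensor sites). `pureMat gs = ⊗_s gs s`, `pureVec vs = ⊗_s vs s`,
`op s A = 1 ⊗ … ⊗ A ⊗ … ⊗ 1` (A at site `s`), `permMat σ` = permutation of the sites (frozen convention).
For `m = 2`: `Xop s = op s E01` (lowering, `e_x ↦ [x s = 1] e_{flp s x}`), `Yop s = op s E10` (raising),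
`cpl` = complement, `B0 v w = ∑ x, v x * w (cpl x)`, `Q0 s0 v = ∑_{x s0 = 0} v x * v (cpl x)`,
`LL` = span of the single-site trace-zero operators (the Clifford space, contains `1 = op s 1` in char 2),
`NormLL` = its normaliser in `GL`, `KK s0 = Ω(Q0 s0) ⊓ NormLL` (the intermediate subgroup).
-/

set_option autoImplicit false

namespace Cfsg.Agent.Lib.Helper25.Spin

open Matrix

variable {F : Type*} [Field F]

section general

variable {S : Type} [Fintype S] [DecidableEq S] {m : ℕ}

/-- the pure tensor matrix `⊗_s gs s` on the index type `S → Fin m` -/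
def pureMat (gs : S → Matrix (Fin m) (Fin m) F) : Matrix (S → Fin m) (S → Fin m) F :=
  fun x y => ∏ s, gs s (x s) (y s)

/-- the pure tensor vector `⊗_s vs s` -/
def pureVec (vs : S → Fin m → F) : (S → Fin m) → F := fun x => ∏ s, vs s (x s)

/-- the single-site operator `1 ⊗ … ⊗ A ⊗ … ⊗ 1` (`A` at site `s`) -/
def op (s : S) (A : Matrix (Fin m) (Fin m) F) : Matrix (S → Fin m) (S → Fin m) F :=
  pureMat (Function.update (fun _ => (1 : Matrix (Fin m) (Fin m) F)) s A)

/-- permutation of the sites, frozen convention: entry `(x, y)` is `[y = x ∘ σ]` -/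
def permMat (σ : Equiv.Perm S) : Matrix (S → Fin m) (S → Fin m) F :=
  fun x y => if y = x ∘ σ then 1 else 0

/-- the bilinear form with Gram matrix `⊗ G` (the frozen shape in `IsTensorPowerFormStructure`, without the constant) -/
def formG (G : Matrix (Fin m) (Fin m) F) (x y : (S → Fin m) → F) : F :=
  ∑ a, ∑ b, x a * (∏ i, G (a i) (b i)) * y b

end general

/-- `toGL M` is `M` as an element of `GL` when `M` is invertible (and `1` otherwise) -/
noncomputable def toGL {ι : Type} [Fintype ι] [DecidableEq ι] (M : Matrix ι ι F) : GL ι F :=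
  open Classical in if h : IsUnit M then h.unit else 1

theorem toGL_val {ι : Type} [Fintype ι] [DecidableEq ι] {M : Matrix ι ι F} (h : IsUnit M) :
    ((toGL M : GL ι F) : Matrix ι ι F) = M := by
  unfold toGL
  rw [dif_pos h]
  exact h.unit_spec

section sites

variable {S : Type} [Fintype S] [DecidableEq S]

/-- flip the coordinate at site `s` -/
def flp (s : S) (x : S → Fin 2) : S → Fin 2 := Function.update x s (Fin.rev (x s))

/-- complement: flip all coordinates -/
def cpl (x : S → Fin 2) : S → Fin 2 := fun s => Fin.rev (x s)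

/-- the standard alternating form `⊗ J0`, `J0 = [[0,1],[1,0]]` -/
def B0 (v w : (S → Fin 2) → F) : F := ∑ x, v x * w (cpl x)

/-- the quadratic form with polar form `B0` vanishing on pure tensors: one term `v x * v (cpl x)` per pair `{x, cpl x}` -/
def Q0 (s0 : S) (v : (S → Fin 2) → F) : F := ∑ x, if x s0 = 0 then v x * v (cpl x) else 0

/-- `E01 e_1 = e_0` -/
def E01 : Matrix (Fin 2) (Fin 2) F := !![0, 1; 0, 0]

/-- `E10 e_0 = e_1` -/
def E10 : Matrix (Fin 2) (Fin 2) F := !![0, 0; 1, 0]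

/-- lowering operator at site `s` -/
def Xop (s : S) : Matrix (S → Fin 2) (S → Fin 2) F := op s E01

/-- raising operator at site `s` -/
def Yop (s : S) : Matrix (S → Fin 2) (S → Fin 2) F := op s E10

/-- the Clifford space: span of the single-site trace-zero operators -/
def LL : Submodule F (Matrix (S → Fin 2) (S → Fin 2) F) :=
  Submodule.span F {M | ∃ (s : S) (A : Matrix (Fin 2) (Fin 2) F), A.trace = 0 ∧ M = op s A}

/-- the normaliser of the Clifford space in `GL` -/
def NormLL : Subgroup (GL (S → Fin 2) F) where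
  carrier := {g | (∀ M ∈ LL (F := F) (S := S),
      (g : Matrix (S → Fin 2) (S → Fin 2) F) * M * ((g⁻¹ : GL (S → Fin 2) F) : Matrix (S → Fin 2) (S → Fin 2) F) ∈ LL) ∧
    (∀ M ∈ LL (F := F) (S := S),
      ((g⁻¹ : GL (S → Fin 2) F) : Matrix (S → Fin 2) (S → Fin 2) F) * M * (g : Matrix (S → Fin 2) (S → Fin 2) F) ∈ LL)}
  mul_mem' := by
    rintro a b ⟨ha1, ha2⟩ ⟨hb1, hb2⟩
    refine ⟨fun M hM => ?_, fun M hM => ?_⟩
    · have := ha1 _ (hb1 M hM)
      rw [_root_.mul_inv_rev, Units.val_mul, Units.val_mul]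
      simpa [mul_assoc] using this
    · have := hb2 _ (ha2 M hM)
      rw [_root_.mul_inv_rev, Units.val_mul, Units.val_mul]
      simpa [mul_assoc] using this
  one_mem' := by
    refine ⟨fun M hM => ?_, fun M hM => ?_⟩ <;> simpa using hM
  inv_mem' := by
    rintro a ⟨ha1, ha2⟩
    refine ⟨fun M hM => ?_, fun M hM => ?_⟩
    · rw [inv_inv]; exact ha2 M hM
    · rw [inv_inv]; exact ha1 M hM

theorem mem_NormLL_iff (g : GL (S → Fin 2) F) :
    g ∈ NormLL (F := F) (S := S) ↔
      (∀ M ∈ LL (F := F) (S := S),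
        (g : Matrix (S → Fin 2) (S → Fin 2) F) * M * ((g⁻¹ : GL (S → Fin 2) F) : Matrix (S → Fin 2) (S → Fin 2) F) ∈ LL) ∧
      (∀ M ∈ LL (F := F) (S := S),
        ((g⁻¹ : GL (S → Fin 2) F) : Matrix (S → Fin 2) (S → Fin 2) F) * M * (g : Matrix (S → Fin 2) (S → Fin 2) F) ∈ LL) :=
  Iff.rfl

/-- two-site unipotent `1 + X_{s1} X_{s2}` -/
def tX2 (s1 s2 : S) : Matrix (S → Fin 2) (S → Fin 2) F := 1 + Xop s1 * Xop s2

/-- two-site unipotent `1 + Y_{s1} Y_{s2}` -/
def tY2 (s1 s2 : S) : Matrix (S → Fin 2) (S → Fin 2) F := 1 + Yop s1 * Yop s2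

/-- three-site unipotent `1 + X_{s1} X_{s2} X_{s3}` -/
def tX3 (s1 s2 s3 : S) : Matrix (S → Fin 2) (S → Fin 2) F := 1 + Xop s1 * Xop s2 * Xop s3

/-- three-site unipotent `1 + Y_{s1} Y_{s2} Y_{s3}` -/
def tY3 (s1 s2 s3 : S) : Matrix (S → Fin 2) (S → Fin 2) F := 1 + Yop s1 * Yop s2 * Yop s3

/-- the element of `K \ wreath`: the commutator of the two two-site unipotents -/
noncomputable def gElt (s1 s2 : S) : GL (S → Fin 2) F :=
  toGL (tX2 (F := F) s1 s2) * toGL (tY2 (F := F) s1 s2) * (toGL (tX2 (F := F) s1 s2))⁻¹ *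
    (toGL (tY2 (F := F) s1 s2))⁻¹

/-- the element of `Ω \ K`: the commutator of the two three-site unipotents -/
noncomputable def hElt (s1 s2 s3 : S) : GL (S → Fin 2) F :=
  toGL (tX3 (F := F) s1 s2 s3) * toGL (tY3 (F := F) s1 s2 s3) * (toGL (tX3 (F := F) s1 s2 s3))⁻¹ *
    (toGL (tY3 (F := F) s1 s2 s3))⁻¹

/-- the intermediate subgroup -/
def KK (s0 : S) : Subgroup (GL (S → Fin 2) F) :=
  Cfsg.Geo.omegaGL (Q0 (F := F) s0) ⊓ NormLL

end sites

/-! ### vocabulary for `k = 4` -/

/-- the standard alternating Gram matrix on `F^4` in the coordinates `a = 2 * hi + lo`: antidiagonal -/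
def J4 : Matrix (Fin 4) (Fin 4) F := fun a b => if b = Fin.rev a then 1 else 0

/-- the standard alternating Gram matrix on `F^2` (char 2) -/
def J2 : Matrix (Fin 2) (Fin 2) F := fun a b => if b = Fin.rev a then 1 else 0

/-- digits of `a : Fin 4`: `dig a 0 = a / 2` (high), `dig a 1 = a % 2` (low) -/
def dig (a : Fin 4) (j : Fin 2) : Fin 2 :=
  if j = 0 then ⟨a.val / 2, by omega⟩ else ⟨a.val % 2, by omega⟩

/-- `A ⊗ 1` on `F^4 = F^2 ⊗ F^2` (acting on the high digit) -/
def hi4 (A : Matrix (Fin 2) (Fin 2) F) : Matrix (Fin 4) (Fin 4) F :=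
  fun a b => if dig a 1 = dig b 1 then A (dig a 0) (dig b 0) else 0

/-- `1 ⊗ A` on `F^4 = F^2 ⊗ F^2` (acting on the low digit) -/
def lo4 (A : Matrix (Fin 2) (Fin 2) F) : Matrix (Fin 4) (Fin 4) F :=
  fun a b => if dig a 0 = dig b 0 then A (dig a 1) (dig b 1) else 0

/-- the 5-dimensional space `sl_2 ⊗ 1 + 1 ⊗ sl_2` in `M_4(F)`, intrinsically: `Xᵀ J4` alternating with zero contraction -/
def l4 : Submodule F (Matrix (Fin 4) (Fin 4) F) where
  carrier := {X | (∀ a, X (Fin.rev a) a = 0) ∧ (∀ a b, X (Fin.rev b) a = X (Fin.rev a) b) ∧ X 0 0 + X 1 1 = 0}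
  add_mem' := by
    rintro X Y ⟨h1, h2, h3⟩ ⟨k1, k2, k3⟩
    refine ⟨fun a => by simp [h1 a, k1 a], fun a b => by simp [h2 a b, k2 a b], ?_⟩
    simp only [Matrix.add_apply]
    linear_combination h3 + k3
  zero_mem' := by simp
  smul_mem' := by
    rintro c X ⟨h1, h2, h3⟩
    refine ⟨fun a => by simp [h1 a], fun a b => by simp [h2 a b], ?_⟩
    simp only [Matrix.smul_apply, smul_eq_mul]
    linear_combination c * h3

/-- the Clifford space in the block coordinates `Fin t → Fin 4` -/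
def LL4 (t : ℕ) : Submodule F (Matrix (Fin t → Fin 4) (Fin t → Fin 4) F) :=
  Submodule.span F {M | ∃ (i : Fin t) (A : Matrix (Fin 4) (Fin 4) F), A ∈ l4 (F := F) ∧ M = op i A}

/-- the reindexing `(Fin t → Fin 4) ≃ (Fin t × Fin 2 → Fin 2)`: block `i`, digit `j` ↦ site `(i, j)` -/
def beta (t : ℕ) : (Fin t → Fin 4) ≃ (Fin t × Fin 2 → Fin 2) where
  toFun x := fun p => dig (x p.1) p.2
  invFun y := fun i => ⟨2 * (y (i, 0)).val + (y (i, 1)).val, by
    have h0 := (y (i, 0)).isLt
    have h1 := (y (i, 1)).isLt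
    omega⟩
  left_inv x := by
    funext i
    apply Fin.ext
    simp only [dig, if_true, one_ne_zero, if_false]
    have := (x i).isLt
    show 2 * ((x i).val / 2) + (x i).val % 2 = (x i).val
    omega
  right_inv y := by
    funext p
    obtain ⟨i, j⟩ := p
    have h0 := (y (i, 0)).isLt
    have h1 := (y (i, 1)).isLt
    fin_cases j
    · apply Fin.ext
      simp only [dig]
      show (2 * (y (i, 0)).val + (y (i, 1)).val) / 2 = (y (i, 0)).val
      omega
    · apply Fin.ext
      simp only [dig]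
      show (2 * (y (i, 0)).val + (y (i, 1)).val) % 2 = (y (i, 1)).val
      omega

end Cfsg.Agent.Lib.Helper25.Spin
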