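import Mathlib
import Cfsg.Prelude.Def_GeometricClasses
import Cfsg.Agent.Lib.Helper25.SpinDefs

/-!
# S5707 (helper25): proofs for layer L4a, part 3 -- symplectic forms in small dimension (char 2)
-/

set_option autoImplicit false
set_option linter.unusedSectionVars false

namespace Cfsg.Agent.Lib.Helper25.Spin

open Matrix

variable {F : Type*} [Field F]

section forms

variable {κ : Type} [Fintype κ] [DecidableEq κ]

theorem form_zero_left {f : (κ → F) → (κ → F) → F} (hb : Cfsg.Geo.IsBilinearForm f) (v : κ → F) : f 0 v = 0 := by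
  have := hb.smul_left 0 0 v
  simpa using this

theorem form_zero_right {f : (κ → F) → (κ → F) → F} (hb : Cfsg.Geo.IsBilinearForm f) (v : κ → F) : f v 0 = 0 := by
  have := hb.smul_right 0 v 0
  simpa using this

theorem form_sum_left {f : (κ → F) → (κ → F) → F} (hb : Cfsg.Geo.IsBilinearForm f) {α : Type} (T : Finset α)
    (g : α → κ → F) (v : κ → F) : f (∑ a ∈ T, g a) v = ∑ a ∈ T, f (g a) v := by
  classical
  induction T using Finset.induction_on with
  | empty => simpa using form_zero_left hb v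
  | insert a T ha ih => rw [Finset.sum_insert ha, Finset.sum_insert ha, hb.add_left, ih]

theorem form_sum_right {f : (κ → F) → (κ → F) → F} (hb : Cfsg.Geo.IsBilinearForm f) {α : Type} (T : Finset α)
    (g : α → κ → F) (v : κ → F) : f v (∑ a ∈ T, g a) = ∑ a ∈ T, f v (g a) := by
  classical
  induction T using Finset.induction_on with
  | empty => simpa using form_zero_right hb v
  | insert a T ha ih => rw [Finset.sum_insert ha, Finset.sum_insert ha, hb.add_right, ih]

theorem vec_eq_sum (x : κ → F) : x = ∑ a, x a • (Pi.single a (1 : F) : κ → F) := by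
  conv_lhs => rw [← Finset.univ_sum_single x]
  refine Finset.sum_congr rfl fun a _ => ?_
  funext i
  by_cases h : i = a
  · subst h; simp
  · simp [Pi.single_eq_of_ne h]

theorem form_eq_gram {f : (κ → F) → (κ → F) → F} (hb : Cfsg.Geo.IsBilinearForm f) (x y : κ → F) :
    f x y = ∑ a, ∑ b, x a * Cfsg.Geo.gramMatrix f a b * y b := by
  conv_lhs => rw [vec_eq_sum x, vec_eq_sum y]
  rw [form_sum_left hb]
  refine Finset.sum_congr rfl fun a _ => ?_
  rw [form_sum_right hb]
  refine Finset.sum_congr rfl fun b _ => ?_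
  rw [hb.smul_left, hb.smul_right]
  unfold Cfsg.Geo.gramMatrix
  ring

theorem form_eq_dot {f : (κ → F) → (κ → F) → F} (hb : Cfsg.Geo.IsBilinearForm f) (x y : κ → F) :
    f x y = x ⬝ᵥ (Cfsg.Geo.gramMatrix f *ᵥ y) := by
  rw [form_eq_gram hb]
  simp only [dotProduct, Matrix.mulVec, Finset.mul_sum, mul_assoc]

/-- a non-zero vector in the kernel of the Gram matrix contradicts non-degeneracy -/
theorem not_symplectic_of_ker {f : (κ → F) → (κ → F) → F} (v : κ → F) (hv : v ≠ 0)
    (hker : Cfsg.Geo.gramMatrix f *ᵥ v = 0) : ¬ Cfsg.Geo.IsSymplecticForm f := by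
  intro hf
  obtain ⟨x, hx⟩ := (hf.nondegenerate v hv).1
  apply hx
  rw [form_eq_dot hf.bilinear, hker, dotProduct_zero]

theorem single_ne_zero' (a : κ) : (Pi.single a (1 : F) : κ → F) ≠ 0 := by
  intro h
  have := congrFun h a
  simp at this

end forms

/-- C2-GRAM: a symplectic form on `F^2` in characteristic 2 has Gram matrix `γ • J2`, `γ ≠ 0` -/
theorem gram_two' [CharP F 2] (f₁ : (Fin 2 → F) → (Fin 2 → F) → F) (hf₁ : Cfsg.Geo.IsSymplecticForm f₁) :
    ∃ γ : F, γ ≠ 0 ∧ Cfsg.Geo.gramMatrix f₁ = γ • J2 (F := F) := by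
  have h00 : Cfsg.Geo.gramMatrix f₁ 0 0 = 0 := hf₁.alternating _
  have h11 : Cfsg.Geo.gramMatrix f₁ 1 1 = 0 := hf₁.alternating _
  have h10 : Cfsg.Geo.gramMatrix f₁ 1 0 = Cfsg.Geo.gramMatrix f₁ 0 1 := by
    unfold Cfsg.Geo.gramMatrix
    rw [hf₁.skew, CharTwo.neg_eq]
  have hG : Cfsg.Geo.gramMatrix f₁ = Cfsg.Geo.gramMatrix f₁ 0 1 • J2 (F := F) := by
    ext a b
    fin_cases a <;> fin_cases b
    · simpa [J2] using h00
    · simp [J2]
    · simpa [J2] using h10
    · simpa [J2] using h11
  refine ⟨Cfsg.Geo.gramMatrix f₁ 0 1, ?_, hG⟩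
  intro h0
  rw [h0, zero_smul] at hG
  apply not_symplectic_of_ker (f := f₁) (Pi.single 0 1) (single_ne_zero' 0) _ hf₁
  rw [hG, Matrix.zero_mulVec]

/-- C4-ODD: there is no symplectic form on `F^1` or `F^3` -/
theorem not_symplectic_odd' (k : ℕ) (hk : k = 1 ∨ k = 3) (f₁ : (Fin k → F) → (Fin k → F) → F) :
    ¬ Cfsg.Geo.IsSymplecticForm f₁ := by
  intro hf
  rcases hk with rfl | rfl
  · apply not_symplectic_of_ker (f := f₁) (Pi.single 0 1) (single_ne_zero' 0) _ hf
    funext i
    have hi : i = 0 := Subsingleton.elim _ _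
    subst hi
    simp only [Matrix.mulVec, dotProduct, Finset.univ_unique, Fin.default_eq_zero, Fin.isValue,
      Finset.sum_singleton, Pi.single_eq_same, mul_one, Pi.zero_apply]
    exact hf.alternating _
  · set G := Cfsg.Geo.gramMatrix f₁ with hGdef
    have hd : ∀ a, G a a = 0 := fun a => hf.alternating _
    have hs : ∀ a b, G a b = - G b a := fun a b => hf.skew _ _
    set v : Fin 3 → F := ![G 1 2, - G 0 2, G 0 1] with hv
    have hker : G *ᵥ v = 0 := by
      funext i
      fin_cases i
      · simp [Matrix.mulVec, dotProduct, Fin.sum_univ_three, hv, hd]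
        ring
      · simp [Matrix.mulVec, dotProduct, Fin.sum_univ_three, hv, hd, hs 1 0]
        ring
      · simp [Matrix.mulVec, dotProduct, Fin.sum_univ_three, hv, hd, hs 2 0, hs 2 1]
        ring
    by_cases hv0 : v = 0
    · have h12 : G 1 2 = 0 := by have := congrFun hv0 0; simpa [hv] using this
      have h02 : G 0 2 = 0 := by have := congrFun hv0 1; simpa [hv] using this
      have h01 : G 0 1 = 0 := by have := congrFun hv0 2; simpa [hv] using this
      have hG0 : G = 0 := by
        ext a b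
        fin_cases a <;> fin_cases b <;> simp [hd, h12, h02, h01, hs 1 0, hs 2 0, hs 2 1]
      apply not_symplectic_of_ker (f := f₁) (Pi.single 0 1) (single_ne_zero' 0) _ hf
      rw [← hGdef, hG0, Matrix.zero_mulVec]
    · exact not_symplectic_of_ker (f := f₁) v hv0 hker hf

end Cfsg.Agent.Lib.Helper25.Spin
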