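import Mathlib
import Cfsg.Prelude.Def_GeometricClasses
import Cfsg.Agent.Lib.Helper1.OEDefs
import Cfsg.Agent.Lib.Helper6.OETypeTens
import Cfsg.Agent.Lib.Helper25.OETypePow
import Cfsg.Agent.Lib.Helper25.SpinP4a3

/-!
# Even-dimensional orthogonal rows: TYPE CALCULUS, TC5 with the EXACT skeleton signatures (helper25)

`notes/OETypeSkel_helper7.lean.txt` / `notes/OECorSkel_helper1.lean.txt` (namespace `TC`):

* `isPlusTypeOn_top_of_tensorPowerSymp` (TC5a, ALL `k`, `t ≥ 1`, all `q`): Lagrangian of `f₁` in the first tensor position;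
* `isPlusTypeOn_top_of_tensorPowerSymm` (TC5b, `q` odd, `k` even, `t ≥ 2`) = `plus_of_tensorPower_symm`.
-/

set_option autoImplicit false
set_option linter.unusedSectionVars false
set_option linter.unusedVariables false

namespace Cfsg.Agent.Lib.Helper25.OETypePow

open Matrix Cfsg Cfsg.Geo QuadraticMap Module
open scoped Kronecker
open Cfsg.Agent.Lib.Helper1.OE (pureT)

variable {F : Type*} [Field F] {ι : Type} [Fintype ι] [DecidableEq ι]

/-- the tensor-power form on pure tensors -/
theorem formPow_pureT {k t : ℕ} (G : Matrix (Fin k) (Fin k) F) (x y : Fin t → Fin k → F) :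
    ∑ a, ∑ b, pureT x a * (∏ i, G (a i) (b i)) * pureT y b = ∏ i, ∑ j, ∑ l, x i j * G j l * y i l := by
  symm
  rw [Finset.prod_univ_sum]
  simp only [Fintype.piFinset_univ]
  refine Finset.sum_congr rfl fun a _ => ?_
  rw [Finset.prod_univ_sum]
  simp only [Fintype.piFinset_univ]
  refine Finset.sum_congr rfl fun b _ => ?_
  simp only [pureT, Finset.prod_mul_distrib]

/-- the polar form on the transported pure tensors -/
theorem polar_pureT {Q : (ι → F) → F} {k t : ℕ} (e : ι ≃ (Fin t → Fin k)) (P : GL ι F)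
    (f₁ : (Fin k → F) → (Fin k → F) → F) (hb : IsBilinearForm f₁) (c : F)
    (hc : ∀ x y : (Fin t → Fin k) → F,
      polar Q ((P : Matrix ι ι F) *ᵥ (x ∘ e)) ((P : Matrix ι ι F) *ᵥ (y ∘ e)) =
        c * ∑ a, ∑ b, x a * (∏ i, gramMatrix f₁ (a i) (b i)) * id (y b))
    (x y : Fin t → Fin k → F) :
    polar Q (trL e P (pureT x)) (trL e P (pureT y)) = c * ∏ i, f₁ (x i) (y i) := by
  rw [trL_apply, trL_apply, hc]
  simp only [id]
  rw [formPow_pureT]
  congr 1
  refine Finset.prod_congr rfl fun i _ => ?_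
  exact (Cfsg.Agent.Lib.Helper25.Spin.form_eq_gram hb (x i) (y i)).symm

/-- a pure tensor whose tail is a basis tensor -/
theorem pureT_cons_single {k t : ℕ} (u : Fin k → F) (a' : Fin t → Fin k) (a : Fin (t + 1) → Fin k) :
    pureT (Fin.cons u (fun i => (Pi.single (a' i) (1 : F) : Fin k → F)) : Fin (t + 1) → Fin k → F) a =
      if Fin.tail a = a' then u (a 0) else 0 := by
  unfold pureT
  rw [Fin.prod_univ_succ]
  simp only [Fin.cons_zero, Fin.cons_succ]
  have h := congrFun (single_eq_pureT (F := F) a') (Fin.tail a)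
  unfold pureT at h
  have h' : ∏ i : Fin t, (Pi.single (a' i) (1 : F) : Fin k → F) (a i.succ) = if Fin.tail a = a' then 1 else 0 := by
    rw [Pi.single_apply] at h
    rw [h]
    rfl
  rw [h']
  split_ifs <;> simp

/-- **TC5a**, exact skeleton signature: tensor power of a symplectic form, `Q = 0` on the pure tensors -/
theorem isPlusTypeOn_top_of_tensorPowerSymp {Q : (ι → F) → F} (hQ : IsNondegenerateQuadraticForm Q) {k t : ℕ} (ht : 1 ≤ t)
    (e : ι ≃ (Fin t → Fin k)) (P : GL ι F) (f₁ : (Fin k → F) → (Fin k → F) → F)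
    (hf₁ : IsSymplecticForm f₁) (hT : IsTensorPowerFormStructure id (polar Q) f₁ e P)
    (hpure : ∀ x : Fin t → Fin k → F, Q ((P : Matrix ι ι F) *ᵥ (pureT x ∘ e)) = 0) : IsPlusTypeOn Q ⊤ := by
  obtain ⟨c, _, hc⟩ := hT
  obtain ⟨t', rfl⟩ : ∃ t', t = t' + 1 := ⟨t - 1, by omega⟩
  obtain ⟨L, hL, hLdim⟩ := Cfsg.Agent.Lib.Helper6.OETypeTens.exists_lagrangian hf₁
  rw [Fintype.card_fin] at hLdim
  -- the generating set
  let T : Set (ι → F) := {y | ∃ x : Fin (t' + 1) → Fin k → F, x 0 ∈ L ∧ y = trL e P (pureT x)}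
  have hTS : ∀ v ∈ Submodule.span F T, Q v = 0 := by
    apply totallySingular_span hQ
    · rintro _ ⟨x, _, rfl⟩
      rw [trL_apply]
      exact hpure x
    · rintro _ ⟨x, hx, rfl⟩ _ ⟨y, hy, rfl⟩
      have h0 : f₁ (x 0) (y 0) = 0 := hL (x 0) hx (y 0) hy
      rw [polar_pureT e P f₁ hf₁.bilinear c hc,
        Finset.prod_eq_zero (i := (0 : Fin (t' + 1))) (Finset.mem_univ _) h0, mul_zero]
  -- the slab
  let Φ : ((Fin t' → Fin k) → L) →ₗ[F] ((Fin (t' + 1) → Fin k) → F) :=
    { toFun := fun g a => ((g (Fin.tail a) : L) : Fin k → F) (a 0)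
      map_add' := by
        intro g g'
        funext a
        simp
      map_smul' := by
        intro r g
        funext a
        simp }
  have hΦ : ∀ g a, Φ g a = ((g (Fin.tail a) : L) : Fin k → F) (a 0) := fun _ _ => rfl
  have hΦinj : Function.Injective Φ := by
    intro g g' h
    funext a'
    apply Subtype.ext
    funext j
    have := congrFun h (Fin.cons j a')
    rw [hΦ, hΦ] at this
    simpa using this
  have hΦsum : ∀ g, Φ g = ∑ a' : Fin t' → Fin k,
      pureT (Fin.cons ((g a' : L) : Fin k → F) (fun i => (Pi.single (a' i) (1 : F) : Fin k → F)) :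
        Fin (t' + 1) → Fin k → F) := by
    intro g
    funext a
    rw [Finset.sum_apply, hΦ]
    simp only [pureT_cons_single]
    rw [Finset.sum_eq_single (Fin.tail a)]
    · rw [if_pos rfl]
    · intro b _ hb
      rw [if_neg (Ne.symm hb)]
    · intro h
      exact absurd (Finset.mem_univ _) h
  have hΦT : ∀ g, trL e P (Φ g) ∈ Submodule.span F T := by
    intro g
    rw [hΦsum, map_sum]
    apply Submodule.sum_mem
    intro a' _
    apply Submodule.subset_span
    exact ⟨_, by simp, rfl⟩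
  let Ψ : ((Fin t' → Fin k) → L) →ₗ[F] (ι → F) := (trL e P).toLinearMap.comp Φ
  have hΨinj : Function.Injective Ψ := (trL e P).injective.comp hΦinj
  refine ⟨LinearMap.range Ψ, le_top, ?_, ?_⟩
  · rintro _ ⟨g, rfl⟩
    exact hTS _ (hΦT g)
  · rw [LinearMap.finrank_range_of_inj hΨinj, Module.finrank_pi_fintype, Finset.sum_const, Finset.card_univ,
      smul_eq_mul, Fintype.card_fun, Fintype.card_fin, Fintype.card_fin, finrank_top,
      Module.finrank_fintype_fun_eq_card, Fintype.card_congr e, Fintype.card_fun, Fintype.card_fin, Fintype.card_fin,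
      pow_succ]
    calc 2 * (k ^ t' * finrank F L) = k ^ t' * (2 * finrank F L) := by ring
      _ = k ^ t' * k := by rw [hLdim]

/-- **TC5b**, exact skeleton signature -/
theorem isPlusTypeOn_top_of_tensorPowerSymm [Fintype F] {Q : (ι → F) → F} (hQ : IsNondegenerateQuadraticForm Q)
    (hq : Odd (Fintype.card F)) {k t : ℕ}
    (hk : Even k) (ht : 2 ≤ t) (e : ι ≃ (Fin t → Fin k)) (P : GL ι F) (f₁ : (Fin k → F) → (Fin k → F) → F)
    (hf₁ : IsSymmetricForm f₁) (hT : IsTensorPowerFormStructure id (polar Q) f₁ e P) : IsPlusTypeOn Q ⊤ :=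
  plus_of_tensorPower_symm hQ hq hk ht e P f₁ hT

end Cfsg.Agent.Lib.Helper25.OETypePow
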