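import Mathlib
import Cfsg.Agent.Lib.Helper1.SubfSLDefs
import Cfsg.Agent.Lib.Helper7.S5639FOLA

/-!
# S5639 FO-B1a (helper25, for helper1): one rational incident pair with parameter `a` gives all
-/

set_option autoImplicit false

namespace Cfsg.Agent.Lib.Helper25.S5639

open Matrix Cfsg.Agent.Lib.Helper13 Cfsg.Agent.Lib.Helper1.SubfSL

variable {F : Type*} [Field F] {n : ℕ}

/-- the set of `a ∈ F` such that ALL transvections `1 + a·uφ` with `u`, `φ` rational, `φ(u) = 0`,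
lie in `M` (same body as in the skeleton) -/
def ParamSet (K : Subfield F) (M : Subgroup (GL (Fin n) F)) : Set F :=
  {a | ∀ u φ : Fin n → K, φ ⬝ᵥ u = 0 → InM M (tv (rvec K u) (a • rvec K φ))}

theorem vecMul_tv (x a φ : Fin n → F) : x ᵥ* tv a φ = x + (x ⬝ᵥ a) • φ := by
  rw [tv, Matrix.vecMul_add, Matrix.vecMul_one, Matrix.vecMul_vecMulVec]

theorem tv_smul_left (c : F) (a φ : Fin n → F) : tv (c • a) φ = tv a (c • φ) := by
  rw [tv, tv, smul_vecMulVec, vecMulVec_smul]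

theorem rvec_neg (K : Subfield F) (u : Fin n → K) : rvec K (-u) = -rvec K u := by
  ext i
  simp [rvec]

theorem smul_rvec_dot (K : Subfield F) (a : F) (φ u : Fin n → K) :
    (a • rvec K φ) ⬝ᵥ rvec K u = a * ((φ ⬝ᵥ u : K) : F) := by
  rw [smul_dotProduct, rvec_dot, smul_eq_mul]

/-- a rational transvection lies in `M` -/
theorem rat_tv_InM (K : Subfield F) (M : Subgroup (GL (Fin n) F)) (hH : H1 K n ≤ M)
    (v φ : Fin n → K) (h : φ ⬝ᵥ v = 0) : InM M (tv (rvec K v) (rvec K φ)) :=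
  (rat_tv_mem K v φ h).mono hH

/-- a rational transvection as an element of `M` -/
theorem exists_rat_tv (K : Subfield F) (M : Subgroup (GL (Fin n) F)) (hH : H1 K n ≤ M)
    (v φ : Fin n → K) (h : φ ⬝ᵥ v = 0) :
    ∃ k : GL (Fin n) F, k ∈ M ∧ (k : Matrix (Fin n) (Fin n) F) = tv (rvec K v) (rvec K φ) :=
  rat_tv_InM K M hH v φ h

/-- Step 1a: the commutator with a rational transvection changes the axis -/
theorem param_axis_step (K : Subfield F) (M : Subgroup (GL (Fin n) F)) (hH : H1 K n ≤ M)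
    (u₀ φ₀ : Fin n → K) (h0 : φ₀ ⬝ᵥ u₀ = 0) (a : F)
    (h : InM M (tv (rvec K u₀) (a • rvec K φ₀)))
    (v φ : Fin n → K) (hv1 : φ₀ ⬝ᵥ v = 1) (hv0 : φ ⬝ᵥ v = 0) (hφ : φ ⬝ᵥ u₀ = 0) :
    InM M (tv (rvec K u₀) (a • rvec K φ)) := by
  have hψw : (a • rvec K φ₀) ⬝ᵥ rvec K u₀ = 0 := by
    rw [smul_rvec_dot, h0]; simp
  have hφv : rvec K φ ⬝ᵥ rvec K v = 0 := by rw [rvec_dot, hv0]; rfl
  have hφw : rvec K φ ⬝ᵥ rvec K u₀ = 0 := by rw [rvec_dot, hφ]; rfl
  have key := tv_comm (rvec K u₀) (a • rvec K φ₀) (rvec K v) (rvec K φ) hψw hφv hφw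
  have e1 : (a • rvec K φ₀) ⬝ᵥ rvec K v = a := by
    rw [smul_rvec_dot, hv1]; simp
  rw [e1] at key
  rw [← key]
  have hneg : (-φ) ⬝ᵥ v = 0 := by rw [neg_dotProduct, hv0, neg_zero]
  have h3 : InM M (tv (rvec K v) (-rvec K φ)) := by
    have := rat_tv_InM K M hH v (-φ) hneg
    rwa [rvec_neg] at this
  exact ((h.mul (rat_tv_InM K M hH v φ hv0)).mul (InM.tv_inv hψw h)).mul h3

/-- Step 1b: generic axes at `u₀` -/
theorem param_axis_generic (K : Subfield F) (M : Subgroup (GL (Fin n) F)) (hH : H1 K n ≤ M)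
    (u₀ φ₀ : Fin n → K) (h0 : φ₀ ⬝ᵥ u₀ = 0) (a : F)
    (h : InM M (tv (rvec K u₀) (a • rvec K φ₀)))
    (φ : Fin n → K) (hgen : φ₀ ∉ Submodule.span K {φ}) (hφ : φ ⬝ᵥ u₀ = 0) :
    InM M (tv (rvec K u₀) (a • rvec K φ)) := by
  obtain ⟨v, hv1, hv0⟩ := exists_dual_vec (Submodule.span K {φ}) φ₀ hgen
  have hv0' : v ⬝ᵥ φ = 0 := hv0 φ (Submodule.mem_span_singleton_self φ)
  apply param_axis_step K M hH u₀ φ₀ h0 a h v φ _ _ hφ
  · rw [dotProduct_comm]; exact hv1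
  · rw [dotProduct_comm]; exact hv0'

/-- Step 1: all axes at `u₀` -/
theorem param_axis_all (hn : 3 ≤ n) (K : Subfield F) (M : Subgroup (GL (Fin n) F))
    (hH : H1 K n ≤ M) (u₀ φ₀ : Fin n → K) (hφ₀ : φ₀ ≠ 0) (h0 : φ₀ ⬝ᵥ u₀ = 0) (a : F)
    (h : InM M (tv (rvec K u₀) (a • rvec K φ₀)))
    (φ : Fin n → K) (hφ : φ ⬝ᵥ u₀ = 0) :
    InM M (tv (rvec K u₀) (a • rvec K φ)) := by
  by_cases hgen : φ₀ ∈ Submodule.span K {φ}
  · -- `φ` is a multiple of `φ₀`: split it into two generic axes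
    obtain ⟨ψ, hψ1, -⟩ := exists_dual_vec (⊥ : Submodule K (Fin n → K)) φ₀
      (by rw [Submodule.mem_bot]; exact hφ₀)
    obtain ⟨φ', hφ'0, hφ'u, hφ'ψ⟩ := Cfsg.Agent.Lib.Helper7.S5639.exists_perp2 hn K u₀ ψ
    have hφ'u' : φ' ⬝ᵥ u₀ = 0 := by rw [dotProduct_comm]; exact hφ'u
    have hg1 : φ₀ ∉ Submodule.span K {φ'} := by
      intro hmem
      obtain ⟨d, hd⟩ := Submodule.mem_span_singleton.mp hmem
      have : ψ ⬝ᵥ φ₀ = 0 := by rw [← hd, dotProduct_smul, hφ'ψ, smul_zero]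
      rw [hψ1] at this
      exact one_ne_zero this
    have hg2 : φ₀ ∉ Submodule.span K {φ - φ'} := by
      intro hmem
      obtain ⟨d, hd⟩ := Submodule.mem_span_singleton.mp hmem
      obtain ⟨c, hc⟩ := Submodule.mem_span_singleton.mp hgen
      -- apply `ψ`: `1 = d * ψ(φ)`, and `1 = c * ψ(φ)`
      have e1 : ψ ⬝ᵥ φ₀ = d * (ψ ⬝ᵥ φ) := by
        rw [← hd, dotProduct_smul, dotProduct_sub, hφ'ψ, sub_zero, smul_eq_mul]
      have e2 : ψ ⬝ᵥ φ₀ = c * (ψ ⬝ᵥ φ) := by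
        rw [← hc, dotProduct_smul, smul_eq_mul]
      rw [hψ1] at e1 e2
      have hne : ψ ⬝ᵥ φ ≠ 0 := by
        intro h0'
        rw [h0', mul_zero] at e1
        exact one_ne_zero e1
      have hdc : d = c := by
        have : d * (ψ ⬝ᵥ φ) = c * (ψ ⬝ᵥ φ) := by rw [← e1, ← e2]
        exact mul_right_cancel₀ hne this
      -- then `d • φ' = 0`
      have e3 : d • φ' = 0 := by
        have : d • (φ - φ') = c • φ := by rw [hd, hc]
        rw [smul_sub, hdc] at this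
        have h4 : c • φ' = c • φ - (c • φ - c • φ') := by abel
        rw [hdc, h4, this, sub_self]
      have hd0 : d ≠ 0 := by
        intro hd0
        rw [hd0, zero_mul] at e1
        exact one_ne_zero e1
      rcases smul_eq_zero.mp e3 with h5 | h5
      · exact hd0 h5
      · exact hφ'0 h5
    have hsub : (φ - φ') ⬝ᵥ u₀ = 0 := by rw [sub_dotProduct, hφ, hφ'u', sub_zero]
    have h1 := param_axis_generic K M hH u₀ φ₀ h0 a h φ' hg1 hφ'u'
    have h2 := param_axis_generic K M hH u₀ φ₀ h0 a h (φ - φ') hg2 hsub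
    have hdot : (a • rvec K φ') ⬝ᵥ rvec K u₀ = 0 := by
      rw [smul_rvec_dot, hφ'u']; simp
    have := h1.mul h2
    rw [tv_mul_tv _ _ _ hdot, ← smul_add, ← rvec_add, add_sub_cancel] at this
    exact this
  · exact param_axis_generic K M hH u₀ φ₀ h0 a h φ hgen hφ

/-- **FO-B1a.** one rational incident pair with parameter `a` suffices. -/
theorem param_of_one (hn : 3 ≤ n) (K : Subfield F) (M : Subgroup (GL (Fin n) F)) (hH : H1 K n ≤ M)
    (u₀ φ₀ : Fin n → K) (hu₀ : u₀ ≠ 0) (hφ₀ : φ₀ ≠ 0) (h0 : φ₀ ⬝ᵥ u₀ = 0) (a : F)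
    (h : InM M (tv (rvec K u₀) (a • rvec K φ₀))) : a ∈ ParamSet K M := by
  intro u' φ' h'
  have hax := param_axis_all hn K M hH u₀ φ₀ hφ₀ h0 a h
  by_cases hmem : u' ∈ Submodule.span K {u₀}
  · -- `u' = c u₀`
    obtain ⟨c, hc⟩ := Submodule.mem_span_singleton.mp hmem
    have e1 : tv (rvec K u') (a • rvec K φ') = tv (rvec K u₀) (a • rvec K (c • φ')) := by
      rw [← hc, rvec_smul, tv_smul_left, rvec_smul, smul_comm]
    rw [e1]
    apply hax
    rw [smul_dotProduct, ← dotProduct_smul, hc, h']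
  · -- `u'` is not a multiple of `u₀`: conjugate by a rational transvection
    have hmem' : u₀ ∉ Submodule.span K {u'} := by
      intro hm
      obtain ⟨d, hd⟩ := Submodule.mem_span_singleton.mp hm
      have hd0 : d ≠ 0 := by
        intro hd0
        rw [hd0, zero_smul] at hd
        exact hu₀ hd.symm
      apply hmem
      rw [Submodule.mem_span_singleton]
      refine ⟨d⁻¹, ?_⟩
      rw [← hd, smul_smul, inv_mul_cancel₀ hd0, one_smul]
    obtain ⟨χ₁, h11, h10⟩ := exists_dual_vec (Submodule.span K {u₀}) u' hmem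
    obtain ⟨χ₂, h21, h20⟩ := exists_dual_vec (Submodule.span K {u'}) u₀ hmem'
    have h10' : χ₁ ⬝ᵥ u₀ = 0 := h10 u₀ (Submodule.mem_span_singleton_self u₀)
    have h20' : χ₂ ⬝ᵥ u' = 0 := h20 u' (Submodule.mem_span_singleton_self u')
    obtain ⟨χ, hχ0, hχ1⟩ : ∃ χ : Fin n → K, χ ⬝ᵥ u₀ = 1 ∧ χ ⬝ᵥ u' = 1 := by
      refine ⟨χ₁ + χ₂, ?_, ?_⟩
      · rw [add_dotProduct, h10', h21, zero_add]
      · rw [add_dotProduct, h11, h20', add_zero]
    have hχd : χ ⬝ᵥ (u' - u₀) = 0 := by rw [dotProduct_sub, hχ0, hχ1, sub_self]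
    obtain ⟨k, hkM, hk⟩ := exists_rat_tv K M hH (u' - u₀) χ hχd
    have hku : (k : Matrix (Fin n) (Fin n) F) *ᵥ rvec K u₀ = rvec K u' := by
      rw [hk, tv_mulVec, rvec_dot, hχ0, rvec_sub]
      simp
    rw [← hku]
    apply InM.conj_tv hkM
    -- the new axis
    have e2 : (a • rvec K φ') ᵥ* (k : Matrix (Fin n) (Fin n) F) =
        a • rvec K (φ' + (φ' ⬝ᵥ (u' - u₀)) • χ) := by
      rw [hk, Matrix.smul_vecMul, vecMul_tv, rvec_dot, rvec_add, rvec_smul]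
    rw [e2]
    apply hax
    rw [add_dotProduct, smul_dotProduct, hχ0, dotProduct_sub, h', smul_eq_mul, mul_one]
    ring

end Cfsg.Agent.Lib.Helper25.S5639
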