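import Mathlib
import Cfsg.Prelude.Def_Blocks
import Cfsg.Agent.Lib.Helper2.Clifford
import Cfsg.Agent.Lib.Helper2.NormalInduction
import Cfsg.Agent.Lib.Helper2.Ito
import Cfsg.Agent.Lib.Helper2.PermLemma
import Cfsg.Agent.Lib.Helper2.Linear
import Cfsg.Agent.Lib.Helper2.Column
import Cfsg.Agent.Lib.Helper2.Expansion
import Cfsg.Agent.Lib.Helper7.Covering
import Cfsg.Agent.Lib.Helper22.Jordan
import Cfsg.Agent.Lib.Helper25.CharBasic
import Cfsg.Agent.Lib.Helper25.Codegree
import Cfsg.Agent.Lib.Helper25.Gagola2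
import Cfsg.Agent.Lib.Helper1.SZ
import Cfsg.Agent.H5.PSolvable

/-!
The Itô–Michler theorem for `p`-solvable groups (and for any quotient-closed class of finite groups
whose nontrivial members have a nontrivial normal `p`- or `p'`-subgroup): all irreducible character
degrees are prime to `p` iff there is a normal abelian Sylow `p`-subgroup.
-/

set_option autoImplicit false
set_option linter.style.haveILetI false
set_option linter.unusedSectionVars false

namespace Cfsg.Agent.Lib.Helper25

open Cfsg Cfsg.Agent.Lib.Helper2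
open scoped ComplexConjugate

universe u

section Action

variable {G : Type u} [Group G] [Finite G] (N : Subgroup G) [N.Normal]

/-- The action of `G` on the irreducible characters of a normal subgroup,
`g • θ = θ^{g⁻¹}`. -/
@[reducible] noncomputable def conjIrrAction : MulAction G (IrrCharacter N) where
  smul g μ := ⟨conjFun N g⁻¹ (μ : N → ℂ), isIrrCharacter_conjFun N g⁻¹ μ.2⟩
  one_smul μ := by
    apply Subtype.ext
    show conjFun N (1 : G)⁻¹ (μ : N → ℂ) = _
    rw [inv_one, conjFun_one]
  mul_smul a b μ := by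
    apply Subtype.ext
    show conjFun N (a * b)⁻¹ (μ : N → ℂ) = conjFun N a⁻¹ (conjFun N b⁻¹ (μ : N → ℂ))
    rw [mul_inv_rev, conjFun_mul]

attribute [local instance] conjIrrAction

theorem conjIrrAction_smul_coe (g : G) (θ : IrrCharacter N) :
    ((g • θ : IrrCharacter N) : N → ℂ) = conjFun N g⁻¹ (θ : N → ℂ) := rfl

theorem mem_stabilizer_conjIrr_iff (g : G) (θ : IrrCharacter N) :
    g ∈ MulAction.stabilizer G θ ↔ conjFun N g (θ : N → ℂ) = θ := by
  rw [MulAction.mem_stabilizer_iff]
  constructor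
  · intro h
    have h1 : conjFun N g⁻¹ (θ : N → ℂ) = θ := congrArg Subtype.val h
    have h2 : conjFun N (g⁻¹ * g) (θ : N → ℂ) = conjFun N g (θ : N → ℂ) := by
      rw [conjFun_mul, h1]
    rw [← h2, inv_mul_cancel, conjFun_one]
  · intro h
    apply Subtype.ext
    show conjFun N g⁻¹ (θ : N → ℂ) = θ
    have h2 : conjFun N (g * g⁻¹) (θ : N → ℂ) = conjFun N g⁻¹ (θ : N → ℂ) := by
      rw [conjFun_mul, h]
    rw [← h2, mul_inv_cancel, conjFun_one]

theorem le_stabilizer_conjIrr (θ : IrrCharacter N) : N ≤ MulAction.stabilizer G θ := by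
  intro n hn
  rw [mem_stabilizer_conjIrr_iff]
  exact conjFun_of_mem N (isClassFunction_of_char (isCharacter_of_irr θ.2)) hn

/-- Clifford's degree formula: some `χ` over `θ` has `χ(1) = e · |G : I_G(θ)| · θ(1)`. -/
theorem exists_over_degree (θ : IrrCharacter N) :
    ∃ (χ : IrrCharacter G) (m : ℕ), charDegree (χ : G → ℂ) =
      m * (MulAction.stabilizer G θ).index * charDegree (θ : N → ℂ) := by
  classical
  haveI := Fintype.ofFinite G
  haveI : Fintype N := Fintype.ofFinite _
  obtain ⟨χ, hχ⟩ := Cfsg.Agent.Lib.Helper7.exists_irr_over N θ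
  have hcl := clifford_restriction N χ.2 θ.2 hχ
  obtain ⟨m, hm⟩ := classInner_isCharacter_nat
    (IsCharacter.restrict (isCharacter_of_irr χ.2) N) (isCharacter_of_irr θ.2)
  set S : Set (N → ℂ) := {ψ : N → ℂ | ∃ g : G, ψ = conjFun N g (θ : N → ℂ)} with hS
  have hfin : S.Finite := finite_conjugates N (θ : N → ℂ)
  rw [finsum_mem_eq_finite_toFinset_sum _ hfin, hm] at hcl
  have h1 := congrFun hcl 1
  simp only [Pi.smul_apply, Finset.sum_apply, smul_eq_mul] at h1
  have hval : ∀ ψ ∈ hfin.toFinset, ψ 1 = (θ : N → ℂ) 1 := by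
    intro ψ hψ
    rw [Set.Finite.mem_toFinset] at hψ
    obtain ⟨g, rfl⟩ := hψ
    rw [conjFun_apply]
    exact congrArg (θ : N → ℂ) (Subtype.ext (by simp))
  rw [Finset.sum_congr rfl hval, Finset.sum_const, nsmul_eq_mul] at h1
  have hSimg : S = (fun μ : IrrCharacter N => (μ : N → ℂ)) '' (MulAction.orbit G θ) := by
    ext ψ
    constructor
    · rintro ⟨g, rfl⟩
      refine ⟨g⁻¹ • θ, ⟨g⁻¹, rfl⟩, ?_⟩
      show conjFun N g⁻¹⁻¹ (θ : N → ℂ) = conjFun N g (θ : N → ℂ)
      rw [inv_inv]
    · rintro ⟨μ, ⟨g, rfl⟩, rfl⟩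
      exact ⟨g⁻¹, rfl⟩
  have hcard : hfin.toFinset.card = (MulAction.stabilizer G θ).index := by
    rw [← Set.ncard_eq_toFinset_card S hfin, hSimg,
      Set.ncard_image_of_injective _ Subtype.val_injective, MulAction.index_stabilizer]
  rw [hcard] at h1
  refine ⟨χ, m, ?_⟩
  have h2 : ((charDegree (χ : G → ℂ) : ℕ) : ℂ) =
      ((m * (MulAction.stabilizer G θ).index * charDegree (θ : N → ℂ) : ℕ) : ℂ) := by
    rw [← char_one_eq_charDegree (isCharacter_of_irr χ.2)]
    push_cast
    rw [← char_one_eq_charDegree (isCharacter_of_irr θ.2)]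
    have h3 : (χ : G → ℂ) 1 = (χ : G → ℂ) ((1 : N) : G) := rfl
    rw [h3, h1]
    ring
  exact_mod_cast h2

end Action

section Fix

variable {G : Type u} [Group G] [Finite G] (N : Subgroup G) [N.Normal]

/-- Conjugation by `x` fixing all irreducible characters of `N` fixes all classes of `N`
(Brauer's permutation lemma). -/
theorem isConj_conjNormal_of_irr_fixed (x : G)
    (hfix : ∀ θ : IrrCharacter N, conjFun N x (θ : N → ℂ) = θ) (n : N) :
    IsConj ((MulAut.conjNormal x : N ≃* N) n) n := by
  classical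
  haveI : Fintype N := Fintype.ofFinite _
  set α : N ≃* N := MulAut.conjNormal x with hα
  have hb := brauer_permutation α
  have h1 : Nat.card {χ : IrrCharacter N // (χ : N → ℂ) ∘ α = (χ : N → ℂ)} =
      Nat.card (IrrCharacter N) := by
    apply Nat.card_congr
    refine Equiv.subtypeUnivEquiv ?_
    intro χ
    rw [hα, ← conjFun_eq_comp]
    exact hfix χ
  rw [h1, card_irrCharacter] at hb
  haveI : Finite (ConjClasses N) := inferInstance
  have hbij := (Nat.bijective_iff_injective_and_card
    (Subtype.val : {C : ConjClasses N // ConjClasses.map α.toMonoidHom C = C} →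
      ConjClasses N)).2 ⟨Subtype.val_injective, hb⟩
  obtain ⟨⟨C, hC⟩, hCn⟩ := hbij.2 (ConjClasses.mk n)
  simp only at hCn
  subst hCn
  have h2 : ConjClasses.mk (α n) = ConjClasses.mk n := hC
  exact ConjClasses.mk_eq_mk_iff_isConj.1 h2

/-- A `p`-subgroup fixing every irreducible character of a normal `p'`-subgroup `N`
centralizes `N`. -/
theorem le_centralizer_of_fix_irr {p : ℕ} [Fact p.Prime] (hpN : ¬ p ∣ Nat.card N)
    (P : Subgroup G) (hP : IsPGroup p P)
    (hfix : ∀ x ∈ P, ∀ θ : IrrCharacter N, conjFun N x (θ : N → ℂ) = θ) :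
    N ≤ Subgroup.centralizer (P : Set G) := by
  classical
  have hkey : ∀ n : N, ∃ c : N, ∀ x ∈ P,
      x * ((c * n * c⁻¹ : N) : G) * x⁻¹ = ((c * n * c⁻¹ : N) : G) := by
    intro n
    let X := {m : N // IsConj n m}
    letI act : MulAction P X :=
      { smul := fun x m => ⟨(MulAut.conjNormal (x : G) : N ≃* N) m.1,
          m.2.trans (isConj_conjNormal_of_irr_fixed N (x : G) (hfix x x.2) m.1).symm⟩
        one_smul := fun m => by
          apply Subtype.ext
          show (MulAut.conjNormal ((1 : P) : G) : N ≃* N) m.1 = m.1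
          rw [Subgroup.coe_one, map_one]
          rfl
        mul_smul := fun a b m => by
          apply Subtype.ext
          show (MulAut.conjNormal ((a * b : P) : G) : N ≃* N) m.1 =
            (MulAut.conjNormal (a : G) : N ≃* N) ((MulAut.conjNormal (b : G) : N ≃* N) m.1)
          rw [Subgroup.coe_mul, map_mul]
          rfl }
    have hcardX : ¬ p ∣ Nat.card X := by
      have h1 : Nat.card X = (Subgroup.centralizer ({n} : Set N)).index :=
        (index_centralizer_eq_card_conj n).symm
      rw [h1]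
      intro h
      exact hpN (dvd_trans h (Subgroup.index_dvd_card _))
    obtain ⟨m, hm⟩ := hP.nonempty_fixed_point_of_prime_not_dvd_card X hcardX
    obtain ⟨c, hc⟩ := isConj_iff.1 m.2
    refine ⟨c, ?_⟩
    intro x hx
    rw [hc]
    have h2 : (⟨x, hx⟩ : P) • m = m := hm ⟨x, hx⟩
    have h3 : ((MulAut.conjNormal x : N ≃* N) m.1 : N) = m.1 := congrArg Subtype.val h2
    have h4 := congrArg Subtype.val h3
    rw [MulAut.conjNormal_apply] at h4
    exact h4
  set C₀ : Subgroup N := (Subgroup.centralizer (P : Set G)).subgroupOf N with hC₀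
  have htop : C₀ = ⊤ := by
    by_contra hne
    obtain ⟨g, hg⟩ := Cfsg.Agent.Lib.Helper22.exists_forall_conj_not_mem C₀ hne
    obtain ⟨c, hc⟩ := hkey g
    apply hg c⁻¹
    rw [inv_inv, hC₀, Subgroup.mem_subgroupOf, Subgroup.mem_centralizer_iff]
    intro x hx
    exact mul_inv_eq_iff_eq_mul.1 (hc x hx)
  intro n hn
  have h5 : (⟨n, hn⟩ : N) ∈ C₀ := by
    rw [htop]
    trivial
  exact h5

end Fix

section Main

/-- Existence of a normal Sylow `p`-subgroup. -/
def HasNormalSylow (p : ℕ) (G : Type u) [Group G] : Prop :=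
  ∃ K : Subgroup G, K.Normal ∧ IsPGroup p K ∧ ¬ p ∣ K.index

/-- All irreducible character degrees are prime to `p`. -/
def AllPPrime (p : ℕ) (G : Type u) [Group G] : Prop :=
  ∀ χ : IrrCharacter G, ¬ p ∣ charDegree (χ : G → ℂ)

theorem eq_one_of_dvd_pow_of_dvd {p d a n : ℕ} (hp : p.Prime) (h1 : d ∣ p ^ a) (h2 : d ∣ n)
    (h3 : ¬ p ∣ n) : d = 1 := by
  obtain ⟨b, -, rfl⟩ := (Nat.dvd_prime_pow hp).1 h1
  rcases b with _ | b
  · simp
  · exfalso
    apply h3
    exact dvd_trans (dvd_pow_self p (Nat.succ_ne_zero b)) h2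

variable {p : ℕ} [Fact p.Prime] {G : Type u} [Group G] [Finite G]

theorem AllPPrime.quotient (N : Subgroup G) [N.Normal] (h : AllPPrime p G) :
    AllPPrime p (G ⧸ N) := by
  intro ψ
  have h1 := h (inflIrr N ψ)
  have h2 : charDegree (inflIrr N ψ : G → ℂ) = charDegree (ψ : G ⧸ N → ℂ) := by
    unfold charDegree
    rw [inflIrr_apply, QuotientGroup.mk_one]
  rwa [h2] at h1

theorem hasNormalSylow_of_quotient_pGroup (L : Subgroup G) [L.Normal] (hL : IsPGroup p L)
    (hq : HasNormalSylow p (G ⧸ L)) : HasNormalSylow p G := by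
  obtain ⟨K, hKn, hKp, hKi⟩ := hq
  refine ⟨K.comap (QuotientGroup.mk' L), hKn.comap _, ?_, ?_⟩
  · apply hKp.comap_of_ker_isPGroup
    rw [QuotientGroup.ker_mk']
    exact hL
  · rw [Subgroup.index_comap_of_surjective _ (QuotientGroup.mk'_surjective L)]
    exact hKi

theorem hasNormalSylow_of_quotient_pPrime (N : Subgroup G) [N.Normal] (hpN : ¬ p ∣ Nat.card N)
    (hall : AllPPrime p G) (hq : HasNormalSylow p (G ⧸ N)) : HasNormalSylow p G := by
  classical
  have hp : p.Prime := Fact.out
  obtain ⟨Kbar, hKn, hKp, hKi⟩ := hq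
  set K : Subgroup G := Kbar.comap (QuotientGroup.mk' N) with hK
  have hKnorm : K.Normal := hKn.comap _
  haveI := hKnorm
  have hNK : N ≤ K := by
    intro n hn
    rw [hK, Subgroup.mem_comap]
    have h1 : (QuotientGroup.mk' N) n = 1 := (QuotientGroup.eq_one_iff n).2 hn
    rw [h1]
    exact one_mem _
  have hKidx : ¬ p ∣ K.index := by
    rw [hK, Subgroup.index_comap_of_surjective _ (QuotientGroup.mk'_surjective N)]
    exact hKi
  obtain ⟨a, ha⟩ : ∃ a, N.relIndex K = p ^ a := by
    have h1 := Cfsg.H5.card_map_mk' N K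
    have h2 : K.map (QuotientGroup.mk' N) = Kbar :=
      Subgroup.map_comap_eq_self_of_surjective (QuotientGroup.mk'_surjective N) Kbar
    rw [h2] at h1
    obtain ⟨a, ha⟩ := (IsPGroup.iff_card).1 hKp
    exact ⟨a, by rw [← h1, ha]⟩
  obtain ⟨P⟩ : Nonempty (Sylow p G) := inferInstance
  have hPp : IsPGroup p (P : Subgroup G) := P.isPGroup'
  have hPK : (P : Subgroup G) ≤ K := by
    intro x hx
    apply Cfsg.Agent.Lib.Helper22.mem_of_coprime_index K x
    obtain ⟨k, hk⟩ := hPp ⟨x, hx⟩
    have hk' : x ^ (p ^ k) = 1 := by simpa using congrArg Subtype.val hk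
    have hdvd : orderOf x ∣ p ^ k := orderOf_dvd_of_pow_eq_one hk'
    have hcop : (p ^ k).Coprime K.index :=
      Nat.Coprime.pow_left k ((Nat.Prime.coprime_iff_not_dvd hp).2 hKidx)
    exact Nat.Coprime.coprime_dvd_left hdvd hcop
  have hPrel : ¬ p ∣ (P : Subgroup G).relIndex K := by
    intro h
    have h1 := Subgroup.relIndex_mul_index hPK
    apply P.not_dvd_index
    rw [← h1]
    exact Dvd.dvd.mul_right h _
  -- every element of `K` fixes every irreducible character of `N`
  have hKfix : ∀ x ∈ K, ∀ θ : IrrCharacter N, conjFun N x (θ : N → ℂ) = θ := by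
    intro x hx θ
    letI := conjIrrAction N
    obtain ⟨χ, m, hdeg⟩ := exists_over_degree N θ
    have hidx : ¬ p ∣ (MulAction.stabilizer G θ).index := by
      intro h
      apply hall χ
      rw [hdeg]
      exact Dvd.dvd.mul_right (Dvd.dvd.mul_left h m) _
    have hcardΩ : ¬ p ∣ Nat.card (MulAction.orbit G θ) := by
      rw [Nat.card_coe_set_eq, ← MulAction.index_stabilizer]
      exact hidx
    obtain ⟨ψ, hψ⟩ := hPp.nonempty_fixed_point_of_prime_not_dvd_card (MulAction.orbit G θ) hcardΩ
    obtain ⟨g, hg⟩ := ψ.2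
    have hg' : g • θ = (ψ : IrrCharacter N) := hg
    have hPS : (P : Subgroup G) ≤ MulAction.stabilizer G (ψ : IrrCharacter N) := by
      intro y hy
      rw [MulAction.mem_stabilizer_iff]
      have h1 := hψ ⟨y, hy⟩
      exact congrArg Subtype.val h1
    have hNS : N ≤ MulAction.stabilizer G (ψ : IrrCharacter N) := le_stabilizer_conjIrr N _
    have hKS : K ≤ MulAction.stabilizer G (ψ : IrrCharacter N) := by
      rw [← Subgroup.relIndex_eq_one]
      have h1 : (MulAction.stabilizer G (ψ : IrrCharacter N)).relIndex K ∣ N.relIndex K :=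
        Subgroup.relIndex_dvd_of_le_left K hNS
      have h2 : (MulAction.stabilizer G (ψ : IrrCharacter N)).relIndex K ∣
          (P : Subgroup G).relIndex K := Subgroup.relIndex_dvd_of_le_left K hPS
      rw [ha] at h1
      exact eq_one_of_dvd_pow_of_dvd hp h1 h2 hPrel
    have hx' : g * x * g⁻¹ ∈ K := hKnorm.conj_mem x hx g
    have h1 : (g * x * g⁻¹) • (ψ : IrrCharacter N) = ψ := MulAction.mem_stabilizer_iff.1 (hKS hx')
    rw [← hg', smul_smul, inv_mul_cancel_right, mul_smul] at h1
    have h2 : x • θ = θ := MulAction.injective g h1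
    exact (mem_stabilizer_conjIrr_iff N x θ).1 (MulAction.mem_stabilizer_iff.2 h2)
  have hcent : N ≤ Subgroup.centralizer ((P : Subgroup G) : Set G) :=
    le_centralizer_of_fix_irr N hpN P hPp (fun x hx θ => hKfix x (hPK hx) θ)
  have hNnorm : N ≤ Subgroup.normalizer ((P : Subgroup G) : Set G) :=
    hcent.trans (Subgroup.centralizer_le_normalizer _)
  have hKNP : K ≤ Subgroup.normalizer ((P : Subgroup G) : Set G) := by
    rw [← Subgroup.relIndex_eq_one]
    have h1 : (Subgroup.normalizer ((P : Subgroup G) : Set G)).relIndex K ∣ N.relIndex K :=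
      Subgroup.relIndex_dvd_of_le_left K hNnorm
    have h2 : (Subgroup.normalizer ((P : Subgroup G) : Set G)).relIndex K ∣
        (P : Subgroup G).relIndex K := Subgroup.relIndex_dvd_of_le_left K Subgroup.le_normalizer
    rw [ha] at h1
    exact eq_one_of_dvd_pow_of_dvd hp h1 h2 hPrel
  have hPnorm : (P : Subgroup G).Normal := by
    constructor
    intro n hn g
    set Q : Subgroup G := (P : Subgroup G).map (MulAut.conj g).toMonoidHom with hQ
    have hQp : IsPGroup p Q := hPp.map _
    have hQK : Q ≤ K := by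
      rintro _ ⟨y, hy, rfl⟩
      exact hKnorm.conj_mem y (hPK hy) g
    have hQN : Q ≤ Subgroup.normalizer ((P : Subgroup G) : Set G) := hQK.trans hKNP
    have hsup : IsPGroup p ((P : Subgroup G) ⊔ Q : Subgroup G) :=
      hPp.to_sup_of_normal_left' hQp hQN
    have heq : (P : Subgroup G) ⊔ Q = P := P.is_maximal' hsup le_sup_left
    have hmem : g * n * g⁻¹ ∈ Q := ⟨n, hn, rfl⟩
    rw [← heq]
    exact Subgroup.mem_sup_right hmem
  exact ⟨P, hPnorm, hPp, P.not_dvd_index⟩

/-- Core induction: for a quotient-closed class of finite groups whose nontrivial members have a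
nontrivial normal `p`- or `p'`-subgroup, `p'`-degrees force a normal Sylow `p`-subgroup. -/
theorem hasNormalSylow_aux (p : ℕ) [Fact p.Prime] (Q : ∀ (H : Type u) [Group H], Prop)
    (hQq : ∀ (H : Type u) [Group H] [Finite H] (N : Subgroup H) [N.Normal], Q H → Q (H ⧸ N))
    (hQm : ∀ (H : Type u) [Group H] [Finite H], Nontrivial H → Q H →
      ∃ L : Subgroup H, L.Normal ∧ L ≠ ⊥ ∧ (IsPGroup p L ∨ (Nat.card L).Coprime p)) :
    ∀ (n : ℕ) (G : Type u) [Group G] [Finite G], Nat.card G = n → Q G → AllPPrime p G →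
      HasNormalSylow p G := by
  intro n
  induction n using Nat.strong_induction_on with
  | _ n ih =>
  intro G _ _ hcard hQ hall
  rcases subsingleton_or_nontrivial G with hs | hnt
  · refine ⟨⊥, inferInstance, IsPGroup.of_bot, ?_⟩
    rw [Subgroup.index_bot, Nat.card_of_subsingleton (1 : G)]
    exact Nat.Prime.not_dvd_one Fact.out
  · obtain ⟨L, hLn, hL1, hL⟩ := hQm G hnt hQ
    haveI := hLn
    have hlt : Nat.card (G ⧸ L) < n := by
      rw [← hcard, Subgroup.card_eq_card_quotient_mul_card_subgroup L]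
      have h1 : 1 < Nat.card L := (Subgroup.one_lt_card_iff_ne_bot L).2 hL1
      have hpos : 0 < Nat.card (G ⧸ L) := Nat.card_pos
      nlinarith
    have hq := ih _ hlt (G ⧸ L) rfl (hQq G L hQ) (hall.quotient L)
    rcases hL with hL | hL
    · exact hasNormalSylow_of_quotient_pGroup L hL hq
    · exact hasNormalSylow_of_quotient_pPrime L
        ((Nat.Prime.coprime_iff_not_dvd Fact.out).1 hL.symm) hall hq

theorem hasNormalSylow_of_isPSolvable (hsolv : IsPSolvable p G) (hall : AllPPrime p G) :
    HasNormalSylow p G :=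
  hasNormalSylow_aux p (fun H _ => IsPSolvable p H)
    (fun H _ _ N _ h => Cfsg.H5.isPSolvable_quotient N h)
    (fun H _ _ hnt h => by
      haveI := hnt
      obtain ⟨L, -, hLn, hL1, hL⟩ :=
        Cfsg.H5.exists_normal_p_or_pPrime_le h ⊤ inferInstance top_ne_bot
      exact ⟨L, hLn, hL1, hL⟩)
    (Nat.card G) G rfl hsolv hall

theorem hasNormalSylow_of_isSolvable (hsolv : Group.IsSolvable G) (hall : AllPPrime p G) :
    HasNormalSylow p G :=
  hasNormalSylow_aux p (fun H _ => Group.IsSolvable H)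
    (fun H _ _ N _ h => by
      haveI := h
      infer_instance)
    (fun H _ _ hnt h => by
      haveI := h
      haveI := hnt
      obtain ⟨q, hq, L, hLn, -, hL1, -, hLe⟩ :=
        Cfsg.Agent.Lib.Helper1.exists_normal_elementary_abelian_le
          (Nat.card (⊤ : Subgroup H)) (⊤ : Subgroup H) rfl top_ne_bot inferInstance
      refine ⟨L, hLn, hL1, ?_⟩
      have hLq : IsPGroup q L := by
        intro x
        refine ⟨1, ?_⟩
        rw [pow_one]
        apply Subtype.ext
        simpa using hLe x.1 x.2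
      by_cases hqp : q = p
      · left
        rw [← hqp]
        exact hLq
      · right
        haveI : Fact q.Prime := ⟨hq⟩
        obtain ⟨k, hk⟩ := hLq.exists_card_eq
        rw [hk]
        exact Nat.Coprime.pow_left k ((Nat.coprime_primes hq Fact.out).2 hqp))
    (Nat.card G) G rfl hsolv hall

/-- With all degrees prime to `p`, a normal `p`-subgroup is abelian. -/
theorem comm_of_normal_pGroup_of_allPPrime (K : Subgroup G) [K.Normal] (hK : IsPGroup p K)
    (hall : AllPPrime p G) : ∀ a b : K, a * b = b * a := by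
  have hp : p.Prime := Fact.out
  rw [comm_iff_forall_irr_degree_one]
  intro θ
  letI := conjIrrAction K
  obtain ⟨χ, m, hdeg⟩ := exists_over_degree K θ
  have h1 : charDegree (θ : K → ℂ) ∣ charDegree (χ : G → ℂ) := by
    rw [hdeg]
    exact Dvd.intro_left _ rfl
  have h2 : charDegree (θ : K → ℂ) ∣ Nat.card K := charDegree_dvd_card θ.2
  obtain ⟨k, hk⟩ := (IsPGroup.iff_card).1 hK
  rw [hk] at h2
  have h3 := eq_one_of_dvd_pow_of_dvd hp h2 h1 (hall χ)
  rw [char_one_eq_charDegree (isCharacter_of_irr θ.2), h3]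
  simp

/-- Itô: a normal abelian subgroup of index prime to `p` forces degrees prime to `p`. -/
theorem allPPrime_of_normal_abelian (K : Subgroup G) [K.Normal]
    (hcomm : ∀ a ∈ K, ∀ b ∈ K, a * b = b * a) (hidx : ¬ p ∣ K.index) : AllPPrime p G := by
  intro χ hdvd
  obtain ⟨d, hd, hdi⟩ := ito_aux (Nat.card G) G rfl (χ : G → ℂ) χ.2 K hcomm
  rw [char_one_eq_charDegree (isCharacter_of_irr χ.2)] at hd
  have hd' : charDegree (χ : G → ℂ) = d := by exact_mod_cast hd
  rw [hd'] at hdvd
  exact hidx (dvd_trans hdvd hdi)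

end Main

end Cfsg.Agent.Lib.Helper25
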