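import Mathlib
import Cfsg.Agent.Lib.Helper28.TensUDefs
import Cfsg.Agent.Lib.Helper25.S5670FOHS

/-!
# S5670 farm-out piece FO-ROOT (architect helper28): the root elements `rL`, `rM`
-/

set_option autoImplicit false
set_option linter.unusedSectionVars false
set_option linter.unusedVariables false

namespace Cfsg.Agent.Lib.Helper25.S5670ROOT

open Matrix Module
open Cfsg.Agent.Lib.Helper16.Tens Cfsg.Agent.Lib.Helper10.TensFund Cfsg.Agent.Lib.Helper28.TensU
open Cfsg.Agent.Lib.Helper25.S5670HS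
open scoped Kronecker

variable {F : Type*} [Field F] [Fintype F] {a b : ℕ} {q : ℕ}

local notation "V" => (Fin a × Fin b → F)

/-- the form after applying `rL` -/
theorem hs_act_rL (hF : Fintype.card F = q ^ 2) (k : Fin b → F) (c : F) (hk : hs q k k = 0) (v v' : V) :
    hs q (act (rL q k c hk) v) (act (rL q k c hk) v') =
      hs q v v' + (c + c ^ q) * hs q (ctr (cj q k) v) (ctr (cj q k) v') := by
  rw [act_rL, act_rL, hs_add_left, hs_add_right hF, hs_add_right hF, hs_smul_left, hs_smul_left,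
    hs_smul_right, hs_smul_right, hs_pur, hk, hs_pur_right]
  have h2 : hs q (pur (ctr (cj q k) v) k) v' = hs q (ctr (cj q k) v) (ctr (cj q k) v') := by
    rw [hs_conj hF v' (pur (ctr (cj q k) v) k), hs_pur_right, ← hs_conj hF]
  rw [h2]
  ring

/-- FO-ROOT (a) -/
theorem rL_mem_UG (hF : Fintype.card F = q ^ 2) (k : Fin b → F) (c : F) (hk : hs q k k = 0)
    (hc : c + c ^ q = 0) : rL (a := a) q k c hk ∈ UG (Fin a × Fin b) F q := by
  rw [mem_UG_iff]
  intro x y
  have h := hs_act_rL (a := a) hF k c hk x y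
  rw [hc, zero_mul, add_zero] at h
  exact h

/-- the form after applying `rM` -/
theorem hs_act_rM (hF : Fintype.card F = q ^ 2) (u : Fin a → F) (c : F) (hu : hs q u u = 0) (v v' : V) :
    hs q (act (rM q u c hu) v) (act (rM q u c hu) v') =
      hs q v v' + (c + c ^ q) * hs q (ctrL (cj q u) v) (ctrL (cj q u) v') := by
  rw [act_rM, act_rM, hs_add_left, hs_add_right hF, hs_add_right hF, hs_smul_left, hs_smul_left,
    hs_smul_right, hs_smul_right, hs_pur, hu, hs_pur_right']
  have h2 : hs q (pur u (ctrL (cj q u) v)) v' = hs q (ctrL (cj q u) v) (ctrL (cj q u) v') := by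
    rw [hs_conj hF v' (pur u (ctrL (cj q u) v)), hs_pur_right', ← hs_conj hF]
  rw [h2]
  ring

/-- FO-ROOT (b) -/
theorem rM_mem_UG (hF : Fintype.card F = q ^ 2) (u : Fin a → F) (c : F) (hu : hs q u u = 0)
    (hc : c + c ^ q = 0) : rM (b := b) q u c hu ∈ UG (Fin a × Fin b) F q := by
  rw [mem_UG_iff]
  intro x y
  have h := hs_act_rM (b := b) hF u c hu x y
  rw [hc, zero_mul, add_zero] at h
  exact h

omit [Fintype F] in
theorem rootM_pow (x ψ : Fin b → F) (h : ψ ⬝ᵥ x = 0) (n : ℕ) :
    rootM (a := a) x ψ ^ n = rootM (n • x) ψ := by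
  induction n with
  | zero => rw [pow_zero, zero_smul, rootM_zero]
  | succ n ih => rw [pow_succ, ih, rootM_mul_rootM _ _ _ h, succ_nsmul]

omit [Fintype F] in
theorem rootML_pow (x φ : Fin a → F) (h : φ ⬝ᵥ x = 0) (n : ℕ) :
    rootML (b := b) x φ ^ n = rootML (n • x) φ := by
  induction n with
  | zero => rw [pow_zero, zero_smul, rootML_zero]
  | succ n ih => rw [pow_succ, ih, rootML_mul_rootML _ _ _ h, succ_nsmul]

omit [Fintype F] in
theorem nsmul_char_eq_zero {κ : Type*} (p : ℕ) [CharP F p] (x : κ → F) : p • x = 0 := by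
  rw [← Nat.cast_smul_eq_nsmul F p x, CharP.cast_eq_zero, zero_smul]

/-- FO-ROOT (c) -/
theorem rL_pow_char (p : ℕ) [CharP F p] (k : Fin b → F) (c : F) (hk : hs q k k = 0) :
    (rL (a := a) q k c hk) ^ p = 1 := by
  apply Units.ext
  rw [Units.val_pow_eq_pow_val, Units.val_one]
  unfold rL
  rw [rootGL_val, rootM_pow _ _ (cj_dot_smul q k c hk), nsmul_char_eq_zero, rootM_zero]

/-- FO-ROOT (d) -/
theorem rM_pow_char (p : ℕ) [CharP F p] (u : Fin a → F) (c : F) (hu : hs q u u = 0) :
    (rM (b := b) q u c hu) ^ p = 1 := by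
  apply Units.ext
  rw [Units.val_pow_eq_pow_val, Units.val_one]
  unfold rM
  rw [rootGLL_val, rootML_pow _ _ (cj_dot_smul q u c hu), nsmul_char_eq_zero, rootML_zero]

/-- FO-ROOT (e): the fixed space of `rL` is `U ⊗ k^⊥` and `rL - 1` maps into `U ⊗ k` -/
theorem act_rL_eq_self_iff (k : Fin b → F) (c : F) (hk : hs q k k = 0) (hk0 : k ≠ 0) (hc : c ≠ 0) (v : V) :
    act (rL q k c hk) v = v ↔ v ∈ hyp (cj q k) := by
  rw [act_rL, mem_hyp_iff, add_eq_left, smul_eq_zero]
  constructor
  · intro h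
    rcases h with h | h
    · exact absurd h hc
    · exact (pur_eq_zero h).resolve_right hk0
  · intro h
    right
    rw [h, pur_zero_left]

/-- FO-ROOT (f) -/
theorem act_rM_eq_self_iff (u : Fin a → F) (c : F) (hu : hs q u u = 0) (hu0 : u ≠ 0) (hc : c ≠ 0) (v : V) :
    act (rM q u c hu) v = v ↔ v ∈ hypL (cj q u) := by
  rw [act_rM, mem_hypL_iff, add_eq_left, smul_eq_zero]
  constructor
  · intro h
    rcases h with h | h
    · exact absurd h hc
    · exact (pur_eq_zero h).resolve_left hu0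
  · intro h
    right
    rw [h, pur_zero_right]

/-- FO-ROOT (g) -/
theorem act_rL_sub_mem (k : Fin b → F) (c : F) (hk : hs q k k = 0) (v : V) :
    act (rL q k c hk) v - v ∈ pt (a := a) k := by
  rw [act_rL, add_sub_cancel_left, ← pur_smul_left]
  exact pur_mem_pt _ _

/-- FO-ROOT (h) -/
theorem act_rM_sub_mem (u : Fin a → F) (c : F) (hu : hs q u u = 0) (v : V) :
    act (rM q u c hu) v - v ∈ ptL (b := b) u := by
  rw [act_rM, add_sub_cancel_left, ← pur_smul_right]
  exact pur_mem_ptL _ _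

end Cfsg.Agent.Lib.Helper25.S5670ROOT
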