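import Cfsg.Agent.Lib.Helper25.Co2OutData
import Cfsg.Agent.Lib.Helper27.TreeDefs

/-! Kernel checks for `Co2Out`: the generator tables and the chain. -/

set_option autoImplicit false
set_option Elab.async false

namespace Cfsg.Agent.Lib.Helper25.Co2Out

open Cfsg.Agent.Lib.Helper28.BSGS Cfsg.Agent.Lib.Helper22.SuzOut Cfsg.Agent.Lib.Helper27.TreeSift

set_option maxRecDepth 100000 in
theorem known1_ok : gensOK 4600 13 known1 = true := by decide +kernel

set_option maxRecDepth 100000 in
theorem chain_ok : chainOKT 4600 13 gens2 8 [] levels = true := by decide +kernel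

set_option maxRecDepth 100000 in
theorem size_eq : sizeT 4600 13 levels = 42305421312000 := by decide +kernel

end Cfsg.Agent.Lib.Helper25.Co2Out
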