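import Cfsg.Agent.Lib.Helper21.SuzOP3

/-!
# Item-wise version of `seqOK`

Checking a long sequence of path certificates in one kernel computation needs much memory; here the
items are checked one at a time.
-/

set_option autoImplicit false

namespace Cfsg.Agent.Lib.Helper25.Co2Out

open Cfsg.Agent.Lib.Helper28.BSGS Cfsg.Agent.Lib.Helper22.SuzOut

/-- the `j`-th item of the sequence is the path product in the previous tables -/
noncomputable def itemOK (n w : ℕ) (known : List (ℕ × ℕ)) (items : List ((ℕ × ℕ) × List ℕ))
    (j : ℕ) : Bool :=
  match items[j]? with
  | some it => pathOK n w (known ++ (items.take j).map (fun i => i.1)) (0, it.1.1, it.1.2) it.2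
  | none => true

theorem seqOK_of_items (n w : ℕ) : ∀ (items : List ((ℕ × ℕ) × List ℕ)) (known : List (ℕ × ℕ)),
    (∀ j < items.length, itemOK n w known items j = true) → seqOK n w known items = true := by
  intro items
  induction items with
  | nil => intro known _; rfl
  | cons it rest ih =>
    intro known h
    obtain ⟨t, cs⟩ := it
    show (pathOK n w known (0, t.1, t.2) cs && seqOK n w (known ++ [t]) rest) = true
    rw [Bool.and_eq_true]
    constructor
    · have h0 := h 0 (by simp)
      unfold itemOK at h0
      simpa using h0
    · apply ih
      intro j hj
      have h1 := h (j + 1) (by simp; omega)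
      unfold itemOK at h1 ⊢
      simp only [List.getElem?_cons_succ, List.take_succ_cons, List.map_cons] at h1
      rw [List.append_assoc]
      exact h1

end Cfsg.Agent.Lib.Helper25.Co2Out
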