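import Cfsg.Agent.Lib.Helper25.Co2OutMain

/-!
# The second Conway group of the list as a permutation group on 4600 points

A packaged form of the lattice bridge, for other statements about `Spor.Co2`: the list group is
isomorphic to a subgroup of `Perm (Fin 4600)` of order `42305421312000` containing (in fact equal to)
the group generated by the four tables `known1` (the actions of helper4's generators `C2.g0 … C2.g3`
on the 4600 vectors of inner product `-16` with `(4, 4, 0, …, 0)`, numbered by increasing key).
-/

set_option autoImplicit false

namespace Cfsg.Agent.Lib.Helper25.Co2Out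

open Cfsg Cfsg.Spor MulAction
open Cfsg.Agent.Lib.Helper28.BSGS

/-- the list group is isomorphic to the image of the lattice group on the 4600 points -/
theorem co2_equiv_range : Nonempty (↥Cfsg.Spor.Co2 ≃* ↥fP.range) := by
  obtain ⟨e⟩ := co2_iso
  exact ⟨(co2Equiv.trans e).trans (MonoidHom.ofInjective fP_inj)⟩

/-- the packaged model -/
theorem exists_model : ∃ K0 : Subgroup (Equiv.Perm (Fin 4600)),
    genGroup 4600 13 known1 ≤ K0 ∧ Nat.card ↥K0 ≤ 42305421312000 ∧
      Nonempty (↥Cfsg.Spor.Co2 ≃* ↥K0) :=
  ⟨fP.range, known1_le, le_of_eq card_range, co2_equiv_range⟩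

/-- the image is the group generated by the four tables -/
theorem range_eq : fP.range = genGroup 4600 13 known1 := by
  have h := tree fP.range known1_le (le_of_eq card_range)
  have h2 := tree (genGroup 4600 13 known1) le_rfl (by
    have hfin : Finite ↥fP.range := Nat.finite_of_card_ne_zero (by rw [card_range]; norm_num)
    calc Nat.card ↥(genGroup 4600 13 known1) ≤ Nat.card ↥fP.range :=
          Subgroup.card_le_of_le known1_le
      _ ≤ 42305421312000 := le_of_eq card_range)
  rw [← h.1, h2.1]

/-- the order of the group generated by the four tables -/
theorem card_known1 : Nat.card ↥(genGroup 4600 13 known1) = 42305421312000 := by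
  rw [← range_eq]; exact card_range

/-- the list group is isomorphic to the group generated by the four tables -/
theorem co2_equiv_known1 : Nonempty (↥Cfsg.Spor.Co2 ≃* ↥(genGroup 4600 13 known1)) := by
  obtain ⟨e⟩ := co2_equiv_range
  exact ⟨e.trans (MulEquiv.subgroupCongr range_eq)⟩

end Cfsg.Agent.Lib.Helper25.Co2Out
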