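import Cfsg.Agent.Lib.Helper14.StCC.Defs
import Cfsg.Agent.Lib.Helper11.StCCPairing
import Cfsg.Agent.Lib.Helper6.StCCAlg

/-!
# S2398/S2100 (Steinberg's Theorem 10), PART A, piece [A-φ] `rootLift_of_pr` — helper25 for helper14

Construction of the equivariant additive lifts `φ r t := pr h_r (x_r (t / (b_r - 1)))`, where
`h_r ∈ H0` acts on `x_r` through a scalar `b_r ≠ 1`.
-/

set_option autoImplicit false

namespace Cfsg.Agent.Lib.Helper14.StCC.A

open Cfsg.Lie Cfsg.Agent.Lib.Helper8.Chev Cfsg.Agent.Lib.Helper11.StCCPairing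
open scoped commutatorElement

variable {D : ChevalleyDatum} {K : Type*} [Field K] {Γ : Type*} [Group Γ] {E : Type*} [Group E]

namespace Helper25

/-- conjugating an element of the torus by another one changes it by a central element -/
theorem conj_H0_eq_mul_central (S : StRep D K Γ) {g h : Γ} (hg : g ∈ S.H0) (hh : h ∈ S.H0) :
    h⁻¹ * (g * h * g⁻¹) ∈ Subgroup.center Γ := by
  obtain ⟨f, hf, e⟩ := S.tl_of_mem_H0 hg
  obtain ⟨f', hf', e'⟩ := S.tl_of_mem_H0 hh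
  have a1 : ∀ s < D.nroots, ∀ u : K, g⁻¹ * S.x s u * g = S.x s ((f s)⁻¹ * u) := by
    intro s hs u
    have := e s hs ((f s)⁻¹ * u)
    rw [← mul_assoc, mul_inv_cancel₀ (hf s hs).1, one_mul] at this
    rw [← this]
    group
  have a2 : ∀ s < D.nroots, ∀ u : K, h⁻¹ * S.x s u * h = S.x s ((f' s)⁻¹ * u) := by
    intro s hs u
    have := e' s hs ((f' s)⁻¹ * u)
    rw [← mul_assoc, mul_inv_cancel₀ (hf' s hs).1, one_mul] at this
    rw [← this]
    group
  have key : ∀ s < D.nroots, ∀ u : K,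
      (h⁻¹ * (g * h * g⁻¹)) * S.x s u * (h⁻¹ * (g * h * g⁻¹))⁻¹ = S.x s u := by
    intro s hs u
    have e0 : (h⁻¹ * (g * h * g⁻¹)) * S.x s u * (h⁻¹ * (g * h * g⁻¹))⁻¹ =
        h⁻¹ * (g * (h * (g⁻¹ * S.x s u * g) * h⁻¹) * g⁻¹) * h := by
      group
    rw [e0, a1 s hs, e' s hs, e s hs, a2 s hs]
    congr 1
    have h1 := (hf s hs).1
    have h2 := (hf' s hs).1
    field_simp
  have hcomm : ∀ y : Γ, y * (h⁻¹ * (g * h * g⁻¹)) = (h⁻¹ * (g * h * g⁻¹)) * y := by
    intro y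
    have hy : y ∈ Subgroup.closure {g : Γ | ∃ r < D.nroots, ∃ t : K, g = S.x r t} := by
      rw [S.gen]; exact Subgroup.mem_top y
    have hle : Subgroup.closure {g : Γ | ∃ r < D.nroots, ∃ t : K, g = S.x r t} ≤
        Subgroup.centralizer {h⁻¹ * (g * h * g⁻¹)} := by
      rw [Subgroup.closure_le]
      rintro _ ⟨r, hr, t, rfl⟩
      rw [SetLike.mem_coe, Subgroup.mem_centralizer_iff]
      intro w hw
      rw [Set.mem_singleton_iff.mp hw]
      have := key r hr t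
      calc (h⁻¹ * (g * h * g⁻¹)) * S.x r t
          = (h⁻¹ * (g * h * g⁻¹)) * S.x r t * (h⁻¹ * (g * h * g⁻¹))⁻¹ * (h⁻¹ * (g * h * g⁻¹)) := by
            group
        _ = S.x r t * (h⁻¹ * (g * h * g⁻¹)) := by rw [this]
    have := Subgroup.mem_centralizer_iff.mp (hle hy) _ (Set.mem_singleton _)
    exact this.symm
  exact Subgroup.mem_center_iff.mpr hcomm

/-- a torus element acting on `x_r` through a scalar `≠ 1` -/
theorem exists_torus_ne_one (S : StRep D K Γ) (hK5 : ∃ s : Finset K, 4 < s.card)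
    (hwt : ∀ r < D.nroots, ∃ m : ℕ → ℤ, wt D m r = 1 ∨ wt D m r = 2) :
    ∀ r : ℕ, ∃ (h : Γ) (b : K), r < D.nroots →
      (h ∈ S.H0 ∧ b ≠ 1 ∧ ∀ u : K, h * S.x r u * h⁻¹ = S.x r (b * u)) := by
  intro r
  by_cases hr : r < D.nroots
  · obtain ⟨m, hm⟩ := hwt r hr
    have he : wt D m r ≠ 0 ∧ (wt D m r).natAbs ≤ 3 := by
      rcases hm with hm | hm <;> rw [hm] <;> decide
    obtain ⟨v, hv0, hv⟩ := Cfsg.Agent.Lib.Helper6.StCCAlg.exists_pow_ne_one hK5 (wt D m r) he.1 he.2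
    obtain ⟨g, hg, hgc⟩ := exists_torus S m hv0
    exact ⟨g, v ^ wt D m r, fun _ => ⟨hg, hv, fun u => hgc r hr u⟩⟩
  · exact ⟨1, 0, fun h => absurd h hr⟩

end Helper25

/-- [A-φ] the construction of the lifts. -/
theorem rootLift_of_pr (S : StRep D K Γ) (hK5 : ∃ s : Finset K, 4 < s.card)
    (hperf : commutator Γ = ⊤) (ψ : E →* Γ) (hψ : Function.Surjective ψ)
    (hc : ψ.ker ≤ Subgroup.center E)
    (hk : ∀ r < D.nroots, ∀ t u : K, pr ψ hψ (S.x r t) (S.x r u) = 1)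
    (hwt : ∀ r < D.nroots, ∃ m : ℕ → ℤ, wt D m r = 1 ∨ wt D m r = 2) :
    Nonempty (RootLift S ψ) := by
  choose hh bb hhb using Helper25.exists_torus_ne_one S hK5 hwt
  have hb1 : ∀ r < D.nroots, bb r - 1 ≠ 0 := fun r hr => sub_ne_zero.mpr (hhb r hr).2.1
  -- the image of the lift
  have hmap : ∀ r < D.nroots, ∀ t : K,
      ψ (pr ψ hψ (hh r) (S.x r (t / (bb r - 1)))) = S.x r t := by
    intro r hr t
    rw [map_pr, commutatorElement_def, (hhb r hr).2.2, S.x_inv hr, S.add r hr]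
    congr 1
    field_simp [hb1 r hr]
    ring
  refine ⟨⟨fun r t => pr ψ hψ (hh r) (S.x r (t / (bb r - 1))), hmap, ?_, ?_⟩⟩
  · -- additivity
    intro r hr t u
    have e1 : S.x r ((t + u) / (bb r - 1)) =
        S.x r (t / (bb r - 1)) * S.x r (u / (bb r - 1)) := by
      rw [S.add r hr, add_div]
    obtain ⟨B, hB⟩ := hψ (S.x r (t / (bb r - 1)))
    rw [e1, pr_mul_right' ψ hψ hc (hh r) _ _ hB]
    congr 1
    -- the lift `B` of `x_r(t')` commutes with the lift `pr h (x_r u')` of `x_r(u)`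
    have h1 := hk r hr (t / (bb r - 1)) u
    rw [pr_eq ψ hψ hc hB (hmap r hr u), commutatorElement_eq_one_iff_commute] at h1
    rw [h1.eq, mul_inv_cancel_right]
  · -- equivariance
    intro g f hg hf s hs u
    rw [conj_pr ψ hψ hc, hf s hs]
    have hz := Helper25.conj_H0_eq_mul_central S hg (hhb s hs).1
    have e2 : ψ g * hh s * (ψ g)⁻¹ = hh s * ((hh s)⁻¹ * (ψ g * hh s * (ψ g)⁻¹)) := by group
    rw [e2, pr_mul_center_left ψ hψ hc hperf hz, mul_div_assoc]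

end Cfsg.Agent.Lib.Helper14.StCC.A
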