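import Cfsg.Agent.Lib.Helper16.F4CC.Defs
import Cfsg.Agent.Lib.Helper25.StCCAPhi

/-!
# S2103 (the Schur multiplier of `F₄(q)`, `q ≥ 3`), piece [FA] `exists_rootLift_of` — helper25 for helper16

Part A from its two inputs, over any field with at least three elements: the same construction as
`Cfsg.Agent.Lib.Helper14.StCC.A.rootLift_of_pr`, `φ r t := pr h_r (x_r (t / (b_r - 1)))`, where now
`h_r ∈ H0` acts on `x_r` through the scalar `b_r = c ≠ 1` (a coweight of value `1`).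
-/

set_option autoImplicit false

namespace Cfsg.Agent.Lib.Helper16.F4CC

open Cfsg.Lie Cfsg.Agent.Lib.Helper8.Chev Cfsg.Agent.Lib.Helper14.StCC
open Cfsg.Agent.Lib.Helper11.StCCPairing
open scoped commutatorElement

variable {D : ChevalleyDatum} {K : Type*} [Field K] {Γ : Type*} [Group Γ] {E : Type*} [Group E]

namespace Helper25

/-- a torus element acting on `x_r` through a scalar `≠ 1` (coweights of value `1`, `|K| ≥ 3`) -/
theorem exists_torus_ne_one (S : StRep D K Γ) (hK3 : ∃ c : K, c ≠ 0 ∧ c ≠ 1)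
    (hwt : ∀ r < D.nroots, ∃ m : ℕ → ℤ, wt D m r = 1) :
    ∀ r : ℕ, ∃ (h : Γ) (b : K), r < D.nroots →
      (h ∈ S.H0 ∧ b ≠ 1 ∧ ∀ u : K, h * S.x r u * h⁻¹ = S.x r (b * u)) := by
  intro r
  obtain ⟨c, hc0, hc1⟩ := hK3
  by_cases hr : r < D.nroots
  · obtain ⟨m, hm⟩ := hwt r hr
    obtain ⟨g, hg, hgc⟩ := exists_torus S m hc0
    refine ⟨g, c, fun _ => ⟨hg, hc1, fun u => ?_⟩⟩
    have := hgc r hr u
    rwa [hm, zpow_one] at this
  · exact ⟨1, 0, fun h => absurd h hr⟩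

end Helper25

/-- [FA] Part A from its two inputs (copy of helper26's `exists_rootLift` with `hLC`, `hwt` as
hypotheses and only `|K| ≥ 3`) -/
theorem exists_rootLift_of (S : StRep D K Γ) (hK3 : ∃ c : K, c ≠ 0 ∧ c ≠ 1)
    (hperf : commutator Γ = ⊤) (ψ : E →* Γ) (hψ : Function.Surjective ψ)
    (hc : ψ.ker ≤ Subgroup.center E)
    (hLC : ∀ r < D.nroots, ∀ (A B : E) (t u : K), ψ A = S.x r t → ψ B = S.x r u → A * B = B * A)
    (hwt : ∀ r < D.nroots, ∃ m : ℕ → ℤ, wt D m r = 1) :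
    Nonempty (RootLift S ψ) := by
  choose hh bb hhb using Helper25.exists_torus_ne_one S hK3 hwt
  have hb1 : ∀ r < D.nroots, bb r - 1 ≠ 0 := fun r hr => sub_ne_zero.mpr (hhb r hr).2.1
  -- the image of the lift
  have hmap : ∀ r < D.nroots, ∀ t : K,
      ψ (pr ψ hψ (hh r) (S.x r (t / (bb r - 1)))) = S.x r t := by
    intro r hr t
    rw [map_pr, commutatorElement_def, (hhb r hr).2.2, S.x_inv hr, S.add r hr]
    congr 1
    field_simp [hb1 r hr]
    ring
  refine ⟨⟨fun r t => pr ψ hψ (hh r) (S.x r (t / (bb r - 1))), hmap, ?_, ?_⟩⟩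
  · -- additivity
    intro r hr t u
    have e1 : S.x r ((t + u) / (bb r - 1)) =
        S.x r (t / (bb r - 1)) * S.x r (u / (bb r - 1)) := by
      rw [S.add r hr, add_div]
    obtain ⟨B, hB⟩ := hψ (S.x r (t / (bb r - 1)))
    rw [e1, pr_mul_right' ψ hψ hc (hh r) _ _ hB]
    congr 1
    -- the lift `B` of `x_r(t')` commutes with the lift `pr h (x_r u')` of `x_r(u)`
    have h1 := hLC r hr B (pr ψ hψ (hh r) (S.x r (u / (bb r - 1)))) _ _ hB (hmap r hr u)
    rw [h1, mul_inv_cancel_right]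
  · -- equivariance
    intro g f hg hf s hs u
    rw [conj_pr ψ hψ hc, hf s hs]
    have hz := Cfsg.Agent.Lib.Helper14.StCC.A.Helper25.conj_H0_eq_mul_central S hg (hhb s hs).1
    have e2 : ψ g * hh s * (ψ g)⁻¹ = hh s * ((hh s)⁻¹ * (ψ g * hh s * (ψ g)⁻¹)) := by group
    rw [e2, pr_mul_center_left ψ hψ hc hperf hz, mul_div_assoc]

end Cfsg.Agent.Lib.Helper16.F4CC
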