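import Mathlib

/-!
# Sign of a permutation of order dividing `8` from fixed-point counts

`NS720.sign_data_of_pow_eight`: if `σ ^ 8 = 1` there are numbers `c2 c4 c8` (the numbers of
cycles of length `2, 4, 8`) with `|supp σ| = 2 c2 + 4 c4 + 8 c8`, `|supp σ²| = 4 c4 + 8 c8`,
`|supp σ⁴| = 8 c8` and `sign σ = (-1) ^ (c2 + c4 + c8)`.
-/

set_option autoImplicit false

namespace Cfsg.Agent.Lib.Helper25.NS720

open Equiv Equiv.Perm

variable {X : Type*} [Fintype X] [DecidableEq X]

/-- for a cycle, a power which is not the identity has the same support -/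
theorem support_pow_of_isCycle {σ : Perm X} (hσ : σ.IsCycle) (k : ℕ) (hk : ¬ orderOf σ ∣ k) :
    (σ ^ k).support = σ.support := by
  apply le_antisymm (support_pow_le σ k)
  intro x hx
  rw [mem_support] at hx ⊢
  intro h
  exact hk (orderOf_dvd_of_pow_eq_one ((hσ.pow_eq_one_iff' hx).mpr h))

theorem sign_data_of_pow_eight (σ : Perm X) (h : σ ^ 8 = 1) :
    ∃ c2 c4 c8 : ℕ, σ.support.card = 2 * c2 + 4 * c4 + 8 * c8 ∧
      (σ ^ 2).support.card = 4 * c4 + 8 * c8 ∧ (σ ^ 4).support.card = 8 * c8 ∧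
      sign σ = (-1) ^ (c2 + c4 + c8) := by
  induction σ using cycle_induction_on with
  | base_one => exact ⟨0, 0, 0, by simp⟩
  | base_cycles σ hσ =>
    have hord : orderOf σ ∣ 8 := orderOf_dvd_of_pow_eq_one h
    have hcard : orderOf σ = σ.support.card := hσ.orderOf
    have h2 : 2 ≤ σ.support.card := hσ.two_le_card_support
    have hsign : sign σ = -(-1) ^ σ.support.card := hσ.sign
    have h8 : (8 : ℕ) = 2 ^ 3 := by norm_num
    rw [h8] at hord
    obtain ⟨j, hj, hj'⟩ := (Nat.dvd_prime_pow Nat.prime_two).mp hord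
    have hj3 : j = 1 ∨ j = 2 ∨ j = 3 := by
      rcases j with _ | _ | _ | _ | j
      · rw [hj'] at hcard; omega
      · left; rfl
      · right; left; rfl
      · right; right; rfl
      · omega
    rcases hj3 with rfl | rfl | rfl
    · -- a transposition
      have ho : orderOf σ = 2 := by rw [hj']; norm_num
      have hs2 : σ ^ 2 = 1 := by rw [← ho]; exact pow_orderOf_eq_one σ
      have hs4 : σ ^ 4 = 1 := by
        have : σ ^ 4 = (σ ^ 2) ^ 2 := by rw [← pow_mul]
        rw [this, hs2, one_pow]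
      refine ⟨1, 0, 0, ?_, ?_, ?_, ?_⟩
      · rw [← hcard, ho]
      · rw [hs2]; simp
      · rw [hs4]; simp
      · rw [hsign, ← hcard, ho]; norm_num
    · have ho : orderOf σ = 4 := by rw [hj']; norm_num
      have hs4 : σ ^ 4 = 1 := by rw [← ho]; exact pow_orderOf_eq_one σ
      refine ⟨0, 1, 0, ?_, ?_, ?_, ?_⟩
      · rw [← hcard, ho]
      · rw [support_pow_of_isCycle hσ 2 (by rw [ho]; norm_num), ← hcard, ho]
      · rw [hs4]; simp
      · rw [hsign, ← hcard, ho]; norm_num
    · have ho : orderOf σ = 8 := by rw [hj']; norm_num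
      refine ⟨0, 0, 1, ?_, ?_, ?_, ?_⟩
      · rw [← hcard, ho]
      · rw [support_pow_of_isCycle hσ 2 (by rw [ho]; norm_num), ← hcard, ho]
      · rw [support_pow_of_isCycle hσ 4 (by rw [ho]; norm_num), ← hcard, ho]
      · rw [hsign, ← hcard, ho]; norm_num
  | induction_disjoint σ τ hd hc ihσ ihτ =>
    have hmul : (σ * τ) ^ 8 = σ ^ 8 * τ ^ 8 := hd.commute.mul_pow 8
    rw [hmul] at h
    obtain ⟨h1, h2⟩ := ((hd.pow_disjoint_pow 8 8).mul_eq_one_iff).mp h
    obtain ⟨a2, a4, a8, ha1, ha2, ha3, ha4⟩ := ihσ h1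
    obtain ⟨b2, b4, b8, hb1, hb2, hb3, hb4⟩ := ihτ h2
    refine ⟨a2 + b2, a4 + b4, a8 + b8, ?_, ?_, ?_, ?_⟩
    · rw [hd.card_support_mul, ha1, hb1]; ring
    · rw [hd.commute.mul_pow 2, (hd.pow_disjoint_pow 2 2).card_support_mul, ha2, hb2]; ring
    · rw [hd.commute.mul_pow 4, (hd.pow_disjoint_pow 4 4).card_support_mul, ha3, hb3]; ring
    · rw [map_mul, ha4, hb4, ← pow_add]; congr 1; ring

/-- `σ ^ 4 = 1` with `a` fixed points, `b` points fixed by `σ²`, on `n ≡ 4 mod 8` points,
`a = 2`, `b = 4`: an odd permutation. -/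
theorem sign_eq_neg_one_of_pow_four (σ : Perm X) (h : σ ^ 4 = 1)
    (hn : Fintype.card X % 8 = 4)
    (ha : (Finset.univ.filter fun x => σ x = x).card = 2)
    (hb : (Finset.univ.filter fun x => (σ ^ 2) x = x).card = 4) : sign σ = -1 := by
  have h8 : σ ^ 8 = 1 := by
    have : σ ^ 8 = (σ ^ 4) ^ 2 := by rw [← pow_mul]
    rw [this, h, one_pow]
  obtain ⟨c2, c4, c8, h1, h2, h3, h4⟩ := sign_data_of_pow_eight σ h8
  rw [h] at h3
  have hc8 : c8 = 0 := by simpa using h3.symm
  have hsupp : ∀ τ : Perm X, τ.support.card + (Finset.univ.filter fun x => τ x = x).card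
      = Fintype.card X := by
    intro τ
    have : τ.support = Finset.univ.filter fun x => τ x ≠ x := by
      ext x; simp
    rw [this, add_comm]
    exact Finset.card_filter_add_card_filter_not (s := Finset.univ) (fun x => τ x = x)
  have e1 := hsupp σ
  have e2 := hsupp (σ ^ 2)
  rw [ha] at e1
  rw [hb] at e2
  have hodd : Odd (c2 + c4 + c8) := by
    rw [Nat.odd_iff]; omega
  rw [h4, hodd.neg_one_pow]

/-- an even involution: the support has cardinality divisible by `4` -/
theorem four_dvd_card_support_of_sq_eq_one (σ : Perm X) (h : σ ^ 2 = 1) (hs : sign σ = 1) :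
    4 ∣ σ.support.card := by
  have h8 : σ ^ 8 = 1 := by
    have : σ ^ 8 = (σ ^ 2) ^ 4 := by rw [← pow_mul]
    rw [this, h, one_pow]
  obtain ⟨c2, c4, c8, h1, h2, h3, h4⟩ := sign_data_of_pow_eight σ h8
  have h4' : σ ^ 4 = 1 := by
    have : σ ^ 4 = (σ ^ 2) ^ 2 := by rw [← pow_mul]
    rw [this, h, one_pow]
  rw [h] at h2
  rw [h4'] at h3
  have hc8 : c8 = 0 := by simpa using h3.symm
  have hc4 : c4 = 0 := by
    have : 4 * c4 + 8 * c8 = 0 := by simpa using h2.symm
    omega
  rw [hs] at h4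
  have heven : Even (c2 + c4 + c8) := by
    by_contra hne
    rw [Nat.not_even_iff_odd] at hne
    rw [hne.neg_one_pow] at h4
    exact absurd h4 (by decide)
  rw [h1]
  obtain ⟨k, hk⟩ := heven
  exact ⟨k, by omega⟩

/-- an element of order dividing `8` which moves exactly `8` points, all of which are also moved by
its fourth power, is an `8`-cycle, hence odd. -/
theorem sign_eq_neg_one_of_eight (σ : Perm X) (h : σ ^ 8 = 1) (h1 : σ.support.card = 8)
    (h2 : (σ ^ 4).support.card = 8) : sign σ = -1 := by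
  obtain ⟨c2, c4, c8, e1, e2, e3, e4⟩ := sign_data_of_pow_eight σ h
  have hodd : Odd (c2 + c4 + c8) := by
    rw [Nat.odd_iff]; omega
  rw [e4, hodd.neg_one_pow]

end Cfsg.Agent.Lib.Helper25.NS720
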