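import Mathlib
import Cfsg.Agent.Lib.Helper25.NS720a

/-!
# Endgame lemma for `no_simple_720`

`NS720.false_of_order_four`: a finite group all of whose homomorphisms to `ℤˣ` are trivial
cannot contain an element `y` of order `4` with `|C_G(y²)| = 16`, `|N_G(⟨y⟩)| = 8` and
`|G| ≡ 16 mod 32`: on `G ⧸ ⟨y⟩` the element `y` acts as an odd permutation.
-/

set_option autoImplicit false

namespace Cfsg.Agent.Lib.Helper25.NS720

open Equiv Equiv.Perm

variable {G : Type*} [Group G]

/-- the elements of order two of a cyclic group of order four -/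
theorem eq_sq_of_mem_zpowers_of_orderOf_eq_two {y h : G} (hy : orderOf y = 4)
    (hh : h ∈ Subgroup.zpowers y) (ho : orderOf h = 2) : h = y ^ 2 := by
  classical
  have hfin : IsOfFinOrder y := orderOf_pos_iff.mp (by rw [hy]; norm_num)
  rw [hfin.mem_zpowers_iff_mem_range_orderOf, hy] at hh
  obtain ⟨k, hk, rfl⟩ := Finset.mem_image.mp hh
  have hk4 : k < 4 := Finset.mem_range.mp hk
  have h4 : y ^ 4 = 1 := by rw [← hy]; exact pow_orderOf_eq_one y
  interval_cases k
  · simp at ho
  · simp only [pow_one] at ho; omega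
  · rfl
  · exfalso
    have h2 : (y ^ 3) ^ 2 = 1 := by rw [← ho]; exact pow_orderOf_eq_one _
    have h6 : y ^ 2 = 1 := by
      have : (y ^ 3) ^ 2 = y ^ 4 * y ^ 2 := by rw [← pow_mul, ← pow_add]
      rw [this, h4, one_mul] at h2
      exact h2
    have := orderOf_dvd_of_pow_eq_one h6
    rw [hy] at this
    omega

theorem orderOf_sq_of_orderOf_eq_four {y : G} (hy : orderOf y = 4) : orderOf (y ^ 2) = 2 := by
  rw [orderOf_pow' y (by norm_num : (2:ℕ) ≠ 0), hy]; norm_num

/-- membership in the normalizer of a finite cyclic group -/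
theorem mem_normalizer_zpowers_iff [Finite G] {y g : G} :
    g ∈ Subgroup.normalizer ((Subgroup.zpowers y : Subgroup G) : Set G) ↔ g⁻¹ * y * g ∈ Subgroup.zpowers y := by
  constructor
  · intro hg
    have hg' : g⁻¹ ∈ Subgroup.normalizer ((Subgroup.zpowers y : Subgroup G) : Set G) := inv_mem hg
    have := (Subgroup.mem_normalizer_iff.mp hg' y).mp (Subgroup.mem_zpowers y)
    simpa using this
  · intro h
    have hg' : g⁻¹ ∈ Subgroup.normalizer ((Subgroup.zpowers y : Subgroup G) : Set G) := by
      apply Subgroup.mem_normalizer_fintype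
      intro n hn
      rw [SetLike.mem_coe] at hn ⊢
      obtain ⟨k, rfl⟩ := Subgroup.mem_zpowers_iff.mp hn
      have : g⁻¹ * y ^ k * g⁻¹⁻¹ = (g⁻¹ * y * g) ^ k := by
        rw [inv_inv]
        have := map_zpow (MulAut.conj g⁻¹) y k
        simp only [MulAut.conj_apply, inv_inv] at this
        exact this
      rw [this]
      exact zpow_mem h k
    simpa using inv_mem hg'

theorem false_of_order_four [Finite G] (hG : ∀ (f : G →* ℤˣ) (g : G), f g = 1)
    (y : G) (hy : orderOf y = 4)
    (hC : Nat.card (Subgroup.centralizer {y ^ 2}) = 16)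
    (hN : Nat.card (Subgroup.normalizer ((Subgroup.zpowers y : Subgroup G) : Set G)) = 8)
    (hcard : Nat.card G % 32 = 16) : False := by
  classical
  set H : Subgroup G := Subgroup.zpowers y with hH
  have hHcard : Nat.card H = 4 := by rw [hH, Nat.card_zpowers, hy]
  haveI : Fintype (G ⧸ H) := Fintype.ofFinite _
  have hX : Nat.card G = Nat.card (G ⧸ H) * 4 := by
    rw [← hHcard]; exact Subgroup.card_eq_card_quotient_mul_card_subgroup H
  set f : G →* ℤˣ := sign.comp (MulAction.toPermHom G (G ⧸ H)) with hf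
  set σ : Perm (G ⧸ H) := MulAction.toPermHom G (G ⧸ H) y with hσ
  have hσapp : ∀ (k : ℕ) (q : G ⧸ H), (σ ^ k) q = y ^ k • q := by
    intro k q
    rw [hσ, ← map_pow]; rfl
  have h4 : σ ^ 4 = 1 := by
    rw [hσ, ← map_pow, ← hy, pow_orderOf_eq_one, map_one]
  have hn : Fintype.card (G ⧸ H) % 8 = 4 := by
    rw [← Nat.card_eq_fintype_card]; omega
  -- fixed points of `y`
  have hpre1 : (QuotientGroup.mk : G → G ⧸ H) ⁻¹' {q | y • q = q}
      = (Subgroup.normalizer ((Subgroup.zpowers y : Subgroup G) : Set G) : Set G) := by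
    ext g
    simp only [Set.mem_preimage, Set.mem_ofPred_eq, SetLike.mem_coe]
    rw [mem_normalizer_zpowers_iff]
    change ((y * g : G) : G ⧸ H) = (g : G ⧸ H) ↔ _
    rw [QuotientGroup.eq]
    have e : (y * g)⁻¹ * g = (g⁻¹ * y * g)⁻¹ := by group
    rw [e, inv_mem_iff]
  have hfix1 : Nat.card {q : G ⧸ H | y • q = q} = 2 := by
    have := QuotientGroup.card_preimage_mk H {q : G ⧸ H | y • q = q}
    rw [hpre1, hHcard] at this
    have hN' : Nat.card (Subgroup.normalizer ((Subgroup.zpowers y : Subgroup G) : Set G) : Set G) = 8 := hN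
    rw [hN'] at this
    omega
  have hpre2 : (QuotientGroup.mk : G → G ⧸ H) ⁻¹' {q | y ^ 2 • q = q}
      = ((Subgroup.centralizer {y ^ 2} : Subgroup G) : Set G) := by
    ext g
    simp only [Set.mem_preimage, Set.mem_ofPred_eq, SetLike.mem_coe]
    change ((y ^ 2 * g : G) : G ⧸ H) = (g : G ⧸ H) ↔ _
    rw [QuotientGroup.eq, Subgroup.mem_centralizer_iff]
    have e : (y ^ 2 * g)⁻¹ * g = (g⁻¹ * y ^ 2 * g)⁻¹ := by group
    rw [e, inv_mem_iff]
    constructor
    · intro h
      have ho : orderOf (g⁻¹ * y ^ 2 * g) = 2 := by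
        have : g⁻¹ * y ^ 2 * g = (MulAut.conj g⁻¹) (y ^ 2) := by simp
        rw [this, MulEquiv.orderOf_eq, orderOf_sq_of_orderOf_eq_four hy]
      have := eq_sq_of_mem_zpowers_of_orderOf_eq_two hy h ho
      intro z hz
      rw [Set.mem_singleton_iff] at hz
      subst hz
      calc y ^ 2 * g = g * (g⁻¹ * y ^ 2 * g) := by group
        _ = g * y ^ 2 := by rw [this]
    · intro h
      have h2 := h (y ^ 2) (Set.mem_singleton _)
      have : g⁻¹ * y ^ 2 * g = y ^ 2 := by
        rw [mul_assoc, h2, ← mul_assoc, inv_mul_cancel, one_mul]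
      rw [this]
      exact pow_mem (Subgroup.mem_zpowers y) 2
  have hfix2 : Nat.card {q : G ⧸ H | y ^ 2 • q = q} = 4 := by
    have := QuotientGroup.card_preimage_mk H {q : G ⧸ H | y ^ 2 • q = q}
    rw [hpre2, hHcard] at this
    have hC' : Nat.card ((Subgroup.centralizer {y ^ 2} : Subgroup G) : Set G) = 16 := hC
    rw [hC'] at this
    omega
  have ha : (Finset.univ.filter fun x => σ x = x).card = 2 := by
    rw [← hfix1, Nat.card_eq_fintype_card, ← Fintype.card_subtype]
    apply Fintype.card_congr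
    apply Equiv.subtypeEquivRight
    intro q
    have := hσapp 1 q
    simp only [pow_one] at this
    rw [this]; rfl
  have hb : (Finset.univ.filter fun x => (σ ^ 2) x = x).card = 4 := by
    rw [← hfix2, Nat.card_eq_fintype_card, ← Fintype.card_subtype]
    apply Fintype.card_congr
    apply Equiv.subtypeEquivRight
    intro q
    rw [hσapp 2 q]; rfl
  have hs := sign_eq_neg_one_of_pow_four σ h4 hn ha hb
  have h1 := hG f y
  have h2 : f y = sign σ := rfl
  rw [h2, hs] at h1
  exact absurd h1 (by decide)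

/-- in a simple group of order `> 2` every homomorphism to `ℤˣ` is trivial -/
theorem hom_units_trivial_of_simple [Finite G] [IsSimpleGroup G] (h : 2 < Nat.card G)
    (f : G →* ℤˣ) (g : G) : f g = 1 := by
  rcases (f.normal_ker).eq_bot_or_eq_top with h1 | h1
  · exfalso
    have hinj : Function.Injective f := (MonoidHom.ker_eq_bot_iff f).mp h1
    have := Nat.card_le_card_of_injective f hinj
    have h2 : Nat.card ℤˣ = 2 := by
      rw [Nat.card_eq_fintype_card]; rfl
    omega
  · have : g ∈ f.ker := by rw [h1]; trivial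
    exact this

end Cfsg.Agent.Lib.Helper25.NS720
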