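import Mathlib
import Cfsg.Agent.Lib.Helper12.S2933Defs

/-!
# S2933: the FO-A4 facts about `D` bundled as a proposition (helper25)
-/

set_option autoImplicit false

namespace Cfsg.Agent.Lib.Helper25.S2933

open Subgroup Cfsg.Agent.Lib.Helper12.S2933

variable {T : Type*} [Group T] {V : Subgroup T} {τ σ : MulAut T}

/-- the seven facts of FO-A4 about `H.D` -/
structure A4 (H : Hyp V τ σ) : Prop where
  V_le_D : V ≤ H.D
  D_σ : ∀ x ∈ H.D, σ x ∈ H.D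
  D_τ : ∀ x ∈ H.D, τ x ∈ H.D
  D_sq : ∀ x ∈ H.D, x * x ∈ V
  card_D : (∃ x : T, x ∉ V) → Nat.card H.D = 16
  D_comm : ∀ a ∈ H.D, ∀ b ∈ H.D, a * b = b * a
  D_central : ∀ x ∈ H.D, ∀ y : T, x * y * x⁻¹ * y⁻¹ ∈ V

end Cfsg.Agent.Lib.Helper25.S2933
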