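import Mathlib
import Cfsg.Agent.Lib.Helper12.S2933Defs
import Cfsg.Agent.Lib.Helper20.Ord64C
import Cfsg.Agent.Lib.Helper24.S2933FOA
import Cfsg.Agent.Lib.Helper25.S2933A4

/-!
# S2933 FO-B (helper25, for helper12): the hypotheses pass to the quotient `T ⧸ V` with `D / V`
(version with the FO-A4 facts as a hypothesis `A4 H`)
-/

set_option autoImplicit false

namespace Cfsg.Agent.Lib.Helper25.S2933

open Subgroup Cfsg.Agent.Lib.Helper12.S2933 Cfsg.Agent.Lib.Helper20.Ord64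
open Cfsg.Agent.Lib.Helper24.S2933FOA

variable {T : Type*} [Group T] {V : Subgroup T} {τ σ : MulAut T}

/-- counting form of the first isomorphism theorem for `mk' M` restricted to `H ≥ M` -/
theorem card_map_mk_of_le' {G : Type*} [Group G] (M : Subgroup G) [M.Normal] {H : Subgroup G}
    (h : M ≤ H) : Nat.card (H.map (QuotientGroup.mk' M)) * Nat.card M = Nat.card H := by
  have key : Nat.card (H.map (QuotientGroup.mk' M)) *
      Nat.card (H ⊓ (QuotientGroup.mk' M).ker : Subgroup G) = Nat.card H := by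
    rw [← MonoidHom.domRestrict_range, ← Subgroup.index_ker, MonoidHom.ker_domRestrict,
      ← Subgroup.inf_subgroupOf_left (QuotientGroup.mk' M).ker H,
      ← Nat.card_congr (Subgroup.subgroupOfEquivOfLe
        (inf_le_left : H ⊓ (QuotientGroup.mk' M).ker ≤ H)).toEquiv,
      mul_comm, Subgroup.card_mul_index]
  rwa [QuotientGroup.ker_mk', inf_eq_right.mpr h] at key

/-- **FO-B**, with the `D`-facts (FO-A4) as a hypothesis. -/
theorem quot_aux (H : Hyp V τ σ) (A : A4 H) [V.Normal] (hne : ∃ x : T, x ∉ V) :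
    Hyp (H.D.map (QuotientGroup.mk' V)) H.τq H.σq := by
  haveI := H.fin
  have hfp := fpf3 H
  refine
    { fin := inferInstance
      pg := H.pg.to_quotient V
      Vcen := ?_
      Vcard := ?_
      Vsq := ?_
      τ2 := ?_
      σ3 := ?_
      comm := ?_
      τV := ?_
      σV := ?_
      σVfpf := ?_
      fix := ?_ }
  · -- Vcen
    rintro _ ⟨x, hx, rfl⟩ q
    obtain ⟨y, rfl⟩ := QuotientGroup.mk_surjective q
    have h1 := A.D_central x hx y
    change ((x : T) : T ⧸ V) * (y : T ⧸ V) = (y : T ⧸ V) * (x : T ⧸ V)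
    rw [← QuotientGroup.mk_mul, ← QuotientGroup.mk_mul, QuotientGroup.eq]
    -- use centrality of the commutator
    have hc := H.Vcen _ h1
    have e3 : (x * y)⁻¹ * (y * x) = (x * y * x⁻¹ * y⁻¹)⁻¹ := by
      have h2 := hc (y * x)
      -- (xyx⁻¹y⁻¹)(yx) = xy
      have h3 : (x * y * x⁻¹ * y⁻¹) * (y * x) = x * y := by group
      rw [h3] at h2
      calc (x * y)⁻¹ * (y * x) = (x * y)⁻¹ * (y * x) * ((x * y * x⁻¹ * y⁻¹) * (x * y * x⁻¹ * y⁻¹)⁻¹) := by
            group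
        _ = (x * y)⁻¹ * (y * x * (x * y * x⁻¹ * y⁻¹)) * (x * y * x⁻¹ * y⁻¹)⁻¹ := by group
        _ = (x * y)⁻¹ * (x * y) * (x * y * x⁻¹ * y⁻¹)⁻¹ := by rw [← h2]
        _ = (x * y * x⁻¹ * y⁻¹)⁻¹ := by group
    rw [e3]
    exact V.inv_mem h1
  · -- Vcard
    have h1 := card_map_mk_of_le' V (A.V_le_D)
    rw [A.card_D hne, H.Vcard] at h1
    omega
  · -- Vsq
    rintro _ ⟨x, hx, rfl⟩
    change ((x : T) : T ⧸ V) * (x : T ⧸ V) = 1
    rw [← QuotientGroup.mk_mul, QuotientGroup.eq_one_iff]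
    exact A.D_sq x hx
  · -- τ2
    intro q
    obtain ⟨x, rfl⟩ := QuotientGroup.mk_surjective q
    change H.τq (H.τq (x : T ⧸ V)) = (x : T ⧸ V)
    rw [Hyp.τq_mk, Hyp.τq_mk, H.τ2]
  · -- σ3
    intro q
    obtain ⟨x, rfl⟩ := QuotientGroup.mk_surjective q
    change H.σq (H.σq (H.σq (x : T ⧸ V))) = (x : T ⧸ V)
    rw [Hyp.σq_mk, Hyp.σq_mk, Hyp.σq_mk, H.σ3]
  · -- comm
    intro q
    obtain ⟨x, rfl⟩ := QuotientGroup.mk_surjective q
    change H.τq (H.σq (x : T ⧸ V)) = H.σq (H.τq (x : T ⧸ V))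
    rw [Hyp.σq_mk, Hyp.τq_mk, Hyp.τq_mk, Hyp.σq_mk, H.comm]
  · -- τV
    rintro _ ⟨x, hx, rfl⟩
    change H.τq (x : T ⧸ V) = (x : T ⧸ V)
    rw [Hyp.τq_mk, eq_comm, QuotientGroup.eq]
    exact hx
  · -- σV
    rintro _ ⟨x, hx, rfl⟩
    change H.σq (x : T ⧸ V) ∈ _
    rw [Hyp.σq_mk]
    exact ⟨σ x, A.D_σ x hx, rfl⟩
  · -- σVfpf
    rintro _ ⟨x, hx, rfl⟩ hfix
    change H.σq (x : T ⧸ V) = (x : T ⧸ V) at hfix
    rw [Hyp.σq_mk, eq_comm, QuotientGroup.eq] at hfix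
    have h2 : σ x * x⁻¹ ∈ V := (Subgroup.Normal.mem_comm_iff inferInstance).mp hfix
    have h3 : x ∈ V := hfp.mem_of_twist_mem V H.σV x h2
    exact (QuotientGroup.eq_one_iff x).mpr h3
  · -- fix
    intro q hq
    obtain ⟨x, rfl⟩ := QuotientGroup.mk_surjective q
    change H.τq (x : T ⧸ V) = (x : T ⧸ V) at hq
    rw [Hyp.τq_mk, eq_comm, QuotientGroup.eq] at hq
    exact ⟨x, hq, rfl⟩

end Cfsg.Agent.Lib.Helper25.S2933
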