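import Mathlib
import Cfsg.Agent.Lib.Helper12.S2933Defs
import Cfsg.Agent.Lib.Helper20.Ord64C
import Cfsg.Agent.Lib.Helper24.S2933FOA
import Cfsg.Agent.Lib.Helper25.S2933A4

/-!
# S2933 FO-E1 (helper25, for helper12): `φ y ∈ D₃` and `D₃` is abelian
-/

set_option autoImplicit false

namespace Cfsg.Agent.Lib.Helper25.S2933

open Subgroup Cfsg.Agent.Lib.Helper12.S2933 Cfsg.Agent.Lib.Helper20.Ord64
open Cfsg.Agent.Lib.Helper24.S2933FOA

variable {T : Type*} [Group T] {V : Subgroup T} {τ σ : MulAut T}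

/-- `D₃`, the preimage of `D(T/V)` (same body as the skeleton's def) -/
def D3 (H : Hyp V τ σ) [V.Normal] (hQ : Hyp (H.D.map (QuotientGroup.mk' V)) H.τq H.σq) :
    Subgroup T := hQ.D.comap (QuotientGroup.mk' V)

/-- the closure of a `σ`-invariant set is `σ`-invariant -/
theorem closure_map_mem (ρ : MulAut T) (S : Set T) (hS : ∀ s ∈ S, ρ s ∈ closure S) :
    ∀ x ∈ closure S, ρ x ∈ closure S := by
  intro x hx
  induction hx using closure_induction with
  | mem y hy => exact hS y hy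
  | one => rw [map_one]; exact one_mem _
  | mul a b _ _ ha hb => rw [map_mul]; exact mul_mem ha hb
  | inv a _ ha => rw [map_inv]; exact inv_mem ha

/-- `φ` commutes with `σ` -/
theorem twist_σ (H : Hyp V τ σ) (x : T) : (σ x)⁻¹ * τ (σ x) = σ (x⁻¹ * τ x) := by
  rw [H.comm, map_mul, map_inv]

/-- generic form of E1a: in a non-abelian `Hyp`-group of order 64, `φ y ∈ D` for all `y` -/
theorem twist_mem_D_of_card (H : Hyp V τ σ) (A : A4 H) (hcard : Nat.card T = 64)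
    (hnc : ¬ ∀ a b : T, a * b = b * a) : ∀ y : T, y⁻¹ * τ y ∈ H.D := by
  haveI := H.fin
  have hfp := fpf3 H
  have S : Setup σ := ⟨hfp, hcard, fun h => hnc (fun a b => h.is_comm.comm a b)⟩
  -- `V = Z(T)`
  have hVZ : V ≤ center T := by
    intro v hv
    rw [mem_center_iff]
    intro g
    exact (H.Vcen v hv g).symm
  have hVZeq : V = center T := by
    apply Subgroup.eq_of_le_of_card_ge hVZ
    rw [S.card_center, H.Vcard]
  have hne : ∃ x : T, x ∉ V := by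
    by_contra hcon
    push Not at hcon
    have : V = ⊤ := eq_top_iff.mpr (fun x _ => hcon x)
    have h1 : Nat.card V = 64 := by rw [this, Subgroup.card_top, hcard]
    rw [H.Vcard] at h1
    omega
  have hD16 := A.card_D hne
  have hVD := A.V_le_D
  -- `D` is normal
  have hDn : ∀ d ∈ H.D, ∀ g : T, g * d * g⁻¹ ∈ H.D := by
    intro d hd g
    have h1 : g * d * g⁻¹ * d⁻¹ ∈ V := by
      rw [hVZeq]
      exact S.comm_mem_center g d
    have : g * d * g⁻¹ = (g * d * g⁻¹ * d⁻¹) * d := by group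
    rw [this]
    exact mul_mem (hVD h1) hd
  -- the subgroup `E = {q | φ q ∈ D}`
  let E : Subgroup T :=
    { carrier := {q | q⁻¹ * τ q ∈ H.D}
      one_mem' := by
        show (1 : T)⁻¹ * τ 1 ∈ H.D
        rw [map_one, inv_one, one_mul]
        exact one_mem _
      mul_mem' := by
        intro a b ha hb
        show (a * b)⁻¹ * τ (a * b) ∈ H.D
        have e : (a * b)⁻¹ * τ (a * b) = (b⁻¹ * (a⁻¹ * τ a) * b⁻¹⁻¹) * (b⁻¹ * τ b) := by
          rw [map_mul]; group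
        rw [e]
        exact mul_mem (hDn _ ha _) hb
      inv_mem' := by
        intro a ha
        show (a⁻¹)⁻¹ * τ a⁻¹ ∈ H.D
        have e : (a⁻¹)⁻¹ * τ a⁻¹ = a * (a⁻¹ * τ a)⁻¹ * a⁻¹ := by
          rw [map_inv]; group
        rw [e]
        exact hDn _ (inv_mem ha) _ }
  have hE : ∀ q, q ∈ E ↔ q⁻¹ * τ q ∈ H.D := fun q => Iff.rfl
  have hDE : H.D ≤ E := by
    intro d hd
    rw [hE]
    exact hVD hd
  have hEσ : ∀ x ∈ E, σ x ∈ E := by
    intro x hx
    rw [hE] at hx ⊢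
    rw [twist_σ H]
    exact A.D_σ _ hx
  have hDne : ∃ x : T, x ∉ H.D := by
    by_contra hcon
    push Not at hcon
    have : H.D = ⊤ := eq_top_iff.mpr (fun x _ => hcon x)
    rw [this, Subgroup.card_top, hcard] at hD16
    omega
  obtain ⟨x, hxD, hxE⟩ := exists_twist_mem H H.D (A.D_τ) hDne
  have hcase := eq_of_between H H.D ⊤ E (A.D_σ) hEσ hDE le_top
    (by rw [Subgroup.card_top, hcard, hD16])
  rcases hcase with h | h
  · exfalso
    apply hxD
    rw [← h]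
    exact hxE
  · intro y
    have : y ∈ E := by rw [h]; exact mem_top y
    exact this

/-- **FO-E1a.** -/
theorem twist_mem_D3_aux (H : Hyp V τ σ) [V.Normal]
    (hQ : Hyp (H.D.map (QuotientGroup.mk' V)) H.τq H.σq) (AQ : A4 hQ) (hcard : Nat.card (T ⧸ V) = 64)
    (hnc : ¬ ∀ a b : T ⧸ V, a * b = b * a) : ∀ y : T, y⁻¹ * τ y ∈ D3 H hQ := by
  intro y
  have h1 := twist_mem_D_of_card hQ AQ hcard hnc (y : T ⧸ V)
  show QuotientGroup.mk' V (y⁻¹ * τ y) ∈ hQ.D
  rw [map_mul, map_inv]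
  exact h1

/-- membership in `D₃` -/
theorem mem_D3_iff (H : Hyp V τ σ) (A : A4 H) [V.Normal]
    (hQ : Hyp (H.D.map (QuotientGroup.mk' V)) H.τq H.σq) (y : T) :
    y ∈ D3 H hQ ↔ y⁻¹ * τ y ∈ H.D := by
  have hVD := A.V_le_D
  constructor
  · intro hy
    have h1 : ((y : T ⧸ V))⁻¹ * H.τq (y : T ⧸ V) ∈ H.D.map (QuotientGroup.mk' V) := hy
    obtain ⟨d, hd, hde⟩ := h1
    have h2 : QuotientGroup.mk' V d = QuotientGroup.mk' V (y⁻¹ * τ y) := by
      rw [hde, map_mul, map_inv]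
      rfl
    have h3 : d⁻¹ * (y⁻¹ * τ y) ∈ V := QuotientGroup.eq.mp h2
    have : y⁻¹ * τ y = d * (d⁻¹ * (y⁻¹ * τ y)) := by group
    rw [this]
    exact mul_mem hd (hVD h3)
  · intro hy
    show ((y : T ⧸ V))⁻¹ * H.τq (y : T ⧸ V) ∈ H.D.map (QuotientGroup.mk' V)
    refine ⟨y⁻¹ * τ y, hy, ?_⟩
    rw [map_mul, map_inv]
    rfl

/-- the `τ`-trick: every `φ y` centralizes `D` -/
theorem twist_comm_D (H : Hyp V τ σ) (A : A4 H) (x : T) (hx : x ∈ H.D) (y : T) :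
    x * (y⁻¹ * τ y) = (y⁻¹ * τ y) * x := by
  -- `c g := x g x⁻¹ g⁻¹ ∈ V`
  have hc : ∀ g : T, x * g * x⁻¹ * g⁻¹ ∈ V := A.D_central x hx
  -- `x g = c g * g x`
  have hxg : ∀ g : T, x * g = (x * g * x⁻¹ * g⁻¹) * (g * x) := by intro g; group
  -- `c (τ y) = c y`
  have hv : x⁻¹ * τ x ∈ V := hx
  have hτx : τ x = x * (x⁻¹ * τ x) := by group
  have h1 : x * τ y * x⁻¹ * (τ y)⁻¹ = x * y * x⁻¹ * y⁻¹ := by
    have e1 : τ (τ x * y * (τ x)⁻¹ * y⁻¹) = x * τ y * x⁻¹ * (τ y)⁻¹ := by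
      simp only [map_mul, map_inv, H.τ2]
    have e2 : τ x * y * (τ x)⁻¹ * y⁻¹ = x * y * x⁻¹ * y⁻¹ := by
      rw [hτx]
      have hcen := H.Vcen _ hv
      calc x * (x⁻¹ * τ x) * y * (x * (x⁻¹ * τ x))⁻¹ * y⁻¹
          = x * ((x⁻¹ * τ x) * y) * (x⁻¹ * τ x)⁻¹ * x⁻¹ * y⁻¹ := by group
        _ = x * (y * (x⁻¹ * τ x)) * (x⁻¹ * τ x)⁻¹ * x⁻¹ * y⁻¹ := by rw [hcen y]
        _ = x * y * x⁻¹ * y⁻¹ := by group
    rw [← e1, e2]
    exact H.τV _ (hc y)
  -- conclude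
  have h2 : x * τ y = (x * y * x⁻¹ * y⁻¹) * (τ y * x) := by
    rw [← h1]; group
  have h3 : x * y⁻¹ = (x * y * x⁻¹ * y⁻¹)⁻¹ * (y⁻¹ * x) := by
    have hcen := H.Vcen _ (hc y)
    -- x y = c (y x)  ⟹  y⁻¹ x = c x y⁻¹ ... use centrality
    have e := hxg y
    have e' : y⁻¹ * x = (x * y * x⁻¹ * y⁻¹) * (x * y⁻¹) := by
      calc y⁻¹ * x = y⁻¹ * (x * y) * y⁻¹ := by group
        _ = y⁻¹ * ((x * y * x⁻¹ * y⁻¹) * (y * x)) * y⁻¹ := by rw [← e]
        _ = y⁻¹ * (x * y * x⁻¹ * y⁻¹) * (y * x * y⁻¹) := by group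
        _ = (x * y * x⁻¹ * y⁻¹) * y⁻¹ * (y * x * y⁻¹) := by rw [← hcen y⁻¹]
        _ = (x * y * x⁻¹ * y⁻¹) * (x * y⁻¹) := by group
    rw [e']; group
  have hcen := H.Vcen _ (hc y)
  calc x * (y⁻¹ * τ y) = (x * y⁻¹) * τ y := by group
    _ = (x * y * x⁻¹ * y⁻¹)⁻¹ * (y⁻¹ * x) * τ y := by rw [h3]
    _ = (x * y * x⁻¹ * y⁻¹)⁻¹ * (y⁻¹ * (x * τ y)) := by group
    _ = (x * y * x⁻¹ * y⁻¹)⁻¹ * (y⁻¹ * ((x * y * x⁻¹ * y⁻¹) * (τ y * x))) := by rw [← h2]
    _ = (x * y * x⁻¹ * y⁻¹)⁻¹ * ((y⁻¹ * (x * y * x⁻¹ * y⁻¹)) * (τ y * x)) := by group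
    _ = (x * y * x⁻¹ * y⁻¹)⁻¹ * (((x * y * x⁻¹ * y⁻¹) * y⁻¹) * (τ y * x)) := by rw [hcen y⁻¹]
    _ = (y⁻¹ * τ y) * x := by group

/-- **FO-E1b.** -/
theorem D3_comm_aux (H : Hyp V τ σ) (A : A4 H) [V.Normal]
    (hQ : Hyp (H.D.map (QuotientGroup.mk' V)) H.τq H.σq) (AQ : A4 hQ) (hcard : Nat.card (T ⧸ V) = 64)
    (hnc : ¬ ∀ a b : T ⧸ V, a * b = b * a) : ∀ a ∈ D3 H hQ, ∀ b ∈ D3 H hQ, a * b = b * a := by
  haveI := H.fin
  have hfp := fpf3 H
  have hVD := A.V_le_D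
  have hcardT : Nat.card T = Nat.card (T ⧸ V) * Nat.card V :=
    Subgroup.card_eq_card_quotient_mul_card_subgroup V
  rw [hcard, H.Vcard] at hcardT
  have hne : ∃ x : T, x ∉ V := by
    by_contra hcon
    push Not at hcon
    have : V = ⊤ := eq_top_iff.mpr (fun x _ => hcon x)
    have h1 : Nat.card V = Nat.card T := by rw [this, Subgroup.card_top]
    rw [H.Vcard, hcardT] at h1
    omega
  have hD16 := A.card_D hne
  -- `|D₃| = 64`
  have hneQ : ∃ q : T ⧸ V, q ∉ H.D.map (QuotientGroup.mk' V) := by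
    by_contra hcon
    push Not at hcon
    have : H.D.map (QuotientGroup.mk' V) = ⊤ := eq_top_iff.mpr (fun x _ => hcon x)
    have h1 : Nat.card (H.D.map (QuotientGroup.mk' V)) = 64 := by
      rw [this, Subgroup.card_top, hcard]
    rw [hQ.Vcard] at h1
    omega
  have hDQ16 := AQ.card_D hneQ
  have hD3card : Nat.card (D3 H hQ) = 64 := by
    have h1 : V ≤ D3 H hQ := by
      intro v hv
      rw [mem_D3_iff H A hQ]
      have : v⁻¹ * τ v = 1 := by rw [H.τV v hv]; group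
      rw [this]
      exact one_mem _
    have h2 : (D3 H hQ).map (QuotientGroup.mk' V) = hQ.D :=
      Subgroup.map_comap_eq_self_of_surjective (QuotientGroup.mk'_surjective V) _
    have key : Nat.card ((D3 H hQ).map (QuotientGroup.mk' V)) *
        Nat.card ((D3 H hQ) ⊓ (QuotientGroup.mk' V).ker : Subgroup T) = Nat.card (D3 H hQ) := by
      rw [← MonoidHom.domRestrict_range, ← Subgroup.index_ker, MonoidHom.ker_domRestrict,
        ← Subgroup.inf_subgroupOf_left (QuotientGroup.mk' V).ker (D3 H hQ),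
        ← Nat.card_congr (Subgroup.subgroupOfEquivOfLe
          (inf_le_left : (D3 H hQ) ⊓ (QuotientGroup.mk' V).ker ≤ D3 H hQ)).toEquiv,
        mul_comm, Subgroup.card_mul_index]
    rw [QuotientGroup.ker_mk', inf_eq_right.mpr h1, h2, hDQ16, H.Vcard] at key
    omega
  have hDD3 : H.D ≤ D3 H hQ := by
    intro d hd
    rw [mem_D3_iff H A hQ]
    exact hVD hd
  have hD3σ : ∀ x ∈ D3 H hQ, σ x ∈ D3 H hQ := by
    intro x hx
    rw [mem_D3_iff H A hQ] at hx ⊢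
    rw [twist_σ H]
    exact A.D_σ _ hx
  -- the centralizer of `D` in `D₃`
  set C : Subgroup T := centralizer (H.D : Set T) ⊓ D3 H hQ with hC
  have hDC : H.D ≤ C := by
    intro d hd
    refine Subgroup.mem_inf.mpr ⟨?_, hDD3 hd⟩
    rw [mem_centralizer_iff]
    intro e he
    exact A.D_comm e he d hd
  have hCσ : ∀ x ∈ C, σ x ∈ C := by
    intro x hx
    obtain ⟨hx1, hx2⟩ := Subgroup.mem_inf.mp hx
    refine Subgroup.mem_inf.mpr ⟨?_, hD3σ x hx2⟩
    rw [mem_centralizer_iff] at hx1 ⊢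
    intro e he
    -- `e = σ (σ² e)`
    have he' : σ (σ e) ∈ H.D := A.D_σ _ (A.D_σ _ he)
    have h1 := hx1 _ he'
    have h2 := congrArg σ h1
    rw [map_mul, map_mul, H.σ3] at h2
    exact h2
  -- some `φ y ∉ D`
  obtain ⟨y, hy⟩ : ∃ y : T, y ∉ D3 H hQ := by
    by_contra hcon
    push Not at hcon
    have : D3 H hQ = ⊤ := eq_top_iff.mpr (fun x _ => hcon x)
    rw [this, Subgroup.card_top, hcardT] at hD3card
    omega
  have hφD : y⁻¹ * τ y ∉ H.D := fun h => hy ((mem_D3_iff H A hQ y).mpr h)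
  have hφC : y⁻¹ * τ y ∈ C := by
    refine Subgroup.mem_inf.mpr ⟨?_, twist_mem_D3_aux H hQ AQ hcard hnc y⟩
    rw [mem_centralizer_iff]
    intro e he
    exact twist_comm_D H A e he y
  have hCeq : C = D3 H hQ := by
    rcases eq_of_between H H.D (D3 H hQ) C (A.D_σ) hCσ hDC inf_le_right
      (by rw [hD3card, hD16]) with h | h
    · exfalso
      apply hφD
      rw [← h]
      exact hφC
    · exact h
  have hD3cen : ∀ a ∈ D3 H hQ, ∀ d ∈ H.D, d * a = a * d := by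
    intro a ha d hd
    have : a ∈ C := by rw [hCeq]; exact ha
    exact (mem_centralizer_iff.mp (Subgroup.mem_inf.mp this).1) d hd
  -- `D₃ = ⟨D, x₃, σ x₃, σ² x₃⟩`
  set x₃ := y⁻¹ * τ y with hx₃
  have hx₃D3 : x₃ ∈ D3 H hQ := twist_mem_D3_aux H hQ AQ hcard hnc y
  set S : Set T := (H.D : Set T) ∪ {x₃, σ x₃, σ (σ x₃)} with hS
  have hSσ : ∀ s ∈ S, σ s ∈ closure S := by
    rintro s (hs | hs)
    · exact subset_closure (Or.inl (A.D_σ s hs))
    · rcases hs with rfl | rfl | rfl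
      · exact subset_closure (Or.inr (by simp))
      · exact subset_closure (Or.inr (by simp))
      · rw [H.σ3]
        exact subset_closure (Or.inr (by simp))
  have hMσ := closure_map_mem σ S hSσ
  have hDM : H.D ≤ closure S := fun d hd => subset_closure (Or.inl hd)
  have hMD3 : closure S ≤ D3 H hQ := by
    rw [closure_le]
    rintro s (hs | hs)
    · exact hDD3 hs
    · rcases hs with rfl | rfl | rfl
      · exact hx₃D3
      · exact hD3σ _ hx₃D3
      · exact hD3σ _ (hD3σ _ hx₃D3)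
  have hMeq : closure S = D3 H hQ := by
    rcases eq_of_between H H.D (D3 H hQ) (closure S) (A.D_σ) hMσ hDM hMD3
      (by rw [hD3card, hD16]) with h | h
    · exfalso
      apply hφD
      rw [← h]
      exact subset_closure (Or.inr (by simp))
    · exact h
  have hScomm : ∀ a ∈ S, ∀ b ∈ S, a * b = b * a := by
    have hx3mem : ∀ s ∈ ({x₃, σ x₃, σ (σ x₃)} : Set T), s ∈ D3 H hQ := by
      rintro s (rfl | rfl | rfl)
      · exact hx₃D3
      · exact hD3σ _ hx₃D3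
      · exact hD3σ _ (hD3σ _ hx₃D3)
    rintro a (ha | ha) b (hb | hb)
    · exact A.D_comm a ha b hb
    · exact hD3cen b (hx3mem b hb) a ha
    · exact (hD3cen a (hx3mem a ha) b hb).symm
    · rcases ha with rfl | rfl | rfl <;> rcases hb with rfl | rfl | rfl
      · rfl
      · exact hfp.comm1 x₃
      · exact hfp.comm2 x₃
      · exact (hfp.comm1 x₃).symm
      · rfl
      · exact hfp.comm3 x₃
      · exact (hfp.comm2 x₃).symm
      · exact (hfp.comm3 x₃).symm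
      · rfl
  intro a ha b hb
  rw [← hMeq] at ha hb
  exact Fpf3.closure_comm hScomm a ha b hb

end Cfsg.Agent.Lib.Helper25.S2933
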