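import Mathlib
import Cfsg.Agent.Lib.Helper12.S2933Defs
import Cfsg.Agent.Lib.Helper24.S2933FOA4
import Cfsg.Agent.Lib.Helper25.S2933FOBaux
import Cfsg.Agent.Lib.Helper25.S2933FOE1aux

/-!
# S2933 FO-B and FO-E1 (helper25, for helper12), exact skeleton signatures
-/

set_option autoImplicit false

namespace Cfsg.Agent.Lib.Helper25.S2933

open Subgroup Cfsg.Agent.Lib.Helper12.S2933 Cfsg.Agent.Lib.Helper20.Ord64

variable {T : Type*} [Group T] {V : Subgroup T} {τ σ : MulAut T}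

/-- the FO-A4 facts (helper24) -/
theorem a4 (H : Hyp V τ σ) : A4 H where
  V_le_D := Cfsg.Agent.Lib.Helper24.S2933FOA4.V_le_D H
  D_σ := Cfsg.Agent.Lib.Helper24.S2933FOA4.D_σ H
  D_τ := Cfsg.Agent.Lib.Helper24.S2933FOA4.D_τ H
  D_sq := Cfsg.Agent.Lib.Helper24.S2933FOA4.D_sq H
  card_D := Cfsg.Agent.Lib.Helper24.S2933FOA4.card_D H
  D_comm := Cfsg.Agent.Lib.Helper24.S2933FOA4.D_comm H
  D_central := Cfsg.Agent.Lib.Helper24.S2933FOA4.D_central H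

/-- **FO-B.** -/
theorem quot (H : Hyp V τ σ) [V.Normal] (hne : ∃ x : T, x ∉ V) :
    Hyp (H.D.map (QuotientGroup.mk' V)) H.τq H.σq :=
  quot_aux H (a4 H) hne

/-- **FO-E1a.** -/
theorem twist_mem_D3 (H : Hyp V τ σ) [V.Normal]
    (hQ : Hyp (H.D.map (QuotientGroup.mk' V)) H.τq H.σq) (hcard : Nat.card (T ⧸ V) = 64)
    (hnc : ¬ ∀ a b : T ⧸ V, a * b = b * a) : ∀ y : T, y⁻¹ * τ y ∈ D3 H hQ :=
  twist_mem_D3_aux H hQ (a4 hQ) hcard hnc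

/-- **FO-E1b.** -/
theorem D3_comm (H : Hyp V τ σ) [V.Normal]
    (hQ : Hyp (H.D.map (QuotientGroup.mk' V)) H.τq H.σq) (hcard : Nat.card (T ⧸ V) = 64)
    (hnc : ¬ ∀ a b : T ⧸ V, a * b = b * a) : ∀ a ∈ D3 H hQ, ∀ b ∈ D3 H hQ, a * b = b * a :=
  D3_comm_aux H (a4 H) hQ (a4 hQ) hcard hnc

end Cfsg.Agent.Lib.Helper25.S2933
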