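import Mathlib
import Cfsg.Agent.Lib.Helper24.Contribution

/-!
# The integer matrix of contributions `p^a ⟨χ°, ξ⟩` (helper25 library)

Built on helper24's `Contribution`: symmetric integer matrix, its row norms, valuations of the
entries in terms of heights.
-/

set_option autoImplicit false
open Cfsg

namespace Cfsg.Agent.Lib.Helper25

open Cfsg.Agent.Lib.Helper2 Cfsg.Agent.Lib.Helper24
open scoped ComplexConjugate

section

variable {G : Type*} [Group G] [Fintype G] {p : ℕ} [Fact p.Prime] {M : Ideal Cfsg.AlgInt}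

/-- the integer contributions `p^a ⟨χ°, ξ⟩` -/
noncomputable def contribN (p : ℕ) [Fact p.Prime] (χ ξ : Cfsg.IrrCharacter G) : ℤ :=
  (exists_int_card_pow_mul (p := p) χ ξ).choose

theorem contribN_spec (χ ξ : Cfsg.IrrCharacter G) :
    (p : ℂ) ^ (Nat.card G).factorization p
      * Cfsg.classInner (Cfsg.pRegularPart p (χ : G → ℂ)) (ξ : G → ℂ)
      = (contribN p χ ξ : ℂ) :=
  (exists_int_card_pow_mul (p := p) χ ξ).choose_spec

theorem contribN_symm (χ ξ : Cfsg.IrrCharacter G) : contribN p χ ξ = contribN p ξ χ := by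
  have h1 := contribN_spec (p := p) χ ξ
  have h2 := contribN_spec (p := p) ξ χ
  rw [classInner_pRegularPart_symm χ ξ, h2] at h1
  exact (Int.cast_injective (α := ℂ) h1).symm

theorem contribN_eq_zero (hM : Cfsg.IsPModular p M) (B : Set (Cfsg.IrrCharacter G))
    (hB : Cfsg.IsPBlock M B) (χ ξ : Cfsg.IrrCharacter G) (hχ : χ ∈ B) (hξ : ξ ∉ B) :
    contribN p χ ξ = 0 := by
  have h1 := contribN_spec (p := p) χ ξ
  rw [classInner_pRegularPart_eq_zero hM B hB χ ξ hχ hξ, mul_zero] at h1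
  exact_mod_cast h1.symm

theorem classInner_pRegularPart_self (χ : G → ℂ) :
    Cfsg.classInner (Cfsg.pRegularPart p χ) (Cfsg.pRegularPart p χ)
      = Cfsg.classInner (Cfsg.pRegularPart p χ) χ := by
  rw [classInner_def, classInner_def]
  congr 1
  apply Finset.sum_congr rfl; intro g _
  by_cases hg : p ∣ orderOf g
  · rw [pRegularPart_of_singular _ hg, zero_mul, zero_mul]
  · rw [pRegularPart_of_regular _ hg]

/-- the row norms of the contribution matrix -/
theorem sum_contribN_sq (hM : Cfsg.IsPModular p M) (B : Set (Cfsg.IrrCharacter G))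
    (hB : Cfsg.IsPBlock M B) (χ : Cfsg.IrrCharacter G) (hχ : χ ∈ B)
    [Fintype (Cfsg.IrrCharacter G)] [DecidablePred (· ∈ B)] :
    ∑ ξ : Cfsg.IrrCharacter G, (if ξ ∈ B then contribN p χ ξ ^ 2 else 0)
      = (p : ℤ) ^ (Nat.card G).factorization p * contribN p χ χ := by
  have hexp := pRegularPart_eq_sum_block hM B hB χ hχ
  have h1 : Cfsg.classInner (Cfsg.pRegularPart p (χ : G → ℂ)) (Cfsg.pRegularPart p (χ : G → ℂ))
      = ∑ ξ : Cfsg.IrrCharacter G, if ξ ∈ B then
        Cfsg.classInner (Cfsg.pRegularPart p (χ : G → ℂ)) (ξ : G → ℂ)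
        * conj (Cfsg.classInner (Cfsg.pRegularPart p (χ : G → ℂ)) (ξ : G → ℂ)) else 0 := by
    have h0 := congrArg (fun f => Cfsg.classInner f (Cfsg.pRegularPart p (χ : G → ℂ))) hexp
    rw [h0, Cfsg.Agent.Lib.Helper2.classInner_sum_left]
    apply Finset.sum_congr rfl; intro ξ _
    split_ifs
    · rw [classInner_smul_left, classInner_conj_symm]
    · rw [classInner_def]; simp
  rw [classInner_pRegularPart_self] at h1
  have h2 : ((p : ℂ) ^ (Nat.card G).factorization p) * ((p : ℂ) ^ (Nat.card G).factorization p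
      * Cfsg.classInner (Cfsg.pRegularPart p (χ : G → ℂ)) (χ : G → ℂ))
      = ∑ ξ : Cfsg.IrrCharacter G, if ξ ∈ B then
        ((p : ℂ) ^ (Nat.card G).factorization p
          * Cfsg.classInner (Cfsg.pRegularPart p (χ : G → ℂ)) (ξ : G → ℂ))
        * conj ((p : ℂ) ^ (Nat.card G).factorization p
          * Cfsg.classInner (Cfsg.pRegularPart p (χ : G → ℂ)) (ξ : G → ℂ)) else 0 := by
    rw [h1, Finset.mul_sum, Finset.mul_sum]
    apply Finset.sum_congr rfl; intro ξ _
    split_ifs
    · rw [map_mul, map_pow, Complex.conj_natCast]; ring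
    · simp
  simp only [contribN_spec, map_intCast] at h2
  have h3 : (((p : ℤ) ^ (Nat.card G).factorization p * contribN p χ χ : ℤ) : ℂ)
      = ((∑ ξ : Cfsg.IrrCharacter G, (if ξ ∈ B then contribN p χ ξ ^ 2 else 0) : ℤ) : ℂ) := by
    push_cast
    rw [h2]
    apply Finset.sum_congr rfl; intro ξ _
    split_ifs
    · ring
    · rfl
  exact (Int.cast_injective (α := ℂ) h3).symm

theorem contribN_self_pos (χ : Cfsg.IrrCharacter G) : 0 < contribN p χ χ := by
  have hp : p.Prime := Fact.out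
  have h1 := contribN_spec (p := p) χ χ
  rw [classInner_def] at h1
  have hterm : ∀ g : G, Cfsg.pRegularPart p (χ : G → ℂ) g * conj ((χ : G → ℂ) g)
      = (((if p ∣ orderOf g then 0 else ‖(χ : G → ℂ) g‖ ^ 2 : ℝ)) : ℂ) := by
    intro g
    by_cases hg : p ∣ orderOf g
    · rw [pRegularPart_of_singular _ hg, if_pos hg]; simp
    · rw [pRegularPart_of_regular _ hg, if_neg hg, Complex.mul_conj, Complex.normSq_eq_norm_sq]
  rw [Finset.sum_congr rfl (fun g _ => hterm g)] at h1
  have h2 : ((contribN p χ χ : ℝ) : ℂ) = (((p : ℝ) ^ (Nat.card G).factorization p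
      * ((Nat.card G : ℝ)⁻¹ * ∑ g : G, (if p ∣ orderOf g then 0 else ‖(χ : G → ℂ) g‖ ^ 2 : ℝ)) : ℝ) : ℂ) := by
    push_cast
    rw [← h1]
  have h3 := Complex.ofReal_injective h2
  have hpos : (0 : ℝ) < (contribN p χ χ : ℝ) := by
    rw [h3]
    apply mul_pos (pow_pos (by exact_mod_cast hp.pos) _)
    apply mul_pos (inv_pos.mpr (by exact_mod_cast Nat.card_pos))
    apply lt_of_lt_of_le _ (Finset.single_le_sum (f := fun g : G =>
      (if p ∣ orderOf g then 0 else ‖(χ : G → ℂ) g‖ ^ 2 : ℝ)) (fun g _ => by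
        split_ifs
        · exact le_rfl
        · positivity) (Finset.mem_univ (1 : G)))
    have h1' : ¬ p ∣ orderOf (1 : G) := by
      rw [orderOf_one]; exact Nat.Prime.not_dvd_one hp
    simp only [if_neg h1']
    have : (χ : G → ℂ) 1 ≠ 0 := IsIrrCharacter.apply_one_ne_zero χ.2
    positivity
  exact_mod_cast hpos

theorem charDegree_mul_contribR (χ ξ : Cfsg.IrrCharacter G) :
    (Cfsg.charDegree (ξ : G → ℂ) : ℂ) * contribR p (χ : G → ℂ) (ξ : G → ℂ)
      = (contribN p χ ξ : ℂ) := by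
  rw [← apply_one_eq_charDegree, ← pow_mul_classInner_eq, contribN_spec]

/-- `p^(ν ξ(1))` divides `p^a ⟨χ°, ξ⟩` -/
theorem pow_dvd_contribN (hM : Cfsg.IsPModular p M) (χ ξ : Cfsg.IrrCharacter G) :
    (p : ℤ) ^ (Cfsg.charDegree (ξ : G → ℂ)).factorization p ∣ contribN p χ ξ := by
  rw [padicValInt_dvd_iff]
  by_cases h0 : contribN p χ ξ = 0
  · left; exact h0
  · right
    exact (int_val_lemma hM h0 (charDegree_ne_zero ξ) _ (charDegree_mul_contribR χ ξ)
      (contribR_memLocalRing hM χ ξ)).1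

/-- for `χ` of height zero the entries have the exact valuation -/
theorem contribN_of_height_zero (hM : Cfsg.IsPModular p M) (B : Set (Cfsg.IrrCharacter G))
    (hB : Cfsg.IsPBlock M B) (χ : Cfsg.IrrCharacter G) (hχ : χ ∈ B)
    (h0 : Cfsg.blockHeight p B (χ : G → ℂ) = 0) (ξ : Cfsg.IrrCharacter G) (hξ : ξ ∈ B) :
    contribN p χ ξ ≠ 0 ∧
      padicValInt p (contribN p χ ξ) = (Cfsg.charDegree (ξ : G → ℂ)).factorization p :=
  (contribR_not_memLocalIdeal_iff hM χ ξ _ (contribN_spec χ ξ)).mp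
    (contribR_not_memLocalIdeal_of_height_zero hM B hB χ hχ h0 ξ hξ)

/-- for `ψ` of positive height the entries have larger valuation -/
theorem pow_succ_dvd_contribN_of_pos_height (hM : Cfsg.IsPModular p M)
    (B : Set (Cfsg.IrrCharacter G)) (hB : Cfsg.IsPBlock M B) (ψ : Cfsg.IrrCharacter G)
    (hψ : ψ ∈ B) (hpos : Cfsg.blockHeight p B (ψ : G → ℂ) ≠ 0) (ξ : Cfsg.IrrCharacter G)
    (hξ : ξ ∈ B) :
    (p : ℤ) ^ ((Cfsg.charDegree (ξ : G → ℂ)).factorization p + 1) ∣ contribN p ψ ξ := by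
  rw [padicValInt_dvd_iff]
  by_cases h0 : contribN p ψ ξ = 0
  · left; exact h0
  · right
    have hv := int_val_lemma hM h0 (charDegree_ne_zero ξ) _ (charDegree_mul_contribR ψ ξ)
      (contribR_memLocalRing hM ψ ξ)
    have hI : Cfsg.MemLocalIdeal M (contribR p (ψ : G → ℂ) (ξ : G → ℂ)) := by
      by_contra hcon
      exact hpos (height_zero_of_contribR hM B hB ψ hψ ξ hξ hcon)
    have hne : padicValInt p (contribN p ψ ξ)
        ≠ (Cfsg.charDegree (ξ : G → ℂ)).factorization p := by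
      intro heq
      exact (hv.2.mpr heq) hI
    have := hv.1
    omega

end

end Cfsg.Agent.Lib.Helper25
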