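import Mathlib
import Cfsg.Prelude.Def_Blocks
import Cfsg.Agent.S0939
import Cfsg.Agent.Lib.Helper25.PrincipalQuot
import Cfsg.Agent.Lib.Helper25.Kernel
import Cfsg.Agent.Lib.Helper25.CharBasic
import Cfsg.Agent.Lib.Helper2.Regular
import Cfsg.Agent.Lib.Helper1.Cores

/-!
For a group with a normal `p`-complement (`O_{p'}(G)` of `p`-power index) the sum of the squares
of the degrees of the characters in the principal `p`-block is the index of `O_{p'}(G)`.
-/

set_option autoImplicit false
set_option linter.style.haveILetI false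
set_option linter.unusedSectionVars false

namespace Cfsg.Agent.Lib.Helper25

open Cfsg
open scoped ComplexConjugate

universe u

variable {G : Type u} [Group G] [Finite G]
variable {p : ℕ} {M : Ideal Cfsg.AlgInt}

theorem charDegree_inflIrr (N : Subgroup G) [N.Normal] (ψ : IrrCharacter (G ⧸ N)) :
    charDegree (inflIrr N ψ : G → ℂ) = charDegree (ψ : G ⧸ N → ℂ) := by
  have h1 := char_one_eq_charDegree (isCharacter_of_irr (inflIrr N ψ).2)
  have h2 := char_one_eq_charDegree (isCharacter_of_irr ψ.2)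
  rw [inflIrr_apply, QuotientGroup.mk_one, h2] at h1
  exact_mod_cast h1.symm

/-- The sum of the squares of the degrees of the characters of `G` which are trivial on the
normal subgroup `N` is `|G : N|`. -/
theorem sum_degree_sq_kernel_ge (N : Subgroup G) [N.Normal] :
    (∑ᶠ ψ ∈ {χ : IrrCharacter G | ∀ n ∈ N, (χ : G → ℂ) n = (χ : G → ℂ) 1},
      charDegree (ψ : G → ℂ) ^ 2) = N.index := by
  classical
  haveI := Fintype.ofFinite G
  haveI : Fintype (IrrCharacter G) := Fintype.ofFinite _
  haveI : Fintype (G ⧸ N) := Fintype.ofFinite _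
  haveI : Fintype (IrrCharacter (G ⧸ N)) := Fintype.ofFinite _
  have himg : {χ : IrrCharacter G | ∀ n ∈ N, (χ : G → ℂ) n = (χ : G → ℂ) 1} =
      Set.range (inflIrr N) := by
    ext χ
    constructor
    · intro hχ
      obtain ⟨ψ, hψ, hχψ⟩ := exists_deflation N χ.2 hχ
      refine ⟨⟨ψ, hψ⟩, ?_⟩
      apply Subtype.ext
      funext g
      rw [inflIrr_apply]
      exact (hχψ g).symm
    · rintro ⟨ψ, rfl⟩ n hn
      rw [inflIrr_apply, inflIrr_apply, QuotientGroup.mk_one, (QuotientGroup.eq_one_iff n).2 hn]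
  rw [himg, ← Set.image_univ, finsum_mem_image (fun a _ b _ h => inflIrr_injective N h)]
  rw [finsum_mem_univ, finsum_eq_sum_of_fintype]
  have h := Cfsg.Agent.Lib.Helper2.sum_irr_degree_sq (G := G ⧸ N)
  have h2 : ((∑ ψ : IrrCharacter (G ⧸ N), charDegree (inflIrr N ψ : G → ℂ) ^ 2 : ℕ) : ℂ) =
      (N.index : ℂ) := by
    rw [Subgroup.index_eq_card, ← h]
    push_cast
    apply Finset.sum_congr rfl
    intro ψ _
    rw [charDegree_inflIrr, char_one_eq_charDegree (isCharacter_of_irr ψ.2)]
  exact_mod_cast h2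

/-- For a group with a normal `p`-complement, the sum of the squares of the degrees in the
principal block is `|G : O_{p'}(G)|`. -/
theorem sum_degree_sq_principalBlock_of_normal_complement [Fact p.Prime]
    (hM : IsPModular p M) (hnc : ∃ k : ℕ, (Cfsg.pPrimeCore p G).index = p ^ k) :
    (∑ᶠ ψ ∈ principalBlock M G, charDegree (ψ : G → ℂ) ^ 2) = (Cfsg.pPrimeCore p G).index := by
  haveI : (Cfsg.pPrimeCore p G).Normal := Cfsg.Agent.Lib.Helper1.pPrimeCore_normal p
  rw [Cfsg.Agent.S0939.result p M hM hnc]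
  exact sum_degree_sq_kernel_ge (Cfsg.pPrimeCore p G)

/-- The same, cast to `ℚ` (the form of the hypothesis `hw` of `S4720`). -/
theorem sum_degree_sq_principalBlock_of_normal_complement_rat [Fact p.Prime]
    (hM : IsPModular p M) (hnc : ∃ k : ℕ, (Cfsg.pPrimeCore p G).index = p ^ k) :
    ((∑ᶠ ψ ∈ principalBlock M G, charDegree (ψ : G → ℂ) ^ 2 : ℕ) : ℚ) =
      ((Cfsg.pPrimeCore p G).index : ℚ) := by
  rw [sum_degree_sq_principalBlock_of_normal_complement hM hnc]

end Cfsg.Agent.Lib.Helper25
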