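import Mathlib
import Cfsg.Prelude.Def_GeometricClasses
import Cfsg.Agent.Lib.Helper25.SpinDefs

/-!
# S5707 layer SpinL1a (helper25) -- see notes/S5707_plan_helper25.md
L1a: pure tensor matrices / vectors, site permutations (all proved)
-/

set_option autoImplicit false
set_option linter.unusedSectionVars false

namespace Cfsg.Agent.Lib.Helper25.Spin

open Matrix

variable {F : Type*} [Field F]

variable {S : Type} [Fintype S] [DecidableEq S] {m : ℕ}

/-- ALG-PURE -/
theorem pureMat_mul (gs gs' : S → Matrix (Fin m) (Fin m) F) :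
    pureMat gs * pureMat gs' = pureMat (fun s => gs s * gs' s) := by
  ext x z
  simp only [Matrix.mul_apply, pureMat]
  rw [Finset.prod_univ_sum]
  simp only [Fintype.piFinset_univ, Finset.prod_mul_distrib]

/-- ALG-PURE -/
theorem pureMat_one : pureMat (fun _ : S => (1 : Matrix (Fin m) (Fin m) F)) = 1 := by
  ext x y
  simp only [pureMat, Matrix.one_apply]
  by_cases h : x = y
  · subst h; simp
  · rw [if_neg h]
    obtain ⟨s, hs⟩ := Function.ne_iff.mp h
    exact Finset.prod_eq_zero (Finset.mem_univ s) (by simp [hs])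

/-- ALG-PURE -/
theorem pureMat_transpose (gs : S → Matrix (Fin m) (Fin m) F) :
    (pureMat gs)ᵀ = pureMat (fun s => (gs s)ᵀ) := by
  ext x y
  simp [pureMat, Matrix.transpose_apply]

/-- ALG-PURE -/
theorem pureMat_mulVec (gs : S → Matrix (Fin m) (Fin m) F) (vs : S → Fin m → F) :
    pureMat gs *ᵥ pureVec vs = pureVec (fun s => gs s *ᵥ vs s) := by
  ext x
  simp only [Matrix.mulVec, dotProduct, pureMat, pureVec]
  rw [Finset.prod_univ_sum]
  simp only [Fintype.piFinset_univ, Finset.prod_mul_distrib]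

/-- ALG-PURE -/
theorem pureVec_single (x : S → Fin m) :
    pureVec (fun s => (Pi.single (x s) (1 : F) : Fin m → F)) = Pi.single x 1 := by
  ext y
  simp only [pureVec, Pi.single_apply]
  by_cases h : y = x
  · subst h; simp
  · rw [if_neg h]
    obtain ⟨s, hs⟩ := Function.ne_iff.mp h
    exact Finset.prod_eq_zero (Finset.mem_univ s) (by simp [hs])

/-- ALG-PERM -/
theorem permMat_mul (σ τ : Equiv.Perm S) :
    (permMat σ : Matrix (S → Fin m) (S → Fin m) F) * permMat τ = permMat (σ * τ) := by
  ext x z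
  simp only [Matrix.mul_apply, permMat]
  rw [Finset.sum_eq_single (x ∘ σ)]
  · simp only [if_true, one_mul]
    rfl
  · intro b _ hb
    rw [if_neg hb, zero_mul]
  · intro h; exact absurd (Finset.mem_univ _) h

/-- ALG-PERM -/
theorem permMat_one : (permMat (1 : Equiv.Perm S) : Matrix (S → Fin m) (S → Fin m) F) = 1 := by
  ext x y
  simp only [permMat, Matrix.one_apply]
  have : x ∘ ((1 : Equiv.Perm S) : S → S) = x := rfl
  rw [this]
  by_cases h : x = y
  · subst h; simp
  · rw [if_neg h, if_neg (fun h' => h h'.symm)]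

theorem permMat_apply_aux (σ : Equiv.Perm S) (x y : S → Fin m) :
    (permMat σ : Matrix (S → Fin m) (S → Fin m) F) x y = if y = x ∘ σ then 1 else 0 := rfl

/-- ALG-PERM -/
theorem permMat_mulVec (σ : Equiv.Perm S) (vs : S → Fin m → F) :
    (permMat σ : Matrix (S → Fin m) (S → Fin m) F) *ᵥ pureVec vs = pureVec (fun s => vs (σ⁻¹ s)) := by
  ext x
  simp only [Matrix.mulVec, dotProduct, permMat]
  rw [Finset.sum_eq_single (x ∘ σ)]
  · simp only [if_true, one_mul, pureVec]
    rw [← Equiv.prod_comp σ (fun s => vs (σ⁻¹ s) (x s))]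
    simp
  · intro b _ hb
    rw [if_neg hb, zero_mul]
  · intro h; exact absurd (Finset.mem_univ _) h

/-- ALG-PERM -/
theorem permMat_conj_pureMat (σ : Equiv.Perm S) (gs : S → Matrix (Fin m) (Fin m) F) :
    permMat σ * pureMat gs * permMat σ⁻¹ = pureMat (fun s => gs (σ⁻¹ s)) := by
  ext x z
  simp only [Matrix.mul_apply, permMat]
  rw [Finset.sum_eq_single (z ∘ σ)]
  · rw [Finset.sum_eq_single (x ∘ σ)]
    · have hz : z = (z ∘ σ) ∘ ((σ⁻¹ : Equiv.Perm S) : S → S) := by
        funext s; simp
      rw [if_pos rfl, if_pos hz, one_mul, mul_one]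
      simp only [pureMat]
      rw [← Equiv.prod_comp σ (fun s => gs (σ⁻¹ s) (x s) (z s))]
      simp
    · intro b _ hb
      rw [if_neg hb, zero_mul]
    · intro h; exact absurd (Finset.mem_univ _) h
  · intro b _ hb
    have : ¬ z = b ∘ ((σ⁻¹ : Equiv.Perm S) : S → S) := by
      intro h
      apply hb
      rw [h]; funext s; simp
    rw [if_neg this, mul_zero]
  · intro h; exact absurd (Finset.mem_univ _) h

end Cfsg.Agent.Lib.Helper25.Spin
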