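import Mathlib
import Cfsg.Prelude.Def_GeometricClasses
import Cfsg.Agent.Lib.Helper25.SpinDefs
import Cfsg.Agent.Lib.Helper25.SpinL1a

/-!
# S5707 layer SpinL1b (helper25) -- see notes/S5707_plan_helper25.md
L1b: single-site operators (all proved)
-/

set_option autoImplicit false
set_option linter.unusedSectionVars false

namespace Cfsg.Agent.Lib.Helper25.Spin

open Matrix

variable {F : Type*} [Field F]

variable {S : Type} [Fintype S] [DecidableEq S] {m : ℕ}

/-- ALG-OP -/
theorem op_apply (s : S) (A : Matrix (Fin m) (Fin m) F) (x y : S → Fin m) :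
    op s A x y = if ∀ s', s' ≠ s → x s' = y s' then A (x s) (y s) else 0 := by
  unfold op pureMat
  rw [← Finset.mul_prod_erase Finset.univ _ (Finset.mem_univ s)]
  rw [Function.update_self]
  have h1 : ∀ s' ∈ Finset.univ.erase s,
      (Function.update (fun _ => (1 : Matrix (Fin m) (Fin m) F)) s A s') (x s') (y s') =
        if x s' = y s' then (1 : F) else 0 := by
    intro s' hs'
    rw [Function.update_of_ne (Finset.ne_of_mem_erase hs')]
    rw [Matrix.one_apply]
  rw [Finset.prod_congr rfl h1, Finset.prod_ite_zero]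
  simp only [Finset.mem_erase, Finset.mem_univ, and_true, Finset.prod_const_one, mul_ite, mul_one,
    mul_zero]

theorem update_one_mul (s : S) (A A' : Matrix (Fin m) (Fin m) F) :
    (fun s' => Function.update (fun _ => (1 : Matrix (Fin m) (Fin m) F)) s A s' *
      Function.update (fun _ => (1 : Matrix (Fin m) (Fin m) F)) s A' s') =
    Function.update (fun _ => (1 : Matrix (Fin m) (Fin m) F)) s (A * A') := by
  funext s'
  by_cases h : s' = s
  · subst h; simp
  · simp [Function.update_of_ne h]

/-- ALG-OP -/
theorem op_mul (s : S) (A A' : Matrix (Fin m) (Fin m) F) : op s A * op s A' = op s (A * A') := by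
  unfold op
  rw [pureMat_mul, update_one_mul]

/-- ALG-OP -/
theorem op_comm {s s' : S} (h : s ≠ s') (A A' : Matrix (Fin m) (Fin m) F) :
    op s A * op s' A' = op s' A' * op s A := by
  unfold op
  rw [pureMat_mul, pureMat_mul]
  congr 1
  funext r
  by_cases h1 : r = s
  · subst h1
    simp [Function.update_of_ne h]
  · by_cases h2 : r = s'
    · subst h2
      simp [Function.update_of_ne h1]
    · simp [Function.update_of_ne h1, Function.update_of_ne h2]

/-- ALG-OP -/
theorem op_one (s : S) : op s (1 : Matrix (Fin m) (Fin m) F) = 1 := by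
  unfold op
  rw [Function.update_eq_self_iff.mpr rfl, pureMat_one]

/-- ALG-OP -/
theorem op_zero (s : S) : op s (0 : Matrix (Fin m) (Fin m) F) = 0 := by
  ext x y
  rw [op_apply]
  simp

/-- ALG-OP -/
theorem op_add (s : S) (A A' : Matrix (Fin m) (Fin m) F) : op s (A + A') = op s A + op s A' := by
  ext x y
  rw [Matrix.add_apply, op_apply, op_apply, op_apply]
  split_ifs <;> simp

/-- ALG-OP -/
theorem op_smul (s : S) (c : F) (A : Matrix (Fin m) (Fin m) F) : op s (c • A) = c • op s A := by
  ext x y
  rw [Matrix.smul_apply, op_apply, op_apply]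
  split_ifs <;> simp

/-- ALG-OP -/
theorem pureMat_conj_op (gs gs' : S → Matrix (Fin m) (Fin m) F) (h : ∀ s, gs s * gs' s = 1) (s : S)
    (A : Matrix (Fin m) (Fin m) F) :
    pureMat gs * op s A * pureMat gs' = op s (gs s * A * gs' s) := by
  unfold op
  rw [pureMat_mul, pureMat_mul]
  congr 1
  funext r
  by_cases h1 : r = s
  · subst h1
    simp
  · simp [Function.update_of_ne h1, h r]

/-- ALG-PERM -/
theorem permMat_conj_op (σ : Equiv.Perm S) (s : S) (A : Matrix (Fin m) (Fin m) F) :
    permMat σ * op s A * permMat σ⁻¹ = op (σ s) A := by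
  unfold op
  rw [permMat_conj_pureMat]
  congr 1
  funext r
  by_cases h1 : r = σ s
  · subst h1
    simp
  · have h2 : σ⁻¹ r ≠ s := by
      intro h
      apply h1
      rw [← h]; simp
    rw [Function.update_of_ne h1, Function.update_of_ne h2]

end Cfsg.Agent.Lib.Helper25.Spin
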