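import Mathlib
import Cfsg.Prelude.Def_GeometricClasses
import Cfsg.Agent.Lib.Helper25.SpinDefs
import Cfsg.Agent.Lib.Helper25.SpinL1a
import Cfsg.Agent.Lib.Helper25.SpinL1b

/-!
# S5707 layer SpinL1c (helper25) -- see notes/S5707_plan_helper25.md
L1c: the X / Y relations and the Clifford space (m = 2) (all proved)
-/

set_option autoImplicit false
set_option linter.unusedSectionVars false

namespace Cfsg.Agent.Lib.Helper25.Spin

open Matrix

variable {F : Type*} [Field F]

variable {S : Type} [Fintype S] [DecidableEq S]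

theorem E01_mul_E01 : (E01 : Matrix (Fin 2) (Fin 2) F) * E01 = 0 := by
  ext i j; fin_cases i <;> fin_cases j <;> simp [E01, Matrix.mul_apply, Fin.sum_univ_two]

theorem E10_mul_E10 : (E10 : Matrix (Fin 2) (Fin 2) F) * E10 = 0 := by
  ext i j; fin_cases i <;> fin_cases j <;> simp [E10, Matrix.mul_apply, Fin.sum_univ_two]

theorem E01_E10_add : (E01 : Matrix (Fin 2) (Fin 2) F) * E10 + E10 * E01 = 1 := by
  ext i j; fin_cases i <;> fin_cases j <;>
    simp [E01, E10]

/-- ALG-XY -/
theorem Xop_mul_self (s : S) : Xop (F := F) s * Xop s = 0 := by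
  unfold Xop
  rw [op_mul, E01_mul_E01, op_zero]

/-- ALG-XY -/
theorem Yop_mul_self (s : S) : Yop (F := F) s * Yop s = 0 := by
  unfold Yop
  rw [op_mul, E10_mul_E10, op_zero]

/-- ALG-XY -/
theorem Xop_mul_Yop_add (s : S) : Xop (F := F) s * Yop s + Yop s * Xop s = 1 := by
  unfold Xop Yop
  rw [op_mul, op_mul, ← op_add, E01_E10_add, op_one]

/-- ALG-XY -/
theorem Xop_comm_Xop {s s' : S} (h : s ≠ s') : Xop (F := F) s * Xop s' = Xop s' * Xop s :=
  op_comm h _ _

/-- ALG-XY -/
theorem Yop_comm_Yop {s s' : S} (h : s ≠ s') : Yop (F := F) s * Yop s' = Yop s' * Yop s :=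
  op_comm h _ _

/-- ALG-XY -/
theorem Xop_comm_Yop {s s' : S} (h : s ≠ s') : Xop (F := F) s * Yop s' = Yop s' * Xop s :=
  op_comm h _ _

theorem op_mulVec_single_apply {m : ℕ} (s : S) (A : Matrix (Fin m) (Fin m) F) (x y : S → Fin m) (a : F) :
    (op s A *ᵥ Pi.single x a) y = if ∀ s', s' ≠ s → y s' = x s' then A (y s) (x s) * a else 0 := by
  rw [Matrix.mulVec_single, Pi.smul_apply, Matrix.col_apply]
  simp only [MulOpposite.smul_eq_mul_unop, MulOpposite.unop_op]
  rw [op_apply]
  split_ifs <;> simp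

theorem eq_flp_iff (s : S) (x y : S → Fin 2) :
    y = flp s x ↔ (∀ s', s' ≠ s → y s' = x s') ∧ y s = Fin.rev (x s) := by
  unfold flp
  constructor
  · intro h
    subst h
    refine ⟨fun s' hs' => Function.update_of_ne hs' _ _, Function.update_self _ _ _⟩
  · rintro ⟨h1, h2⟩
    funext r
    by_cases hr : r = s
    · subst hr; rw [Function.update_self, h2]
    · rw [Function.update_of_ne hr, h1 r hr]

theorem fin2_cases (a : Fin 2) : a = 0 ∨ a = 1 := by
  fin_cases a
  · left; rfl
  · right; rfl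

/-- ALG-XY -/
theorem Xop_mulVec_single (s : S) (x : S → Fin 2) (a : F) :
    Xop (F := F) s *ᵥ Pi.single x a = if x s = 1 then Pi.single (flp s x) a else 0 := by
  funext y
  unfold Xop
  rw [op_mulVec_single_apply]
  by_cases hx : x s = 1
  · rw [if_pos hx, Pi.single_apply]
    by_cases hyf : y = flp s x
    · obtain ⟨h1, h2⟩ := (eq_flp_iff s x y).mp hyf
      rw [if_pos h1, if_pos hyf, h2, hx]
      simp [E01]
    · rw [if_neg hyf]
      by_cases h1 : ∀ s', s' ≠ s → y s' = x s'
      · rw [if_pos h1]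
        have h2 : y s ≠ Fin.rev (x s) := fun h => hyf ((eq_flp_iff s x y).mpr ⟨h1, h⟩)
        have hy1 : y s = 1 := by
          rcases fin2_cases (y s) with h | h
          · exfalso; apply h2; rw [h, hx]; rfl
          · exact h
        rw [hy1, hx]; simp [E01]
      · rw [if_neg h1]
  · rw [if_neg hx]
    have hx0 : x s = 0 := by
      rcases fin2_cases (x s) with h | h
      · exact h
      · exact absurd h hx
    rw [hx0]
    rcases fin2_cases (y s) with hy | hy <;> rw [hy] <;> simp [E01]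

/-- ALG-XY -/
theorem Yop_mulVec_single (s : S) (x : S → Fin 2) (a : F) :
    Yop (F := F) s *ᵥ Pi.single x a = if x s = 0 then Pi.single (flp s x) a else 0 := by
  funext y
  unfold Yop
  rw [op_mulVec_single_apply]
  by_cases hx : x s = 0
  · rw [if_pos hx, Pi.single_apply]
    by_cases hyf : y = flp s x
    · obtain ⟨h1, h2⟩ := (eq_flp_iff s x y).mp hyf
      rw [if_pos h1, if_pos hyf, h2, hx]
      simp [E10]
    · rw [if_neg hyf]
      by_cases h1 : ∀ s', s' ≠ s → y s' = x s'
      · rw [if_pos h1]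
        have h2 : y s ≠ Fin.rev (x s) := fun h => hyf ((eq_flp_iff s x y).mpr ⟨h1, h⟩)
        have hy1 : y s = 0 := by
          rcases fin2_cases (y s) with h | h
          · exact h
          · exfalso; apply h2; rw [h, hx]; rfl
        rw [hy1, hx]; simp [E10]
      · rw [if_neg h1]
  · rw [if_neg hx]
    have hx1 : x s = 1 := by
      rcases fin2_cases (x s) with h | h
      · exact absurd h hx
      · exact h
    rw [hx1]
    rcases fin2_cases (y s) with hy | hy <;> rw [hy] <;> simp [E10]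

/-- ALG-LL -/
theorem op_eq_lin [CharP F 2] (s : S) (A : Matrix (Fin 2) (Fin 2) F) (hA : A.trace = 0) :
    op s A = A 0 1 • Xop s + A 1 0 • Yop s + A 0 0 • (1 : Matrix (S → Fin 2) (S → Fin 2) F) := by
  have h11 : A 1 1 = A 0 0 := by
    rw [Matrix.trace_fin_two] at hA
    have h2 : A 0 0 + A 0 0 = 0 := CharTwo.add_self_eq_zero _
    have : A 1 1 - A 0 0 = 0 := by linear_combination hA - h2
    exact sub_eq_zero.mp this
  have hAeq : A = A 0 1 • (E01 : Matrix (Fin 2) (Fin 2) F) + A 1 0 • E10 + A 0 0 • 1 := by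
    ext i j
    fin_cases i <;> fin_cases j <;> simp [E01, E10, h11]
  conv_lhs => rw [hAeq]
  rw [op_add, op_add, op_smul, op_smul, op_smul, op_one]
  rfl

/-- ALG-LL -/
theorem Xop_mem_LL (s : S) : Xop (F := F) s ∈ LL :=
  Submodule.subset_span ⟨s, E01, by simp [E01, Matrix.trace_fin_two], rfl⟩

/-- ALG-LL -/
theorem Yop_mem_LL (s : S) : Yop (F := F) s ∈ LL :=
  Submodule.subset_span ⟨s, E10, by simp [E10, Matrix.trace_fin_two], rfl⟩

/-- ALG-LL -/
theorem one_mem_LL [CharP F 2] [Nonempty S] : (1 : Matrix (S → Fin 2) (S → Fin 2) F) ∈ LL := by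
  obtain ⟨s⟩ := ‹Nonempty S›
  refine Submodule.subset_span ⟨s, 1, ?_, (op_one s).symm⟩
  rw [Matrix.trace_fin_two]
  simp only [Matrix.one_apply_eq]
  exact CharTwo.add_self_eq_zero _

/-- ALG-LL: to normalise `LL` it suffices to map the `X`'s and `Y`'s into `LL` -/
theorem conj_mem_LL_of [CharP F 2] (g g' : Matrix (S → Fin 2) (S → Fin 2) F) (hgg' : g * g' = 1)
    (hX : ∀ s, g * Xop s * g' ∈ LL) (hY : ∀ s, g * Yop s * g' ∈ LL) :
    ∀ M ∈ LL (F := F) (S := S), g * M * g' ∈ LL := by
  intro M hM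
  unfold LL at hM
  induction hM using Submodule.span_induction with
  | mem M hM =>
    obtain ⟨s, A, hA, rfl⟩ := hM
    haveI : Nonempty S := ⟨s⟩
    rw [op_eq_lin s A hA]
    have : g * (A 0 1 • Xop s + A 1 0 • Yop s + A 0 0 • (1 : Matrix (S → Fin 2) (S → Fin 2) F)) * g' =
        A 0 1 • (g * Xop s * g') + A 1 0 • (g * Yop s * g') + A 0 0 • (1 : Matrix (S → Fin 2) (S → Fin 2) F) := by
      simp only [Matrix.mul_add, Matrix.add_mul, Matrix.mul_smul, Matrix.smul_mul, Matrix.mul_one, hgg']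
    rw [this]
    exact Submodule.add_mem _ (Submodule.add_mem _ (Submodule.smul_mem _ _ (hX s))
      (Submodule.smul_mem _ _ (hY s))) (Submodule.smul_mem _ _ one_mem_LL)
  | zero => simp
  | add M N _ _ hM hN =>
    rw [Matrix.mul_add, Matrix.add_mul]
    exact Submodule.add_mem _ hM hN
  | smul c M _ hM =>
    rw [Matrix.mul_smul, Matrix.smul_mul]
    exact Submodule.smul_mem _ _ hM

end Cfsg.Agent.Lib.Helper25.Spin
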