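import Mathlib
import Cfsg.Prelude.Def_GeometricClasses
import Cfsg.Agent.Lib.Helper25.SpinDefs
import Cfsg.Agent.Lib.Helper25.SpinL1a
import Cfsg.Agent.Lib.Helper25.SpinL1b
import Cfsg.Agent.Lib.Helper25.SpinL1c

/-!
# S5707 layer SpinL2a (helper25) -- see notes/S5707_plan_helper25.md
L2a: the forms B0, Q0, formG (all proved)
-/

set_option autoImplicit false
set_option linter.unusedSectionVars false

namespace Cfsg.Agent.Lib.Helper25.Spin

open Matrix

variable {F : Type*} [Field F]

variable {S : Type} [Fintype S] [DecidableEq S]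

theorem rev2_rev2 (a : Fin 2) : Fin.rev (Fin.rev a) = a := Fin.rev_rev a

theorem rev2_ne (a : Fin 2) : Fin.rev a ≠ a := by
  fin_cases a <;> decide

/-- FORM-B -/
theorem cpl_cpl (x : S → Fin 2) : cpl (cpl x) = x := by
  funext s
  exact Fin.rev_rev _

/-- FORM-B -/
theorem cpl_ne_self [Nonempty S] (x : S → Fin 2) : cpl x ≠ x := by
  obtain ⟨s⟩ := ‹Nonempty S›
  intro h
  exact rev2_ne (x s) (congrFun h s)

/-- complement as a permutation of the index set -/
def cplEquiv : Equiv.Perm (S → Fin 2) where
  toFun := cpl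
  invFun := cpl
  left_inv := cpl_cpl
  right_inv := cpl_cpl

theorem cplEquiv_apply (x : S → Fin 2) : cplEquiv x = cpl x := rfl

/-- FORM-B -/
theorem B0_isBilinear : Cfsg.Geo.IsBilinearForm (B0 (F := F) (S := S)) := by
  constructor
  · intro x y v
    simp only [B0, Pi.add_apply, add_mul, Finset.sum_add_distrib]
  · intro c x v
    simp only [B0, Pi.smul_apply, smul_eq_mul, Finset.mul_sum, mul_assoc]
  · intro v x y
    simp only [B0, Pi.add_apply, mul_add, Finset.sum_add_distrib]
  · intro c v x
    simp only [B0, Pi.smul_apply, smul_eq_mul, Finset.mul_sum]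
    refine Finset.sum_congr rfl fun z _ => ?_
    ring

/-- FORM-B -/
theorem B0_symm (v w : (S → Fin 2) → F) : B0 v w = B0 w v := by
  unfold B0
  rw [← Equiv.sum_comp (cplEquiv (S := S))]
  refine Finset.sum_congr rfl fun z _ => ?_
  rw [cplEquiv_apply, cpl_cpl, mul_comm]

/-- FORM-B -/
theorem B0_single_single (x y : S → Fin 2) (a b : F) :
    B0 (Pi.single x a) (Pi.single y b) = if y = cpl x then a * b else 0 := by
  unfold B0
  rw [Finset.sum_eq_single x]
  · rw [Pi.single_eq_same, Pi.single_apply]
    by_cases h : y = cpl x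
    · rw [if_pos h, if_pos h.symm]
    · rw [if_neg h, if_neg (fun h' => h h'.symm), mul_zero]
  · intro z _ hz
    rw [Pi.single_eq_of_ne hz, zero_mul]
  · intro h; exact absurd (Finset.mem_univ _) h

theorem J2_prod (a b : S → Fin 2) :
    (∏ i, (J2 (F := F)) (a i) (b i)) = if b = cpl a then 1 else 0 := by
  unfold J2
  rw [Finset.prod_ite_zero]
  simp only [Finset.mem_univ, forall_true_left, Finset.prod_const_one]
  by_cases h : b = cpl a
  · rw [if_pos h, if_pos]
    intro i; rw [h]; rfl
  · rw [if_neg h, if_neg]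
    intro h'
    apply h
    funext i
    exact h' i

/-- FORM-B: `formG` with the standard `2 × 2` Gram matrix is `B0` -/
theorem formG_J2 (v w : (S → Fin 2) → F) : formG (J2 (F := F)) v w = B0 v w := by
  unfold formG B0
  refine Finset.sum_congr rfl fun a _ => ?_
  rw [Finset.sum_eq_single (cpl a)]
  · rw [J2_prod, if_pos rfl, mul_one]
  · intro b _ hb
    rw [J2_prod, if_neg hb, mul_zero, zero_mul]
  · intro h; exact absurd (Finset.mem_univ _) h

theorem cpl_apply (x : S → Fin 2) (s : S) : cpl x s = Fin.rev (x s) := rfl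

theorem cpl_eq_zero_iff (x : S → Fin 2) (s : S) : cpl x s = 0 ↔ x s = 1 := by
  rw [cpl_apply]
  rcases fin2_cases (x s) with h | h <;> rw [h] <;> decide

theorem cpl_eq_one_iff (x : S → Fin 2) (s : S) : cpl x s = 1 ↔ x s = 0 := by
  rw [cpl_apply]
  rcases fin2_cases (x s) with h | h <;> rw [h] <;> decide

theorem fin2_ne_zero_iff (a : Fin 2) : a ≠ 0 ↔ a = 1 := by
  fin_cases a <;> decide

/-- FORM-Q -/
theorem polar_Q0 (s0 : S) (v w : (S → Fin 2) → F) :
    QuadraticMap.polar (Q0 (F := F) s0) v w = B0 v w := by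
  unfold QuadraticMap.polar Q0
  rw [← Finset.sum_sub_distrib, ← Finset.sum_sub_distrib]
  have h1 : ∀ x : S → Fin 2,
      ((if x s0 = 0 then (v + w) x * (v + w) (cpl x) else 0) - (if x s0 = 0 then v x * v (cpl x) else 0) -
        (if x s0 = 0 then w x * w (cpl x) else 0)) =
      (if x s0 = 0 then v x * w (cpl x) else 0) + (if x s0 = 0 then w x * v (cpl x) else 0) := by
    intro x
    by_cases h : x s0 = 0
    · simp only [if_pos h, Pi.add_apply]; ring
    · simp only [if_neg h]; ring
  rw [Finset.sum_congr rfl (fun x _ => h1 x), Finset.sum_add_distrib]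
  have h2 : (∑ x : S → Fin 2, if x s0 = 0 then w x * v (cpl x) else 0) =
      ∑ x : S → Fin 2, if x s0 = 0 then 0 else v x * w (cpl x) := by
    rw [← Equiv.sum_comp (cplEquiv (S := S))]
    refine Finset.sum_congr rfl fun x _ => ?_
    rw [cplEquiv_apply, cpl_cpl, cpl_apply]
    rcases fin2_cases (x s0) with h | h
    · rw [h, if_neg (by decide), if_pos rfl]
    · rw [h, if_pos (by decide), if_neg (by decide), mul_comm]
  rw [h2, ← Finset.sum_add_distrib]
  unfold B0
  refine Finset.sum_congr rfl fun x _ => ?_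
  by_cases h : x s0 = 0
  · rw [if_pos h, if_pos h, add_zero]
  · rw [if_neg h, if_neg h, zero_add]

/-- FORM-Q -/
theorem Q0_smul (s0 : S) (c : F) (v : (S → Fin 2) → F) : Q0 s0 (c • v) = c ^ 2 * Q0 s0 v := by
  unfold Q0
  rw [Finset.mul_sum]
  refine Finset.sum_congr rfl fun x _ => ?_
  by_cases h : x s0 = 0
  · simp only [if_pos h, Pi.smul_apply, smul_eq_mul]; ring
  · simp only [if_neg h, mul_zero]

/-- FORM-Q -/
theorem Q0_single (s0 : S) (x : S → Fin 2) (a : F) : Q0 s0 (Pi.single x a) = 0 := by
  have : Nonempty S := ⟨s0⟩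
  unfold Q0
  refine Finset.sum_eq_zero fun z _ => ?_
  by_cases hz : z = x
  · subst hz
    rw [Pi.single_eq_of_ne (cpl_ne_self z), mul_zero, ite_self]
  · rw [Pi.single_eq_of_ne hz, zero_mul, ite_self]

theorem flp_flp (s : S) (x : S → Fin 2) : flp s (flp s x) = x := by
  unfold flp
  funext r
  by_cases h : r = s
  · subst h; simp
  · simp [Function.update_of_ne h]

theorem flp_apply_self (s : S) (x : S → Fin 2) : flp s x s = Fin.rev (x s) := by
  unfold flp; simp

theorem flp_apply_of_ne {s r : S} (h : r ≠ s) (x : S → Fin 2) : flp s x r = x r := by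
  unfold flp; rw [Function.update_of_ne h]

theorem cpl_flp (s : S) (x : S → Fin 2) : cpl (flp s x) = flp s (cpl x) := by
  funext r
  by_cases h : r = s
  · subst h; rw [cpl_apply, flp_apply_self, flp_apply_self, cpl_apply]
  · rw [cpl_apply, flp_apply_of_ne h, flp_apply_of_ne h, cpl_apply]

/-- flip at a site as a permutation of the index set -/
def flpEquiv (s : S) : Equiv.Perm (S → Fin 2) where
  toFun := flp s
  invFun := flp s
  left_inv := flp_flp s
  right_inv := flp_flp s

theorem flpEquiv_apply (s : S) (x : S → Fin 2) : flpEquiv s x = flp s x := rfl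

section general

variable {m : ℕ}

/-- the action of a single-site operator on a vector -/
theorem op_mulVec_apply (s : S) (A : Matrix (Fin m) (Fin m) F) (v : (S → Fin m) → F) (x : S → Fin m) :
    (op s A *ᵥ v) x = ∑ j, A (x s) j * v (Function.update x s j) := by
  simp only [Matrix.mulVec, dotProduct]
  have hinj : Function.Injective (fun j : Fin m => Function.update x s j) := by
    intro j j' h
    have := congrFun h s
    simpa using this
  rw [← Finset.sum_subset (Finset.subset_univ (Finset.univ.image (fun j : Fin m => Function.update x s j)))]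
  · rw [Finset.sum_image (fun j _ j' _ h => hinj h)]
    refine Finset.sum_congr rfl fun j _ => ?_
    rw [op_apply, if_pos, Function.update_self]
    intro s' hs'
    rw [Function.update_of_ne hs']
  · intro y _ hy
    rw [op_apply, if_neg, zero_mul]
    intro h
    apply hy
    rw [Finset.mem_image]
    refine ⟨y s, Finset.mem_univ _, ?_⟩
    funext r
    by_cases hr : r = s
    · subst hr; simp
    · rw [Function.update_of_ne hr, h r hr]

end general

theorem Xop_mulVec_apply (s : S) (v : (S → Fin 2) → F) (x : S → Fin 2) :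
    (Xop s *ᵥ v) x = if x s = 0 then v (flp s x) else 0 := by
  unfold Xop
  rw [op_mulVec_apply, Fin.sum_univ_two]
  rcases fin2_cases (x s) with h | h
  · rw [if_pos h, h]
    have : Function.update x s 1 = flp s x := by
      unfold flp; rw [h]; rfl
    rw [this]
    simp [E01]
  · rw [if_neg (by rw [h]; decide), h]
    simp [E01]

theorem Yop_mulVec_apply (s : S) (v : (S → Fin 2) → F) (x : S → Fin 2) :
    (Yop s *ᵥ v) x = if x s = 1 then v (flp s x) else 0 := by
  unfold Yop
  rw [op_mulVec_apply, Fin.sum_univ_two]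
  rcases fin2_cases (x s) with h | h
  · rw [if_neg (by rw [h]; decide), h]
    simp [E10]
  · rw [if_pos h, h]
    have : Function.update x s 0 = flp s x := by
      unfold flp; rw [h]; rfl
    rw [this]
    simp [E10]

/-- FORM-ADJ: `X_s` is self-adjoint for `B0` -/
theorem B0_Xop (s : S) (v w : (S → Fin 2) → F) : B0 (Xop s *ᵥ v) w = B0 v (Xop s *ᵥ w) := by
  unfold B0
  rw [← Equiv.sum_comp (flpEquiv s)]
  refine Finset.sum_congr rfl fun x _ => ?_
  rw [flpEquiv_apply, Xop_mulVec_apply, Xop_mulVec_apply, flp_flp, cpl_flp, flp_apply_self,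
    cpl_apply]
  rcases fin2_cases (x s) with h | h
  · rw [h, if_neg (by decide), if_neg (by decide), zero_mul, mul_zero]
  · rw [h, if_pos (by decide), if_pos (by decide)]

/-- FORM-ADJ: `Y_s` is self-adjoint for `B0` -/
theorem B0_Yop (s : S) (v w : (S → Fin 2) → F) : B0 (Yop s *ᵥ v) w = B0 v (Yop s *ᵥ w) := by
  unfold B0
  rw [← Equiv.sum_comp (flpEquiv s)]
  refine Finset.sum_congr rfl fun x _ => ?_
  rw [flpEquiv_apply, Yop_mulVec_apply, Yop_mulVec_apply, flp_flp, cpl_flp, flp_apply_self,
    cpl_apply]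
  rcases fin2_cases (x s) with h | h
  · rw [h, if_pos (by decide), if_pos (by decide)]
  · rw [h, if_neg (by decide), if_neg (by decide), zero_mul, mul_zero]

section general

variable {m : ℕ}

/-- FORM-G: `formG G` is the form with Gram matrix `pureMat (fun _ => G)` -/
theorem formG_eq (G : Matrix (Fin m) (Fin m) F) (x y : (S → Fin m) → F) :
    formG G x y = x ⬝ᵥ (pureMat (fun _ : S => G) *ᵥ y) := by
  unfold formG
  simp only [dotProduct, Matrix.mulVec, pureMat, Finset.mul_sum, mul_assoc]

theorem permMat_transpose (σ : Equiv.Perm S) :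
    (permMat σ : Matrix (S → Fin m) (S → Fin m) F)ᵀ = permMat σ⁻¹ := by
  ext x y
  rw [Matrix.transpose_apply, permMat_apply_aux, permMat_apply_aux]
  have : (x = y ∘ σ) ↔ (y = x ∘ ((σ⁻¹ : Equiv.Perm S) : S → S)) := by
    constructor
    · intro h; rw [h]; funext s; simp
    · intro h; rw [h]; funext s; simp
  by_cases h : x = y ∘ σ
  · rw [if_pos h, if_pos (this.mp h)]
  · rw [if_neg h, if_neg (fun h' => h (this.mpr h'))]

theorem formG_mulVec (G : Matrix (Fin m) (Fin m) F) (P : Matrix (S → Fin m) (S → Fin m) F)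
    (x y : (S → Fin m) → F) :
    formG G (P *ᵥ x) (P *ᵥ y) = x ⬝ᵥ ((Pᵀ * pureMat (fun _ : S => G) * P) *ᵥ y) := by
  rw [formG_eq, Matrix.mul_assoc, ← Matrix.mulVec_mulVec, ← Matrix.mulVec_mulVec,
    Matrix.dotProduct_mulVec x, Matrix.vecMul_transpose]

/-- FORM-G: change of basis by a pure tensor. Uses `pureMat_mul`, `pureMat_transpose` (layer 1). -/
theorem formG_pureMat (G b : Matrix (Fin m) (Fin m) F) (x y : (S → Fin m) → F) :
    formG G (pureMat (fun _ : S => b) *ᵥ x) (pureMat (fun _ : S => b) *ᵥ y) = formG (bᵀ * G * b) x y := by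
  rw [formG_mulVec, pureMat_transpose, pureMat_mul, pureMat_mul, ← formG_eq]

/-- FORM-G: `formG G` is invariant under permutations of the sites -/
theorem formG_permMat (G : Matrix (Fin m) (Fin m) F) (σ : Equiv.Perm S) (x y : (S → Fin m) → F) :
    formG G ((permMat σ : Matrix (S → Fin m) (S → Fin m) F) *ᵥ x)
      ((permMat σ : Matrix (S → Fin m) (S → Fin m) F) *ᵥ y) = formG G x y := by
  rw [formG_mulVec, permMat_transpose]
  have := permMat_conj_pureMat (F := F) (m := m) σ⁻¹ (fun _ : S => G)
  rw [inv_inv] at this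
  rw [this, ← formG_eq]

/-- FORM-G -/
theorem formG_smul (c : F) (G : Matrix (Fin m) (Fin m) F) (x y : (S → Fin m) → F) :
    formG (c • G) x y = c ^ Fintype.card S * formG G x y := by
  unfold formG
  rw [Finset.mul_sum]
  refine Finset.sum_congr rfl fun a _ => ?_
  rw [Finset.mul_sum]
  refine Finset.sum_congr rfl fun b _ => ?_
  simp only [Matrix.smul_apply, smul_eq_mul, Finset.prod_mul_distrib, Finset.prod_const,
    Finset.card_univ]
  ring

end general

end Cfsg.Agent.Lib.Helper25.Spin
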