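import Mathlib
import Cfsg.Prelude.Def_GeometricClasses
import Cfsg.Agent.Lib.Helper25.SpinDefs
import Cfsg.Agent.Lib.Helper25.SpinL1a
import Cfsg.Agent.Lib.Helper25.SpinL1b
import Cfsg.Agent.Lib.Helper25.SpinL1c
import Cfsg.Agent.Lib.Helper25.SpinL2a

/-!
# S5707 layer SpinL2b (helper25) -- see notes/S5707_plan_helper25.md
L2b: uniqueness of Q0 and the isometry criterion (all proved)
-/

set_option autoImplicit false
set_option linter.unusedSectionVars false

namespace Cfsg.Agent.Lib.Helper25.Spin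

open Matrix

variable {F : Type*} [Field F]

variable {S : Type} [Fintype S] [DecidableEq S]

theorem Q0_add (s0 : S) (v w : (S → Fin 2) → F) :
    Q0 s0 (v + w) = Q0 s0 v + Q0 s0 w + B0 v w := by
  rw [← polar_Q0 s0 v w]
  unfold QuadraticMap.polar
  ring

/-- FORM-Q -/
theorem Q0_single_add_single (s0 : S) (x y : S → Fin 2) (hy : y ≠ cpl x) :
    Q0 (F := F) s0 (Pi.single x 1 + Pi.single y 1) = 0 := by
  rw [Q0_add, Q0_single, Q0_single, B0_single_single, if_neg hy]
  ring

theorem mem_isometryGroup_iff' {ι : Type} [Fintype ι] [DecidableEq ι] (Q : (ι → F) → F) (g : GL ι F) :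
    g ∈ Cfsg.isometryGroup F Q ↔ ∀ v, Q ((g : Matrix ι ι F) *ᵥ v) = Q v := by
  constructor
  · intro h v
    exact h v v
  · intro h u _
    exact h u

/-- FORM-UNIQ: a quadratic function with polar form `c • B0` vanishing on the scaled basis vectors is `c • Q0`.
Proof: `D := Q' - c • Q0 s0` has zero polar form, so it is additive; it vanishes on every `Pi.single x a`; every vector
is a finite sum of such. -/
theorem eq_smul_Q0 (s0 : S) (Q' : ((S → Fin 2) → F) → F) (c : F)
    (hpolar : ∀ v w, QuadraticMap.polar Q' v w = c * B0 v w)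
    (hsingle : ∀ (x : S → Fin 2) (a : F), Q' (Pi.single x a) = 0) :
    ∀ v, Q' v = c * Q0 s0 v := by
  have hadd : ∀ v w, Q' (v + w) - c * Q0 s0 (v + w) = (Q' v - c * Q0 s0 v) + (Q' w - c * Q0 s0 w) := by
    intro v w
    have h1 := hpolar v w
    unfold QuadraticMap.polar at h1
    rw [Q0_add]
    linear_combination h1
  have hzero : Q' 0 - c * Q0 s0 0 = 0 := by
    have := hadd 0 0
    rw [add_zero] at this
    linear_combination -this
  have hsum : ∀ (v : (S → Fin 2) → F) (T : Finset (S → Fin 2)),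
      Q' (∑ x ∈ T, Pi.single x (v x)) - c * Q0 s0 (∑ x ∈ T, Pi.single x (v x)) = 0 := by
    intro v T
    induction T using Finset.induction_on with
    | empty => simpa using hzero
    | insert a T ha ih =>
      rw [Finset.sum_insert ha, hadd, ih, hsingle, Q0_single]
      ring
  intro v
  have := hsum v Finset.univ
  rw [Finset.univ_sum_single] at this
  exact sub_eq_zero.mp this

/-- FORM-ISO: isometry criterion. Proof: `eq_smul_Q0` for `Q' v := Q0 s0 (g *ᵥ v)`, `c = 1`. -/
theorem mem_isometryGroup_of (s0 : S) (g : GL (S → Fin 2) F)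
    (hB : ∀ v w, B0 ((g : Matrix (S → Fin 2) (S → Fin 2) F) *ᵥ v) ((g : Matrix (S → Fin 2) (S → Fin 2) F) *ᵥ w) = B0 v w)
    (hQ : ∀ (x : S → Fin 2) (a : F), Q0 s0 ((g : Matrix (S → Fin 2) (S → Fin 2) F) *ᵥ Pi.single x a) = 0) :
    g ∈ Cfsg.isometryGroup F (Q0 (F := F) s0) := by
  rw [mem_isometryGroup_iff']
  intro v
  have := eq_smul_Q0 s0 (fun v => Q0 s0 ((g : Matrix (S → Fin 2) (S → Fin 2) F) *ᵥ v)) 1 ?_ hQ v
  · simpa using this
  · intro v w
    unfold QuadraticMap.polar
    beta_reduce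
    rw [Matrix.mulVec_add, Q0_add, hB]
    ring

/-- FORM-ISO: isometries of `Q0` preserve its polar form `B0` -/
theorem B0_of_mem_isometryGroup (s0 : S) (g : GL (S → Fin 2) F)
    (hg : g ∈ Cfsg.isometryGroup F (Q0 (F := F) s0)) (v w : (S → Fin 2) → F) :
    B0 ((g : Matrix (S → Fin 2) (S → Fin 2) F) *ᵥ v) ((g : Matrix (S → Fin 2) (S → Fin 2) F) *ᵥ w) = B0 v w := by
  rw [mem_isometryGroup_iff'] at hg
  have h1 := Q0_add s0 ((g : Matrix (S → Fin 2) (S → Fin 2) F) *ᵥ v) ((g : Matrix (S → Fin 2) (S → Fin 2) F) *ᵥ w)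
  rw [← Matrix.mulVec_add, hg, hg, hg, Q0_add] at h1
  linear_combination -h1

/-- FORM-ISO -/
theorem isometryGroup_smul {ι : Type} [Fintype ι] [DecidableEq ι] (Q Q' : (ι → F) → F) (c : F) (hc : c ≠ 0)
    (h : ∀ v, Q' v = c * Q v) : Cfsg.isometryGroup F Q' = Cfsg.isometryGroup F Q := by
  ext g
  rw [mem_isometryGroup_iff', mem_isometryGroup_iff']
  constructor
  · intro hg v
    have := hg v
    rw [h, h] at this
    exact mul_left_cancel₀ hc this
  · intro hg v
    rw [h, h, hg]

end Cfsg.Agent.Lib.Helper25.Spin
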