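import Mathlib
import Cfsg.Agent.Lib.Helper29.S3341A

/-!
# S3341 farm-out piece FO-4 (helper25, for helper11): the local count of pairs

`card_pairs_of_tri` is FO-4 with the conclusion of FO-1 (`tri_local`) as a hypothesis.
-/

set_option autoImplicit false

namespace Cfsg.Agent.Lib.Helper25.S3341

variable {G : Type*} [Group G] [Finite G]

/-- fusion (own copy of FO-3a): an element carrying some `s ∈ P ∖ 1` into `P` normalizes `P`. -/
theorem fusion' (P : Sylow 3 G)
    (hcomm : ∀ a ∈ (P : Subgroup G), ∀ b ∈ (P : Subgroup G), a * b = b * a)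
    (hcent : ∀ s ∈ (P : Subgroup G), s ≠ 1 → Subgroup.centralizer ({s} : Set G) = (P : Subgroup G))
    (s : G) (hs : s ∈ (P : Subgroup G)) (hs1 : s ≠ 1) (g : G)
    (hg : g * s * g⁻¹ ∈ (P : Subgroup G)) :
    g ∈ Subgroup.normalizer ((P : Subgroup G) : Set G) := by
  have ht1 : g * s * g⁻¹ ≠ 1 := by
    intro h
    apply hs1
    have : s = g⁻¹ * (g * s * g⁻¹) * g := by group
    rw [this, h]
    group
  have hCt := hcent _ hg ht1
  have hCs := hcent _ hs hs1
  rw [Subgroup.mem_normalizer_iff]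
  intro h
  constructor
  · intro hh
    rw [← hCt, Subgroup.mem_centralizer_singleton_iff]
    have := hcomm h hh s hs
    calc g * h * g⁻¹ * (g * s * g⁻¹) = g * (h * s) * g⁻¹ := by group
      _ = g * (s * h) * g⁻¹ := by rw [this]
      _ = g * s * g⁻¹ * (g * h * g⁻¹) := by group
  · intro hh
    rw [← hCt, Subgroup.mem_centralizer_singleton_iff] at hh
    rw [← hCs, Subgroup.mem_centralizer_singleton_iff]
    have e1 : g * (h * s) * g⁻¹ = g * (s * h) * g⁻¹ := by
      calc g * (h * s) * g⁻¹ = g * h * g⁻¹ * (g * s * g⁻¹) := by group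
        _ = g * s * g⁻¹ * (g * h * g⁻¹) := hh
        _ = g * (s * h) * g⁻¹ := by group
    have e2 : g * (h * s) = g * (s * h) := mul_right_cancel e1
    exact mul_left_cancel e2

/-- the `G`-conjugates of `x ∈ P ∖ 1` lying in `P` are the `N_G(P)`-conjugates; there are
`|N_G(P) : P|` of them -/
theorem card_conj_inter (P : Sylow 3 G)
    (hcomm : ∀ a ∈ (P : Subgroup G), ∀ b ∈ (P : Subgroup G), a * b = b * a)
    (hcent : ∀ s ∈ (P : Subgroup G), s ≠ 1 → Subgroup.centralizer ({s} : Set G) = (P : Subgroup G))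
    (x : G) (hx : x ∈ (P : Subgroup G)) (hx1 : x ≠ 1) :
    Nat.card {p : G // IsConj x p ∧ p ∈ (P : Subgroup G)} =
      ((P : Subgroup G).subgroupOf (Subgroup.normalizer ((P : Subgroup G) : Set G))).index := by
  classical
  set N := Subgroup.normalizer ((P : Subgroup G) : Set G) with hN
  set H := (P : Subgroup G).subgroupOf N with hH
  rw [Subgroup.index_eq_card]
  symm
  let f0 : N → {p : G // IsConj x p ∧ p ∈ (P : Subgroup G)} := fun n =>
    ⟨(n : G) * x * (n : G)⁻¹, isConj_iff.mpr ⟨(n : G), rfl⟩,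
      (Subgroup.mem_normalizer_iff.mp n.2 x).mp hx⟩
  have hwd : ∀ a b : N, (QuotientGroup.leftRel H) a b → f0 a = f0 b := by
    intro a b hab
    rw [QuotientGroup.leftRel_apply] at hab
    have hab' : (a : G)⁻¹ * (b : G) ∈ (P : Subgroup G) := by
      have := Subgroup.mem_subgroupOf.mp hab
      simpa using this
    have hc := hcomm _ hab' x hx
    apply Subtype.ext
    change (a : G) * x * (a : G)⁻¹ = (b : G) * x * (b : G)⁻¹
    have : (b : G) * x * (b : G)⁻¹ = (a : G) * (((a : G)⁻¹ * (b : G)) * x) * (b : G)⁻¹ := by group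
    rw [this, hc]
    group
  let f : N ⧸ H → {p : G // IsConj x p ∧ p ∈ (P : Subgroup G)} :=
    Quotient.lift f0 hwd
  apply Nat.card_eq_of_bijective f
  constructor
  · intro u v
    induction u using QuotientGroup.induction_on with
    | _ a =>
    induction v using QuotientGroup.induction_on with
    | _ b =>
    intro hab
    have hab' : (a : G) * x * (a : G)⁻¹ = (b : G) * x * (b : G)⁻¹ :=
      congrArg Subtype.val hab
    rw [QuotientGroup.eq]
    rw [hH, Subgroup.mem_subgroupOf]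
    have hmem : (a : G)⁻¹ * (b : G) ∈ Subgroup.centralizer ({x} : Set G) := by
      rw [Subgroup.mem_centralizer_singleton_iff]
      have : (a : G)⁻¹ * (b : G) * x = (a : G)⁻¹ * ((b : G) * x * (b : G)⁻¹) * (b : G) := by group
      rw [this, ← hab']
      group
    rw [hcent x hx hx1] at hmem
    simpa using hmem
  · rintro ⟨p, hp, hpP⟩
    obtain ⟨g, hg⟩ := isConj_iff.mp hp
    have hgN : g ∈ N := fusion' P hcomm hcent x hx hx1 g (hg ▸ hpP)
    refine ⟨QuotientGroup.mk ⟨g, hgN⟩, ?_⟩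
    apply Subtype.ext
    exact hg

/-- FO-4 (local count) with the conclusion of FO-1 (`tri_local`) as a hypothesis. -/
theorem card_pairs_of_tri (P : Sylow 3 G)
    (hcomm : ∀ a ∈ (P : Subgroup G), ∀ b ∈ (P : Subgroup G), a * b = b * a)
    (hcent : ∀ s ∈ (P : Subgroup G), s ≠ 1 → Subgroup.centralizer ({s} : Set G) = (P : Subgroup G))
    (x y : G) (hx : x ∈ (P : Subgroup G)) (hx1 : x ≠ 1) (hy : y ∈ (P : Subgroup G)) (hy1 : y ≠ 1)
    (hxy' : ¬ IsConj x y⁻¹)
    (htri : ∀ p q : G, IsConj x p → IsConj y q → p * q ∈ (P : Subgroup G) → p * q ≠ 1 →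
      p ∈ (P : Subgroup G) ∧ q ∈ (P : Subgroup G)) :
    Nat.card {p : G × G // IsConj x p.1 ∧ IsConj y p.2 ∧ p.1 * p.2 ∈ (P : Subgroup G) ∧
        p.1 * p.2 ≠ 1}
      = ((P : Subgroup G).subgroupOf (Subgroup.normalizer ((P : Subgroup G) : Set G))).index
        * ((P : Subgroup G).subgroupOf (Subgroup.normalizer ((P : Subgroup G) : Set G))).index := by
  classical
  have ex := card_conj_inter P hcomm hcent x hx hx1
  have ey := card_conj_inter P hcomm hcent y hy hy1
  rw [show ((P : Subgroup G).subgroupOf (Subgroup.normalizer ((P : Subgroup G) : Set G))).index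
        * ((P : Subgroup G).subgroupOf (Subgroup.normalizer ((P : Subgroup G) : Set G))).index
      = Nat.card {p : G // IsConj x p ∧ p ∈ (P : Subgroup G)} *
        Nat.card {p : G // IsConj y p ∧ p ∈ (P : Subgroup G)} from by rw [ex, ey],
    ← Nat.card_prod]
  apply Nat.card_congr
  refine
    { toFun := fun p => (⟨p.1.1, p.2.1, (htri p.1.1 p.1.2 p.2.1 p.2.2.1 p.2.2.2.1 p.2.2.2.2).1⟩,
        ⟨p.1.2, p.2.2.1, (htri p.1.1 p.1.2 p.2.1 p.2.2.1 p.2.2.2.1 p.2.2.2.2).2⟩)
      invFun := fun u => ⟨(u.1.1, u.2.1), u.1.2.1, u.2.2.1,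
        (P : Subgroup G).mul_mem u.1.2.2 u.2.2.2, ?_⟩
      left_inv := fun p => rfl
      right_inv := fun u => rfl }
  intro h1
  apply hxy'
  have hp : u.1.1 = (u.2.1)⁻¹ := eq_inv_of_mul_eq_one_left h1
  have h2 : IsConj x (u.2.1)⁻¹ := hp ▸ u.1.2.1
  obtain ⟨c, hc⟩ := isConj_iff.mp u.2.2.1
  have h3 : IsConj y⁻¹ (u.2.1)⁻¹ := by
    rw [isConj_iff]
    refine ⟨c, ?_⟩
    rw [← hc]
    group
  exact h2.trans h3.symm

/-- FO-4 (local count), exact signature of the skeleton. -/
theorem card_pairs (P : Sylow 3 G)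
    (hcomm : ∀ a ∈ (P : Subgroup G), ∀ b ∈ (P : Subgroup G), a * b = b * a)
    (hexp : ∀ a ∈ (P : Subgroup G), a ^ 3 = 1)
    (hcard : Nat.card (P : Subgroup G) = 9)
    (hcent : ∀ s ∈ (P : Subgroup G), s ≠ 1 → Subgroup.centralizer ({s} : Set G) = (P : Subgroup G))
    (x y : G) (hx : x ∈ (P : Subgroup G)) (hx1 : x ≠ 1) (hy : y ∈ (P : Subgroup G)) (hy1 : y ≠ 1)
    (hxy : ¬ IsConj x y) (hxy' : ¬ IsConj x y⁻¹) :
    Nat.card {p : G × G // IsConj x p.1 ∧ IsConj y p.2 ∧ p.1 * p.2 ∈ (P : Subgroup G) ∧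
        p.1 * p.2 ≠ 1}
      = ((P : Subgroup G).subgroupOf (Subgroup.normalizer ((P : Subgroup G) : Set G))).index
        * ((P : Subgroup G).subgroupOf (Subgroup.normalizer ((P : Subgroup G) : Set G))).index :=
  card_pairs_of_tri P hcomm hcent x y hx hx1 hy hy1 hxy'
    (fun p q hp hq hpq hpq1 =>
      Cfsg.Agent.Lib.Helper29.S3341A.tri_local P hcomm hexp hcard hcent x y hx hx1 hy hy1 hxy
        p q hp hq hpq hpq1)

end Cfsg.Agent.Lib.Helper25.S3341
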