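import Mathlib
import Cfsg.Prelude.Def_Blocks
import Cfsg.Agent.Lib.Helper25.CharBasic
import Cfsg.Agent.Lib.Helper25.LinearChar
import Cfsg.Agent.Lib.Helper2.Linear
import Cfsg.Agent.Lib.Helper2.DirectProduct
import Cfsg.Agent.Lib.Helper7.Gallagher

/-!
Counting linear characters against characters of a fixed degree, via multiplication with a
character induced from the stabilizer of a character of a non-abelian minimal normal subgroup.
-/

set_option autoImplicit false
set_option linter.style.haveILetI false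
set_option linter.unusedSectionVars false

namespace Cfsg.Agent.Lib.Helper25

open Cfsg Representation
open scoped ComplexConjugate

universe u

variable {G : Type u} [Group G] [Finite G]

/-- A linear character has values of modulus one: `λ g * conj (λ g) = 1`. -/
theorem linear_mul_conj {lam : G → ℂ} (hlam : IsCharacter G lam) (h1 : lam 1 = 1) (g : G) :
    lam g * conj (lam g) = 1 := by
  rw [Complex.mul_conj, Complex.normSq_eq_norm_sq, norm_linear_char hlam h1 g]
  simp

/-- The product of a linear character and an irreducible character is irreducible. -/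
theorem isIrrCharacter_linear_mul {lam χ : G → ℂ} (hlam : IsCharacter G lam) (h1 : lam 1 = 1)
    (hχ : IsIrrCharacter G χ) : IsIrrCharacter G (lam * χ) := by
  classical
  haveI := Fintype.ofFinite G
  apply Cfsg.Agent.Lib.Helper2.isIrrCharacter_of_classInner_self_eq_one
    (Cfsg.Agent.Lib.Helper2.isCharacter_mul hlam (isCharacter_of_irr hχ))
  have h2 := irr_classInner hχ hχ
  rw [if_pos rfl] at h2
  rw [← h2]
  unfold classInner
  congr 1
  apply Finset.sum_congr rfl
  intro g _
  rw [Pi.mul_apply, map_mul]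
  have := linear_mul_conj hlam h1 g
  linear_combination (χ g * conj (χ g)) * this

/-- The quotient of two linear characters, as an irreducible character. -/
theorem exists_linear_div {lam lam₀ : G → ℂ} (hlam : IsCharacter G lam) (h1 : lam 1 = 1)
    (hlam₀ : IsCharacter G lam₀) (h1₀ : lam₀ 1 = 1) :
    ∃ μ : IrrCharacter G, (μ : G → ℂ) 1 = 1 ∧ ∀ g, (μ : G → ℂ) g = lam g * conj (lam₀ g) := by
  obtain ⟨l, hl⟩ := exists_hom_of_linear hlam h1
  obtain ⟨l₀, hl₀⟩ := exists_hom_of_linear hlam₀ h1₀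
  refine ⟨⟨fun g => (((l * l₀⁻¹) g : ℂˣ) : ℂ), isIrrCharacter_of_hom (l * l₀⁻¹)⟩, by simp, ?_⟩
  intro g
  show (((l * l₀⁻¹) g : ℂˣ) : ℂ) = _
  rw [MonoidHom.mul_apply, MonoidHom.inv_apply, Units.val_mul, Units.val_inv_eq_inv_val,
    ← hl g, ← hl₀ g]
  congr 1
  have h2 := linear_mul_conj hlam₀ h1₀ g
  have hne : lam₀ g ≠ 0 := by
    intro h
    rw [h, zero_mul] at h2
    exact zero_ne_one h2
  field_simp
  linear_combination -h2

/-- At most `|G : I|` irreducible characters of degree one are trivial on the subgroup `I`. -/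
theorem card_linear_trivial_on_le (I : Subgroup G) :
    Nat.card {μ : IrrCharacter G // (μ : G → ℂ) 1 = 1 ∧ ∀ g ∈ I, (μ : G → ℂ) g = 1} ≤
      I.index := by
  classical
  haveI := Fintype.ofFinite G
  haveI : Fintype (G ⧸ I) := Fintype.ofFinite _
  set S := {μ : IrrCharacter G // (μ : G → ℂ) 1 = 1 ∧ ∀ g ∈ I, (μ : G → ℂ) g = 1} with hS
  haveI : Fintype S := Fintype.ofFinite _
  -- the family of functions on the coset space
  let v : S → (G ⧸ I → ℂ) := fun μ q => (μ.1 : G → ℂ) q.out
  have hv : ∀ (μ : S) (g : G), v μ (g : G ⧸ I) = (μ.1 : G → ℂ) g := by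
    intro μ g
    show (μ.1 : G → ℂ) ((g : G ⧸ I).out) = _
    obtain ⟨i, hi⟩ : ∃ i : I, ((g : G ⧸ I).out) = g * i := by
      have := QuotientGroup.mk_out_eq_mul I g
      obtain ⟨i, hi⟩ := this
      exact ⟨i, hi⟩
    rw [hi, linear_char_mul (isCharacter_of_irr μ.1.2) μ.2.1, μ.2.2 i i.2, mul_one]
  have hli : LinearIndependent ℂ v := by
    apply LinearIndependent.of_comp (LinearMap.funLeft ℂ ℂ (QuotientGroup.mk : G → G ⧸ I))
    have h1 : (LinearMap.funLeft ℂ ℂ (QuotientGroup.mk : G → G ⧸ I)) ∘ v =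
        (fun χ : IrrCharacter G => (χ : G → ℂ)) ∘ (Subtype.val : S → IrrCharacter G) := by
      funext μ g
      simp only [Function.comp_apply, LinearMap.funLeft_apply]
      exact hv μ g
    rw [h1]
    exact (irr_linearIndependent (G := G)).comp _ Subtype.val_injective
  have h2 := hli.fintype_card_le_finrank
  rw [Module.finrank_fintype_fun_eq_card] at h2
  rw [Nat.card_eq_fintype_card, Subgroup.index_eq_card, Nat.card_eq_fintype_card]
  exact h2

/-- A non-abelian minimal normal subgroup lies in the kernel of every linear character. -/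
theorem minNormal_le_ker (N : Subgroup G) (hN : N.Normal)
    (hmin : ∀ M : Subgroup G, M.Normal → M ≤ N → M = ⊥ ∨ M = N) (hna : ¬ IsMulCommutative ↥N)
    {lam : G → ℂ} (hlam : IsCharacter G lam) (h1 : lam 1 = 1) : ∀ n ∈ N, lam n = 1 := by
  obtain ⟨l, hl⟩ := exists_hom_of_linear hlam h1
  have hMn : (N ⊓ l.ker).Normal := by
    haveI := hN
    infer_instance
  rcases hmin (N ⊓ l.ker) hMn inf_le_left with h | h
  · exfalso
    apply hna
    refine ⟨⟨fun a b => ?_⟩⟩
    have hmem : (a : G) * b * (a : G)⁻¹ * (b : G)⁻¹ ∈ N ⊓ l.ker := by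
      rw [Subgroup.mem_inf]
      refine ⟨?_, ?_⟩
      · exact N.mul_mem (N.mul_mem (N.mul_mem a.2 b.2) (N.inv_mem a.2)) (N.inv_mem b.2)
      · rw [MonoidHom.mem_ker]
        simp only [map_mul, map_inv]
        rw [mul_comm (l a) (l b), mul_inv_cancel_right, mul_inv_cancel]
    rw [h, Subgroup.mem_bot] at hmem
    apply Subtype.ext
    show (a : G) * b = b * a
    have : (a : G) * b = (a : G) * b * (a : G)⁻¹ * (b : G)⁻¹ * (b * a) := by group
    rw [this, hmem, one_mul]
  · intro n hn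
    have hn' : n ∈ N ⊓ l.ker := by rw [h]; exact hn
    have := (Subgroup.mem_inf.1 hn').2
    rw [MonoidHom.mem_ker] at this
    rw [hl n, this]
    rfl

section Clifford

open Cfsg.Agent.Lib.Helper2 Cfsg.Agent.Lib.Helper11 Cfsg.Agent.Lib.Helper7

variable [Fintype G] (N I : Subgroup G) [hNn : N.Normal] [Fintype I]

/-- The character `φ` of `N`, viewed on `N.subgroupOf I`. -/
def subOfFun (φ : N → ℂ) : N.subgroupOf I → ℂ :=
  fun x => φ ⟨(x : I), Subgroup.mem_subgroupOf.mp x.2⟩

theorem subOfFun_irr (hNI : N ≤ I) {φ : N → ℂ} (hφ : IsIrrCharacter N φ) :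
    IsIrrCharacter (N.subgroupOf I) (subOfFun N I φ) := by
  have := isIrrCharacter_comp_equiv (Subgroup.subgroupOfEquivOfLe hNI) hφ
  convert this using 1
  funext x
  rfl

/-- A character of `I` restricting to `φ` on `N` lies over `φ`. -/
theorem over_of_extends (hNI : N ≤ I) {φ : N → ℂ} (hφ : IsIrrCharacter N φ) {ψ' : I → ℂ}
    (hψ' : IsClassFunction I ψ')
    (hext : ∀ n : N, ψ' (Subgroup.inclusion hNI n) = φ n) :
    classInner (indFun (N.subgroupOf I) (subOfFun N I φ)) ψ' ≠ 0 := by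
  classical
  haveI : Fintype (N.subgroupOf I) := Fintype.ofFinite _
  rw [frobenius_reciprocity (N.subgroupOf I) _ _ hψ']
  have h1 : (fun h : N.subgroupOf I => ψ' (h : I)) = subOfFun N I φ := by
    funext h
    have := hext ⟨((h : I) : G), Subgroup.mem_subgroupOf.mp h.2⟩
    exact this
  rw [h1, irr_classInner (subOfFun_irr N I hNI hφ) (subOfFun_irr N I hNI hφ), if_pos rfl]
  exact one_ne_zero

/-- The stabilizer hypothesis in `conjFn` form. -/
theorem stab_iff_conjFn (φ : N → ℂ)
    (hI : ∀ g : G, g ∈ I ↔ ∀ n n' : N, (n' : G) = g * (n : G) * g⁻¹ → φ n' = φ n) :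
    ∀ g : G, g ∈ I ↔ conjFn N g φ = φ := by
  intro g
  rw [hI g]
  constructor
  · intro h
    funext n
    rw [conjFn_apply]
    exact h n ⟨g * n * g⁻¹, _⟩ rfl
  · intro h n n' hn'
    have h1 := congrFun h n
    rw [conjFn_apply] at h1
    rw [← h1]
    have h2 : n' = ⟨g * n * g⁻¹, hNn.conj_mem n n.2 g⟩ := Subtype.ext hn'
    rw [h2]

/-- The character induced from an extension of `φ` to its stabilizer is irreducible. -/
theorem induced_ext_irr (hNI : N ≤ I) (φ : IrrCharacter N)
    (hI : ∀ g : G, g ∈ I ↔ ∀ n n' : N, (n' : G) = g * (n : G) * g⁻¹ →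
      (φ : N → ℂ) n' = (φ : N → ℂ) n)
    (ψ : IrrCharacter I)
    (hext : ∀ n : N, (ψ : I → ℂ) (Subgroup.inclusion hNI n) = (φ : N → ℂ) n) :
    IsIrrCharacter G (indFun I (ψ : I → ℂ)) := by
  have hov := over_of_extends N I hNI φ.2 (IrrCharacter.isClassFunction ψ) hext
  exact (clifford_correspondence N I (φ : N → ℂ) φ.2 (stab_iff_conjFn N I _ hI) hNI
    (ψ : I → ℂ) (ψ : I → ℂ) ψ.2 ψ.2 hov hov).1

/-- A linear character trivial on `N` that fixes the induced character is trivial on `I`. -/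
theorem linear_fix_trivial_on (hNI : N ≤ I) (φ : IrrCharacter N)
    (hI : ∀ g : G, g ∈ I ↔ ∀ n n' : N, (n' : G) = g * (n : G) * g⁻¹ →
      (φ : N → ℂ) n' = (φ : N → ℂ) n)
    (ψ : IrrCharacter I)
    (hext : ∀ n : N, (ψ : I → ℂ) (Subgroup.inclusion hNI n) = (φ : N → ℂ) n)
    {μ : G → ℂ} (hμ : IsCharacter G μ) (hμ1 : μ 1 = 1) (hμN : ∀ n ∈ N, μ n = 1)
    (hfix : μ * indFun I (ψ : I → ℂ) = indFun I (ψ : I → ℂ)) : ∀ g ∈ I, μ g = 1 := by
  classical
  haveI : Fintype (N.subgroupOf I) := Fintype.ofFinite _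
  set μI : I → ℂ := fun i => μ i with hμI
  have hμIchar : IsCharacter I μI := IsCharacter.restrict hμ I
  have hμI1 : μI 1 = 1 := by
    show μ ((1 : I) : G) = 1
    rw [OneMemClass.coe_one, hμ1]
  have hψ'irr : IsIrrCharacter I (μI * (ψ : I → ℂ)) := isIrrCharacter_linear_mul hμIchar hμI1 ψ.2
  have hψ'ext : ∀ n : N, (μI * (ψ : I → ℂ)) (Subgroup.inclusion hNI n) = (φ : N → ℂ) n := by
    intro n
    rw [Pi.mul_apply, hext n]
    show μ ((Subgroup.inclusion hNI n : I) : G) * _ = _
    rw [Subgroup.coe_inclusion, hμN n n.2, one_mul]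
  have hov := over_of_extends N I hNI φ.2 (IrrCharacter.isClassFunction ψ) hext
  have hov' := over_of_extends N I hNI φ.2
    (IrrCharacter.isClassFunction ⟨μI * (ψ : I → ℂ), hψ'irr⟩) hψ'ext
  have hcc := (clifford_correspondence N I (φ : N → ℂ) φ.2 (stab_iff_conjFn N I _ hI) hNI
    (ψ : I → ℂ) (μI * (ψ : I → ℂ)) ψ.2 hψ'irr hov hov').2
  have hind : indFun I (ψ : I → ℂ) = indFun I (μI * (ψ : I → ℂ)) := by
    rw [mul_comm μI, hμI, indFun_mul_restrict I (ψ : I → ℂ) μ (IsCharacter.isClassFunction hμ),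
      mul_comm, hfix]
  have hψeq : (ψ : I → ℂ) = μI * (ψ : I → ℂ) := hcc hind
  -- Gallagher
  have hone : IsIrrCharacter (N.subgroupOf I) (fun _ => (1 : ℂ)) :=
    Cfsg.Agent.Lib.Helper25.isIrrCharacter_one
  have hinv : ∀ g : I, conjFn (N.subgroupOf I) g (fun _ => (1 : ℂ)) = fun _ => (1 : ℂ) := by
    intro g
    funext n
    rw [conjFn_apply]
  have hprodeq : ((fun _ => (1 : ℂ)) * fun n : N.subgroupOf I => (ψ : I → ℂ) n) =
      subOfFun N I (φ : N → ℂ) := by
    funext h
    rw [Pi.mul_apply, one_mul]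
    exact hext ⟨((h : I) : G), Subgroup.mem_subgroupOf.mp h.2⟩
  have hprod : IsIrrCharacter (N.subgroupOf I)
      ((fun _ => (1 : ℂ)) * fun n : N.subgroupOf I => (ψ : I → ℂ) n) := by
    rw [hprodeq]; exact subOfFun_irr N I hNI φ.2
  obtain ⟨-, hinj, -⟩ := gallagher_rigidity (N.subgroupOf I) hone hinv
    (isCharacter_of_irr ψ.2) hprod
  have hover : ∀ β : I → ℂ, IsClassFunction I β → (∀ h : N.subgroupOf I, β (h : I) = 1) →
      classInner (indFun (N.subgroupOf I) (fun _ => (1 : ℂ))) β ≠ 0 := by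
    intro β hβ hβN
    rw [frobenius_reciprocity (N.subgroupOf I) _ _ hβ]
    have h1 : (fun h : N.subgroupOf I => β (h : I)) = fun _ => (1 : ℂ) := funext hβN
    rw [h1, irr_classInner hone hone, if_pos rfl]
    exact one_ne_zero
  have hμIirr : IsIrrCharacter I μI := by
    obtain ⟨l, hl⟩ := exists_hom_of_linear hμIchar hμI1
    have : μI = fun g => ((l g : ℂˣ) : ℂ) := funext hl
    rw [this]; exact isIrrCharacter_of_hom l
  have h1I : IsIrrCharacter I (fun _ => (1 : ℂ)) := Cfsg.Agent.Lib.Helper25.isIrrCharacter_one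
  have hμIN : ∀ h : N.subgroupOf I, μI (h : I) = 1 := by
    intro h
    exact hμN _ (Subgroup.mem_subgroupOf.mp h.2)
  have hfinal := hinj μI (fun _ => (1 : ℂ)) hμIirr h1I
    (hover μI (IrrCharacter.isClassFunction ⟨μI, hμIirr⟩) hμIN)
    (hover _ (IrrCharacter.isClassFunction ⟨_, h1I⟩) (fun _ => rfl))
    (by
      rw [← hψeq]
      funext i
      rw [Pi.mul_apply, one_mul])
  intro g hg
  exact congrFun hfinal ⟨g, hg⟩

/-- The counting theorem: linear characters with property `p` against characters of degree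
`φ(1) |G : I|` with property `q`, when multiplication by the induced character maps `p` to `q`. -/
theorem minNormal_count (hmin : ∀ M : Subgroup G, M.Normal → M ≤ N → M = ⊥ ∨ M = N)
    (hna : ¬ IsMulCommutative ↥N) (hNI : N ≤ I) (φ : IrrCharacter N)
    (hI : ∀ g : G, g ∈ I ↔ ∀ n n' : N, (n' : G) = g * (n : G) * g⁻¹ →
      (φ : N → ℂ) n' = (φ : N → ℂ) n)
    (ψ : IrrCharacter I)
    (hext : ∀ n : N, (ψ : I → ℂ) (Subgroup.inclusion hNI n) = (φ : N → ℂ) n)
    (p q : IrrCharacter G → Prop)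
    (hpq : ∀ lam : IrrCharacter G, charDegree (lam : G → ℂ) = 1 → p lam →
      ∀ χ : IrrCharacter G, (χ : G → ℂ) = (lam : G → ℂ) * indFun I (ψ : I → ℂ) → q χ) :
    Nat.card {χ : IrrCharacter G // charDegree (χ : G → ℂ) = 1 ∧ p χ} ≤
      I.index * Nat.card {χ : IrrCharacter G //
        charDegree (χ : G → ℂ) = charDegree (φ : N → ℂ) * I.index ∧ q χ} := by
  classical
  set χ₀ : G → ℂ := indFun I (ψ : I → ℂ) with hχ₀
  have hχ₀irr : IsIrrCharacter G χ₀ := induced_ext_irr N I hNI φ hI ψ hext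
  have hlin1 : ∀ lam : IrrCharacter G, charDegree (lam : G → ℂ) = 1 → (lam : G → ℂ) 1 = 1 := by
    intro lam h
    rw [char_one_eq_charDegree (isCharacter_of_irr lam.2), h, Nat.cast_one]
  have hχ₀deg : χ₀ 1 = ((charDegree (φ : N → ℂ) * I.index : ℕ) : ℂ) := by
    rw [hχ₀, indFun_apply_one]
    have h1 : (ψ : I → ℂ) 1 = (φ : N → ℂ) 1 := by
      have := hext 1
      rwa [map_one] at this
    rw [h1, char_one_eq_charDegree (isCharacter_of_irr φ.2)]
    push_cast; ring
  set L := {χ : IrrCharacter G // charDegree (χ : G → ℂ) = 1 ∧ p χ} with hL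
  set D := {χ : IrrCharacter G //
    charDegree (χ : G → ℂ) = charDegree (φ : N → ℂ) * I.index ∧ q χ} with hD
  haveI : Fintype L := Fintype.ofFinite _
  haveI : Fintype D := Fintype.ofFinite _
  have hfirr : ∀ lam : L, IsIrrCharacter G ((lam.1 : G → ℂ) * χ₀) := fun lam =>
    isIrrCharacter_linear_mul (isCharacter_of_irr lam.1.2) (hlin1 lam.1 lam.2.1) hχ₀irr
  have hfdeg : ∀ lam : L, charDegree ((lam.1 : G → ℂ) * χ₀) =
      charDegree (φ : N → ℂ) * I.index := by
    intro lam
    have h1 := char_one_eq_charDegree (isCharacter_of_irr (hfirr lam))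
    rw [Pi.mul_apply, hlin1 lam.1 lam.2.1, one_mul, hχ₀deg] at h1
    exact_mod_cast h1.symm
  let f : L → D := fun lam =>
    ⟨⟨(lam.1 : G → ℂ) * χ₀, hfirr lam⟩, hfdeg lam, hpq lam.1 lam.2.1 lam.2.2 _ rfl⟩
  have hfval : ∀ lam : L, ((f lam).1 : G → ℂ) = (lam.1 : G → ℂ) * χ₀ := fun _ => rfl
  set S' := {μ : IrrCharacter G // (μ : G → ℂ) 1 = 1 ∧ ∀ g ∈ I, (μ : G → ℂ) g = 1} with hS'
  haveI : Fintype S' := Fintype.ofFinite _
  have hS'card : Fintype.card S' ≤ I.index := by
    rw [← Nat.card_eq_fintype_card]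
    exact card_linear_trivial_on_le I
  have hfiber : ∀ a ∈ (Finset.univ : Finset L).image f,
      (Finset.univ.filter (fun x : L => f x = a)).card ≤ I.index := by
    intro a ha
    obtain ⟨lam₀, -, rfl⟩ := Finset.mem_image.1 ha
    have hlam₀c := isCharacter_of_irr lam₀.1.2
    have hlam₀1 := hlin1 lam₀.1 lam₀.2.1
    have hdiv : ∀ x : L, ∃ μ : IrrCharacter G, (μ : G → ℂ) 1 = 1 ∧
        ∀ g, (μ : G → ℂ) g = (x.1 : G → ℂ) g * conj ((lam₀.1 : G → ℂ) g) := fun x =>
      exists_linear_div (isCharacter_of_irr x.1.2) (hlin1 x.1 x.2.1) hlam₀c hlam₀1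
    choose dv hdv1 hdvg using hdiv
    have hmem : ∀ x ∈ Finset.univ.filter (fun x : L => f x = f lam₀),
        ∀ g ∈ I, (dv x : G → ℂ) g = 1 := by
      intro x hx
      have hx' : f x = f lam₀ := (Finset.mem_filter.1 hx).2
      have hx'' : (x.1 : G → ℂ) * χ₀ = (lam₀.1 : G → ℂ) * χ₀ := by
        rw [← hfval, ← hfval, hx']
      have hfix : (dv x : G → ℂ) * χ₀ = χ₀ := by
        funext g
        have h1 := congrFun hx'' g
        rw [Pi.mul_apply, Pi.mul_apply] at h1
        rw [Pi.mul_apply, hdvg x g]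
        have h2 := linear_mul_conj hlam₀c hlam₀1 g
        calc (x.1 : G → ℂ) g * conj ((lam₀.1 : G → ℂ) g) * χ₀ g
            = conj ((lam₀.1 : G → ℂ) g) * ((x.1 : G → ℂ) g * χ₀ g) := by ring
          _ = conj ((lam₀.1 : G → ℂ) g) * ((lam₀.1 : G → ℂ) g * χ₀ g) := by rw [h1]
          _ = ((lam₀.1 : G → ℂ) g * conj ((lam₀.1 : G → ℂ) g)) * χ₀ g := by ring
          _ = χ₀ g := by rw [h2, one_mul]
      exact linear_fix_trivial_on N I hNI φ hI ψ hext (isCharacter_of_irr (dv x).2) (hdv1 x)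
        (minNormal_le_ker N hNn hmin hna (isCharacter_of_irr (dv x).2) (hdv1 x)) hfix
    have hle : (Finset.univ.filter (fun x : L => f x = f lam₀)).card ≤
        (Finset.univ : Finset S').card := by
      have hdec : ∀ x : L, Decidable (x ∈ Finset.univ.filter (fun x : L => f x = f lam₀)) :=
        fun _ => inferInstance
      let gmap : L → S' := fun x =>
        if hx : x ∈ Finset.univ.filter (fun x : L => f x = f lam₀) then
          ⟨dv x, hdv1 x, hmem x hx⟩
        else ⟨irrOne G, rfl, fun _ _ => rfl⟩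
      apply Finset.card_le_card_of_injOn gmap (fun _ _ => Finset.mem_univ _)
      intro x hx y hy hxy
      have hx' : x ∈ Finset.univ.filter (fun x : L => f x = f lam₀) := hx
      have hy' : y ∈ Finset.univ.filter (fun x : L => f x = f lam₀) := hy
      simp only [gmap, dif_pos hx', dif_pos hy'] at hxy
      have hxy' : dv x = dv y := congrArg Subtype.val hxy
      apply Subtype.ext
      apply Subtype.ext
      funext g
      have h1 : (dv x : G → ℂ) g = (dv y : G → ℂ) g := by rw [hxy']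
      rw [hdvg x g, hdvg y g] at h1
      have h2 := linear_mul_conj hlam₀c hlam₀1 g
      calc (x.1 : G → ℂ) g = (x.1 : G → ℂ) g * conj ((lam₀.1 : G → ℂ) g) *
            (lam₀.1 : G → ℂ) g := by
            rw [mul_assoc, mul_comm (conj _), h2, mul_one]
        _ = (y.1 : G → ℂ) g * conj ((lam₀.1 : G → ℂ) g) * (lam₀.1 : G → ℂ) g := by rw [h1]
        _ = (y.1 : G → ℂ) g := by rw [mul_assoc, mul_comm (conj _), h2, mul_one]
    rw [Finset.card_univ] at hle
    exact hle.trans hS'card
  have hmain := Finset.card_le_mul_card_image (Finset.univ : Finset L) I.index hfiber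
  rw [Nat.card_eq_fintype_card, Nat.card_eq_fintype_card]
  calc Fintype.card L = (Finset.univ : Finset L).card := Finset.card_univ.symm
    _ ≤ I.index * ((Finset.univ : Finset L).image f).card := hmain
    _ ≤ I.index * Fintype.card D := by
        apply Nat.mul_le_mul_left
        rw [← Finset.card_univ]
        exact Finset.card_le_card (Finset.subset_univ _)

end Clifford

end Cfsg.Agent.Lib.Helper25
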