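import Mathlib
import Cfsg.Prelude.Def_Blocks
import Cfsg.Agent.Lib.Helper2.FrobeniusSchur
import Cfsg.Agent.Lib.Helper25.CharBasic

/-!
# Frobenius–Schur indicator `-1` forces even degree
(helper25 library)

If the Frobenius–Schur indicator of an irreducible character `χ` is `-1`, the representation
carries a non-degenerate invariant alternating form, so `χ(1)` is even.
-/

set_option autoImplicit false

namespace Cfsg.Agent.Lib.Helper25.Symplectic

open Module Cfsg.Agent.Lib.Helper2
open scoped ComplexConjugate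

section Mat

variable {G : Type*} [Group G] [Fintype G] {n : Type*} [Fintype n] [DecidableEq n]

/-- If the averaging operator has trace `1` and its composite with transposition has trace `-1`,
there is a nonzero invariant skew-symmetric matrix. -/
theorem exists_skew_invariant (A : G → Matrix n n ℂ)
    (hA : ∀ g h : G, A (g * h) = A g * A h)
    (h1 : LinearMap.trace ℂ _ (avgOp A) = 1)
    (hm : LinearMap.trace ℂ _ (transposeLin ∘ₗ avgOp A) = -1) :
    ∃ M₀ : Matrix n n ℂ, M₀ ≠ 0 ∧ M₀.transpose = -M₀ ∧
      ∀ h : G, A h * M₀ * (A h).transpose = M₀ := by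
  have hproj := avgOp_isProj A hA
  have hfr : (finrank ℂ (LinearMap.range (avgOp A)) : ℂ) = LinearMap.trace ℂ _ (avgOp A) :=
    (hproj.trace).symm
  rw [h1] at hfr
  have hfr1 : finrank ℂ (LinearMap.range (avgOp A)) = 1 := by exact_mod_cast hfr
  obtain ⟨⟨M₀, hM₀r⟩, hM₀ne, hspan⟩ := finrank_eq_one_iff'.mp hfr1
  have hM₀ne' : M₀ ≠ 0 := fun h => hM₀ne (Subtype.ext h)
  have hspan' : ∀ M : Matrix n n ℂ, ∃ a : ℂ, a • M₀ = avgOp A M := by
    intro M
    obtain ⟨a, ha⟩ := hspan ⟨avgOp A M, LinearMap.mem_range_self _ M⟩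
    exact ⟨a, congrArg Subtype.val ha⟩
  obtain ⟨M₁, hM₁⟩ := hM₀r
  obtain ⟨c', hc'⟩ := hspan' M₁.transpose
  have hτM₀ : M₀.transpose = c' • M₀ := by
    rw [← hM₁, transpose_avgOp, ← hc', hM₁]
  have hτPc : transposeLin ∘ₗ avgOp A = c' • avgOp A := by
    apply LinearMap.ext
    intro M
    obtain ⟨a, ha⟩ := hspan' M
    rw [LinearMap.comp_apply, transposeLin_apply, LinearMap.smul_apply, ← ha,
      Matrix.transpose_smul, hτM₀, smul_comm]
  rw [hτPc, map_smul, h1, smul_eq_mul, mul_one] at hm
  refine ⟨M₀, hM₀ne', ?_, ?_⟩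
  · rw [hτM₀, hm, neg_one_smul]
  · intro h
    rw [← hM₁]
    exact avgOp_invariant A hA h M₁

end Mat

section Rep

variable {G : Type*} [Group G] [Fintype G]

/-- **Symplectic type forces even degree.**  If the Frobenius–Schur indicator of an
irreducible character is `-1`, its degree is even. -/
theorem even_degree_of_fs_neg_one (χ : Cfsg.IrrCharacter G)
    (hν : (Nat.card G : ℂ)⁻¹ * ∑ s : G, (χ : G → ℂ) (s * s) = -1) :
    Even (Cfsg.charDegree (χ : G → ℂ)) := by
  classical
  obtain ⟨n, ρ, hirr, hρ⟩ := χ.2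
  have hdeg : Cfsg.charDegree (χ : G → ℂ) = n := by
    rw [← hρ]; exact Cfsg.Agent.Lib.Helper25.charDegree_rep ρ
  rw [hdeg]
  let A : G → Matrix (Fin n) (Fin n) ℂ := fun g => LinearMap.toMatrix' (ρ g)
  have hA_mul : ∀ g h : G, A (g * h) = A g * A h := by
    intro g h
    simp only [A]
    rw [map_mul]
    exact LinearMap.toMatrix'_mul (ρ g) (ρ h)
  have hA_one : A 1 = 1 := by
    simp only [A]
    rw [map_one]
    exact LinearMap.toMatrix'_one
  have hAtr : ∀ g : G, (A g).trace = ρ.character g := by
    intro g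
    simp only [A]
    rw [Representation.character, LinearMap.trace_eq_matrix_trace ℂ (Pi.basisFun ℂ (Fin n)),
      LinearMap.toMatrix_eq_toMatrix']
  have htrτP : LinearMap.trace ℂ _ (transposeLin ∘ₗ avgOp A) = -1 := by
    rw [trace_transpose_avgOp]
    simp only [← hA_mul, hAtr]
    rw [hρ]
    exact hν
  obtain ⟨hcase0, -⟩ := trace_transpose_avgOp_cases A hA_mul
  -- the trace of the averaging operator is `0` or `1`
  have hχ : Cfsg.IsIrrCharacter G ρ.character := isIrrCharacter_of_rep ρ
  have hχc : Cfsg.IsIrrCharacter G (fun g => conj (ρ.character g)) := isIrrCharacter_conj hχ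
  have htrP : LinearMap.trace ℂ _ (avgOp A)
      = if (⟨ρ.character, hχ⟩ : Cfsg.IrrCharacter G) = ⟨_, hχc⟩ then 1 else 0 := by
    rw [trace_avgOp]
    simp only [hAtr]
    rw [← classInner_irrCharacter, classInner_def]
    congr 1
    apply Finset.sum_congr rfl
    intro g _
    simp
  have htrP1 : LinearMap.trace ℂ _ (avgOp A) = 1 := by
    by_cases hre : (⟨ρ.character, hχ⟩ : Cfsg.IrrCharacter G) = ⟨_, hχc⟩
    · rw [htrP, if_pos hre]
    · exfalso
      rw [if_neg hre] at htrP
      have := hcase0 htrP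
      rw [htrτP] at this
      norm_num at this
  obtain ⟨M₀, hM₀ne, hM₀t, hM₀inv⟩ := exists_skew_invariant A hA_mul htrP1 htrτP
  -- the dual representation, in matrix form
  have hAinv : ∀ g : G, A g * A g⁻¹ = 1 := by
    intro g
    rw [← hA_mul, mul_inv_cancel, hA_one]
  let σ : Representation ℂ G (Fin n → ℂ) :=
    { toFun := fun g => Matrix.toLin' (A g⁻¹).transpose
      map_one' := by
        simp only [inv_one, hA_one, Matrix.transpose_one]
        exact Matrix.toLin'_one
      map_mul' := by
        intro g h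
        simp only [mul_inv_rev, hA_mul, Matrix.transpose_mul]
        exact Matrix.toLin'_mul _ _ }
  have hσ : ∀ g : G, σ g = Matrix.toLin' (A g⁻¹).transpose := fun g => rfl
  have hρA : ∀ g : G, ρ g = Matrix.toLin' (A g) := by
    intro g
    simp only [A]
    exact (Matrix.toLin'_toMatrix' (ρ g)).symm
  -- `A h * M₀ = M₀ * (A h⁻¹)ᵀ`
  have hint : ∀ h : G, M₀ * (A h⁻¹).transpose = A h * M₀ := by
    intro h
    have h1 := hM₀inv h
    have h2 : (A h).transpose * (A h⁻¹).transpose = 1 := by
      rw [← Matrix.transpose_mul]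
      have : A h⁻¹ * A h = 1 := by
        have := hAinv h⁻¹
        rwa [inv_inv] at this
      rw [this, Matrix.transpose_one]
    calc M₀ * (A h⁻¹).transpose = (A h * M₀ * (A h).transpose) * (A h⁻¹).transpose := by rw [h1]
      _ = A h * M₀ * ((A h).transpose * (A h⁻¹).transpose) := by simp only [Matrix.mul_assoc]
      _ = A h * M₀ := by rw [h2, Matrix.mul_one]
  let f : Representation.IntertwiningMap σ ρ :=
    { toLinearMap := Matrix.toLin' M₀
      isIntertwining' := by
        intro g
        rw [hσ, hρA, ← Matrix.toLin'_mul, ← Matrix.toLin'_mul, hint] }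
  have hf : ∀ v, f v = Matrix.toLin' M₀ v := fun v => rfl
  rcases Representation.IsIrreducible.surjective_or_eq_zero (ρ := ρ) f with hsurj | hzero
  · -- `M₀` is invertible, so `n` is even
    have hsurj' : Function.Surjective M₀.mulVec := by
      intro w
      obtain ⟨v, hv⟩ := hsurj w
      exact ⟨v, by rw [← hv, hf, Matrix.toLin'_apply]⟩
    have hunit : IsUnit M₀.det :=
      (Matrix.isUnit_iff_isUnit_det M₀).1 (Matrix.mulVec_surjective_iff_isUnit.1 hsurj')
    have hdet : M₀.det = (-1) ^ n * M₀.det := by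
      conv_lhs => rw [← Matrix.det_transpose, hM₀t, Matrix.det_neg, Fintype.card_fin]
    by_contra hodd
    rw [Nat.not_even_iff_odd] at hodd
    rw [hodd.neg_one_pow] at hdet
    have h0 : M₀.det = 0 := by linear_combination hdet / 2
    rw [h0] at hunit
    exact not_isUnit_zero hunit
  · exfalso
    apply hM₀ne
    have h1 : Matrix.toLin' M₀ = 0 := by
      have := congrArg Representation.IntertwiningMap.toLinearMap hzero
      simpa [f] using this
    have h2 : Matrix.toLin' M₀ = Matrix.toLin' (0 : Matrix (Fin n) (Fin n) ℂ) := by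
      rw [h1, map_zero]
    exact Matrix.toLin'.injective h2

end Rep

end Cfsg.Agent.Lib.Helper25.Symplectic
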