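import Mathlib
import Cfsg.Prelude.Def_Characters
import Cfsg.Agent.Lib.Helper2.Invariants
import Cfsg.Agent.Lib.Helper25.EvenDegree
import Cfsg.Agent.Lib.Helper25.Symplectic

/-!
# S4707 FO-FS (helper25): the Frobenius–Schur indicator of `χ'` is `+1`
-/

set_option autoImplicit false

namespace Cfsg.Agent.Lib.Helper25.S4707

open Cfsg
open Cfsg.Agent.Lib.Helper2
open scoped ComplexConjugate

variable {G : Type*} [Group G] [Fintype G]

/-- the sum of a character over a subgroup is the order of the subgroup times a natural number -/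
theorem sum_subgroup_char {χ : G → ℂ} (hχ : IsCharacter G χ) (P : Subgroup G) [Fintype P] :
    ∃ m : ℕ, ∑ x : P, χ x = (Nat.card P : ℂ) * (m : ℂ) := by
  obtain ⟨n, ρ, rfl⟩ := hχ
  have h := classInner_restrict_one_eq_finrank ρ P
  refine ⟨Module.finrank ℂ ↥(Representation.invariants (MonoidHom.comp ρ P.subtype)), ?_⟩
  rw [← h, classInner_def]
  have hne : (Nat.card P : ℂ) ≠ 0 := by exact_mod_cast Nat.card_pos.ne'
  rw [← mul_assoc, mul_inv_cancel₀ hne, one_mul]
  apply Finset.sum_congr rfl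
  intro x _
  simp

theorem fs_trivial : (Nat.card G : ℂ)⁻¹ * ∑ s : G, ((trivialIrr G : IrrCharacter G) : G → ℂ) (s * s)
    = 1 := by
  have hne : (Nat.card G : ℂ) ≠ 0 := by exact_mod_cast Nat.card_pos.ne'
  simp only [trivialIrr, Finset.sum_const, Finset.card_univ, nsmul_eq_mul, mul_one]
  rw [← Nat.card_eq_fintype_card, inv_mul_cancel₀ hne]

/-- **FO-FS**. -/
theorem fs_eq_one (p : ℕ) (hp : p.Prime) (hp5 : 5 ≤ p) (P : Subgroup G) (hP : Nat.card P = p)
    (hC : Subgroup.centralizer (P : Set G) = P)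
    (χ' : IrrCharacter G) (E : Finset (IrrCharacter G)) (hE : 2 * E.card + 1 = p)
    (hχ'1 : χ' ≠ trivialIrr G) (hχ'E : χ' ∉ E) (htE : trivialIrr G ∉ E)
    (hdeg' : (χ' : G → ℂ) 1 = (p : ℂ) - 1)
    (hdegE : ∀ χ ∈ E, (χ : G → ℂ) 1 = (p : ℂ) - 2)
    (hχ'P : ∀ g ∈ P, g ≠ 1 → (χ' : G → ℂ) g = -1)
    (hvan : ∀ χ : IrrCharacter G, χ ≠ trivialIrr G → χ ≠ χ' → χ ∉ E →
      ∀ g ∈ P, g ≠ 1 → (χ : G → ℂ) g = 0) :
    (Nat.card G : ℂ)⁻¹ * ∑ s : G, (χ' : G → ℂ) (s * s) = 1 := by
  classical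
  haveI : Fintype (IrrCharacter G) := Fintype.ofFinite _
  haveI : Fintype P := Fintype.ofFinite P
  have hpodd : Odd p := hp.odd_of_ne_two (by omega)
  -- a non-identity element of `P`
  obtain ⟨u₀, hu₀P, hu₀1⟩ : ∃ u ∈ P, u ≠ 1 := by
    by_contra hcon
    push Not at hcon
    have hbot : P = ⊥ := by
      rw [Subgroup.eq_bot_iff_forall]
      exact hcon
    rw [hbot] at hP
    simp at hP
    omega
  -- `χ'` is real
  have hreal : barIrr χ' = χ' := by
    by_contra hne
    have h1 : (barIrr χ' : G → ℂ) u₀ = -1 := by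
      rw [barIrr_apply, hχ'P u₀ hu₀P hu₀1]; simp
    have hd : (barIrr χ' : G → ℂ) 1 = (p : ℂ) - 1 := by
      rw [barIrr_apply, hdeg']; simp
    have h2 : barIrr χ' ≠ trivialIrr G := by
      intro h
      rw [h] at hd
      simp only [trivialIrr] at hd
      have : (p : ℂ) = 2 := by linear_combination -hd
      have : p = 2 := by exact_mod_cast this
      omega
    have h3 : barIrr χ' ∉ E := by
      intro h
      have := hdegE _ h
      rw [hd] at this
      have : (1 : ℂ) = 2 := by linear_combination -this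
      norm_num at this
    have h4 := hvan (barIrr χ') h2 hne h3 u₀ hu₀P hu₀1
    rw [h1] at h4
    norm_num at h4
  rcases (fs_cases χ').2 hreal with h | hneg
  · exact h
  exfalso
  -- the key identity for every non-identity element of `P`
  have key : ∀ u ∈ P, u ≠ 1 →
      ∑ χ ∈ E, conj ((Nat.card G : ℂ)⁻¹ * ∑ s : G, (χ : G → ℂ) (s * s)) * (χ : G → ℂ) u = -1 := by
    intro u huP hu1
    have hzp : Subgroup.zpowers u = P := by
      apply Subgroup.eq_of_le_of_card_ge (Subgroup.zpowers_le.mpr huP)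
      rw [Nat.card_zpowers, hP]
      have hdvd : orderOf u ∣ p := by
        rw [← hP]
        have := orderOf_dvd_natCard (⟨u, huP⟩ : P)
        rwa [Subgroup.orderOf_mk] at this
      rcases (Nat.dvd_prime hp).mp hdvd with h | h
      · exact absurd (orderOf_eq_one_iff.mp h) hu1
      · exact h.ge
    have hcent : Subgroup.centralizer ({u} : Set G) = P := by
      apply le_antisymm
      · intro g hg
        rw [← hC, Subgroup.mem_centralizer_iff]
        intro y hy
        have hy' : y ∈ Subgroup.zpowers u := by rw [hzp]; exact hy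
        obtain ⟨k, rfl⟩ := Subgroup.mem_zpowers_iff.mp hy'
        rw [Subgroup.mem_centralizer_iff] at hg
        have hgu : u * g = g * u := hg u (Set.mem_singleton u)
        exact (Commute.zpow_left (show Commute u g from hgu) k).eq
      · intro g hg
        rw [← hC] at hg
        rw [Subgroup.mem_centralizer_iff] at hg ⊢
        intro y hy
        rw [Set.mem_singleton_iff] at hy
        rw [hy]
        exact hg u huP
    have hodd : Odd (Nat.card (Subgroup.centralizer ({u} : Set G))) := by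
      rw [hcent, hP]; exact hpodd
    have hsum := sum_fs_mul_char u
    rw [sqCount_eq_one u hodd, ← Finset.sum_add_sum_compl E] at hsum
    have hcompl : ∑ χ ∈ Eᶜ, conj ((Nat.card G : ℂ)⁻¹ * ∑ s : G, (χ : G → ℂ) (s * s)) *
        (χ : G → ℂ) u = 2 := by
      rw [Finset.sum_eq_add (trivialIrr G) χ' (Ne.symm hχ'1)]
      · rw [fs_trivial, hneg, hχ'P u huP hu1]
        simp [trivialIrr]
        norm_num
      · intro c hc hcne
        rw [Finset.mem_compl] at hc
        rw [hvan c hcne.1 hcne.2 hc u huP hu1, mul_zero]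
      · intro h
        exact absurd (Finset.mem_compl.mpr htE) h
      · intro h
        exact absurd (Finset.mem_compl.mpr hχ'E) h
    rw [hcompl] at hsum
    linear_combination hsum
  -- indicators on `E` are `0` or `1`
  have hν : ∀ χ ∈ E, (Nat.card G : ℂ)⁻¹ * ∑ s : G, (χ : G → ℂ) (s * s) = 0 ∨
      (Nat.card G : ℂ)⁻¹ * ∑ s : G, (χ : G → ℂ) (s * s) = 1 := by
    intro χ hχ
    by_cases hr : barIrr χ = χ
    · rcases (fs_cases χ).2 hr with h | h
      · exact Or.inr h
      · exfalso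
        have heven := Cfsg.Agent.Lib.Helper25.Symplectic.even_degree_of_fs_neg_one χ h
        have hd := hdegE χ hχ
        rw [char_one_eq_charDegree (isCharacter_of_irr χ.2)] at hd
        have hd' : (charDegree (χ : G → ℂ) : ℂ) = ((p - 2 : ℕ) : ℂ) := by
          rw [hd]; push_cast [Nat.cast_sub (show 2 ≤ p by omega)]; ring
        have hd'' : charDegree (χ : G → ℂ) = p - 2 := by exact_mod_cast hd'
        rw [hd''] at heven
        obtain ⟨a, ha⟩ := heven
        obtain ⟨b, hb⟩ := hpodd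
        omega
    · exact Or.inl ((fs_cases χ).1 hr)
  set E' := E.filter (fun χ : IrrCharacter G =>
    (Nat.card G : ℂ)⁻¹ * ∑ s : G, (χ : G → ℂ) (s * s) = 1) with hE'
  have key' : ∀ u ∈ P, u ≠ 1 → ∑ χ ∈ E', (χ : G → ℂ) u = -1 := by
    intro u huP hu1
    rw [← key u huP hu1, hE', Finset.sum_filter]
    apply Finset.sum_congr rfl
    intro χ hχ
    rcases hν χ hχ with h | h
    · rw [h]; simp
    · rw [h]; simp
  -- sum over `P`
  have hsumP : ∑ x : P, ∑ χ ∈ E', (χ : G → ℂ) x = (E'.card : ℂ) * ((p : ℂ) - 2) - ((p : ℂ) - 1) := by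
    rw [← Finset.add_sum_erase Finset.univ _ (Finset.mem_univ (1 : P))]
    have h1 : ∑ χ ∈ E', (χ : G → ℂ) ((1 : P) : G) = (E'.card : ℂ) * ((p : ℂ) - 2) := by
      have h0 : ∀ χ ∈ E', (χ : G → ℂ) ((1 : P) : G) = (p : ℂ) - 2 := fun χ hχ =>
        hdegE χ (Finset.mem_of_mem_filter χ hχ)
      rw [Finset.sum_congr rfl h0, Finset.sum_const, nsmul_eq_mul]
    have h2 : ∑ x ∈ Finset.univ.erase (1 : P), ∑ χ ∈ E', (χ : G → ℂ) x = -((p : ℂ) - 1) := by
      rw [Finset.sum_congr rfl (fun x hx => key' x.1 x.2 (fun h => (Finset.ne_of_mem_erase hx)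
        (Subtype.ext h)))]
      rw [Finset.sum_const, Finset.card_erase_of_mem (Finset.mem_univ _), Finset.card_univ,
        ← Nat.card_eq_fintype_card, hP, nsmul_eq_mul, Nat.cast_sub (by omega)]
      push_cast; ring
    rw [h1, h2]; ring
  have hsumP' : ∃ M : ℕ, ∑ x : P, ∑ χ ∈ E', (χ : G → ℂ) x = (p : ℂ) * (M : ℂ) := by
    rw [Finset.sum_comm]
    choose! m hm using fun χ : IrrCharacter G => sum_subgroup_char (isCharacter_of_irr χ.2) P
    refine ⟨∑ χ ∈ E', m χ, ?_⟩
    rw [Finset.sum_congr rfl (fun χ _ => hm χ), hP]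
    push_cast
    rw [Finset.mul_sum]
  obtain ⟨M, hM⟩ := hsumP'
  rw [hsumP] at hM
  have hcard : E'.card ≤ E.card := Finset.card_filter_le _ _
  have hM' : (E'.card : ℤ) * ((p : ℤ) - 2) - ((p : ℤ) - 1) = (p : ℤ) * (M : ℤ) := by
    exact_mod_cast hM
  have hp0 : (5 : ℤ) ≤ p := by exact_mod_cast hp5
  have hE'' : 2 * (E'.card : ℤ) + 1 ≤ p := by
    have : 2 * E'.card + 1 ≤ p := by omega
    exact_mod_cast this
  have hE0 : (0 : ℤ) ≤ E'.card := by positivity
  have hM0 : (0 : ℤ) ≤ M := by positivity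
  -- `2 e - 1 = p (e - 1 - M)`
  have hk : 2 * (E'.card : ℤ) - 1 = (p : ℤ) * ((E'.card : ℤ) - 1 - M) := by linear_combination -hM'
  rcases lt_trichotomy ((E'.card : ℤ) - 1 - M) 0 with h | h | h
  · nlinarith
  · rw [h] at hk; omega
  · nlinarith

end Cfsg.Agent.Lib.Helper25.S4707
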