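import Mathlib
import Cfsg.Prelude.Def_Characters
import Cfsg.Agent.Lib.Helper2.RationalChars

/-!
# S4707 FO-RAT (helper25): a character invariant under the coprime power maps is integer valued
-/

set_option autoImplicit false

namespace Cfsg.Agent.Lib.Helper25.S4707

open Cfsg
open Cfsg.Agent.Lib.Helper2
open scoped ComplexConjugate

/-- a rational number that is an algebraic integer (as a complex number) is an integer -/
theorem int_of_rat_isIntegral (q : ℚ) (h : IsIntegral ℤ (q : ℂ)) : ∃ z : ℤ, (q : ℂ) = (z : ℂ) := by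
  have h1 : IsIntegral ℤ q := by
    have h2 : IsIntegral ℤ (algebraMap ℚ ℂ q) := by simpa using h
    exact (isIntegral_algebraMap_iff (algebraMap ℚ ℂ).injective).mp h2
  obtain ⟨z, hz⟩ := (IsIntegrallyClosed.isIntegral_iff (R := ℤ) (K := ℚ)).mp h1
  refine ⟨z, ?_⟩
  rw [← hz]
  simp

/-- **FO-RAT**. -/
theorem int_valued_of_pow_coprime {G : Type*} [Group G] [Finite G] {χ : G → ℂ}
    (hχ : IsCharacter G χ)
    (hpow : ∀ k : ℕ, k.Coprime (Nat.card G) → ∀ g : G, χ (g ^ k) = χ g) (g : G) :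
    ∃ z : ℤ, χ g = (z : ℂ) := by
  obtain ⟨n, ρ, rfl⟩ := hχ
  obtain ⟨q, hq⟩ := char_rat_of_forall_pow_eq ρ g (fun m hm => hpow m hm g)
  have hint := char_isIntegral ρ g
  rw [hq] at hint ⊢
  exact int_of_rat_isIntegral q hint

end Cfsg.Agent.Lib.Helper25.S4707
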