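import Mathlib
import Cfsg.Agent.Lib.Helper28.OTDefs
import Cfsg.Agent.Lib.Helper28.OTExitDefs
import Cfsg.Agent.Lib.Helper16.OTRootC
import Cfsg.Agent.Lib.Helper9.OTX1
import Cfsg.Agent.Lib.Helper8.OTRel
import Cfsg.Agent.Lib.Helper20.OTSkewMul

/-!
# S5681 / S5709, EXIT, "U-side X1" (helper25): the elements `ρ_{e,z} ⊗ 1`

`V = U ⊗ W`.  For `R ∈ GL(U)` put `Kone R = R ⊗ₖ 1`.  The Siegel transformations `ρ_{e,z} = rhoW hJ1 h2 e z he hez` of `U`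
(`e` singular, `z ⊥ e`; helper28's `rhoW` / `SgN` are generic in the dimension) give elements `Kone ρ_{e,z}` of
`N0 ⊓ Ω(V)`; conjugation by `Kone A` (`A` an isometry of `U`) acts on helper8's `zL K₁ C K₂ k₁ k₂`, `gK`, `gTO`, `gZ`
through `X ↦ A X A⁻¹` on the `U`-coefficients.  This supplies the Siegel-invariance hypotheses of the `U`-level
lemmas (K-spread, S-lemma) inside `T3`.
-/

set_option autoImplicit false
set_option linter.unusedSectionVars false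
set_option linter.unusedVariables false

namespace Cfsg.Agent.Lib.Helper25.OTKone

open Matrix Module
open Cfsg.Agent.Lib.Helper16.Tens Cfsg.Agent.Lib.Helper10.TensFund
open Cfsg.Agent.Lib.Helper3.SpT (bf E adj uni Over)
open Cfsg.Agent.Lib.Helper13.TensSO (OrthG IsoG)
open Cfsg.Agent.Lib.Helper28.OT Cfsg.Agent.Lib.Helper28.OTX
open Cfsg.Agent.Lib.Helper16.OTRootC (Bm Bm_mulVec Bm_sq Bgl Bgl_mem_IsoG)
open Cfsg.Agent.Lib.Helper9.OTX1 (rhoW_mem_IsoG SgN_mul_add SgN_eq_zero_of_dep exists_partner' Bm_SgN_Bm)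
open Cfsg.Agent.Lib.Helper8.OTRel (TO zL gTO gK gZ gTO_val gK_val gZ_val adj_mul')
open scoped Kronecker commutatorElement

variable {F : Type*} [Field F] {a b : ℕ}
variable {J1 : Matrix (Fin a) (Fin a) F} {J2 : Matrix (Fin b) (Fin b) F}
variable {Q : QuadraticForm F (Fin a × Fin b → F)}

/-! ### `R ⊗ 1` -/

/-- `M ↦ M ⊗ₖ 1` as a monoid homomorphism -/
def KoneM : Matrix (Fin a) (Fin a) F →* Matrix (Fin a × Fin b) (Fin a × Fin b) F where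
  toFun M := M ⊗ₖ (1 : Matrix (Fin b) (Fin b) F)
  map_one' := Matrix.one_kronecker_one
  map_mul' M N := by rw [← Matrix.mul_kronecker_mul, one_mul]

/-- `R ↦ R ⊗ 1` on `GL` -/
def Kone : GL (Fin a) F →* GL (Fin a × Fin b) F := Units.map (KoneM (b := b))

theorem Kone_val (R : GL (Fin a) F) :
    ((Kone (b := b) R : GL (Fin a × Fin b) F) : Matrix (Fin a × Fin b) (Fin a × Fin b) F) =
      (R : Matrix (Fin a) (Fin a) F) ⊗ₖ (1 : Matrix (Fin b) (Fin b) F) := rfl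

theorem Kone_inv_val (R : GL (Fin a) F) :
    (((Kone (b := b) R)⁻¹ : GL (Fin a × Fin b) F) : Matrix (Fin a × Fin b) (Fin a × Fin b) F) =
      ((R⁻¹ : GL (Fin a) F) : Matrix (Fin a) (Fin a) F) ⊗ₖ (1 : Matrix (Fin b) (Fin b) F) := by
  rw [← map_inv, Kone_val]

/-- (b) -/
theorem Kone_mem_kron (R : GL (Fin a) F) : Kone (b := b) R ∈ Cfsg.Geo.kroneckerSubgroup a b F :=
  ⟨R, 1, by rw [Kone_val, Units.val_one]⟩

/-- (c) -/
theorem Kone_mem_IsoG (R : GL (Fin a) F) (hR : R ∈ IsoG J1) : Kone (b := b) R ∈ IsoG (J1 ⊗ₖ J2) := by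
  intro x y
  rw [Kone_val]
  revert y
  refine Cfsg.Agent.Lib.Helper3.SpT.pur_induction
    (p := fun x => ∀ y, bf (J1 ⊗ₖ J2) (((R : Matrix (Fin a) (Fin a) F) ⊗ₖ (1 : Matrix (Fin b) (Fin b) F)) *ᵥ x)
      (((R : Matrix (Fin a) (Fin a) F) ⊗ₖ (1 : Matrix (Fin b) (Fin b) F)) *ᵥ y) = bf (J1 ⊗ₖ J2) x y) ?_ ?_ ?_ x
  · intro y
    rw [Matrix.mulVec_zero, Cfsg.Agent.Lib.Helper16.OTRootC.bf_zero_left',
      Cfsg.Agent.Lib.Helper16.OTRootC.bf_zero_left']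
  · intro x x' hx hx' y
    rw [Matrix.mulVec_add, Cfsg.Agent.Lib.Helper3.SpT.bf_add_left, Cfsg.Agent.Lib.Helper3.SpT.bf_add_left, hx, hx']
  · intro u w y
    refine Cfsg.Agent.Lib.Helper3.SpT.pur_induction
      (p := fun y => bf (J1 ⊗ₖ J2) (((R : Matrix (Fin a) (Fin a) F) ⊗ₖ (1 : Matrix (Fin b) (Fin b) F)) *ᵥ pur u w)
        (((R : Matrix (Fin a) (Fin a) F) ⊗ₖ (1 : Matrix (Fin b) (Fin b) F)) *ᵥ y) = bf (J1 ⊗ₖ J2) (pur u w) y) ?_ ?_ ?_ y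
    · rw [Matrix.mulVec_zero, Cfsg.Agent.Lib.Helper16.OTRootC.bf_zero_right',
        Cfsg.Agent.Lib.Helper16.OTRootC.bf_zero_right']
    · intro y y' hy hy'
      rw [Matrix.mulVec_add, Cfsg.Agent.Lib.Helper3.SpT.bf_add_right, Cfsg.Agent.Lib.Helper3.SpT.bf_add_right, hy, hy']
    · intro u' w'
      rw [kron_mulVec_pur, kron_mulVec_pur, Matrix.one_mulVec, Matrix.one_mulVec,
        Cfsg.Agent.Lib.Helper3.SpT.bf_kron_pur, Cfsg.Agent.Lib.Helper3.SpT.bf_kron_pur, hR u u']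

/-! ### (d) `ρ_{e,z} ⊗ 1 ∈ Ω(V)` -/

/-- the matrix of `ρ_{e,z}` is helper21's `eichM` -/
theorem rhoW_val_eich (hJ1 : OrthG J1) (h2 : (2 : F) ≠ 0) (e z : Fin a → F) (he : bf J1 e e = 0) (hez : bf J1 e z = 0) :
    ((rhoW hJ1 h2 e z he hez : GL (Fin a) F) : Matrix (Fin a) (Fin a) F) =
      1 + (E J1 e z - E J1 z e) - (bf J1 z z / 2) • E J1 e e := by
  rw [rhoW_val, SgN, add_sub_assoc]

theorem rhoW_inv_val (hJ1 : OrthG J1) (h2 : (2 : F) ≠ 0) (e z : Fin a → F) (he : bf J1 e e = 0) (hez : bf J1 e z = 0) :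
    (((rhoW hJ1 h2 e z he hez)⁻¹ : GL (Fin a) F) : Matrix (Fin a) (Fin a) F) = 1 + SgN J1 e (-z) := rfl

/-- (d) : `ρ_{e,z} ⊗ 1 ∈ Ω(V)`  (`ρ_{e,z} = [B_{e,f}, ρ_{e,-z/2}]`) -/
theorem Kone_rhoW_mem_Om (hS : SetupO J1 J2 Q) (e z : Fin a → F) (he : bf J1 e e = 0) (hez : bf J1 e z = 0) :
    Kone (b := b) (rhoW hS.h1 hS.two e z he hez) ∈ Cfsg.Geo.omegaGL (⇑Q) := by
  by_cases hind : ∀ c1 c2 : F, c1 • e + c2 • z = 0 → c1 = 0 ∧ c2 = 0
  · obtain ⟨l, hkl, hdl, hll⟩ := exists_partner' hS.h1 hS.two e z he hez hind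
    obtain ⟨d', hd'⟩ : ∃ d' : Fin a → F, d' = (-(1 / 2 : F)) • z := ⟨_, rfl⟩
    have hkd' : bf J1 e d' = 0 := by
      rw [hd', Cfsg.Agent.Lib.Helper3.SpT.bf_smul_right, hez, mul_zero]
    have hd'l : bf J1 d' l = 0 := by
      rw [hd', Cfsg.Agent.Lib.Helper3.SpT.bf_smul_left, hdl, mul_zero]
    have hkd'n : bf J1 e (-d') = 0 := by
      rw [Cfsg.Agent.Lib.Helper3.SpT.bf_neg_right, hkd', neg_zero]
    have hsum : -d' + -d' = z := by
      rw [hd', ← neg_smul, neg_neg, ← add_smul]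
      have : (1 / 2 : F) + 1 / 2 = 1 := by
        have := hS.two
        field_simp
        norm_num
      rw [this, one_smul]
    have e0 : ⁅Bgl hS.h1 he hkl hll, rhoW hS.h1 hS.two e d' he hkd'⁆ = rhoW hS.h1 hS.two e z he hez := by
      apply Units.ext
      rw [commutatorElement_def, Units.val_mul, Units.val_mul, Units.val_mul, rhoW_val, rhoW_val]
      show Bm J1 e l * (1 + SgN J1 e d') * Bm J1 e l * (1 + SgN J1 e (-d')) = 1 + SgN J1 e z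
      have e1 : Bm J1 e l * (1 + SgN J1 e d') * Bm J1 e l = 1 + SgN J1 e (-d') := by
        rw [mul_add, add_mul, mul_one, Bm_sq hS.h1 he hkl hll, Bm_SgN_Bm hS.h1 e l d' he hkl hll hkd' hd'l]
      rw [e1, SgN_mul_add hS.h1 hS.two e (-d') (-d') he hkd'n hkd'n, hsum]
    have e' : Kone (b := b) (rhoW hS.h1 hS.two e z he hez) =
        ⁅Kone (b := b) (Bgl hS.h1 he hkl hll), Kone (b := b) (rhoW hS.h1 hS.two e d' he hkd')⁆ := by
      rw [← map_commutatorElement, e0]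
    rw [e']
    exact Cfsg.Agent.Lib.Helper3.SpT.commutator_mem_Om _ _
      (Cfsg.Agent.Lib.Helper16.OTRootC.mem_iso_of_IsoG hS _ (Kone_mem_IsoG _ (Bgl_mem_IsoG hS.h1 he hkl hll)))
      (Cfsg.Agent.Lib.Helper16.OTRootC.mem_iso_of_IsoG hS _
        (Kone_mem_IsoG _ (rhoW_mem_IsoG hS.h1 hS.two e d' he hkd')))
  · have e1 : rhoW hS.h1 hS.two e z he hez = 1 := by
      apply Units.ext
      rw [rhoW_val, SgN_eq_zero_of_dep hS.h1 e z he hind, add_zero, Units.val_one]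
    rw [e1, map_one]
    exact Subgroup.one_mem _

/-- `ρ_{e,z} ⊗ 1 ∈ M` for every `M` between `N0 ⊓ Ω` and `Ω` -/
theorem Kone_rhoW_mem (hS : SetupO J1 J2 Q) {M : Subgroup (GL (Fin a × Fin b) F)} (hM : Over Q M)
    (e z : Fin a → F) (he : bf J1 e e = 0) (hez : bf J1 e z = 0) :
    Kone (b := b) (rhoW hS.h1 hS.two e z he hez) ∈ M :=
  hM.kron_mem _ (Kone_mem_kron _) (Kone_rhoW_mem_Om hS e z he hez)

/-! ### (e) conjugation by `A ⊗ 1` -/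

/-- `A X A⁻¹` -/
noncomputable def cj (A : GL (Fin a) F) (X : Matrix (Fin a) (Fin a) F) : Matrix (Fin a) (Fin a) F :=
  (A : Matrix (Fin a) (Fin a) F) * X * ((A⁻¹ : GL (Fin a) F) : Matrix (Fin a) (Fin a) F)

theorem cj_add (A : GL (Fin a) F) (X Y : Matrix (Fin a) (Fin a) F) : cj A (X + Y) = cj A X + cj A Y := by
  unfold cj
  rw [mul_add, add_mul]

theorem cj_sub (A : GL (Fin a) F) (X Y : Matrix (Fin a) (Fin a) F) : cj A (X - Y) = cj A X - cj A Y := by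
  unfold cj
  rw [mul_sub, sub_mul]

theorem cj_neg (A : GL (Fin a) F) (X : Matrix (Fin a) (Fin a) F) : cj A (-X) = -cj A X := by
  unfold cj
  rw [mul_neg, neg_mul]

theorem cj_smul (A : GL (Fin a) F) (c : F) (X : Matrix (Fin a) (Fin a) F) : cj A (c • X) = c • cj A X := by
  unfold cj
  rw [Matrix.mul_smul, Matrix.smul_mul]

theorem cj_one (A : GL (Fin a) F) : cj A (1 : Matrix (Fin a) (Fin a) F) = 1 := by
  unfold cj
  rw [mul_one, ← Units.val_mul, mul_inv_cancel, Units.val_one]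

theorem cj_mul (A : GL (Fin a) F) (X Y : Matrix (Fin a) (Fin a) F) : cj A (X * Y) = cj A X * cj A Y := by
  unfold cj
  have h : ((A⁻¹ : GL (Fin a) F) : Matrix (Fin a) (Fin a) F) * (A : Matrix (Fin a) (Fin a) F) = 1 := by
    rw [← Units.val_mul, inv_mul_cancel, Units.val_one]
  calc (A : Matrix (Fin a) (Fin a) F) * (X * Y) * ((A⁻¹ : GL (Fin a) F) : Matrix (Fin a) (Fin a) F)
      = (A : Matrix (Fin a) (Fin a) F) * X * (1 : Matrix (Fin a) (Fin a) F) * Y *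
          ((A⁻¹ : GL (Fin a) F) : Matrix (Fin a) (Fin a) F) := by
        rw [mul_one, mul_assoc (A : Matrix (Fin a) (Fin a) F) X Y]
    _ = _ := by
        rw [← h]
        simp only [mul_assoc]

/-- the matrix form of the conjugation of an elementary tensor -/
theorem conj_Kone_kron (A : GL (Fin a) F) (X : Matrix (Fin a) (Fin a) F) (Y : Matrix (Fin b) (Fin b) F) :
    ((A : Matrix (Fin a) (Fin a) F) ⊗ₖ (1 : Matrix (Fin b) (Fin b) F)) * (X ⊗ₖ Y) *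
        (((A⁻¹ : GL (Fin a) F) : Matrix (Fin a) (Fin a) F) ⊗ₖ (1 : Matrix (Fin b) (Fin b) F)) = cj A X ⊗ₖ Y := by
  unfold cj
  rw [← Matrix.mul_kronecker_mul, ← Matrix.mul_kronecker_mul, one_mul, mul_one]

/-- an isometry commutes with taking adjoints -/
theorem adj_cj (hJ1 : OrthG J1) (A : GL (Fin a) F) (hA : A ∈ IsoG J1) (X : Matrix (Fin a) (Fin a) F) :
    adj J1 (cj A X) = cj A (adj J1 X) := by
  apply Cfsg.Agent.Lib.Helper20.OTSkewMul.adj_unique hJ1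
  intro x y
  have hAinv : ∀ v : Fin a → F, (A : Matrix (Fin a) (Fin a) F) *ᵥ
      (((A⁻¹ : GL (Fin a) F) : Matrix (Fin a) (Fin a) F) *ᵥ v) = v := by
    intro v
    rw [Matrix.mulVec_mulVec, ← Units.val_mul, mul_inv_cancel, Units.val_one, Matrix.one_mulVec]
  unfold cj
  rw [← Matrix.mulVec_mulVec, ← Matrix.mulVec_mulVec, ← Matrix.mulVec_mulVec, ← Matrix.mulVec_mulVec]
  calc bf J1 ((A : Matrix (Fin a) (Fin a) F) *ᵥ (X *ᵥ (((A⁻¹ : GL (Fin a) F) : Matrix (Fin a) (Fin a) F) *ᵥ x))) y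
      = bf J1 ((A : Matrix (Fin a) (Fin a) F) *ᵥ (X *ᵥ (((A⁻¹ : GL (Fin a) F) : Matrix (Fin a) (Fin a) F) *ᵥ x)))
          ((A : Matrix (Fin a) (Fin a) F) *ᵥ (((A⁻¹ : GL (Fin a) F) : Matrix (Fin a) (Fin a) F) *ᵥ y)) := by
        rw [hAinv y]
    _ = bf J1 (X *ᵥ (((A⁻¹ : GL (Fin a) F) : Matrix (Fin a) (Fin a) F) *ᵥ x))
          (((A⁻¹ : GL (Fin a) F) : Matrix (Fin a) (Fin a) F) *ᵥ y) := hA _ _
    _ = bf J1 (((A⁻¹ : GL (Fin a) F) : Matrix (Fin a) (Fin a) F) *ᵥ x)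
          (adj J1 X *ᵥ (((A⁻¹ : GL (Fin a) F) : Matrix (Fin a) (Fin a) F) *ᵥ y)) :=
        Cfsg.Agent.Lib.Helper20.OTSkewMul.bf_adj hJ1 X _ _
    _ = bf J1 ((A : Matrix (Fin a) (Fin a) F) *ᵥ (((A⁻¹ : GL (Fin a) F) : Matrix (Fin a) (Fin a) F) *ᵥ x))
          ((A : Matrix (Fin a) (Fin a) F) *ᵥ
            (adj J1 X *ᵥ (((A⁻¹ : GL (Fin a) F) : Matrix (Fin a) (Fin a) F) *ᵥ y))) := (hA _ _).symm
    _ = _ := by rw [hAinv x]

theorem cj_skew (hJ1 : OrthG J1) (A : GL (Fin a) F) (hA : A ∈ IsoG J1) {X : Matrix (Fin a) (Fin a) F}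
    (hX : adj J1 X = -X) : adj J1 (cj A X) = -cj A X := by
  rw [adj_cj hJ1 A hA, hX, cj_neg]

theorem cj_selfadj (hJ1 : OrthG J1) (A : GL (Fin a) F) (hA : A ∈ IsoG J1) {X : Matrix (Fin a) (Fin a) F}
    (hX : adj J1 X = X) : adj J1 (cj A X) = cj A X := by
  rw [adj_cj hJ1 A hA, hX]

theorem conj_Kone_TO (hJ1 : OrthG J1) (A : GL (Fin a) F) (hA : A ∈ IsoG J1) (C : Matrix (Fin a) (Fin a) F)
    (k k' : Fin b → F) :
    ((A : Matrix (Fin a) (Fin a) F) ⊗ₖ (1 : Matrix (Fin b) (Fin b) F)) * TO J1 J2 C k k' *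
        (((A⁻¹ : GL (Fin a) F) : Matrix (Fin a) (Fin a) F) ⊗ₖ (1 : Matrix (Fin b) (Fin b) F)) =
      TO J1 J2 (cj A C) k k' := by
  unfold TO
  rw [mul_sub, sub_mul, conj_Kone_kron, conj_Kone_kron, adj_cj hJ1 A hA]

theorem conj_Kone_zL (hJ1 : OrthG J1) (A : GL (Fin a) F) (hA : A ∈ IsoG J1) (K1 C K2 : Matrix (Fin a) (Fin a) F)
    (k1 k2 : Fin b → F) :
    ((A : Matrix (Fin a) (Fin a) F) ⊗ₖ (1 : Matrix (Fin b) (Fin b) F)) * zL J1 J2 K1 C K2 k1 k2 *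
        (((A⁻¹ : GL (Fin a) F) : Matrix (Fin a) (Fin a) F) ⊗ₖ (1 : Matrix (Fin b) (Fin b) F)) =
      zL J1 J2 (cj A K1) (cj A C) (cj A K2) k1 k2 := by
  unfold zL
  rw [mul_add, mul_add, add_mul, add_mul, conj_Kone_kron, conj_Kone_kron, conj_Kone_TO hJ1 A hA]

/-- auxiliary: `(A ⊗ 1) (A⁻¹ ⊗ 1) = 1` -/
theorem Kone_mul_inv_mat (A : GL (Fin a) F) :
    ((A : Matrix (Fin a) (Fin a) F) ⊗ₖ (1 : Matrix (Fin b) (Fin b) F)) *
        (((A⁻¹ : GL (Fin a) F) : Matrix (Fin a) (Fin a) F) ⊗ₖ (1 : Matrix (Fin b) (Fin b) F)) = 1 := by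
  rw [← Matrix.mul_kronecker_mul, one_mul, ← Units.val_mul, mul_inv_cancel, Units.val_one, Matrix.one_kronecker_one]

/-- GL form for `gK` -/
theorem conj_Kone_gK (A : GL (Fin a) F) (K : Matrix (Fin a) (Fin a) F) (k : Fin b → F) (hkk : bf J2 k k = 0) :
    Kone (b := b) A * gK J2 K k hkk * (Kone (b := b) A)⁻¹ = gK J2 (cj A K) k hkk := by
  apply Units.ext
  rw [Units.val_mul, Units.val_mul, gK_val, gK_val, Kone_inv_val, Kone_val, mul_add, add_mul, mul_one,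
    conj_Kone_kron, Kone_mul_inv_mat]

/-- GL form for `gTO` -/
theorem conj_Kone_gTO (hJ1 : OrthG J1) (hJ2 : OrthG J2) (A : GL (Fin a) F) (hA : A ∈ IsoG J1)
    (C : Matrix (Fin a) (Fin a) F) (k k' : Fin b → F)
    (hkk : bf J2 k k = 0) (hkk' : bf J2 k k' = 0) (hk'k' : bf J2 k' k' = 0) :
    Kone (b := b) A * gTO J1 J2 hJ2 C k k' hkk hkk' hk'k' * (Kone (b := b) A)⁻¹ =
      gTO J1 J2 hJ2 (cj A C) k k' hkk hkk' hk'k' := by
  apply Units.ext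
  rw [Units.val_mul, Units.val_mul, gTO_val, gTO_val, Kone_inv_val, Kone_val, mul_add, add_mul, mul_one,
    conj_Kone_TO hJ1 A hA, Kone_mul_inv_mat]

/-- GL form for `gZ` -/
theorem conj_Kone_gZ (hJ1 : OrthG J1) (hJ2 : OrthG J2) (A : GL (Fin a) F) (hA : A ∈ IsoG J1)
    (K1 C K2 : Matrix (Fin a) (Fin a) F) (k1 k2 : Fin b → F)
    (h11 : bf J2 k1 k1 = 0) (h12 : bf J2 k1 k2 = 0) (h22 : bf J2 k2 k2 = 0) :
    Kone (b := b) A * gZ J1 J2 hJ2 K1 C K2 k1 k2 h11 h12 h22 * (Kone (b := b) A)⁻¹ =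
      gZ J1 J2 hJ2 (cj A K1) (cj A C) (cj A K2) k1 k2 h11 h12 h22 := by
  apply Units.ext
  rw [Units.val_mul, Units.val_mul, gZ_val, gZ_val, Kone_inv_val, Kone_val, mul_add, add_mul, mul_one,
    conj_Kone_zL hJ1 A hA, Kone_mul_inv_mat]

/-! ### (f) Siegel-invariance of the coefficient sets of `M` -/

section inv

variable {M : Subgroup (GL (Fin a × Fin b) F)}

/-- `ρ K ρ⁻¹` with `ρ = 1 + SgN J1 e z`, `ρ⁻¹ = 1 + SgN J1 e (-z)` -/
theorem cj_rhoW (hJ1 : OrthG J1) (h2 : (2 : F) ≠ 0) (e z : Fin a → F) (he : bf J1 e e = 0) (hez : bf J1 e z = 0)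
    (X : Matrix (Fin a) (Fin a) F) :
    cj (rhoW hJ1 h2 e z he hez) X = (1 + SgN J1 e z) * X * (1 + SgN J1 e (-z)) := rfl

/-- the same with helper21's `eichM` written out -/
theorem cj_rhoW_eich (hJ1 : OrthG J1) (h2 : (2 : F) ≠ 0) (e z : Fin a → F) (he : bf J1 e e = 0) (hez : bf J1 e z = 0)
    (X : Matrix (Fin a) (Fin a) F) :
    cj (rhoW hJ1 h2 e z he hez) X =
      (1 + (E J1 e z - E J1 z e) - (bf J1 z z / 2) • E J1 e e) * X *
        (1 + (E J1 e (-z) - E J1 (-z) e) - (bf J1 (-z) (-z) / 2) • E J1 e e) := by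
  rw [cj_rhoW, SgN, SgN, add_sub_assoc, add_sub_assoc]

theorem gK_siegel_mem (hS : SetupO J1 J2 Q) (hM : Over Q M) (e z : Fin a → F) (he : bf J1 e e = 0)
    (hez : bf J1 e z = 0) (K : Matrix (Fin a) (Fin a) F) (k : Fin b → F) (hkk : bf J2 k k = 0)
    (h : gK J2 K k hkk ∈ M) :
    gK J2 ((1 + SgN J1 e z) * K * (1 + SgN J1 e (-z))) k hkk ∈ M := by
  have hρ := Kone_rhoW_mem (b := b) hS hM e z he hez
  have := M.mul_mem (M.mul_mem hρ h) (M.inv_mem hρ)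
  rwa [conj_Kone_gK, cj_rhoW] at this

theorem gTO_siegel_mem (hS : SetupO J1 J2 Q) (hM : Over Q M) (e z : Fin a → F) (he : bf J1 e e = 0)
    (hez : bf J1 e z = 0) (C : Matrix (Fin a) (Fin a) F) (k k' : Fin b → F)
    (hkk : bf J2 k k = 0) (hkk' : bf J2 k k' = 0) (hk'k' : bf J2 k' k' = 0)
    (h : gTO J1 J2 hS.h2 C k k' hkk hkk' hk'k' ∈ M) :
    gTO J1 J2 hS.h2 ((1 + SgN J1 e z) * C * (1 + SgN J1 e (-z))) k k' hkk hkk' hk'k' ∈ M := by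
  have hρ := Kone_rhoW_mem (b := b) hS hM e z he hez
  have := M.mul_mem (M.mul_mem hρ h) (M.inv_mem hρ)
  rwa [conj_Kone_gTO hS.h1 hS.h2 _ (rhoW_mem_IsoG hS.h1 hS.two e z he hez), cj_rhoW] at this

theorem gZ_siegel_mem (hS : SetupO J1 J2 Q) (hM : Over Q M) (e z : Fin a → F) (he : bf J1 e e = 0)
    (hez : bf J1 e z = 0) (K1 C K2 : Matrix (Fin a) (Fin a) F) (k1 k2 : Fin b → F)
    (h11 : bf J2 k1 k1 = 0) (h12 : bf J2 k1 k2 = 0) (h22 : bf J2 k2 k2 = 0)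
    (h : gZ J1 J2 hS.h2 K1 C K2 k1 k2 h11 h12 h22 ∈ M) :
    gZ J1 J2 hS.h2 ((1 + SgN J1 e z) * K1 * (1 + SgN J1 e (-z))) ((1 + SgN J1 e z) * C * (1 + SgN J1 e (-z)))
      ((1 + SgN J1 e z) * K2 * (1 + SgN J1 e (-z))) k1 k2 h11 h12 h22 ∈ M := by
  have hρ := Kone_rhoW_mem (b := b) hS hM e z he hez
  have := M.mul_mem (M.mul_mem hρ h) (M.inv_mem hρ)
  rwa [conj_Kone_gZ hS.h1 hS.h2 _ (rhoW_mem_IsoG hS.h1 hS.two e z he hez), cj_rhoW, cj_rhoW, cj_rhoW] at this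

/-- the Siegel conjugate of a skew-adjoint matrix is skew-adjoint -/
theorem siegel_skew (hJ1 : OrthG J1) (h2 : (2 : F) ≠ 0) (e z : Fin a → F) (he : bf J1 e e = 0) (hez : bf J1 e z = 0)
    {X : Matrix (Fin a) (Fin a) F} (hX : adj J1 X = -X) :
    adj J1 ((1 + SgN J1 e z) * X * (1 + SgN J1 e (-z))) = -((1 + SgN J1 e z) * X * (1 + SgN J1 e (-z))) := by
  rw [← cj_rhoW hJ1 h2 e z he hez]
  exact cj_skew hJ1 _ (rhoW_mem_IsoG hJ1 h2 e z he hez) hX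

/-- the Siegel conjugate of a self-adjoint matrix is self-adjoint -/
theorem siegel_selfadj (hJ1 : OrthG J1) (h2 : (2 : F) ≠ 0) (e z : Fin a → F) (he : bf J1 e e = 0) (hez : bf J1 e z = 0)
    {X : Matrix (Fin a) (Fin a) F} (hX : adj J1 X = X) :
    adj J1 ((1 + SgN J1 e z) * X * (1 + SgN J1 e (-z))) = (1 + SgN J1 e z) * X * (1 + SgN J1 e (-z)) := by
  rw [← cj_rhoW hJ1 h2 e z he hez]
  exact cj_selfadj hJ1 _ (rhoW_mem_IsoG hJ1 h2 e z he hez) hX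

end inv

end Cfsg.Agent.Lib.Helper25.OTKone
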