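import Mathlib

/-!
Piece P2 of S2197 (architect helper12): a "Heisenberg" group of order 27 generated by two elements of
order 3 whose commutator `z` is central moves a number of points divisible by 9 (through `z`).
-/

set_option autoImplicit false

namespace Cfsg.Agent.Lib.Helper12.Tits2T

open MulAction

namespace P2aux

variable {G : Type*} [Group G]

theorem z_cube (r1 r2 z : G) (h2 : r2 ^ 3 = 1) (hz : r1 * r2 * r1⁻¹ * r2⁻¹ = z)
    (hz2 : r2 * z = z * r2) : z ^ 3 = 1 := by
  have h : r1 * r2 * r1⁻¹ = z * r2 := by rw [← hz]; group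
  have h3 : (r1 * r2 * r1⁻¹) ^ 3 = (z * r2) ^ 3 := by rw [h]
  rw [conj_pow, h2] at h3
  have hc : Commute z r2 := hz2.symm
  rw [hc.mul_pow, h2] at h3
  simpa using h3.symm

theorem isPGroup_zpowers (g : G) (hg : g ^ 3 = 1) : IsPGroup 3 (Subgroup.zpowers g) := by
  rintro ⟨x, hx⟩
  obtain ⟨k, rfl⟩ := Subgroup.mem_zpowers_iff.mp hx
  refine ⟨1, ?_⟩
  ext
  simp only [pow_one, Subgroup.coe_pow, Subgroup.coe_one]
  rw [← zpow_natCast, ← zpow_mul, mul_comm, zpow_mul, zpow_natCast, hg, one_zpow]

/-- if conjugation by `g` and by `g⁻¹` both map `A` into `A`, then `g` normalises `A`. -/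
theorem mem_normalizer_of_conj_le (A : Subgroup G) (g : G)
    (h1 : ∀ a ∈ A, g * a * g⁻¹ ∈ A) (h2 : ∀ a ∈ A, g⁻¹ * a * g ∈ A) :
    g ∈ Subgroup.normalizer (A : Set G) := by
  rw [Subgroup.mem_normalizer_iff]
  intro h
  constructor
  · exact h1 h
  · intro hh
    have := h2 _ hh
    simpa [mul_assoc] using this

end P2aux

open P2aux in
theorem nine_dvd_moved {G Ω : Type*} [Group G] [Finite G] [Fintype Ω] [MulAction G Ω] (r1 r2 z : G) (h1 : r1 ^ 3 = 1) (h2 : r2 ^ 3 = 1) (hz : r1 * r2 * r1⁻¹ * r2⁻¹ = z) (hz1 : r1 * z = z * r1) (hz2 : r2 * z = z * r2) : 9 ∣ Nat.card {ω : Ω // z • ω ≠ ω} := by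
  classical
  have hz3 : z ^ 3 = 1 := z_cube r1 r2 z h2 hz hz2
  -- the 3-group A = <r1> ⊔ <z>
  set Z : Subgroup G := Subgroup.zpowers z with hZ
  set A : Subgroup G := Subgroup.zpowers r1 ⊔ Z with hA
  have hr1A : r1 ∈ A := (le_sup_left : Subgroup.zpowers r1 ≤ A) (Subgroup.mem_zpowers r1)
  have hzA : z ∈ A := (le_sup_right : Z ≤ A) (Subgroup.mem_zpowers z)
  have hAp : IsPGroup 3 A := by
    refine IsPGroup.to_sup_of_normal_right' (isPGroup_zpowers r1 h1) (isPGroup_zpowers z hz3) ?_
    refine le_trans ?_ (Subgroup.centralizer_le_normalizer (Z : Set G))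
    rw [Subgroup.zpowers_le]
    rw [Subgroup.mem_centralizer_iff]
    intro h hh
    obtain ⟨k, rfl⟩ := Subgroup.mem_zpowers_iff.mp hh
    have hc : Commute r1 (z ^ k) := Commute.zpow_right hz1 k
    exact hc.eq.symm
  -- r2 normalises A
  have e1 : r2 * r1 * r2⁻¹ = z⁻¹ * r1 := by
    have : z⁻¹ = r2 * r1 * r2⁻¹ * r1⁻¹ := by rw [← hz]; group
    rw [this]; group
  have e2 : r2⁻¹ * r1 * r2 = z * r1 := by
    have hc : r2⁻¹ * z = z * r2⁻¹ := by
      have := congrArg (fun t => r2⁻¹ * t * r2⁻¹) hz2
      simpa [mul_assoc] using this.symm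
    have : r1 = r2⁻¹ * (z⁻¹ * r1) * r2 := by rw [← e1]; group
    calc r2⁻¹ * r1 * r2 = z * (r2⁻¹ * (z⁻¹ * r1) * r2) := by
          rw [show z * (r2⁻¹ * (z⁻¹ * r1) * r2) = (z * r2⁻¹) * (z⁻¹ * r1) * r2 by group, ← hc]; group
      _ = z * r1 := by rw [← this]
  have e3 : r2 * z * r2⁻¹ = z := by rw [hz2]; group
  have e4 : r2⁻¹ * z * r2 = z := by rw [mul_assoc, ← hz2]; group
  have hr2N : r2 ∈ Subgroup.normalizer (A : Set G) := by
    apply mem_normalizer_of_conj_le
    · -- A ≤ comap (conj r2) A
      have : A ≤ A.comap (MulAut.conj r2).toMonoidHom := by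
        rw [hA]
        refine sup_le ?_ ?_
        · rw [Subgroup.zpowers_le, Subgroup.mem_comap]
          show r2 * r1 * r2⁻¹ ∈ A
          rw [e1]; exact A.mul_mem (A.inv_mem hzA) hr1A
        · rw [Subgroup.zpowers_le, Subgroup.mem_comap]
          show r2 * z * r2⁻¹ ∈ A
          rw [e3]; exact hzA
      intro a ha
      exact this ha
    · have : A ≤ A.comap (MulAut.conj r2⁻¹).toMonoidHom := by
        rw [hA]
        refine sup_le ?_ ?_
        · rw [Subgroup.zpowers_le, Subgroup.mem_comap]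
          show r2⁻¹ * r1 * r2⁻¹⁻¹ ∈ A
          rw [inv_inv, e2]; exact A.mul_mem hzA hr1A
        · rw [Subgroup.zpowers_le, Subgroup.mem_comap]
          show r2⁻¹ * z * r2⁻¹⁻¹ ∈ A
          rw [inv_inv, e4]; exact hzA
      intro a ha
      have := this ha
      rw [Subgroup.mem_comap] at this
      simpa using this
  set S : Subgroup G := Subgroup.zpowers r2 ⊔ A with hS
  have hSp : IsPGroup 3 S := by
    refine IsPGroup.to_sup_of_normal_right' (isPGroup_zpowers r2 h2) hAp ?_
    rw [Subgroup.zpowers_le]; exact hr2N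
  have hr2S : r2 ∈ S := (le_sup_left : Subgroup.zpowers r2 ≤ S) (Subgroup.mem_zpowers r2)
  have hAS : A ≤ S := le_sup_right
  have hr1S : r1 ∈ S := hAS hr1A
  have hzS : z ∈ S := hAS hzA
  -- every element of S commutes with z
  have hScomm : ∀ s ∈ S, s * z = z * s := by
    have : S ≤ Subgroup.centralizer ({z} : Set G) := by
      rw [hS, hA]
      refine sup_le ?_ (sup_le ?_ ?_)
      · rw [Subgroup.zpowers_le, Subgroup.mem_centralizer_iff]
        intro h hh; rw [Set.mem_singleton_iff] at hh; subst hh; exact hz2.symm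
      · rw [Subgroup.zpowers_le, Subgroup.mem_centralizer_iff]
        intro h hh; rw [Set.mem_singleton_iff] at hh; subst hh; exact hz1.symm
      · rw [Subgroup.zpowers_le, Subgroup.mem_centralizer_iff]
        intro h hh; rw [Set.mem_singleton_iff] at hh; subst hh; rfl
    intro s hs
    have := this hs
    rw [Subgroup.mem_centralizer_iff] at this
    exact (this z rfl).symm
  -- the moved set as an S-invariant subset
  let X : SubMulAction S Ω :=
    { carrier := {ω | z • ω ≠ ω}
      smul_mem' := by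
        intro s ω hω
        show z • (s • ω) ≠ s • ω
        intro h
        apply hω
        have h' : z • ((s : G) • ω) = (s : G) • ω := h
        rw [smul_smul, ← hScomm s s.2, ← smul_smul] at h'
        exact smul_left_cancel _ h' }
  have hcard : Nat.card {ω : Ω // z • ω ≠ ω} = Nat.card X := rfl
  rw [hcard]
  -- orbit sizes
  have horb : ∀ x : X, 9 ∣ Nat.card (orbit S x) := by
    intro x
    obtain ⟨n, hn⟩ := hSp.card_orbit x
    have hxm : z • (x : Ω) ≠ (x : Ω) := x.2
    have hidx : (stabilizer S x).index = 3 ^ n := by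
      rw [← hn]; exact (MulAction.index_stabilizer S x)
    rcases n with _ | n
    · -- orbit of size 1: stabilizer is everything
      exfalso
      have : stabilizer S x = ⊤ := Subgroup.index_eq_one.mp (by simpa using hidx)
      have hzs : (⟨z, hzS⟩ : S) ∈ stabilizer S x := by rw [this]; trivial
      rw [mem_stabilizer_iff] at hzs
      apply hxm
      have := congrArg (fun y : X => (y : Ω)) hzs
      simpa using this
    rcases n with _ | n
    · -- orbit of size 3: stabilizer normal of index 3 with abelian quotient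
      exfalso
      set H := stabilizer S x with hH
      have hidx3 : H.index = 3 := by simpa using hidx
      have hcardS : ∃ m, Nat.card S = 3 ^ m := IsPGroup.iff_card.mp hSp
      obtain ⟨m, hm⟩ := hcardS
      have hm0 : m ≠ 0 := by
        rintro rfl
        have h1' : Nat.card S = 1 := by simpa using hm
        have : H.index ∣ Nat.card S := Subgroup.index_dvd_card H
        rw [hidx3, h1'] at this
        omega
      have hmin : (Nat.card S).minFac = 3 := by
        rw [hm]; exact Nat.Prime.pow_minFac Nat.prime_three hm0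
      have hnorm : H.Normal := Subgroup.normal_of_index_eq_minFac_card (by rw [hidx3, hmin])
      have hq : Nat.card (S ⧸ H) = 3 := by rw [← Subgroup.index_eq_card]; exact hidx3
      have : Fact (Nat.Prime 3) := ⟨Nat.prime_three⟩
      have : IsCyclic (S ⧸ H) := isCyclic_of_prime_card hq
      let a1 : S ⧸ H := QuotientGroup.mk ⟨r1, hr1S⟩
      let a2 : S ⧸ H := QuotientGroup.mk ⟨r2, hr2S⟩
      have hcomm : a1 * a2 * a1⁻¹ * a2⁻¹ = 1 := by
        have : a1 * a2 = a2 * a1 := (IsCyclic.isMulCommutative (α := S ⧸ H)).is_comm.comm a1 a2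
        rw [this]; group
      have hzH : (⟨z, hzS⟩ : S) ∈ H := by
        have hzq : (QuotientGroup.mk (⟨z, hzS⟩ : S) : S ⧸ H) = a1 * a2 * a1⁻¹ * a2⁻¹ := by
          have : (⟨z, hzS⟩ : S) = ⟨r1, hr1S⟩ * ⟨r2, hr2S⟩ * ⟨r1, hr1S⟩⁻¹ * ⟨r2, hr2S⟩⁻¹ := by
            ext; simp [hz]
          rw [this]; rfl
        rw [hcomm] at hzq
        exact (QuotientGroup.eq_one_iff _).mp hzq
      rw [hH, mem_stabilizer_iff] at hzH
      apply hxm
      have := congrArg (fun y : X => (y : Ω)) hzH
      simpa using this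
    · rw [hn]
      exact ⟨3 ^ n, by ring⟩
  -- sum over orbits
  have key : Nat.card X = ∑ q : orbitRel.Quotient S X, Nat.card q.orbit := by
    rw [Nat.card_congr (selfEquivSigmaOrbits' S X), Nat.card_sigma]
  rw [key]
  refine Finset.dvd_sum ?_
  intro q _
  induction q using Quotient.inductionOn' with
  | h x =>
    have : orbitRel.Quotient.orbit (Quotient.mk'' x : orbitRel.Quotient S X) = orbit S x :=
      orbitRel.Quotient.orbit_mk x
    rw [this]
    exact horb x

end Cfsg.Agent.Lib.Helper12.Tits2T
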