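import Mathlib

/-!
# S2281 farm-out piece B7 (helper25, for helper14)
-/

set_option autoImplicit false

namespace Cfsg.Agent.Lib.Helper25.RU

section
variable {F : Type*} [Field F] [Fintype F]

/-- B7.  a field with at most 3 elements is a prime field. -/
theorem natCast_surjective_of_card_le_three (hq : Fintype.card F ≤ 3) (t : F) :
    ∃ j : ℕ, t = (j : F) := by
  classical
  obtain ⟨p, hchar⟩ := CharP.exists F
  haveI := hchar
  haveI hp : Fact p.Prime := ⟨CharP.char_is_prime F p⟩
  obtain ⟨n, hpn, hcard⟩ := FiniteField.card F p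
  have hp2 : 2 ≤ p := hp.out.two_le
  have hn1 : (n : ℕ) = 1 := by
    by_contra hne
    have hn2 : 2 ≤ (n : ℕ) := by
      have := n.pos
      omega
    have h4 : p ^ 2 ≤ p ^ (n : ℕ) := Nat.pow_le_pow_right (by omega) hn2
    have : 4 ≤ p ^ 2 := by nlinarith
    omega
  rw [hn1, pow_one] at hcard
  -- the canonical map `ZMod p → F` is bijective
  let φ : ZMod p →+* F := ZMod.castHom (dvd_refl p) F
  have hinj : Function.Injective φ := φ.injective
  have hbij : Function.Bijective φ := by
    rw [Fintype.bijective_iff_injective_and_card]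
    exact ⟨hinj, by rw [ZMod.card, hcard]⟩
  obtain ⟨z, hz⟩ := hbij.2 t
  refine ⟨z.val, ?_⟩
  rw [← hz]
  have : (z.val : ZMod p) = z := ZMod.natCast_zmod_val z
  conv_lhs => rw [← this]
  rw [map_natCast]

end

end Cfsg.Agent.Lib.Helper25.RU
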