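import Mathlib
import Cfsg.Agent.Lib.Helper14.MatBN2
import Cfsg.Agent.Lib.Helper16.S2316SP1

/-!
# S2316 SP-3 (helper25, for helper14): the reflections of `J` normalise `V_J`
-/

set_option autoImplicit false
set_option linter.unusedSectionVars false

namespace Cfsg.Agent.Lib.Helper25.S2316

open Matrix Cfsg.Agent.Lib.Helper14.TriMono Cfsg.Agent.Lib.Helper14.MatBN

variable {G : Type*} [Group G] {ι : Type*} [Fintype ι] [DecidableEq ι] {F : Type*} [Field F]
  {K : Type*}

variable (D : Setup G ι F K)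

/-- a reflection of `J` moves the position of an index by at most one, and a move is a `J`-step -/
theorem pi_step_cases (hadjP : ∀ k u v, InPi D.ρ (D.π k) u v → D.ρ v = D.ρ u + 1)
    (J : Set K) {k : K} (hk : k ∈ J) (x : ι) :
    D.π k x = x ∨ (D.ρ (D.π k x) = D.ρ x + 1 ∧ D.JStep J (D.ρ x)) ∨
      (D.ρ x = D.ρ (D.π k x) + 1 ∧ D.JStep J (D.ρ (D.π k x))) := by
  rcases lt_trichotomy (D.ρ x) (D.ρ (D.π k x)) with h | h | h
  · right; left
    have hin : InPi D.ρ (D.π k) x (D.π k x) := by
      refine ⟨h, ?_⟩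
      rw [D.pi_apply_apply]
      exact h
    have h1 := hadjP k _ _ hin
    exact ⟨h1, x, D.π k x, rfl, h1, k, hk, hin⟩
  · left
    exact (D.ρ_inj h).symm
  · right; right
    have hin : InPi D.ρ (D.π k) (D.π k x) x := by
      refine ⟨h, ?_⟩
      rw [D.pi_apply_apply]
      exact h
    have h1 := hadjP k _ _ hin
    exact ⟨h1, D.π k x, x, rfl, h1, k, hk, hin⟩

/-- conjugation by a monomial matrix for the involution `π k`, `k ∈ J`, preserves `V_J` -/
theorem conj_mem_VJ_of_mono (hadjP : ∀ k u v, InPi D.ρ (D.π k) u v → D.ρ v = D.ρ u + 1)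
    (J : Set K) {k : K} (hk : k ∈ J) {n v : G} (hn : IsMono (D.mat n) (D.π k))
    (hv : v ∈ D.VJ J) : n⁻¹ * v * n ∈ D.VJ J := by
  obtain ⟨hvU, hv0⟩ := hv
  have hentry : ∀ a b, D.mat (n⁻¹ * v * n) a b =
      D.mat n⁻¹ a (D.π k a) * D.mat v (D.π k a) (D.π k b) * D.mat n (D.π k b) b := by
    intro a b
    rw [map_mul, map_mul, hn.conj_entry (D.mat_inv_mul n)]
  -- the key vanishing: `ρ (π a) < ρ (π b)` and `ρ b < ρ a`
  have hswap : ∀ a b, D.ρ (D.π k a) < D.ρ (D.π k b) → D.ρ b < D.ρ a →
      D.mat v (D.π k a) (D.π k b) = 0 := by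
    intro a b h1 h2
    have hin : InPi D.ρ (D.π k) (D.π k a) (D.π k b) := by
      refine ⟨h1, ?_⟩
      rw [D.pi_apply_apply, D.pi_apply_apply]
      exact h2
    have h3 := hadjP k _ _ hin
    apply hv0
    refine ⟨h1, fun i hi1 hi2 => ?_⟩
    have hi : i = D.ρ (D.π k a) := by omega
    rw [hi]
    exact ⟨D.π k a, D.π k b, rfl, h3, k, hk, hin⟩
  refine ⟨⟨?_, ?_⟩, ?_⟩
  · -- block triangular
    intro a b hba
    rw [hentry]
    have hz : D.mat v (D.π k a) (D.π k b) = 0 := by
      rcases lt_trichotomy (D.ρ (D.π k a)) (D.ρ (D.π k b)) with h | h | h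
      · exact hswap a b h hba
      · exfalso
        have := (D.π k).injective (D.ρ_inj h)
        rw [this] at hba
        exact lt_irrefl _ hba
      · exact hvU.1 h
    rw [hz, mul_zero, zero_mul]
  · -- diagonal
    intro a
    rw [hentry, hvU.2, mul_one]
    exact hn.entry (D.mat_inv_mul n) a
  · -- vanishing on the `J`-blocks
    intro a b hab
    rw [hentry]
    have hz : D.mat v (D.π k a) (D.π k b) = 0 := by
      rcases lt_trichotomy (D.ρ (D.π k a)) (D.ρ (D.π k b)) with h | h | h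
      · apply hv0
        refine ⟨h, fun i hi1 hi2 => ?_⟩
        have hlt := hab.1
        by_cases hi3 : i < D.ρ a
        · rcases pi_step_cases D hadjP J hk a with h4 | ⟨h4, -⟩ | ⟨h4, h5⟩
          · rw [h4] at hi1; omega
          · omega
          · have hi : i = D.ρ (D.π k a) := by omega
            rw [hi]
            exact h5
        · by_cases hi4 : i < D.ρ b
          · exact hab.2 i (by omega) hi4
          · rcases pi_step_cases D hadjP J hk b with h4 | ⟨h4, h5⟩ | ⟨h4, -⟩
            · rw [h4] at hi2; omega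
            · have hi : i = D.ρ b := by omega
              rw [hi]
              exact h5
            · omega
      · exfalso
        have := (D.π k).injective (D.ρ_inj h)
        rw [this] at hab
        exact lt_irrefl _ hab.1
      · exact hvU.1 h
    rw [hz, mul_zero, zero_mul]

/-- **SP-3.** the reflections of `J` normalise `V_J`. -/
theorem VJ_conj_s (hadjP : ∀ k u v, InPi D.ρ (D.π k) u v → D.ρ v = D.ρ u + 1)
    (J : Set K) {k : K} (hk : k ∈ J) {v : G} (hv : v ∈ D.VJ J) :
    D.s k * v * (D.s k)⁻¹ ∈ D.VJ J ∧ (D.s k)⁻¹ * v * D.s k ∈ D.VJ J := by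
  refine ⟨?_, conj_mem_VJ_of_mono D hadjP J hk (D.s_mono k) hv⟩
  have hm : IsMono (D.mat (D.s k)⁻¹) (D.π k) := by
    have := (D.s_mono k).inv (D.mat_inv_mul (D.s k))
    rwa [D.pi_inv] at this
  have := conj_mem_VJ_of_mono D hadjP J hk hm hv
  rwa [inv_inv] at this

end Cfsg.Agent.Lib.Helper25.S2316
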