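import Mathlib
import Cfsg.Agent.Lib.Helper14.MatBN2
import Cfsg.Agent.Lib.Helper16.S2316SP1

/-!
# S2316 SP-4 (helper25, for helper14): `U ∩ n B n⁻¹ ≤ V_J` when `σ⁻¹` reverses the `J`-steps
-/

set_option autoImplicit false
set_option linter.unusedSectionVars false

namespace Cfsg.Agent.Lib.Helper25.S2316

open Matrix Cfsg.Agent.Lib.Helper14.TriMono Cfsg.Agent.Lib.Helper14.MatBN

variable {G : Type*} [Group G] {ι : Type*} [Fintype ι] [DecidableEq ι] {F : Type*} [Field F]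
  {K : Type*}

variable (D : Setup G ι F K)

/-- a map reversing the `J`-steps reverses all pairs inside the `J`-blocks -/
theorem reverse_RJ (J : Set K) (τ : ι → ι)
    (hrev : ∀ k ∈ J, ∀ u v, InPi D.ρ (D.π k) u v → D.ρ (τ v) < D.ρ (τ u)) :
    ∀ a b, D.RJ J a b → D.ρ (τ b) < D.ρ (τ a) := by
  have key : ∀ d : ℕ, ∀ a b, D.ρ b = D.ρ a + d + 1 → D.RJ J a b → D.ρ (τ b) < D.ρ (τ a) := by
    intro d
    induction d with
    | zero =>
      intro a b hab hR
      obtain ⟨c, e, hc, he, k, hk, hin⟩ := hR.2 (D.ρ a) le_rfl hR.1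
      have hca : c = a := D.ρ_inj hc
      have heb : e = b := D.ρ_inj (by rw [he, hab])
      rw [hca, heb] at hin
      exact hrev k hk a b hin
    | succ d ih =>
      intro a b hab hR
      obtain ⟨c, e, hc, he, k, hk, hin⟩ := hR.2 (D.ρ a) le_rfl hR.1
      have hca : c = a := D.ρ_inj hc
      rw [hca] at hin
      have h1 := hrev k hk a e hin
      have hR' : D.RJ J e b := D.RJ_sub hR (by omega) (by omega) le_rfl
      have h2 := ih e b (by omega) hR'
      exact h2.trans h1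
  intro a b hR
  exact key (D.ρ b - D.ρ a - 1) a b (by have := hR.1; omega) hR

/-- **SP-4.** -/
theorem mem_VJ_of_conj (J : Set K) {n u : G} {σ : Equiv.Perm ι} (hn : IsMono (D.mat n) σ)
    (hrev : ∀ k ∈ J, ∀ u v, InPi D.ρ (D.π k) u v → D.ρ (σ⁻¹ v) < D.ρ (σ⁻¹ u))
    (hu : u ∈ D.Uu) (h : n⁻¹ * u * n ∈ D.Bor) : u ∈ D.VJ J := by
  refine ⟨hu, fun a b hab => ?_⟩
  have hlt := reverse_RJ D J (fun x => σ⁻¹ x) hrev a b hab
  rw [Setup.mem_Bor, map_mul, map_mul] at h
  have h1 := h hlt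
  rw [hn.conj_entry (D.mat_inv_mul n)] at h1
  have e1 : σ (σ⁻¹ a) = a := by simp
  have e2 : σ (σ⁻¹ b) = b := by simp
  rw [e1, e2] at h1
  have h2 : D.mat n b (σ⁻¹ b) ≠ 0 := by
    have := hn.entry_ne_zero (D.mat_inv_mul n) (σ⁻¹ b)
    rwa [e2] at this
  have h3 : D.mat n⁻¹ (σ⁻¹ a) a ≠ 0 := by
    have := hn.entry (D.mat_inv_mul n) (σ⁻¹ a)
    rw [e1] at this
    exact left_ne_zero_of_mul (by rw [this]; exact one_ne_zero)
  rcases mul_eq_zero.mp h1 with h4 | h4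
  · rcases mul_eq_zero.mp h4 with h5 | h5
    · exact absurd h5 h3
    · exact h5
  · exact absurd h4 h2

end Cfsg.Agent.Lib.Helper25.S2316
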