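import Mathlib
import Cfsg.Prelude.Def_Characters
import Cfsg.Agent.Lib.Helper2.Linear
import Cfsg.Agent.Lib.Helper2.Induction
import Cfsg.Agent.Lib.Helper2.Regular

/-!
# Multiplicities of irreducible constituents (helper25 library)

* `exists_nsmul_add`: a character `Φ` with `[Φ, θ] = m` splits as `m • θ + Ψ`, `Ψ` a character.
* `mult_mul_degree_le`: `[Φ, θ] * θ 1 ≤ Φ 1` in natural numbers.
* `mult_restrict_mul_degree_le`: for `H ≤ G`, `θ ∈ Irr G`, `μ` a character of `H`: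
  `[θ|_H, μ] * θ 1 ≤ |G : H| * μ 1`.
-/

set_option autoImplicit false

namespace Cfsg.Agent.Lib.Helper25

open Cfsg.Agent.Lib.Helper2
open scoped ComplexConjugate

variable {G : Type*} [Group G] [Fintype G]

/-- A character `Φ` with `[Φ, θ] = m` splits as `m • θ + Ψ` with `Ψ` a character. -/
theorem exists_nsmul_add (θ : Cfsg.IrrCharacter G) :
    ∀ (m : ℕ) {Φ : G → ℂ}, Cfsg.IsCharacter G Φ → Cfsg.classInner Φ (θ : G → ℂ) = (m : ℂ) →
      ∃ Ψ : G → ℂ, Cfsg.IsCharacter G Ψ ∧ Φ = m • (θ : G → ℂ) + Ψ := by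
  intro m
  induction m with
  | zero =>
    intro Φ hΦ _
    exact ⟨Φ, hΦ, by simp⟩
  | succ k ih =>
    intro Φ hΦ hm
    have hne : Cfsg.classInner Φ (θ : G → ℂ) ≠ 0 := by
      rw [hm]; exact_mod_cast Nat.succ_ne_zero k
    obtain ⟨Ψ₁, hΨ₁, hΦ₁⟩ := exists_add_of_classInner_ne_zero hΦ θ hne
    have h1 : Cfsg.classInner Ψ₁ (θ : G → ℂ) = (k : ℂ) := by
      have h2 := hm
      rw [hΦ₁, classInner_add_left, classInner_irrCharacter_self] at h2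
      push_cast at h2
      linear_combination h2
    obtain ⟨Ψ, hΨ, hΨ₂⟩ := ih hΨ₁ h1
    refine ⟨Ψ, hΨ, ?_⟩
    rw [hΦ₁, hΨ₂, succ_nsmul]
    abel

/-- `[Φ, θ] * θ 1 ≤ Φ 1` for a character `Φ` and an irreducible character `θ`. -/
theorem mult_mul_degree_le (θ : Cfsg.IrrCharacter G) {Φ : G → ℂ} (hΦ : Cfsg.IsCharacter G Φ)
    {m d D : ℕ} (hm : Cfsg.classInner Φ (θ : G → ℂ) = (m : ℂ)) (hd : (θ : G → ℂ) 1 = (d : ℂ))
    (hD : Φ 1 = (D : ℂ)) : m * d ≤ D := by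
  obtain ⟨Ψ, hΨ, hΦΨ⟩ := exists_nsmul_add θ m hΦ hm
  obtain ⟨n, hn⟩ := IsCharacter.apply_one hΨ
  have h1 : Φ 1 = m • (θ : G → ℂ) 1 + Ψ 1 := by
    conv_lhs => rw [hΦΨ]
    rfl
  rw [hD, hd, hn] at h1
  have h2 : D = m * d + n := by
    have : (D : ℂ) = ((m * d + n : ℕ) : ℂ) := by
      rw [h1]; push_cast; simp [nsmul_eq_mul]
    exact_mod_cast this
  omega

/-- For `H ≤ G`, `θ ∈ Irr G`, `μ` a character of `H`: `[θ|_H, μ] * θ 1 ≤ |G : H| * μ 1`. -/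
theorem mult_restrict_mul_degree_le (H : Subgroup G) [Fintype H] (θ : Cfsg.IrrCharacter G)
    {μ : H → ℂ} (hμ : Cfsg.IsCharacter H μ) {m d e : ℕ}
    (hm : Cfsg.classInner (fun h : H => (θ : G → ℂ) h) μ = (m : ℂ))
    (hd : (θ : G → ℂ) 1 = (d : ℂ)) (he : μ 1 = (e : ℂ)) : m * d ≤ H.index * e := by
  have hΦ : Cfsg.IsCharacter G (Cfsg.indFun H μ) := indFun_isCharacter H μ hμ
  have h1 : Cfsg.classInner (Cfsg.indFun H μ) (θ : G → ℂ) = (m : ℂ) := by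
    rw [frobenius_reciprocity H μ _ (IrrCharacter.isClassFunction θ), ← classInner_conj_symm, hm]
    simp
  have h2 : Cfsg.indFun H μ 1 = ((H.index * e : ℕ) : ℂ) := by
    rw [indFun_apply_one, he]; push_cast; rfl
  exact mult_mul_degree_le θ hΦ h1 hd h2

end Cfsg.Agent.Lib.Helper25
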