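import Mathlib
import Cfsg.Prelude.Def_CharExt
import Cfsg.Agent.Lib.Helper2.EquivOfChar
import Cfsg.Agent.Lib.Helper7.LinearExt
import Cfsg.Agent.Lib.Helper2.DirectProduct
import Cfsg.Agent.Lib.Helper25.CharBasic

/-!
# The determinantal character (helper25 library)

`detChar_eq_of_rep`: `detChar ρ.character g = det (ρ g)` for every finite-dimensional complex
representation `ρ` of a finite group; `detHom χ : G →* ℂˣ` with `coeFunHom (detHom χ) = detChar χ`;
behaviour under composition with homomorphisms and under twisting by linear characters.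
-/

set_option autoImplicit false
set_option linter.unusedSectionVars false
set_option linter.style.haveILetI false

namespace Cfsg.Agent.Lib.Helper25

open Cfsg Cfsg.Agent.Lib.Helper2 Cfsg.Agent.Lib.Helper7

universe u

section Basic

variable {G : Type u} [Group G] [Finite G]

/-- The determinant of a representation, as a homomorphism into `ℂˣ`. -/
noncomputable def repDetHom {V : Type*} [AddCommGroup V] [Module ℂ V]
    (ρ : Representation ℂ G V) : G →* ℂˣ :=
  ((LinearMap.det : (V →ₗ[ℂ] V) →* ℂ).comp ρ).toHomUnits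

theorem repDetHom_apply {V : Type*} [AddCommGroup V] [Module ℂ V]
    (ρ : Representation ℂ G V) (g : G) : ((repDetHom ρ g : ℂˣ) : ℂ) = LinearMap.det (ρ g) := rfl

/-- Representations with equal characters have equal determinants. -/
theorem det_eq_of_char_eq {V W : Type*} [AddCommGroup V] [Module ℂ V] [FiniteDimensional ℂ V]
    [AddCommGroup W] [Module ℂ W] [FiniteDimensional ℂ W]
    (ρ' : Representation ℂ G W) (ρ : Representation ℂ G V) (hρ' : ρ'.character = ρ.character)
    (g : G) : LinearMap.det (ρ' g) = LinearMap.det (ρ g) := by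
  obtain ⟨φ⟩ := nonempty_equiv_of_char_eq _ _ _ ρ' ρ rfl hρ'
  have h1 := φ.toIntertwiningMap.isIntertwining' g
  have h2 : ρ g = (φ.toLinearEquiv : W →ₗ[ℂ] V) ∘ₗ (ρ' g) ∘ₗ
        (φ.toLinearEquiv.symm : V →ₗ[ℂ] W) := by
    apply LinearMap.ext
    intro v
    have h3 := LinearMap.congr_fun h1 (φ.toLinearEquiv.symm v)
    simp only [LinearMap.coe_comp, Function.comp_apply, LinearEquiv.coe_coe] at h3 ⊢
    have h4 : φ.toIntertwiningMap.toLinearMap (φ.toLinearEquiv.symm v) = v :=
      φ.toLinearEquiv.apply_symm_apply v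
    rw [h4] at h3
    rw [← h3]
  rw [h2, LinearMap.det_conj]

/-- The determinantal character does not depend on the representation. -/
theorem detChar_eq_of_rep {V : Type*} [AddCommGroup V] [Module ℂ V] [FiniteDimensional ℂ V]
    (ρ : Representation ℂ G V) : detChar ρ.character = fun g => LinearMap.det (ρ g) := by
  have h : IsCharacter G ρ.character := isCharacter_of_rep ρ
  unfold detChar
  simp only [dif_pos h]
  funext g
  exact det_eq_of_char_eq _ ρ (Classical.choose_spec (Classical.choose_spec h)) g

theorem detChar_eq_repDetHom {V : Type*} [AddCommGroup V] [Module ℂ V] [FiniteDimensional ℂ V]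
    (ρ : Representation ℂ G V) : detChar ρ.character = coeFunHom G (repDetHom ρ) := by
  rw [detChar_eq_of_rep]
  rfl

/-- The determinantal character of a character is a homomorphism into `ℂˣ`. -/
theorem exists_detHom {χ : G → ℂ} (h : IsCharacter G χ) :
    ∃ δ : G →* ℂˣ, coeFunHom G δ = detChar χ := by
  obtain ⟨n, ρ, rfl⟩ := h
  exact ⟨repDetHom ρ, (detChar_eq_repDetHom ρ).symm⟩

/-- The determinantal character of a character as a homomorphism into `ℂˣ`
(the trivial homomorphism for non-characters). -/
noncomputable def detHom (χ : G → ℂ) : G →* ℂˣ :=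
  haveI := Classical.propDecidable (IsCharacter G χ)
  if h : IsCharacter G χ then Classical.choose (exists_detHom h) else 1

theorem coe_detHom {χ : G → ℂ} (h : IsCharacter G χ) : coeFunHom G (detHom χ) = detChar χ := by
  unfold detHom
  simp only [dif_pos h]
  exact Classical.choose_spec (exists_detHom h)

theorem detHom_apply {χ : G → ℂ} (h : IsCharacter G χ) (g : G) :
    ((detHom χ g : ℂˣ) : ℂ) = detChar χ g := by
  rw [← coe_detHom h]; rfl

theorem detChar_ne_zero {χ : G → ℂ} (h : IsCharacter G χ) (g : G) : detChar χ g ≠ 0 := by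
  rw [← detHom_apply h]
  exact Units.ne_zero _

theorem detChar_isLinear {χ : G → ℂ} (h : IsCharacter G χ) :
    IsCharacter G (detChar χ) ∧ detChar χ 1 = 1 := by
  rw [← coe_detHom h]
  exact isCharacter_coeFunHom _

end Basic

section Comp

variable {G : Type u} [Group G] [Finite G] {K : Type*} [Group K] [Finite K]

/-- Composition of a character with a homomorphism. -/
theorem isCharacter_comp_hom (f : K →* G) {χ : G → ℂ} (h : IsCharacter G χ) :
    IsCharacter K (fun k => χ (f k)) := by
  obtain ⟨n, ρ, rfl⟩ := h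
  exact ⟨n, (ρ.comp f : Representation ℂ K (Fin n → ℂ)), rfl⟩

theorem detChar_comp_hom (f : K →* G) {χ : G → ℂ} (h : IsCharacter G χ) :
    detChar (fun k => χ (f k)) = fun k => detChar χ (f k) := by
  obtain ⟨n, ρ, rfl⟩ := h
  have h1 : (fun k => ρ.character (f k)) =
      Representation.character (ρ.comp f : Representation ℂ K (Fin n → ℂ)) := rfl
  rw [h1, detChar_eq_of_rep, detChar_eq_of_rep]
  rfl

theorem detHom_comp_hom (f : K →* G) {χ : G → ℂ} (h : IsCharacter G χ) :
    detHom (fun k => χ (f k)) = (detHom χ).comp f := by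
  apply coeFunHom_injective
  rw [coe_detHom (isCharacter_comp_hom f h), detChar_comp_hom f h]
  funext k
  rw [← detHom_apply h]
  rfl

end Comp

section Twist

variable {G : Type u} [Group G] [Finite G]

/-- Twisting a representation by a homomorphism into `ℂˣ`. -/
noncomputable def twistRep {V : Type*} [AddCommGroup V] [Module ℂ V] (β : G →* ℂˣ)
    (ρ : Representation ℂ G V) : Representation ℂ G V where
  toFun g := ((β g : ℂˣ) : ℂ) • ρ g
  map_one' := by simp
  map_mul' a b := by
    rw [map_mul, map_mul, Units.val_mul, smul_mul_smul_comm]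

theorem twistRep_apply {V : Type*} [AddCommGroup V] [Module ℂ V] (β : G →* ℂˣ)
    (ρ : Representation ℂ G V) (g : G) : twistRep β ρ g = ((β g : ℂˣ) : ℂ) • ρ g := rfl

theorem twistRep_character {V : Type*} [AddCommGroup V] [Module ℂ V] (β : G →* ℂˣ)
    (ρ : Representation ℂ G V) : (twistRep β ρ).character = coeFunHom G β * ρ.character := by
  funext g
  show LinearMap.trace ℂ V (((β g : ℂˣ) : ℂ) • ρ g) = _
  rw [map_smul, smul_eq_mul]
  rfl

/-- `det (β χ) = β ^ χ(1) · det χ` for `β` linear. -/
theorem detChar_twist (β : G →* ℂˣ) {χ : G → ℂ} (h : IsCharacter G χ) (n : ℕ) (hn : χ 1 = n) :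
    detChar (coeFunHom G β * χ) = coeFunHom G (β ^ n) * detChar χ := by
  obtain ⟨m, ρ, rfl⟩ := h
  have hm : Module.finrank ℂ (Fin m → ℂ) = n := by
    have h1 : ρ.character 1 = (Module.finrank ℂ (Fin m → ℂ) : ℂ) := Representation.char_one ρ
    rw [hn] at h1
    exact_mod_cast h1.symm
  rw [← twistRep_character, detChar_eq_of_rep, detChar_eq_of_rep]
  funext g
  rw [twistRep_apply, LinearMap.det_smul, hm, Pi.mul_apply, coeFunHom_apply, MonoidHom.pow_apply,
    Units.val_pow_eq_pow_val]

theorem detHom_twist (β : G →* ℂˣ) {χ : G → ℂ} (h : IsCharacter G χ) (n : ℕ) (hn : χ 1 = n) :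
    detHom (coeFunHom G β * χ) = β ^ n * detHom χ := by
  apply coeFunHom_injective
  have hβχ : IsCharacter G (coeFunHom G β * χ) :=
    isCharacter_mul (isCharacter_coeFunHom β).1 h
  rw [coe_detHom hβχ, detChar_twist β h n hn, map_mul, coe_detHom h]

end Twist

end Cfsg.Agent.Lib.Helper25
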