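import Mathlib
import Cfsg.Agent.Lib.Helper25.DetChar
import Cfsg.Agent.Lib.Helper25.Linear
import Cfsg.Agent.Lib.Helper25.MinNormal
import Cfsg.Agent.Lib.Helper7.Gallagher

/-!
# Extensions of an irreducible character of a normal subgroup with prescribed determinant
(helper25 library; Isaacs 6.24)

* `exists_hom_of_two_extensions`: two irreducible extensions of `ϑ ∈ Irr(N)` differ by a linear
  character of `G / N`;
* `ext_unique_of_det`: if `(|G : N|, ϑ(1)) = 1`, an extension is determined by its determinant;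
* `exists_ext_with_det`: if `ϑ` extends and `(|G : N|, ϑ(1)) = 1`, every extension of `det ϑ`
  is the determinant of an extension of `ϑ`.
-/

set_option autoImplicit false
set_option linter.unusedSectionVars false
set_option linter.style.haveILetI false

namespace Cfsg.Agent.Lib.Helper25

open Cfsg Cfsg.Agent.Lib.Helper2 Cfsg.Agent.Lib.Helper7 Cfsg.Agent.Lib.Helper11

universe u

variable {G : Type u} [Group G] [Finite G] (N : Subgroup G) [hN : N.Normal]

/-- Two irreducible extensions of `ϑ ∈ Irr(N)` differ by a linear character trivial on `N`. -/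
theorem exists_hom_of_two_extensions {ϑ : N → ℂ} (hϑ : IsIrrCharacter N ϑ) {χ χ' : G → ℂ}
    (hχ : IsIrrCharacter G χ) (hχ' : IsIrrCharacter G χ') (hχN : ∀ n : N, χ n = ϑ n)
    (hχ'N : ∀ n : N, χ' n = ϑ n) :
    ∃ β : G →* ℂˣ, (∀ n : N, β n = 1) ∧ χ' = coeFunHom G β * χ := by
  classical
  haveI := Fintype.ofFinite G
  haveI : Fintype N := Fintype.ofFinite N
  have h1N : IsIrrCharacter N (fun _ : N => (1 : ℂ)) := isIrrCharacter_one
  have hinv : ∀ g : G, conjFn N g (fun _ : N => (1 : ℂ)) = fun _ : N => (1 : ℂ) := by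
    intro g; rfl
  have hχc : IsCharacter G χ := isCharacter_of_irr hχ
  have hprodeq : ((fun _ : N => (1 : ℂ)) * fun n : N => χ n) = ϑ := by
    funext n
    rw [Pi.mul_apply, one_mul, hχN]
  have hprod : IsIrrCharacter N ((fun _ : N => (1 : ℂ)) * fun n : N => χ n) := by
    rw [hprodeq]; exact hϑ
  obtain ⟨_, _, h3⟩ := gallagher_rigidity N h1N hinv hχc hprod
  have hχ'cf : IsClassFunction G χ' := isClassFunction_of_char (isCharacter_of_irr hχ')
  have hne : classInner (indFun N ((fun _ : N => (1 : ℂ)) * fun n : N => χ n)) χ' ≠ 0 := by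
    rw [hprodeq, frobenius_reciprocity N ϑ χ' hχ'cf]
    have h4 : (fun h : N => χ' h) = ϑ := funext hχ'N
    rw [h4, irr_classInner hϑ hϑ, if_pos rfl]
    exact one_ne_zero
  obtain ⟨β, hβ, hβne, hβχ⟩ := h3 χ' hχ' hne
  -- β is linear
  have hβ1 : β 1 = 1 := by
    have h5 := congrFun hβχ 1
    rw [Pi.mul_apply] at h5
    have h6 : χ 1 = ϑ 1 := hχN 1
    have h7 : χ' 1 = ϑ 1 := hχ'N 1
    rw [h6, h7] at h5
    have h8 : ϑ 1 ≠ 0 := irr_one_ne_zero hϑ
    exact mul_right_cancel₀ h8 (h5.trans (one_mul _).symm)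
  obtain ⟨β', hβ'⟩ := Cfsg.Agent.Lib.Helper7.exists_hom_of_linear (isCharacter_of_irr hβ) hβ1
  refine ⟨β', ?_, ?_⟩
  · -- trivial on N
    have hβcf : IsClassFunction G β := isClassFunction_of_char (isCharacter_of_irr hβ)
    rw [frobenius_reciprocity N _ β hβcf] at hβne
    have hresirr : IsIrrCharacter N (fun h : N => β h) := by
      have h9 : (fun h : N => β h) = fun h : N => (((β'.comp N.subtype) h : ℂˣ) : ℂ) := by
        funext h
        rw [← hβ']
        rfl
      rw [h9]
      exact isIrrCharacter_of_hom _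
    rw [irr_classInner h1N hresirr] at hβne
    have h10 : (fun _ : N => (1 : ℂ)) = fun h : N => β h := by
      by_contra hcon
      rw [if_neg hcon] at hβne
      exact hβne rfl
    intro n
    have h11 := congrFun h10 n
    rw [← hβ'] at h11
    apply Units.ext
    rw [Units.val_one]
    exact h11.symm
  · rw [hβ', hβχ]

/-- Uniqueness of the extension with a given determinant (Isaacs 6.24). -/
theorem ext_unique_of_det {ϑ : N → ℂ} (hϑ : IsIrrCharacter N ϑ) (d : ℕ) (hd : ϑ 1 = d)
    (hcop : Nat.Coprime N.index d) {χ χ' : G → ℂ}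
    (hχ : IsIrrCharacter G χ) (hχ' : IsIrrCharacter G χ') (hχN : ∀ n : N, χ n = ϑ n)
    (hχ'N : ∀ n : N, χ' n = ϑ n) (hdet : detChar χ = detChar χ') : χ = χ' := by
  obtain ⟨β, hβN, hβχ⟩ := exists_hom_of_two_extensions N hϑ hχ hχ' hχN hχ'N
  have hχc := isCharacter_of_irr hχ
  have hχ'c := isCharacter_of_irr hχ'
  have hχ1 : χ 1 = d := by
    have := hχN 1
    simp only [OneMemClass.coe_one] at this
    rw [this, hd]
  have h1 : detHom χ' = β ^ d * detHom χ := by
    rw [hβχ]; exact detHom_twist β hχc d hχ1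
  have h2 : detHom χ' = detHom χ := by
    apply coeFunHom_injective
    rw [coe_detHom hχ'c, coe_detHom hχc, hdet]
  have h3 : β ^ d = 1 := by
    ext g
    have h1g := DFunLike.congr_fun h1 g
    rw [h2, MonoidHom.mul_apply] at h1g
    have h1g' : (β ^ d) g = 1 := mul_eq_right.mp h1g.symm
    rw [h1g']
    rfl
  have h4 : β ^ N.index = 1 := hom_pow_index_eq_one N β hβN
  have h5 : β = 1 := by
    have h6 : orderOf β ∣ Nat.gcd N.index d :=
      Nat.dvd_gcd (orderOf_dvd_of_pow_eq_one h4) (orderOf_dvd_of_pow_eq_one h3)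
    rw [hcop.gcd_eq_one, Nat.dvd_one] at h6
    exact orderOf_eq_one_iff.mp h6
  rw [hβχ, h5, map_one, one_mul]

/-- Existence of an extension with a given determinant (Isaacs 6.24). -/
theorem exists_ext_with_det {ϑ : N → ℂ} (hϑ : IsIrrCharacter N ϑ) (d : ℕ) (hd : ϑ 1 = d)
    (hcop : Nat.Coprime N.index d) {η : G → ℂ} (hη : IsIrrCharacter G η)
    (hηN : ∀ n : N, η n = ϑ n) (μ : G →* ℂˣ) (hμ : ∀ n : N, ((μ n : ℂˣ) : ℂ) = detChar ϑ n) :
    ∃ χ : G → ℂ, IsIrrCharacter G χ ∧ (∀ n : N, χ n = ϑ n) ∧ detHom χ = μ := by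
  have hηc := isCharacter_of_irr hη
  have hη1 : η 1 = d := by
    have := hηN 1
    simp only [OneMemClass.coe_one] at this
    rw [this, hd]
  set lam : G →* ℂˣ := μ * (detHom η)⁻¹ with hlam
  have hlamN : ∀ n : N, lam n = 1 := by
    intro n
    have h1 : detChar η (n : G) = detChar ϑ n := by
      have h2 := detChar_comp_hom N.subtype hηc
      have h3 : (fun k : N => η (N.subtype k)) = ϑ := funext hηN
      rw [h3] at h2
      exact (congrFun h2 n).symm
    rw [hlam, MonoidHom.mul_apply, MonoidHom.inv_apply]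
    apply Units.ext
    rw [Units.val_mul, Units.val_inv_eq_inv_val, detHom_apply hηc, h1, hμ, Units.val_one]
    exact mul_inv_cancel₀ (detChar_ne_zero (isCharacter_of_irr hϑ) n)
  have hlamt : lam ^ N.index = 1 := hom_pow_index_eq_one N lam hlamN
  have hcop' : d.Coprime (orderOf lam) :=
    (Nat.Coprime.coprime_dvd_left (orderOf_dvd_of_pow_eq_one hlamt) hcop).symm
  obtain ⟨m, hm⟩ := exists_pow_eq_self_of_coprime hcop'
  set β : G →* ℂˣ := lam ^ m with hβ
  have hβd : β ^ d = lam := by
    ext g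
    have hmg := DFunLike.congr_fun hm g
    rw [MonoidHom.pow_apply, MonoidHom.pow_apply] at hmg
    rw [MonoidHom.pow_apply, hβ, MonoidHom.pow_apply, ← pow_mul, mul_comm, pow_mul, hmg]
  refine ⟨coeFunHom G β * η, ?_, ?_, ?_⟩
  · exact isIrrCharacter_linear_mul (isCharacter_coeFunHom β).1 (isCharacter_coeFunHom β).2 hη
  · intro n
    rw [Pi.mul_apply, coeFunHom_apply, hβ, MonoidHom.pow_apply, hlamN n, one_pow, Units.val_one,
      one_mul, hηN]
  · rw [detHom_twist β hηc d hη1, hβd, hlam]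
    ext g
    rw [MonoidHom.mul_apply, MonoidHom.mul_apply, MonoidHom.inv_apply, inv_mul_cancel_right]

end Cfsg.Agent.Lib.Helper25
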