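import Mathlib
import Cfsg.Agent.Lib.Helper25.DetExt
import Cfsg.Agent.Lib.Helper2.CyclicQuotientExt
import Cfsg.Agent.Lib.Helper11.Clifford2

/-!
# Extension of invariant characters of coprime degree, solvable quotient (helper25 library)

Isaacs 6.25: `N ⊴ G`, `G / N` solvable, `ϑ ∈ Irr(N)` invariant with `(ϑ(1), |G : N|) = 1`:
`ϑ` extends to `G` iff `det ϑ` does.

Also the transport `subFn N H ϑ` of a function on `N` to `N.subgroupOf H`.
-/

set_option autoImplicit false
set_option linter.unusedSectionVars false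
set_option linter.style.haveILetI false

namespace Cfsg.Agent.Lib.Helper25

open Cfsg Cfsg.Agent.Lib.Helper2 Cfsg.Agent.Lib.Helper7 Cfsg.Agent.Lib.Helper11

universe u

section Intermediate

variable {G : Type u} [Group G] (N : Subgroup G) (H : Subgroup G)

/-- Transport of a function on `N` to `N.subgroupOf H`. -/
def subFn (ϑ : N → ℂ) : N.subgroupOf H → ℂ :=
  fun x => ϑ ⟨((x : H) : G), Subgroup.mem_subgroupOf.mp x.2⟩

theorem subFn_apply (ϑ : N → ℂ) (x : N.subgroupOf H) :
    subFn N H ϑ x = ϑ ⟨((x : H) : G), Subgroup.mem_subgroupOf.mp x.2⟩ := rfl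

variable {N H}

theorem subFn_eq_comp (hNH : N ≤ H) (ϑ : N → ℂ) :
    subFn N H ϑ = ϑ ∘ (Subgroup.subgroupOfEquivOfLe hNH) := rfl

theorem subFn_one (ϑ : N → ℂ) : subFn N H ϑ 1 = ϑ 1 := rfl

theorem isIrrCharacter_subFn [Finite G] (hNH : N ≤ H) {ϑ : N → ℂ} (hϑ : IsIrrCharacter N ϑ) :
    IsIrrCharacter (N.subgroupOf H) (subFn N H ϑ) := by
  rw [subFn_eq_comp hNH]
  exact isIrrCharacter_comp_equiv _ hϑ

theorem detChar_subFn [Finite G] (hNH : N ≤ H) {ϑ : N → ℂ} (hϑ : IsCharacter N ϑ) :
    detChar (subFn N H ϑ) = subFn N H (detChar ϑ) := by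
  have h := detChar_comp_hom (Subgroup.subgroupOfEquivOfLe hNH).toMonoidHom hϑ
  exact h

theorem subFn_invariant [hN : N.Normal] {ϑ : N → ℂ}
    (hinv : ∀ (g : G) (n : N), ϑ ⟨g * n * g⁻¹, hN.conj_mem (n : G) n.2 g⟩ = ϑ n)
    (h : H) (x : N.subgroupOf H) :
    subFn N H ϑ ⟨h * x * h⁻¹, (inferInstance : (N.subgroupOf H).Normal).conj_mem (x : H) x.2 h⟩
      = subFn N H ϑ x :=
  hinv (h : G) ⟨((x : H) : G), Subgroup.mem_subgroupOf.mp x.2⟩

end Intermediate

section PrimeIndex

variable {G : Type u} [Group G] [Finite G]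

/-- If `G / N` is solvable and nontrivial, some normal subgroup containing `N` has prime index
(and cyclic quotient). -/
theorem exists_normal_prime_index (N : Subgroup G) [hN : N.Normal]
    (hsolv : Group.IsSolvable (G ⧸ N)) (hne : N ≠ ⊤) :
    ∃ M : Subgroup G, M.Normal ∧ N ≤ M ∧ M.index.Prime := by
  classical
  let S : Set (Subgroup G) := {M | M.Normal ∧ N ≤ M ∧ M ≠ ⊤}
  have hSfin : S.Finite := Set.toFinite S
  have hSne : S.Nonempty := ⟨N, hN, le_rfl, hne⟩
  obtain ⟨M, hMS, hMmax⟩ := hSfin.exists_maximal hSne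
  obtain ⟨hMn, hNM, hMtop⟩ := hMS
  haveI := hMn
  refine ⟨M, hMn, hNM, ?_⟩
  -- G ⧸ M is solvable
  have hsolvM : Group.IsSolvable (G ⧸ M) := by
    haveI := hsolv
    have hsurj : Function.Surjective (QuotientGroup.map N M (MonoidHom.id G) hNM) := by
      intro x
      obtain ⟨g, rfl⟩ := QuotientGroup.mk_surjective x
      exact ⟨(g : G ⧸ N), rfl⟩
    exact Group.isSolvable_of_surjective hsurj
  -- G ⧸ M is simple
  haveI : Nontrivial (G ⧸ M) := by
    have h1 : M.index ≠ 1 := fun h => hMtop (Subgroup.index_eq_one.mp h)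
    have h2 : M.index ≠ 0 := Subgroup.index_ne_zero_of_finite
    have h3 : 1 < Nat.card (G ⧸ M) := by
      have : Nat.card (G ⧸ M) = M.index := rfl
      omega
    exact Finite.one_lt_card_iff_nontrivial.mp h3
  have hsimple : IsSimpleGroup (G ⧸ M) := by
    refine ⟨fun K hK => ?_⟩
    haveI := hK
    let K' : Subgroup G := K.comap (QuotientGroup.mk' M)
    have hK'n : K'.Normal := inferInstance
    have hMK' : M ≤ K' := by
      intro m hm
      show (QuotientGroup.mk' M m) ∈ K
      rw [QuotientGroup.mk'_apply, (QuotientGroup.eq_one_iff m).mpr hm]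
      exact K.one_mem
    by_cases hK'top : K' = ⊤
    · right
      rw [eq_top_iff]
      intro x _
      obtain ⟨g, rfl⟩ := QuotientGroup.mk_surjective x
      have : g ∈ K' := by rw [hK'top]; trivial
      exact this
    · left
      have hK'S : K' ∈ S := ⟨hK'n, hNM.trans hMK', hK'top⟩
      have hle : K' ≤ M := hMmax hK'S hMK'
      rw [eq_bot_iff]
      intro x hx
      obtain ⟨g, rfl⟩ := QuotientGroup.mk_surjective x
      have hg : g ∈ K' := hx
      rw [Subgroup.mem_bot]
      exact (QuotientGroup.eq_one_iff g).mpr (hle hg)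
  haveI := hsimple
  have hcomm : ∀ a b : G ⧸ M, a * b = b * a := IsSimpleGroup.comm_iff_isSolvable.mpr hsolvM
  let _ : CommGroup (G ⧸ M) := { (inferInstance : Group (G ⧸ M)) with mul_comm := hcomm }
  have hprime : (Nat.card (G ⧸ M)).Prime := IsSimpleGroup.prime_card
  exact hprime

end PrimeIndex

section Main

/-- The quotient of an intermediate subgroup embeds in the quotient of the group. -/
theorem isSolvable_subgroupOf_quotient {G : Type u} [Group G] (N : Subgroup G) [hN : N.Normal]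
    (M : Subgroup G) (hsolv : Group.IsSolvable (G ⧸ N)) :
    Group.IsSolvable (↥M ⧸ N.subgroupOf M) := by
  haveI := hsolv
  let f : ↥M ⧸ N.subgroupOf M →* G ⧸ N :=
    QuotientGroup.map (N.subgroupOf M) N M.subtype (fun x hx => Subgroup.mem_subgroupOf.mp hx)
  have hinj : Function.Injective f := by
    rw [injective_iff_map_eq_one]
    intro x hx
    obtain ⟨m, rfl⟩ := QuotientGroup.mk_surjective x
    have h1 : ((m : G) : G ⧸ N) = 1 := hx
    have h2 : (m : G) ∈ N := (QuotientGroup.eq_one_iff _).mp h1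
    exact (QuotientGroup.eq_one_iff m).mpr (Subgroup.mem_subgroupOf.mpr h2)
  exact Group.isSolvable_of_isSolvable_injective hinj

/-- Isaacs 6.25 in homomorphism form: `G / N` solvable, `ϑ ∈ Irr(N)` invariant of degree prime
to `|G : N|`, and `det ϑ` extends to `G`; then `ϑ` extends to `G`. -/
theorem exists_ext_of_det_solvable :
    ∀ (k : ℕ) (G : Type u) [Group G] [Finite G] (N : Subgroup G) [hN : N.Normal],
      N.index = k → Group.IsSolvable (G ⧸ N) → ∀ (ϑ : N → ℂ), IsIrrCharacter N ϑ →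
      (∀ (g : G) (n : N), ϑ ⟨g * n * g⁻¹, hN.conj_mem (n : G) n.2 g⟩ = ϑ n) →
      ∀ d : ℕ, ϑ 1 = d → Nat.Coprime N.index d →
      ∀ μ : G →* ℂˣ, (∀ n : N, ((μ n : ℂˣ) : ℂ) = detChar ϑ n) →
      ∃ χ : G → ℂ, IsIrrCharacter G χ ∧ ∀ n : N, χ n = ϑ n := by
  intro k
  induction k using Nat.strong_induction_on with
  | _ k ih =>
  intro G _ _ N hN hk hsolv ϑ hϑ hinv d hd hcop μ hμ
  by_cases htop : N = ⊤
  · subst htop
    refine ⟨fun g => ϑ ⟨g, Subgroup.mem_top g⟩, ?_, fun n => rfl⟩
    exact isIrrCharacter_comp_equiv (Subgroup.topEquiv (G := G)).symm hϑ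
  · obtain ⟨M, hMn, hNM, hMprime⟩ := exists_normal_prime_index N hsolv htop
    haveI := hMn
    have hidx : (N.subgroupOf M).index * M.index = N.index := Subgroup.relIndex_mul_index hNM
    have hidxlt : (N.subgroupOf M).index < k := by
      rw [← hk, ← hidx]
      have h2 := hMprime.two_le
      have hpos : 0 < (N.subgroupOf M).index :=
        Nat.pos_of_ne_zero Subgroup.index_ne_zero_of_finite
      nlinarith
    have hcop' : Nat.Coprime (N.subgroupOf M).index d :=
      Nat.Coprime.coprime_dvd_left ⟨M.index, hidx.symm⟩ hcop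
    have hsolv' : Group.IsSolvable (↥M ⧸ N.subgroupOf M) :=
      isSolvable_subgroupOf_quotient N M hsolv
    have hϑ' : IsIrrCharacter (N.subgroupOf M) (subFn N M ϑ) := isIrrCharacter_subFn hNM hϑ
    have hinv' := subFn_invariant (H := M) hinv
    have hd' : subFn N M ϑ 1 = d := by rw [subFn_one]; exact hd
    have hμ' : ∀ n : N.subgroupOf M,
        (((μ.comp M.subtype) n : ℂˣ) : ℂ) = detChar (subFn N M ϑ) n := by
      intro n
      rw [detChar_subFn hNM (isCharacter_of_irr hϑ)]
      exact hμ ⟨((n : M) : G), Subgroup.mem_subgroupOf.mp n.2⟩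
    obtain ⟨η₀, hη₀, hη₀N⟩ := ih (N.subgroupOf M).index hidxlt ↥M (N.subgroupOf M) rfl hsolv'
      (subFn N M ϑ) hϑ' hinv' d hd' hcop' (μ.comp M.subtype) hμ'
    obtain ⟨η, hη, hηN, hηdet⟩ := exists_ext_with_det (N.subgroupOf M) hϑ' d hd' hcop' hη₀ hη₀N
      (μ.comp M.subtype) hμ'
    have hηc := isCharacter_of_irr hη
    -- η is G-invariant
    have hηinv : ∀ (g : G) (m : M), η ⟨g * m * g⁻¹, hMn.conj_mem (m : G) m.2 g⟩ = η m := by
      intro g m
      let c : M ≃* M := MulAut.conjNormal g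
      have hc : ∀ x : M, ((c x : M) : G) = g * x * g⁻¹ := fun x => MulAut.conjNormal_apply g x
      have hηg : IsIrrCharacter M (η ∘ c) := isIrrCharacter_comp_equiv c hη
      have hηgN : ∀ n : N.subgroupOf M, (η ∘ c) n = subFn N M ϑ n := by
        intro n
        have hmem : c (n : M) ∈ N.subgroupOf M := by
          rw [Subgroup.mem_subgroupOf, hc]
          exact hN.conj_mem _ (Subgroup.mem_subgroupOf.mp n.2) g
        have h1 := hηN ⟨c (n : M), hmem⟩
        show η (c (n : M)) = _
        rw [h1, subFn_apply, subFn_apply]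
        have h2 := hinv g ⟨((n : M) : G), Subgroup.mem_subgroupOf.mp n.2⟩
        rw [← h2]
        congr 1
      have hdet : detChar (η ∘ c) = detChar η := by
        have h1 := detChar_comp_hom c.toMonoidHom hηc
        have h2 : (fun k : M => η (c.toMonoidHom k)) = η ∘ c := rfl
        rw [h2] at h1
        rw [h1]
        funext x
        rw [← detHom_apply hηc, ← detHom_apply hηc, hηdet]
        show ((μ ((c x : M) : G) : ℂˣ) : ℂ) = ((μ (x : G) : ℂˣ) : ℂ)
        rw [hc, map_mul, map_mul, map_inv, mul_comm (μ g), mul_inv_cancel_right]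
      have h3 := ext_unique_of_det (N.subgroupOf M) hϑ' d hd' hcop' hηg hη hηgN hηN hdet
      have h4 := congrFun h3 m
      rw [← h4]
      show η _ = η (c m)
      congr 1
    have hcyc : IsCyclic (G ⧸ M) := by
      haveI : Fact (M.index.Prime) := ⟨hMprime⟩
      exact isCyclic_of_prime_card (p := M.index) rfl
    obtain ⟨χ, hχ, hχM⟩ := CyclicExt.exists_irr_extension M hcyc η hη hηinv
    refine ⟨χ, hχ, ?_⟩
    intro n
    have h1 := hχM ⟨(n : G), hNM n.2⟩
    have h2 := hηN ⟨⟨(n : G), hNM n.2⟩, Subgroup.mem_subgroupOf.mpr n.2⟩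
    simp only at h1 h2
    rw [h1, h2]
    rfl

end Main

end Cfsg.Agent.Lib.Helper25
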