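import Mathlib
import Cfsg.Agent.Lib.Helper25.DetExt
import Cfsg.Agent.Lib.Helper11.Clifford3

/-!
# Norm of an extension on a coset (helper25 library; Isaacs 8.14)

If `N ⊴ K` with `K / N` abelian and `η ∈ Irr(K)` restricts irreducibly to `N`, then
`∑_{n ∈ N} |η (k n)|² = |N|` for every `k`.
-/

set_option autoImplicit false
set_option linter.unusedSectionVars false
set_option linter.style.haveILetI false

namespace Cfsg.Agent.Lib.Helper25

open Cfsg Cfsg.Agent.Lib.Helper2 Cfsg.Agent.Lib.Helper7 Cfsg.Agent.Lib.Helper11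
open scoped ComplexConjugate

universe u

variable {K : Type u} [Group K] [Finite K] (N : Subgroup K) [hN : N.Normal]

/-- If `η ∈ Irr(K)` restricts irreducibly to `N` and `λ η = η` for a linear `λ` trivial on `N`,
then `λ = 1`. -/
theorem hom_eq_one_of_twist_eq {η : K → ℂ} (hη : IsIrrCharacter K η)
    (hηN : IsIrrCharacter N (fun n : N => η n)) (lam : K →* ℂˣ) (hlam : ∀ n ∈ N, lam n = 1)
    (h : coeFunHom K lam * η = η) : lam = 1 := by
  -- use uniqueness in Gallagher
  classical
  haveI := Fintype.ofFinite K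
  haveI : Fintype N := Fintype.ofFinite N
  have h1N : IsIrrCharacter N (fun _ : N => (1 : ℂ)) := isIrrCharacter_one
  have hinv : ∀ g : K, conjFn N g (fun _ : N => (1 : ℂ)) = fun _ : N => (1 : ℂ) := by
    intro g; rfl
  have hηc : IsCharacter K η := isCharacter_of_irr hη
  have hprodeq : ((fun _ : N => (1 : ℂ)) * fun n : N => η n) = fun n : N => η n := by
    funext n
    rw [Pi.mul_apply, one_mul]
  have hprod : IsIrrCharacter N ((fun _ : N => (1 : ℂ)) * fun n : N => η n) := by
    rw [hprodeq]; exact hηN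
  obtain ⟨_, h2, _⟩ := gallagher_rigidity N h1N hinv hηc hprod
  have hne : ∀ φ : K →* ℂˣ, (∀ n ∈ N, φ n = 1) →
      classInner (indFun N (fun _ : N => (1 : ℂ))) (coeFunHom K φ) ≠ 0 := by
    intro φ hφ
    have hcf : IsClassFunction K (coeFunHom K φ) :=
      isClassFunction_of_char (isCharacter_coeFunHom φ).1
    rw [frobenius_reciprocity N _ _ hcf]
    have h3 : (fun h : N => coeFunHom K φ h) = fun _ : N => (1 : ℂ) := by
      funext n
      rw [coeFunHom_apply, hφ n n.2, Units.val_one]
    rw [h3, irr_classInner h1N h1N, if_pos rfl]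
    exact one_ne_zero
  have hirr : ∀ φ : K →* ℂˣ, IsIrrCharacter K (coeFunHom K φ) := fun φ => isIrrCharacter_of_hom φ
  have h4 := h2 (coeFunHom K lam) (coeFunHom K 1) (hirr lam) (hirr 1) (hne lam hlam)
    (hne 1 (fun _ _ => rfl)) (by rw [h, map_one, one_mul])
  exact coeFunHom_injective h4

/-- Isaacs 8.14(a), for every coset of a normal subgroup with abelian quotient. -/
theorem sum_coset_normSq [Fintype N] (hab : ∀ x y : K, x * y * x⁻¹ * y⁻¹ ∈ N) {η : K → ℂ}
    (hη : IsIrrCharacter K η) (hηN : IsIrrCharacter N (fun n : N => η n)) (k : K) :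
    ∑ n : N, η (k * n) * conj (η (k * n)) = (Nat.card N : ℂ) := by
  classical
  haveI := Fintype.ofFinite K
  haveI : Fintype (K →* ℂˣ) := Fintype.ofFinite _
  set Λ := Finset.univ.filter (fun φ : K →* ℂˣ => ∀ y ∈ N, φ y = 1) with hΛ
  have hone : (1 : K →* ℂˣ) ∈ Λ := by
    rw [hΛ, Finset.mem_filter]
    exact ⟨Finset.mem_univ _, fun y _ => rfl⟩
  have hcard : (Λ.card : ℂ) ≠ 0 := by
    have : Λ.card ≠ 0 := Finset.card_ne_zero.2 ⟨1, hone⟩
    exact_mod_cast this
  set f : K → ℂ := fun x => η x * conj (η x) with hf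
  -- Step 1
  have hstep1 : ∀ lam ∈ Λ, ∑ x : K, (lam x : ℂ) * f x = if lam = 1 then (Nat.card K : ℂ) else 0 := by
    intro lam hlam
    have hlamN : ∀ y ∈ N, lam y = 1 := (Finset.mem_filter.mp hlam).2
    have hirr : IsIrrCharacter K (coeFunHom K lam * η) :=
      isIrrCharacter_linear_mul (isCharacter_coeFunHom lam).1 (isCharacter_coeFunHom lam).2 hη
    have h1 := irr_classInner hirr hη
    rw [classInner_def] at h1
    have hKne : (Nat.card K : ℂ) ≠ 0 := by
      have : 0 < Nat.card K := Nat.card_pos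
      exact_mod_cast this.ne'
    have h2 : ∑ x : K, (lam x : ℂ) * f x = ∑ g : K, (coeFunHom K lam * η) g * conj (η g) := by
      apply Finset.sum_congr rfl
      intro x _
      rw [hf, Pi.mul_apply, coeFunHom_apply]
      ring
    rw [h2]
    by_cases h3 : lam = 1
    · rw [if_pos h3]
      have h4 : coeFunHom K lam * η = η := by rw [h3, map_one, one_mul]
      rw [if_pos h4] at h1
      field_simp at h1
      exact h1
    · rw [if_neg h3]
      have h4 : coeFunHom K lam * η ≠ η := fun h => h3 (hom_eq_one_of_twist_eq N hη hηN lam hlamN h)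
      rw [if_neg h4] at h1
      rcases mul_eq_zero.mp h1 with h5 | h5
      · exact absurd (inv_eq_zero.mp h5) hKne
      · exact h5
  -- the constant
  have hconst : ∀ k : K, ∑ n : N, f (k * n) = (Nat.card K : ℂ) / (Λ.card : ℂ) := by
    intro k
    -- rewrite as a sum over K with an indicator
    have h1 : ∑ n : N, f (k * n) = ∑ x : K, if k⁻¹ * x ∈ N then f x else 0 := by
      rw [← Finset.sum_filter]
      symm
      apply Finset.sum_bij (fun (x : K) (hx : x ∈ Finset.univ.filter (fun x => k⁻¹ * x ∈ N)) =>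
        (⟨k⁻¹ * x, (Finset.mem_filter.mp hx).2⟩ : N))
      · intro x _; exact Finset.mem_univ _
      · intro x _ y _ hxy
        have := congrArg Subtype.val hxy
        simpa using this
      · intro n _
        refine ⟨k * n, ?_, ?_⟩
        · rw [Finset.mem_filter]
          refine ⟨Finset.mem_univ _, ?_⟩
          rw [inv_mul_cancel_left]; exact n.2
        · apply Subtype.ext
          simp
      · intro x _
        simp
    rw [h1]
    have h2 : ∀ x : K, (if k⁻¹ * x ∈ N then f x else 0)
        = (Λ.card : ℂ)⁻¹ * ∑ lam ∈ Λ, ((lam k : ℂˣ) : ℂ)⁻¹ * ((lam x : ℂ) * f x) := by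
      intro x
      have h3 := sum_char_trivialOn_of_abelian_quotient N hab (k⁻¹ * x)
      rw [← hΛ] at h3
      have h4 : ∑ lam ∈ Λ, ((lam k : ℂˣ) : ℂ)⁻¹ * ((lam x : ℂ) * f x)
          = (∑ lam ∈ Λ, ((lam (k⁻¹ * x) : ℂˣ) : ℂ)) * f x := by
        rw [Finset.sum_mul]
        apply Finset.sum_congr rfl
        intro lam _
        rw [map_mul, map_inv, Units.val_mul, Units.val_inv_eq_inv_val]
        ring
      rw [h4, h3]
      by_cases hx : k⁻¹ * x ∈ N
      · rw [if_pos hx, if_pos hx]
        field_simp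
      · rw [if_neg hx, if_neg hx]
        simp
    rw [Finset.sum_congr rfl (fun x _ => h2 x), ← Finset.mul_sum, Finset.sum_comm]
    have h5 : ∀ lam ∈ Λ, ∑ x : K, ((lam k : ℂˣ) : ℂ)⁻¹ * ((lam x : ℂ) * f x)
        = if lam = 1 then (Nat.card K : ℂ) else 0 := by
      intro lam hlam
      rw [← Finset.mul_sum, hstep1 lam hlam]
      by_cases h6 : lam = 1
      · rw [if_pos h6, h6]; simp
      · rw [if_neg h6, mul_zero]
    rw [Finset.sum_congr rfl h5, Finset.sum_ite_eq' Λ 1, if_pos hone]
    field_simp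
  -- evaluate at 1
  have h1 : ∑ n : N, f ((1 : K) * n) = (Nat.card N : ℂ) := by
    have h2 := irr_classInner hηN hηN
    rw [if_pos rfl, classInner_def] at h2
    have hNne : (Nat.card N : ℂ) ≠ 0 := by
      have : 0 < Nat.card N := Nat.card_pos
      exact_mod_cast this.ne'
    have h3 : ∑ n : N, f ((1 : K) * n) = ∑ g : N, (fun n : N => η n) g * conj ((fun n : N => η n) g) := by
      apply Finset.sum_congr rfl
      intro n _
      rw [one_mul]
    rw [h3]
    field_simp at h2
    exact h2
  have h2 := hconst k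
  rw [hconst 1] at h1
  rw [← h1]
  exact h2

end Cfsg.Agent.Lib.Helper25
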