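import Mathlib
import Cfsg.Agent.Lib.Helper25.DetSolv
import Cfsg.Agent.Lib.Helper25.CosetNorm
import Cfsg.Agent.Lib.Helper25.Irred
import Cfsg.Agent.Lib.Helper7.BrauerChar
import Cfsg.Agent.Lib.Helper11.GenChar
import Cfsg.Agent.Lib.Helper2.Elementary

/-!
# Gallagher's extension theorem without solvability (helper25 library; Isaacs 8.15)

`N ⊴ G`, `ϑ ∈ Irr(N)` invariant with `(ϑ(1), |G : N|) = 1`, and `det ϑ` extends to `G`; then `ϑ`
extends to `G`.  The proof glues the canonical extensions to the subgroups `N⟨g⟩` and uses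
Brauer's characterization of characters.
-/

set_option autoImplicit false
set_option linter.unusedSectionVars false
set_option linter.style.haveILetI false

namespace Cfsg.Agent.Lib.Helper25

open Cfsg Cfsg.Agent.Lib.Helper2 Cfsg.Agent.Lib.Helper7 Cfsg.Agent.Lib.Helper11
open scoped ComplexConjugate

universe u

section RestrictIrr

/-- A character whose pull-back along some homomorphism is irreducible is irreducible. -/
theorem isIrrCharacter_of_comp_irr {K : Type u} [Group K] {H : Type*} [Group H] [Finite H]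
    (f : H →* K) {χ : K → ℂ} (hχ : IsCharacter K χ) (h : IsIrrCharacter H (fun x => χ (f x))) :
    IsIrrCharacter K χ := by
  obtain ⟨n, ρ, rfl⟩ := hχ
  obtain ⟨m, σ, hσ, hσχ⟩ := h
  have hchar : σ.character = Representation.character (ρ.comp f : Representation ℂ H (Fin n → ℂ)) :=
    hσχ
  obtain ⟨φ⟩ := nonempty_equiv_of_char_eq _ _ _ σ (ρ.comp f : Representation ℂ H (Fin n → ℂ)) rfl
    hchar
  have hirr' : Representation.IsIrreducible (ρ.comp f : Representation ℂ H (Fin n → ℂ)) := by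
    apply isIrreducible_of_linearEquiv σ _ φ.toLinearEquiv _ hσ
    intro g v
    exact LinearMap.congr_fun (φ.toIntertwiningMap.isIntertwining' g) v
  refine ⟨n, ρ, ?_, rfl⟩
  rw [isIrreducible_iff] at hirr' ⊢
  obtain ⟨hV, hW⟩ := hirr'
  exact ⟨hV, fun W hWinv => hW W (fun g v hv => hWinv (f g) v hv)⟩

end RestrictIrr

section Good

variable {G : Type u} [Group G] [Finite G] (N : Subgroup G) [hN : N.Normal] (ϑ : N → ℂ)
  (μ : G →* ℂˣ)

/-- `η` is an irreducible character of `H` extending `ϑ` with determinant `μ|_H`. -/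
def IsGoodExt (H : Subgroup G) (η : H → ℂ) : Prop :=
  IsIrrCharacter H η ∧ (∀ n : N.subgroupOf H, η n = subFn N H ϑ n) ∧
    detHom η = μ.comp H.subtype

variable {N ϑ μ}

theorem index_subgroupOf_dvd {H : Subgroup G} (hNH : N ≤ H) :
    (N.subgroupOf H).index ∣ N.index :=
  ⟨H.index, (Subgroup.relIndex_mul_index hNH).symm⟩

theorem goodExt_unique (hϑ : IsIrrCharacter N ϑ) (d : ℕ) (hd : ϑ 1 = d)
    (hcop : Nat.Coprime N.index d) {H : Subgroup G} (hNH : N ≤ H) {η η' : H → ℂ}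
    (h : IsGoodExt N ϑ μ H η) (h' : IsGoodExt N ϑ μ H η') : η = η' := by
  have hϑ' : IsIrrCharacter (N.subgroupOf H) (subFn N H ϑ) := isIrrCharacter_subFn hNH hϑ
  have hd' : subFn N H ϑ 1 = d := by rw [subFn_one]; exact hd
  have hcop' : Nat.Coprime (N.subgroupOf H).index d :=
    Nat.Coprime.coprime_dvd_left (index_subgroupOf_dvd hNH) hcop
  apply ext_unique_of_det (N.subgroupOf H) hϑ' d hd' hcop' h.1 h'.1 h.2.1 h'.2.1
  rw [← coe_detHom (isCharacter_of_irr h.1), ← coe_detHom (isCharacter_of_irr h'.1), h.2.2, h'.2.2]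

theorem goodExt_exists (hϑ : IsIrrCharacter N ϑ)
    (hinv : ∀ (g : G) (n : N), ϑ ⟨g * n * g⁻¹, hN.conj_mem (n : G) n.2 g⟩ = ϑ n)
    (d : ℕ) (hd : ϑ 1 = d) (hcop : Nat.Coprime N.index d)
    (hμ : ∀ n : N, ((μ n : ℂˣ) : ℂ) = detChar ϑ n)
    {H : Subgroup G} (hNH : N ≤ H) (hsolv : Group.IsSolvable (↥H ⧸ N.subgroupOf H)) :
    ∃ η : H → ℂ, IsGoodExt N ϑ μ H η := by
  have hϑ' : IsIrrCharacter (N.subgroupOf H) (subFn N H ϑ) := isIrrCharacter_subFn hNH hϑ
  have hd' : subFn N H ϑ 1 = d := by rw [subFn_one]; exact hd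
  have hcop' : Nat.Coprime (N.subgroupOf H).index d :=
    Nat.Coprime.coprime_dvd_left (index_subgroupOf_dvd hNH) hcop
  have hinv' := subFn_invariant (H := H) hinv
  have hμ' : ∀ n : N.subgroupOf H,
      (((μ.comp H.subtype) n : ℂˣ) : ℂ) = detChar (subFn N H ϑ) n := by
    intro n
    rw [detChar_subFn hNH (isCharacter_of_irr hϑ)]
    exact hμ ⟨((n : H) : G), Subgroup.mem_subgroupOf.mp n.2⟩
  obtain ⟨η₀, hη₀, hη₀N⟩ := exists_ext_of_det_solvable (N.subgroupOf H).index ↥H (N.subgroupOf H)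
    rfl hsolv (subFn N H ϑ) hϑ' hinv' d hd' hcop' (μ.comp H.subtype) hμ'
  obtain ⟨η, hη, hηN, hηdet⟩ := exists_ext_with_det (N.subgroupOf H) hϑ' d hd' hcop' hη₀ hη₀N
    (μ.comp H.subtype) hμ'
  exact ⟨η, hη, hηN, hηdet⟩

/-- Restriction of a good extension to an intermediate subgroup is good. -/
theorem goodExt_restrict (hϑ : IsIrrCharacter N ϑ) {K H : Subgroup G} (hNK : N ≤ K) (hKH : K ≤ H)
    {η : H → ℂ} (h : IsGoodExt N ϑ μ H η) :
    IsGoodExt N ϑ μ K (fun k : K => η ⟨(k : G), hKH k.2⟩) := by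
  have hηc := isCharacter_of_irr h.1
  have hresc : IsCharacter K (fun k : K => η ⟨(k : G), hKH k.2⟩) :=
    isCharacter_comp_hom (Subgroup.inclusion hKH) hηc
  have hN' : ∀ n : N.subgroupOf K, (fun k : K => η ⟨(k : G), hKH k.2⟩) n = subFn N K ϑ n := by
    intro n
    have h1 := h.2.1 ⟨⟨((n : K) : G), hKH (n : K).2⟩,
      Subgroup.mem_subgroupOf.mpr (Subgroup.mem_subgroupOf.mp n.2)⟩
    exact h1
  refine ⟨?_, hN', ?_⟩
  · apply isIrrCharacter_of_comp_irr (N.subgroupOf K).subtype hresc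
    have h2 : (fun x : N.subgroupOf K => (fun k : K => η ⟨(k : G), hKH k.2⟩)
        ((N.subgroupOf K).subtype x)) = subFn N K ϑ := funext hN'
    rw [h2]
    exact isIrrCharacter_subFn hNK hϑ
  · have h3 := detHom_comp_hom (Subgroup.inclusion hKH) hηc
    have h4 : (fun k : K => η ((Subgroup.inclusion hKH) k)) = fun k : K => η ⟨(k : G), hKH k.2⟩ := rfl
    rw [h4] at h3
    rw [h3, h.2.2]
    rfl

/-- Transport of a good extension along conjugation. -/
theorem goodExt_conj (hinv : ∀ (g : G) (n : N), ϑ ⟨g * n * g⁻¹, hN.conj_mem (n : G) n.2 g⟩ = ϑ n)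
    (x : G) {H H' : Subgroup G} (e : H ≃* H') (he : ∀ h : H, ((e h : H') : G) = x * h * x⁻¹)
    {η' : H' → ℂ} (h : IsGoodExt N ϑ μ H' η') : IsGoodExt N ϑ μ H (η' ∘ e) := by
  have hη'c := isCharacter_of_irr h.1
  refine ⟨isIrrCharacter_comp_equiv e h.1, ?_, ?_⟩
  · intro n
    have hmem : e (n : H) ∈ N.subgroupOf H' := by
      rw [Subgroup.mem_subgroupOf, he]
      exact hN.conj_mem _ (Subgroup.mem_subgroupOf.mp n.2) x
    have h1 := h.2.1 ⟨e (n : H), hmem⟩
    show η' (e (n : H)) = _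
    rw [h1, subFn_apply, subFn_apply]
    have h2 := hinv x ⟨((n : H) : G), Subgroup.mem_subgroupOf.mp n.2⟩
    rw [← h2]
    congr 1
    apply Subtype.ext
    exact he (n : H)
  · have h3 := detHom_comp_hom e.toMonoidHom hη'c
    have h4 : (fun k : H => η' (e.toMonoidHom k)) = η' ∘ e := rfl
    rw [h4] at h3
    rw [h3, h.2.2]
    ext k
    show ((μ ((e k : H') : G) : ℂˣ) : ℂ) = ((μ (k : G) : ℂˣ) : ℂ)
    rw [he, map_mul, map_mul, map_inv, mul_comm (μ x), mul_inv_cancel_right]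

end Good

section CycSub

variable {G : Type u} [Group G] (N : Subgroup G) [hN : N.Normal]

/-- The subgroup `N⟨g⟩`. -/
def cycSub (g : G) : Subgroup G :=
  (Subgroup.zpowers (QuotientGroup.mk' N g)).comap (QuotientGroup.mk' N)

theorem mem_cycSub_iff (g h : G) :
    h ∈ cycSub N g ↔ ∃ k : ℤ, (QuotientGroup.mk' N g) ^ k = QuotientGroup.mk' N h := by
  unfold cycSub
  rw [Subgroup.mem_comap, Subgroup.mem_zpowers_iff]

theorem le_cycSub (g : G) : N ≤ cycSub N g := by
  intro n hn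
  rw [mem_cycSub_iff]
  refine ⟨0, ?_⟩
  rw [zpow_zero]
  exact ((QuotientGroup.eq_one_iff n).mpr hn).symm

theorem self_mem_cycSub (g : G) : g ∈ cycSub N g :=
  (mem_cycSub_iff N g g).mpr ⟨1, zpow_one _⟩

theorem mul_mem_cycSub (g : G) (n : N) : g * n ∈ cycSub N g :=
  (cycSub N g).mul_mem (self_mem_cycSub N g) (le_cycSub N g n.2)

theorem cycSub_le {H : Subgroup G} (hNH : N ≤ H) {g : G} (hg : g ∈ H) : cycSub N g ≤ H := by
  intro h hh
  obtain ⟨k, hk⟩ := (mem_cycSub_iff N g h).mp hh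
  have h1 : (g ^ k)⁻¹ * h ∈ N := by
    rw [← QuotientGroup.eq]
    rw [QuotientGroup.mk'_apply, QuotientGroup.mk'_apply, ← QuotientGroup.mk_zpow] at hk
    exact hk
  have h2 : h = g ^ k * ((g ^ k)⁻¹ * h) := by group
  rw [h2]
  exact H.mul_mem (H.zpow_mem hg k) (hNH h1)

theorem cycSub_commute (g : G) {a b : G} (ha : a ∈ cycSub N g) (hb : b ∈ cycSub N g) :
    (QuotientGroup.mk' N a) * (QuotientGroup.mk' N b)
      = (QuotientGroup.mk' N b) * (QuotientGroup.mk' N a) := by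
  obtain ⟨i, hi⟩ := (mem_cycSub_iff N g a).mp ha
  obtain ⟨j, hj⟩ := (mem_cycSub_iff N g b).mp hb
  rw [← hi, ← hj, ← zpow_add, ← zpow_add, add_comm]

theorem cycSub_comm_mem (g : G) {a b : G} (ha : a ∈ cycSub N g) (hb : b ∈ cycSub N g) :
    a * b * a⁻¹ * b⁻¹ ∈ N := by
  rw [← QuotientGroup.eq_one_iff]
  have h := cycSub_commute N g ha hb
  simp only [QuotientGroup.mk'_apply] at h
  rw [QuotientGroup.mk_mul, QuotientGroup.mk_mul, QuotientGroup.mk_mul, QuotientGroup.mk_inv,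
    QuotientGroup.mk_inv, h, mul_inv_cancel_right, mul_inv_cancel]

theorem cycSub_solvable (g : G) :
    Group.IsSolvable (↥(cycSub N g) ⧸ N.subgroupOf (cycSub N g)) := by
  apply Group.isSolvable_of_comm
  intro a b
  obtain ⟨x, rfl⟩ := QuotientGroup.mk_surjective a
  obtain ⟨y, rfl⟩ := QuotientGroup.mk_surjective b
  rw [← QuotientGroup.mk_mul, ← QuotientGroup.mk_mul, QuotientGroup.eq, Subgroup.mem_subgroupOf]
  have h := cycSub_comm_mem N g (Subgroup.inv_mem _ y.2) (Subgroup.inv_mem _ x.2)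
  simp only [inv_inv] at h
  have h2 : (((x * y)⁻¹ * (y * x) : ↥(cycSub N g)) : G)
      = (y : G)⁻¹ * (x : G)⁻¹ * (y : G) * (x : G) := by
    simp only [Subgroup.coe_mul, Subgroup.coe_inv]
    group
  rw [h2]
  exact h

theorem conj_mem_cycSub (x g : G) {h : G} (hh : h ∈ cycSub N g) :
    x * h * x⁻¹ ∈ cycSub N (x * g * x⁻¹) := by
  obtain ⟨k, hk⟩ := (mem_cycSub_iff N g h).mp hh
  rw [mem_cycSub_iff]
  refine ⟨k, ?_⟩
  rw [map_mul, map_mul, map_inv, conj_zpow, hk, map_mul, map_mul, map_inv]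

/-- Conjugation as an isomorphism `N⟨g⟩ ≃* N⟨x g x⁻¹⟩`. -/
def cycSubConj (x g : G) : cycSub N g ≃* cycSub N (x * g * x⁻¹) where
  toFun h := ⟨x * h * x⁻¹, conj_mem_cycSub N x g h.2⟩
  invFun h := ⟨x⁻¹ * h * x, by
    have h1 := conj_mem_cycSub N x⁻¹ (x * g * x⁻¹) h.2
    have h2 : x⁻¹ * (x * g * x⁻¹) * x⁻¹⁻¹ = g := by group
    rw [h2, inv_inv] at h1
    exact h1⟩
  left_inv h := by
    apply Subtype.ext
    show x⁻¹ * (x * h * x⁻¹) * x = h
    group
  right_inv h := by
    apply Subtype.ext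
    show x * (x⁻¹ * h * x) * x⁻¹ = h
    group
  map_mul' a b := by
    apply Subtype.ext
    show x * ((a : G) * (b : G)) * x⁻¹ = (x * a * x⁻¹) * (x * b * x⁻¹)
    group

theorem cycSubConj_apply (x g : G) (h : cycSub N g) :
    ((cycSubConj N x g h : cycSub N (x * g * x⁻¹)) : G) = x * h * x⁻¹ := rfl

end CycSub

section Glue

variable {G : Type u} [Group G] [Finite G] (N : Subgroup G) [hN : N.Normal] (ϑ : N → ℂ)
  (μ : G →* ℂˣ)

/-- The standing hypotheses of Gallagher's theorem. -/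
structure GallagherData (d : ℕ) : Prop where
  irr : IsIrrCharacter N ϑ
  inv : ∀ (g : G) (n : N), ϑ ⟨g * n * g⁻¹, hN.conj_mem (n : G) n.2 g⟩ = ϑ n
  deg : ϑ 1 = d
  cop : Nat.Coprime N.index d
  det : ∀ n : N, ((μ n : ℂˣ) : ℂ) = detChar ϑ n

/-- A chosen good extension to `H` (zero if there is none). -/
noncomputable def canonExt (H : Subgroup G) : H → ℂ :=
  haveI := Classical.propDecidable (∃ η : H → ℂ, IsGoodExt N ϑ μ H η)
  if h : ∃ η : H → ℂ, IsGoodExt N ϑ μ H η then Classical.choose h else 0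

variable {N ϑ μ}

theorem canonExt_spec {H : Subgroup G} (h : ∃ η : H → ℂ, IsGoodExt N ϑ μ H η) :
    IsGoodExt N ϑ μ H (canonExt N ϑ μ H) := by
  unfold canonExt
  simp only [dif_pos h]
  exact Classical.choose_spec h

variable (N ϑ μ)

/-- The glued function `g ↦ (canonical extension to N⟨g⟩)(g)`. -/
noncomputable def gluedExt (g : G) : ℂ :=
  canonExt N ϑ μ (cycSub N g) ⟨g, self_mem_cycSub N g⟩

variable {N ϑ μ} {d : ℕ}

theorem GallagherData.exists_cyc (D : GallagherData N ϑ μ d) (g : G) :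
    ∃ η : cycSub N g → ℂ, IsGoodExt N ϑ μ (cycSub N g) η :=
  goodExt_exists D.irr D.inv d D.deg D.cop D.det (le_cycSub N g) (cycSub_solvable N g)

/-- The glued function agrees with every good extension. -/
theorem gluedExt_eq (D : GallagherData N ϑ μ d) {H : Subgroup G} (hNH : N ≤ H) {η : H → ℂ}
    (hη : IsGoodExt N ϑ μ H η) {g : G} (hg : g ∈ H) : gluedExt N ϑ μ g = η ⟨g, hg⟩ := by
  have hle := cycSub_le N hNH hg
  have h1 := goodExt_restrict D.irr (le_cycSub N g) hle hη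
  have h2 : IsGoodExt N ϑ μ (cycSub N g) (canonExt N ϑ μ (cycSub N g)) := canonExt_spec ⟨_, h1⟩
  have h3 := goodExt_unique D.irr d D.deg D.cop (le_cycSub N g) h2 h1
  unfold gluedExt
  rw [h3]

theorem gluedExt_restrict (D : GallagherData N ϑ μ d) (n : N) : gluedExt N ϑ μ n = ϑ n := by
  have hgood : IsGoodExt N ϑ μ N ϑ := by
    refine ⟨D.irr, fun n => rfl, ?_⟩
    ext n
    rw [detHom_apply (isCharacter_of_irr D.irr)]
    exact (D.det n).symm
  exact gluedExt_eq D le_rfl hgood n.2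

theorem gluedExt_conj (D : GallagherData N ϑ μ d) (x g : G) :
    gluedExt N ϑ μ (x * g * x⁻¹) = gluedExt N ϑ μ g := by
  have h' := canonExt_spec (D.exists_cyc (x * g * x⁻¹))
  have h1 := goodExt_conj D.inv x (cycSubConj N x g) (cycSubConj_apply N x g) h'
  rw [gluedExt_eq D (le_cycSub N g) h1 (self_mem_cycSub N g)]
  rfl

theorem gluedExt_isClassFunction (D : GallagherData N ϑ μ d) :
    IsClassFunction G (gluedExt N ϑ μ) := fun g h => gluedExt_conj D h g

/-- `(N ⊔ E) / N` is solvable for an elementary subgroup `E`. -/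
theorem isSolvable_sup_elementary (q : ℕ) (hq : q.Prime) (E : Subgroup G)
    (hE : IsElementary q E) :
    Group.IsSolvable (↥(N ⊔ E) ⧸ N.subgroupOf (N ⊔ E)) := by
  haveI : Group.IsNilpotent E := Cfsg.Agent.Lib.Helper2.Elementary.isNilpotent hq hE
  have hEH : E ≤ N ⊔ E := le_sup_right
  let f : E →* ↥(N ⊔ E) ⧸ N.subgroupOf (N ⊔ E) :=
    (QuotientGroup.mk' _).comp (Subgroup.inclusion hEH)
  have hsurj : Function.Surjective f := by
    intro y
    obtain ⟨h, rfl⟩ := QuotientGroup.mk_surjective y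
    have hmem : (h : G) ∈ ((N ⊔ E : Subgroup G) : Set G) := h.2
    rw [Subgroup.normal_mul] at hmem
    obtain ⟨n, hn, e, he, hne⟩ := Set.mem_mul.mp hmem
    refine ⟨⟨e, he⟩, ?_⟩
    show ((Subgroup.inclusion hEH ⟨e, he⟩ : ↥(N ⊔ E)) : ↥(N ⊔ E) ⧸ N.subgroupOf (N ⊔ E)) = (h : _)
    rw [QuotientGroup.eq, Subgroup.mem_subgroupOf]
    have h2 : (((Subgroup.inclusion hEH ⟨e, he⟩)⁻¹ * h : ↥(N ⊔ E)) : G) = e⁻¹ * (n * e) := by
      rw [hne]; rfl
    rw [h2]
    have h3 : e⁻¹ * (n * e) = e⁻¹ * n * e⁻¹⁻¹ := by group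
    rw [h3]
    exact hN.conj_mem n hn e⁻¹
  exact Group.isSolvable_of_surjective hsurj

theorem gluedExt_elementary (D : GallagherData N ϑ μ d) (q : ℕ) (hq : q.Prime) (E : Subgroup G)
    (hE : IsElementary q E) : IsCharacter E (fun e : E => gluedExt N ϑ μ e) := by
  have hNH : N ≤ N ⊔ E := le_sup_left
  have hEH : E ≤ N ⊔ E := le_sup_right
  obtain ⟨η, hη⟩ := goodExt_exists D.irr D.inv d D.deg D.cop D.det hNH
    (isSolvable_sup_elementary q hq E hE)
  have h1 : (fun e : E => gluedExt N ϑ μ e) = fun e : E => η (Subgroup.inclusion hEH e) := by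
    funext e
    exact gluedExt_eq D hNH hη (hEH e.2)
  rw [h1]
  exact isCharacter_comp_hom (Subgroup.inclusion hEH) (isCharacter_of_irr hη.1)

end Glue

section Norm

variable {G : Type u} [Group G] [Fintype G] (N : Subgroup G) [hN : N.Normal]

omit hN in
/-- A sum over a left coset as an indicator sum. -/
theorem sum_coset_eq_sum_ite [Fintype N] [DecidablePred (· ∈ N)] (f : G → ℂ) (k : G) :
    ∑ n : N, f (k * n) = ∑ x : G, if k⁻¹ * x ∈ N then f x else 0 := by
  classical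
  rw [← Finset.sum_filter]
  symm
  apply Finset.sum_bij (fun (x : G) (hx : x ∈ Finset.univ.filter (fun x => k⁻¹ * x ∈ N)) =>
    (⟨k⁻¹ * x, (Finset.mem_filter.mp hx).2⟩ : N))
  · intro x _; exact Finset.mem_univ _
  · intro x _ y _ hxy
    have := congrArg Subtype.val hxy
    simpa using this
  · intro n _
    refine ⟨k * n, ?_, ?_⟩
    · rw [Finset.mem_filter]
      refine ⟨Finset.mem_univ _, ?_⟩
      rw [inv_mul_cancel_left]; exact n.2
    · apply Subtype.ext
      simp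
  · intro x _
    simp

/-- Decomposition of a sum over the group into sums over cosets. -/
theorem sum_eq_sum_cosets [Fintype N] [Fintype (G ⧸ N)] (f : G → ℂ) :
    ∑ g : G, f g = ∑ q : G ⧸ N, ∑ n : N, f (q.out * n) := by
  classical
  have h1 : ∀ q : G ⧸ N, ∑ n : N, f (q.out * n)
      = ∑ x : G, if q = (x : G ⧸ N) then f x else 0 := by
    intro q
    rw [sum_coset_eq_sum_ite N f q.out]
    apply Finset.sum_congr rfl
    intro x _
    have h2 : q.out⁻¹ * x ∈ N ↔ q = (x : G ⧸ N) := by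
      rw [← QuotientGroup.eq, QuotientGroup.out_eq']
    simp only [h2]
  rw [Finset.sum_congr rfl (fun q _ => h1 q), Finset.sum_comm]
  apply Finset.sum_congr rfl
  intro x _
  rw [Finset.sum_ite_eq' Finset.univ (x : G ⧸ N), if_pos (Finset.mem_univ _)]

variable {N} {ϑ : N → ℂ} {μ : G →* ℂˣ} {d : ℕ}

theorem gluedExt_norm (D : GallagherData N ϑ μ d) :
    classInner (gluedExt N ϑ μ) (gluedExt N ϑ μ) = 1 := by
  classical
  haveI : Fintype N := Fintype.ofFinite N
  haveI : Fintype (G ⧸ N) := Fintype.ofFinite _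
  rw [classInner_def, sum_eq_sum_cosets N]
  have hq : ∀ q : G ⧸ N, ∑ n : N, gluedExt N ϑ μ (q.out * n) * conj (gluedExt N ϑ μ (q.out * n))
      = (Nat.card N : ℂ) := by
    intro q
    set g₀ := q.out with hg₀
    set K := cycSub N g₀ with hK
    have hNK : N ≤ K := le_cycSub N g₀
    have hgood := canonExt_spec (D.exists_cyc g₀)
    set η := canonExt N ϑ μ K with hη
    haveI : Fintype (N.subgroupOf K) := Fintype.ofFinite _
    have hab : ∀ x y : K, x * y * x⁻¹ * y⁻¹ ∈ N.subgroupOf K := by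
      intro x y
      rw [Subgroup.mem_subgroupOf]
      exact cycSub_comm_mem N g₀ x.2 y.2
    have hηN : IsIrrCharacter (N.subgroupOf K) (fun n : N.subgroupOf K => η n) := by
      have : (fun n : N.subgroupOf K => η n) = subFn N K ϑ := funext hgood.2.1
      rw [this]
      exact isIrrCharacter_subFn hNK D.irr
    have hsum := sum_coset_normSq (N.subgroupOf K) hab hgood.1 hηN ⟨g₀, self_mem_cycSub N g₀⟩
    have hcard : Nat.card (N.subgroupOf K) = Nat.card N :=
      Nat.card_congr (Subgroup.subgroupOfEquivOfLe hNK).toEquiv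
    rw [hcard] at hsum
    rw [← hsum]
    symm
    apply Fintype.sum_equiv (Subgroup.subgroupOfEquivOfLe hNK).toEquiv
    intro n
    have h1 : gluedExt N ϑ μ (g₀ * ((Subgroup.subgroupOfEquivOfLe hNK) n : N))
        = η (⟨g₀, self_mem_cycSub N g₀⟩ * (n : K)) :=
      gluedExt_eq D hNK hgood (K.mul_mem (self_mem_cycSub N g₀) (n : K).2)
    show η (⟨g₀, self_mem_cycSub N g₀⟩ * (n : K)) * conj (η (⟨g₀, self_mem_cycSub N g₀⟩ * (n : K)))
      = gluedExt N ϑ μ (g₀ * ((Subgroup.subgroupOfEquivOfLe hNK) n : N))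
        * conj (gluedExt N ϑ μ (g₀ * ((Subgroup.subgroupOfEquivOfLe hNK) n : N)))
    rw [h1]
  rw [Finset.sum_congr rfl (fun q _ => hq q), Finset.sum_const, Finset.card_univ, nsmul_eq_mul]
  have h2 : Fintype.card (G ⧸ N) * Nat.card N = Nat.card G := by
    rw [← Nat.card_eq_fintype_card]
    have := Subgroup.card_eq_card_quotient_mul_card_subgroup N
    rw [this]
  have hGne : (Nat.card G : ℂ) ≠ 0 := by
    have : 0 < Nat.card G := Nat.card_pos
    exact_mod_cast this.ne'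
  have h3 : ((Fintype.card (G ⧸ N) : ℕ) : ℂ) * (Nat.card N : ℂ) = (Nat.card G : ℂ) := by
    exact_mod_cast h2
  rw [h3]
  exact inv_mul_cancel₀ hGne

/-- **Gallagher's extension theorem** (Isaacs 8.15), homomorphism form. -/
theorem exists_ext_of_det (D : GallagherData N ϑ μ d) :
    ∃ χ : G → ℂ, IsIrrCharacter G χ ∧ ∀ n : N, χ n = ϑ n := by
  have hcf := gluedExt_isClassFunction D
  have hgc : IsGeneralizedCharacter G (gluedExt N ϑ μ) := by
    apply isGeneralizedCharacter_of_elementary hcf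
    intro q hq E hE
    exact gc_of_char (gluedExt_elementary D q hq E hE)
  have hsigned := IsGeneralizedCharacter.isSignedIrr_of_norm_one hgc (gluedExt_norm D)
  have hd0 : (d : ℂ) ≠ 0 := by
    rw [← D.deg]; exact irr_one_ne_zero D.irr
  have h1 : gluedExt N ϑ μ 1 = d := by
    have := gluedExt_restrict D 1
    simp only [OneMemClass.coe_one] at this
    rw [this, D.deg]
  rcases hsigned with h | h
  · exact ⟨gluedExt N ϑ μ, h, gluedExt_restrict D⟩
  · exfalso
    have h2 := char_one_eq_charDegree (isCharacter_of_irr h)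
    rw [Pi.neg_apply, h1] at h2
    have h3 : ((d + charDegree (-gluedExt N ϑ μ) : ℕ) : ℂ) = 0 := by
      push_cast
      linear_combination -h2
    have h4 : d + charDegree (-gluedExt N ϑ μ) = 0 := by exact_mod_cast h3
    have h5 : d = 0 := by omega
    apply hd0
    rw [h5]; simp

end Norm

end Cfsg.Agent.Lib.Helper25
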