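import Mathlib
import Cfsg.Agent.Lib.Helper15.SO8a
import Cfsg.Agent.Lib.Helper15.SO8g
import Cfsg.Agent.Lib.Helper15.SO9a
import Cfsg.Agent.Lib.Helper15.SO9c

/-!
# S3590 FO-A (for helper15): orthogonal sums of affine realisations
-/

set_option autoImplicit false
set_option linter.unusedSectionVars false

namespace Cfsg.Agent.Lib.Helper25.S3590

open Module QuadraticMap Cfsg.Agent.Lib.Helper15 Cfsg.Agent.Lib.Helper15.SO8 Cfsg.Agent.Lib.Helper15.SO9

variable {F : Type*} [Field F] [Fintype F]
variable {V W : Type*} [AddCommGroup V] [Module F V] [AddCommGroup W] [Module F W]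

/-- the product submodule is the product of the submodules -/
def prodSubEquiv (p : Submodule F V) (q : Submodule F W) : ↥(p.prod q) ≃ₗ[F] (↥p × ↥q) where
  toFun x := (⟨x.1.1, x.2.1⟩, ⟨x.1.2, x.2.2⟩)
  invFun y := ⟨(y.1.1, y.2.1), ⟨y.1.2, y.2.2⟩⟩
  map_add' _ _ := rfl
  map_smul' _ _ := rfl
  left_inv _ := rfl
  right_inv _ := rfl

theorem finrank_prod_sub [Module.Finite F V] [Module.Finite F W] (p : Submodule F V) (q : Submodule F W) :
    finrank F ↥(p.prod q) = finrank F ↥p + finrank F ↥q := by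
  rw [LinearEquiv.finrank_eq (prodSubEquiv p q), Module.finrank_prod]

/-- `rank (g ⊕ h - 1) = rank (g - 1) + rank (h - 1)` -/
theorem rk_prodCongr [Module.Finite F V] [Module.Finite F W] (g : V ≃ₗ[F] V) (h : W ≃ₗ[F] W) :
    rk (g.prodCongr h) = rk g + rk h := by
  unfold rk
  have h1 : (g.prodCongr h).toLinearMap - LinearMap.id =
      (g.toLinearMap - LinearMap.id).prodMap (h.toLinearMap - LinearMap.id) := by
    ext x <;> simp
  rw [h1, LinearMap.range_prodMap, finrank_prod_sub]

theorem prodCongr_pow (g : V ≃ₗ[F] V) (h : W ≃ₗ[F] W) (m : ℕ) :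
    (g.prodCongr h) ^ m = (g ^ m).prodCongr (h ^ m) := by
  have h1 : g.prodCongr h = prodCongrHom (g, h) := rfl
  have h2 : (g ^ m).prodCongr (h ^ m) = prodCongrHom ((g, h) ^ m) := rfl
  rw [h1, h2, map_pow]

theorem prodCongr_pow_eq_one (g : V ≃ₗ[F] V) (h : W ≃ₗ[F] W) (m : ℕ)
    (hm : (g.prodCongr h) ^ m = 1) : g ^ m = 1 ∧ h ^ m = 1 := by
  have h1 : g.prodCongr h = prodCongrHom (g, h) := rfl
  rw [h1, ← map_pow] at hm
  have h2 : (g, h) ^ m = 1 := prodCongrHom_injective (by rw [hm, map_one])
  exact ⟨congrArg Prod.fst h2, congrArg Prod.snd h2⟩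

/-- the sign of an orthogonal sum (char 2) -/
theorem sign_prod [CharP F 2] [Finite V] [Finite W] (Q : QuadraticForm F V) (R : QuadraticForm F W)
    {s t : Bool}
    (hs : if s then Nat.card V < Fintype.card F * nz F Q else Fintype.card F * nz F Q < Nat.card V)
    (ht : if t then Nat.card W < Fintype.card F * nz F R else Fintype.card F * nz F R < Nat.card W) :
    if (s == t) then Nat.card (V × W) < Fintype.card F * nz F (Q.prod R)
      else Fintype.card F * nz F (Q.prod R) < Nat.card (V × W) := by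
  have key := Cfsg.Agent.Lib.Helper29.S3589.card_zero_prod Q R
  change _ * (_ * (nz F (Q.prod R) : ℤ) - _) = (_ * (nz F Q : ℤ) - _) * (_ * (nz F R : ℤ) - _) at key
  have hq : (2 : ℤ) ≤ (Fintype.card F : ℤ) := by exact_mod_cast Fintype.one_lt_card
  have hcard : (Nat.card (V × W) : ℤ) = (Nat.card V : ℤ) * (Nat.card W : ℤ) := by
    rw [Nat.card_prod]; push_cast; rfl
  have hq1 : (0 : ℤ) < (Fintype.card F : ℤ) - 1 := by linarith
  rcases s with _ | _ <;> rcases t with _ | _ <;> simp only [Bool.false_eq_true, if_false, if_true] at hs ht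
  · show (if (false == false) = true then _ else _)
    simp only [beq_self_eq_true, if_true]
    have h1 : ((Fintype.card F : ℤ) * (nz F Q : ℤ) - (Nat.card V : ℤ)) < 0 := by
      have : ((Fintype.card F * nz F Q : ℕ) : ℤ) < (Nat.card V : ℤ) := by exact_mod_cast hs
      push_cast at this; linarith
    have h2 : ((Fintype.card F : ℤ) * (nz F R : ℤ) - (Nat.card W : ℤ)) < 0 := by
      have : ((Fintype.card F * nz F R : ℕ) : ℤ) < (Nat.card W : ℤ) := by exact_mod_cast ht
      push_cast at this; linarith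
    have h3 : 0 < ((Fintype.card F : ℤ) - 1) * ((Fintype.card F : ℤ) * (nz F (Q.prod R) : ℤ) - (Nat.card V : ℤ) * (Nat.card W : ℤ)) := by
      rw [key]; exact mul_pos_of_neg_of_neg h1 h2
    have h4 : 0 < (Fintype.card F : ℤ) * (nz F (Q.prod R) : ℤ) - (Nat.card V : ℤ) * (Nat.card W : ℤ) := by
      exact (mul_pos_iff_of_pos_left hq1).mp h3
    have : (Nat.card (V × W) : ℤ) < ((Fintype.card F * nz F (Q.prod R) : ℕ) : ℤ) := by
      push_cast; rw [hcard]; linarith
    exact_mod_cast this
  · show (if (false == true) = true then _ else _)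
    simp only [Bool.false_eq_true, if_false, show (false == true) = false from rfl]
    have h1 : ((Fintype.card F : ℤ) * (nz F Q : ℤ) - (Nat.card V : ℤ)) < 0 := by
      have : ((Fintype.card F * nz F Q : ℕ) : ℤ) < (Nat.card V : ℤ) := by exact_mod_cast hs
      push_cast at this; linarith
    have h2 : 0 < ((Fintype.card F : ℤ) * (nz F R : ℤ) - (Nat.card W : ℤ)) := by
      have : (Nat.card W : ℤ) < ((Fintype.card F * nz F R : ℕ) : ℤ) := by exact_mod_cast ht
      push_cast at this; linarith
    have h3 : ((Fintype.card F : ℤ) - 1) * ((Fintype.card F : ℤ) * (nz F (Q.prod R) : ℤ) - (Nat.card V : ℤ) * (Nat.card W : ℤ)) < 0 := by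
      rw [key]; exact mul_neg_of_neg_of_pos h1 h2
    have h4 : (Fintype.card F : ℤ) * (nz F (Q.prod R) : ℤ) - (Nat.card V : ℤ) * (Nat.card W : ℤ) < 0 := by
      by_contra hcon
      push Not at hcon
      have := mul_nonneg hq1.le hcon
      linarith
    have : ((Fintype.card F * nz F (Q.prod R) : ℕ) : ℤ) < (Nat.card (V × W) : ℤ) := by
      push_cast; rw [hcard]; linarith
    exact_mod_cast this
  · show (if (true == false) = true then _ else _)
    simp only [Bool.false_eq_true, if_false, show (true == false) = false from rfl]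
    have h1 : 0 < ((Fintype.card F : ℤ) * (nz F Q : ℤ) - (Nat.card V : ℤ)) := by
      have : (Nat.card V : ℤ) < ((Fintype.card F * nz F Q : ℕ) : ℤ) := by exact_mod_cast hs
      push_cast at this; linarith
    have h2 : ((Fintype.card F : ℤ) * (nz F R : ℤ) - (Nat.card W : ℤ)) < 0 := by
      have : ((Fintype.card F * nz F R : ℕ) : ℤ) < (Nat.card W : ℤ) := by exact_mod_cast ht
      push_cast at this; linarith
    have h3 : ((Fintype.card F : ℤ) - 1) * ((Fintype.card F : ℤ) * (nz F (Q.prod R) : ℤ) - (Nat.card V : ℤ) * (Nat.card W : ℤ)) < 0 := by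
      rw [key]; exact mul_neg_of_pos_of_neg h1 h2
    have h4 : (Fintype.card F : ℤ) * (nz F (Q.prod R) : ℤ) - (Nat.card V : ℤ) * (Nat.card W : ℤ) < 0 := by
      by_contra hcon
      push Not at hcon
      have := mul_nonneg hq1.le hcon
      linarith
    have : ((Fintype.card F * nz F (Q.prod R) : ℕ) : ℤ) < (Nat.card (V × W) : ℤ) := by
      push_cast; rw [hcard]; linarith
    exact_mod_cast this
  · show (if (true == true) = true then _ else _)
    simp only [beq_self_eq_true, if_true]
    have h1 : 0 < ((Fintype.card F : ℤ) * (nz F Q : ℤ) - (Nat.card V : ℤ)) := by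
      have : (Nat.card V : ℤ) < ((Fintype.card F * nz F Q : ℕ) : ℤ) := by exact_mod_cast hs
      push_cast at this; linarith
    have h2 : 0 < ((Fintype.card F : ℤ) * (nz F R : ℤ) - (Nat.card W : ℤ)) := by
      have : (Nat.card W : ℤ) < ((Fintype.card F * nz F R : ℕ) : ℤ) := by exact_mod_cast ht
      push_cast at this; linarith
    have h3 : 0 < ((Fintype.card F : ℤ) - 1) * ((Fintype.card F : ℤ) * (nz F (Q.prod R) : ℤ) - (Nat.card V : ℤ) * (Nat.card W : ℤ)) := by
      rw [key]; exact mul_pos h1 h2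
    have h4 : 0 < (Fintype.card F : ℤ) * (nz F (Q.prod R) : ℤ) - (Nat.card V : ℤ) * (Nat.card W : ℤ) := by
      exact (mul_pos_iff_of_pos_left hq1).mp h3
    have : (Nat.card (V × W) : ℤ) < ((Fintype.card F * nz F (Q.prod R) : ℕ) : ℤ) := by
      push_cast; rw [hcard]; linarith
    exact_mod_cast this

/-- FO-A: orthogonal sums of affine realisations. -/
theorem RealAff.sum [CharP F 2] [Finite V] [Finite W] {s t e f : Bool} {N M : ℕ}
    (h1 : RealAff F V s e N) (h2 : RealAff F W t f M) :
    RealAff F (V × W) (s == t) (e == f) (Nat.lcm N M) := by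
  obtain ⟨Q, g, v, hQ, hg, he, hN, hs⟩ := h1
  obtain ⟨R, h, w, hR, hh, hf, hM, ht⟩ := h2
  haveI : Module.Finite F V := Module.Finite.of_finite
  haveI : Module.Finite F W := Module.Finite.of_finite
  refine ⟨Q.prod R, g.prodCongr h, (v, w), nondegenerate_prod Q R hQ hR, ?_, ?_, ?_, sign_prod Q R hs ht⟩
  · intro x
    rw [QuadraticMap.prod_apply, QuadraticMap.prod_apply]
    show Q (g x.1) + R (h x.2) = _
    rw [hg, hh]
  · rw [rk_prodCongr, Nat.even_add, he, hf]
    cases e <;> cases f <;> simp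
  · intro m hm hsum
    obtain ⟨hgm, hhm⟩ := prodCongr_pow_eq_one g h m hm
    have hterm : ∀ i : ℕ, ((g.prodCongr h) ^ i) (v, w) = ((g ^ i) v, (h ^ i) w) := by
      intro i
      rw [prodCongr_pow]
      rfl
    have hsum' : (∑ i ∈ Finset.range m, ((g ^ i) v, (h ^ i) w)) = (0 : V × W) := by
      rw [← hsum]
      exact Finset.sum_congr rfl (fun i _ => (hterm i).symm)
    have hfst : (∑ i ∈ Finset.range m, (g ^ i) v) = 0 := by
      have := congrArg Prod.fst hsum'
      rwa [Prod.fst_sum] at this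
    have hsnd : (∑ i ∈ Finset.range m, (h ^ i) w) = 0 := by
      have := congrArg Prod.snd hsum'
      rwa [Prod.snd_sum] at this
    exact Nat.lcm_dvd (hN m hgm hfst) (hM m hhm hsnd)

end Cfsg.Agent.Lib.Helper25.S3590
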