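import Mathlib
import Cfsg.Agent.Lib.Helper16.S1237Defs

/-!
# S1237 FO-A (helper25): `fpf`, `cube_inv`, `inv_mem`
-/

set_option autoImplicit false

namespace Cfsg.Agent.Lib.Helper25.S1237

open Subgroup Cfsg.Agent.Lib.Helper16.S1237

universe u

variable {T : Type u} [Group T] [Finite T] {ρ : MulAut T}

/-- a non-identity element of a `2`-group has a power that is an involution -/
theorem exists_invol_pow (hT : IsPGroup 2 T) (x : T) (hx : x ≠ 1) :
    ∃ j : ℕ, x ^ (2 ^ j) ≠ 1 ∧ x ^ (2 ^ j) * x ^ (2 ^ j) = 1 := by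
  classical
  have hex : ∃ k : ℕ, x ^ (2 ^ k) = 1 := hT x
  have hmin : ∀ {m : ℕ}, m < Nat.find hex → ¬ x ^ (2 ^ m) = 1 := fun {m} hm => Nat.find_min hex hm
  have hspec := Nat.find_spec hex
  have hpos : Nat.find hex ≠ 0 := by
    intro h0
    rw [h0] at hspec
    simp at hspec
    exact hx hspec
  obtain ⟨j, hj⟩ := Nat.exists_eq_succ_of_ne_zero hpos
  refine ⟨j, ?_, ?_⟩
  · intro h
    exact hmin (m := j) (by omega) h
  · rw [← pow_add, ← two_mul, ← pow_succ', ← Nat.succ_eq_add_one, ← hj]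
    exact hspec

/-- **FO-A1**. -/
theorem fpf (H : Hyp ρ) : ∀ x : T, ρ x = x → x = 1 := by
  intro x hx
  by_contra hne
  obtain ⟨j, hj1, hj2⟩ := exists_invol_pow H.pg x hne
  apply hj1
  apply H.nofix _ hj2
  rw [map_pow, hx]

theorem ne_rho (H : Hyp ρ) (v : T) (hv : v * v = 1) (hv1 : v ≠ 1) : ρ v ≠ v :=
  fun h => hv1 (H.nofix v hv h)

theorem rho_sq (v : T) (hv : v * v = 1) : ρ v * ρ v = 1 := by
  rw [← map_mul, hv, map_one]

theorem ne_rho2 (H : Hyp ρ) (v : T) (hv : v * v = 1) (hv1 : v ≠ 1) : ρ (ρ v) ≠ v := by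
  intro h
  have hc : ∀ g : T, g * v = v * g := fun g => (mem_center_iff.mp (H.central v hv)) g
  have hy2 : (v * ρ v) * (v * ρ v) = 1 := by
    have h1 : (v * ρ v) * (v * ρ v) = v * (ρ v * v) * ρ v := by group
    rw [h1, hc (ρ v), ← mul_assoc, hv, one_mul, rho_sq v hv]
  have hyf : ρ (v * ρ v) = v * ρ v := by
    rw [map_mul, h, hc]
  have hy1 := H.nofix _ hy2 hyf
  have h3 : ρ v = v := by
    have h4 : v * ρ v = v * v := by rw [hy1, hv]
    exact mul_left_cancel h4
  exact ne_rho H v hv hv1 h3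

/-- the solutions of `x * x = 1`, as a finset, have 4 elements -/
theorem card_filter_inv [Fintype T] [DecidableEq T] (H : Hyp ρ) :
    (Finset.univ.filter (fun y : T => y * y = 1)).card = 4 := by
  rw [← Fintype.card_subtype, ← Nat.card_eq_fintype_card]
  exact H.card_inv

/-- **FO-A2**. -/
theorem cube_inv (H : Hyp ρ) : ∀ x : T, x * x = 1 → ρ (ρ (ρ x)) = x := by
  classical
  intro x hx
  by_cases hx1 : x = 1
  · rw [hx1]; simp
  by_contra hne
  haveI : Fintype T := Fintype.ofFinite T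
  have h01 : ρ x ≠ x := ne_rho H x hx hx1
  have h02 : ρ (ρ x) ≠ x := ne_rho2 H x hx hx1
  have hρ1 : ρ x ≠ 1 := fun h => hx1 (by simpa using h)
  have hρ2 : ρ (ρ x) ≠ 1 := fun h => hρ1 (by simpa using h)
  have hρ3 : ρ (ρ (ρ x)) ≠ 1 := fun h => hρ2 (by simpa using h)
  have h12 : ρ (ρ x) ≠ ρ x := fun h => h01 (ρ.injective h)
  have h13 : ρ (ρ (ρ x)) ≠ ρ x := fun h => h02 (ρ.injective h)
  have h23 : ρ (ρ (ρ x)) ≠ ρ (ρ x) := fun h => h12 (ρ.injective h)
  have hcard : ({1, x, ρ x, ρ (ρ x), ρ (ρ (ρ x))} : Finset T).card = 5 := by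
    rw [Finset.card_insert_of_notMem, Finset.card_insert_of_notMem, Finset.card_insert_of_notMem,
      Finset.card_insert_of_notMem, Finset.card_singleton]
    · simp only [Finset.mem_singleton]; exact fun h => h23 h.symm
    · simp only [Finset.mem_insert, Finset.mem_singleton, not_or]
      exact ⟨fun h => h12 h.symm, fun h => h13 h.symm⟩
    · simp only [Finset.mem_insert, Finset.mem_singleton, not_or]
      exact ⟨fun h => h01 h.symm, fun h => h02 h.symm, fun h => hne h.symm⟩
    · simp only [Finset.mem_insert, Finset.mem_singleton, not_or]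
      exact ⟨fun h => hx1 h.symm, fun h => hρ1 h.symm, fun h => hρ2 h.symm, fun h => hρ3 h.symm⟩
  have hsub : ({1, x, ρ x, ρ (ρ x), ρ (ρ (ρ x))} : Finset T) ⊆
      Finset.univ.filter (fun y : T => y * y = 1) := by
    intro y hy
    simp only [Finset.mem_insert, Finset.mem_singleton] at hy
    simp only [Finset.mem_filter, Finset.mem_univ, true_and]
    rcases hy with rfl | rfl | rfl | rfl | rfl
    · simp
    · exact hx
    · exact rho_sq _ hx
    · exact rho_sq _ (rho_sq _ hx)
    · exact rho_sq _ (rho_sq _ (rho_sq _ hx))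
  have := Finset.card_le_card hsub
  rw [hcard, card_filter_inv H] at this
  omega

/-- **FO-A3**. -/
theorem inv_mem (H : Hyp ρ) (S : Subgroup T) (hS : Inv ρ S) (hne : S ≠ ⊥) :
    ∀ x : T, x * x = 1 → x ∈ S := by
  classical
  haveI : Fintype T := Fintype.ofFinite T
  obtain ⟨s, hsS, hs1⟩ : ∃ s : T, s ∈ S ∧ s ≠ 1 := by
    obtain ⟨s, hs⟩ := (Subgroup.ne_bot_iff_exists_ne_one).mp hne
    exact ⟨s.1, s.2, fun h => hs (Subtype.ext h)⟩
  obtain ⟨j, hj1, hj2⟩ := exists_invol_pow H.pg s hs1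
  set v := s ^ (2 ^ j) with hvdef
  have hvS : v ∈ S := pow_mem hsS _
  have h01 : ρ v ≠ v := ne_rho H v hj2 hj1
  have h02 : ρ (ρ v) ≠ v := ne_rho2 H v hj2 hj1
  have hρ1 : ρ v ≠ 1 := fun h => hj1 (by simpa using h)
  have hρ2 : ρ (ρ v) ≠ 1 := fun h => hρ1 (by simpa using h)
  have h12 : ρ (ρ v) ≠ ρ v := fun h => h01 (ρ.injective h)
  have hcard : ({1, v, ρ v, ρ (ρ v)} : Finset T).card = 4 := by
    rw [Finset.card_insert_of_notMem, Finset.card_insert_of_notMem, Finset.card_insert_of_notMem,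
      Finset.card_singleton]
    · simp only [Finset.mem_singleton]; exact fun h => h12 h.symm
    · simp only [Finset.mem_insert, Finset.mem_singleton, not_or]
      exact ⟨fun h => h01 h.symm, fun h => h02 h.symm⟩
    · simp only [Finset.mem_insert, Finset.mem_singleton, not_or]
      exact ⟨fun h => hj1 h.symm, fun h => hρ1 h.symm, fun h => hρ2 h.symm⟩
  have hsub : ({1, v, ρ v, ρ (ρ v)} : Finset T) ⊆
      Finset.univ.filter (fun y : T => y * y = 1) := by
    intro y hy
    simp only [Finset.mem_insert, Finset.mem_singleton] at hy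
    simp only [Finset.mem_filter, Finset.mem_univ, true_and]
    rcases hy with rfl | rfl | rfl | rfl
    · simp
    · exact hj2
    · exact rho_sq _ hj2
    · exact rho_sq _ (rho_sq _ hj2)
  have heq := Finset.eq_of_subset_of_card_le hsub (by rw [hcard, card_filter_inv H])
  intro x hx
  have hxm : x ∈ Finset.univ.filter (fun y : T => y * y = 1) := by
    simp only [Finset.mem_filter, Finset.mem_univ, true_and]; exact hx
  rw [← heq] at hxm
  simp only [Finset.mem_insert, Finset.mem_singleton] at hxm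
  rcases hxm with rfl | rfl | rfl | rfl
  · exact one_mem _
  · exact hvS
  · exact hS _ hvS
  · exact hS _ (hS _ hvS)

end Cfsg.Agent.Lib.Helper25.S1237
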