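import Mathlib
import Cfsg.Agent.Lib.Helper16.S1237Defs
import Cfsg.Agent.Lib.Helper25.S1237FOA

/-!
# S1237 FO-B (helper25): `Hyp` passes to the restriction to an invariant subgroup
-/

set_option autoImplicit false

namespace Cfsg.Agent.Lib.Helper25.S1237

open Subgroup Cfsg.Agent.Lib.Helper16.S1237

universe u

variable {T : Type u} [Group T] [Finite T] {ρ : MulAut T}

/-- **FO-B**. -/
theorem hyp_res (H : Hyp ρ) (S : Subgroup T) (hS : Inv ρ S) (hne : S ≠ ⊥) : Hyp (res ρ S hS) := by
  refine ⟨H.pg.to_subgroup S, ?_, ?_, ?_, ?_⟩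
  · obtain ⟨k, hk⟩ := H.pow3
    refine ⟨k, ?_⟩
    apply MulEquiv.ext
    intro s
    apply Subtype.ext
    rw [res_pow_apply, hk]
    rfl
  · rw [← H.card_inv]
    apply Nat.card_congr
    refine ⟨fun y => ⟨y.1.1, ?_⟩, fun x => ⟨⟨x.1, inv_mem H S hS hne x.1 x.2⟩, Subtype.ext x.2⟩,
      ?_, ?_⟩
    · have := congrArg Subtype.val y.2
      simpa using this
    · intro y; rfl
    · intro x; rfl
  · intro x hx
    rw [mem_center_iff]
    intro g
    apply Subtype.ext
    have hx' : x.1 * x.1 = 1 := by
      have := congrArg Subtype.val hx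
      simpa using this
    exact (mem_center_iff.mp (H.central x.1 hx')) g.1
  · intro x hx hfix
    apply Subtype.ext
    have hx' : x.1 * x.1 = 1 := by
      have := congrArg Subtype.val hx
      simpa using this
    have hf : ρ x.1 = x.1 := congrArg Subtype.val hfix
    exact H.nofix x.1 hx' hf

end Cfsg.Agent.Lib.Helper25.S1237
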