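import Mathlib
import Cfsg.Prelude.Def_GeometricClasses
import Cfsg.Agent.Lib.Helper13.TransvSL

/-!
# MonMax FO-T1 (helper25): a transvection with a coordinate centre and the monomial group
generate `SL_n`

`K ≤ GL_n(F)` contains every monomial matrix of determinant `1` and one transvection
`1 + e_i φᵀ` (`φ ≠ 0`, `φ i = 0`).  Then `SL_n(F) ≤ K`.
-/

set_option autoImplicit false

namespace Cfsg.Agent.Lib.Helper25.MonMax

open Matrix Cfsg.Agent.Lib.Helper13

variable {n : ℕ} {F : Type*} [Field F]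

/-- the (unfolded) hypothesis "every monomial matrix of determinant one lies in `K`" -/
def MonoIn (K : Subgroup (GL (Fin n) F)) : Prop :=
  ∀ g : GL (Fin n) F,
    (∃ π : Equiv.Perm (Fin n), ∀ i j, (g : Matrix (Fin n) (Fin n) F) i j ≠ 0 → i = π j) →
    g ∈ Cfsg.Geo.specialLinear (Fin n) F → g ∈ K

/-- `ψ` is a functional with `1 + e_i ψᵀ ∈ K` -/
def RowIn (K : Subgroup (GL (Fin n) F)) (i : Fin n) (ψ : Fin n → F) : Prop :=
  ψ i = 0 ∧ ∀ g : GL (Fin n) F, (g : Matrix (Fin n) (Fin n) F) = tv (Pi.single i 1) ψ → g ∈ K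

theorem dot_single_one (ψ : Fin n → F) (i : Fin n) : ψ ⬝ᵥ (Pi.single i (1 : F)) = ψ i := by
  rw [dotProduct_single, mul_one]

theorem tv_mul_tv (a ψ ψ' : Fin n → F) (h : ψ ⬝ᵥ a = 0) :
    tv a ψ * tv a ψ' = tv a (ψ + ψ') := by
  rw [tv, tv, tv, mul_add, add_mul, add_mul, one_mul, one_mul, mul_one, vecMulVec_mul_vecMulVec, h,
    zero_smul]
  have h0 : vecMulVec a (0 : Fin n → F) = 0 := by
    ext r s; simp [vecMulVec_apply]
  have h1 : vecMulVec a (ψ + ψ') = vecMulVec a ψ + vecMulVec a ψ' := by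
    ext r s; simp [vecMulVec_apply, mul_add]
  rw [h0, h1, add_zero]
  abel

theorem tv_zero (a : Fin n → F) : tv a (0 : Fin n → F) = 1 := by
  rw [tv]
  have h0 : vecMulVec a (0 : Fin n → F) = 0 := by
    ext r s; simp [vecMulVec_apply]
  rw [h0, add_zero]

variable {K : Subgroup (GL (Fin n) F)} {i : Fin n}

theorem RowIn.zero : RowIn K i (0 : Fin n → F) := by
  refine ⟨rfl, fun g hg => ?_⟩
  rw [tv_zero] at hg
  have : g = 1 := Units.ext hg
  rw [this]; exact K.one_mem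

theorem RowIn.add {ψ ψ' : Fin n → F} (h : RowIn K i ψ) (h' : RowIn K i ψ') :
    RowIn K i (ψ + ψ') := by
  refine ⟨by rw [Pi.add_apply, h.1, h'.1, add_zero], fun g hg => ?_⟩
  have e1 : ψ ⬝ᵥ (Pi.single i (1 : F)) = 0 := by rw [dot_single_one]; exact h.1
  have e2 : ψ' ⬝ᵥ (Pi.single i (1 : F)) = 0 := by rw [dot_single_one]; exact h'.1
  obtain ⟨g1, hg1, -⟩ := exists_tvGL (Pi.single i (1 : F)) ψ e1
  obtain ⟨g2, hg2, -⟩ := exists_tvGL (Pi.single i (1 : F)) ψ' e2
  have : g = g1 * g2 := Units.ext (by rw [Units.val_mul, hg1, hg2, hg, tv_mul_tv _ _ _ e1])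
  rw [this]
  exact K.mul_mem (h.2 g1 hg1) (h'.2 g2 hg2)

theorem RowIn.neg {ψ : Fin n → F} (h : RowIn K i ψ) : RowIn K i (-ψ) := by
  refine ⟨by rw [Pi.neg_apply, h.1, neg_zero], fun g hg => ?_⟩
  have e1 : ψ ⬝ᵥ (Pi.single i (1 : F)) = 0 := by rw [dot_single_one]; exact h.1
  obtain ⟨g1, hg1, -⟩ := exists_tvGL (Pi.single i (1 : F)) ψ e1
  have h2 : g1 * g = 1 := Units.ext (by
    rw [Units.val_mul, hg1, hg, tv_mul_tv _ _ _ e1, add_neg_cancel, tv_zero]; rfl)
  have : g = g1⁻¹ := eq_inv_of_mul_eq_one_right h2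
  rw [this]
  exact K.inv_mem (h.2 g1 hg1)

theorem RowIn.sub {ψ ψ' : Fin n → F} (h : RowIn K i ψ) (h' : RowIn K i ψ') :
    RowIn K i (ψ - ψ') := by
  rw [sub_eq_add_neg]; exact h.add h'.neg

/-- the diagonal matrix with non-zero entries `d`, as an element of `GL` -/
noncomputable def dg (d : Fin n → F) (hd : ∀ j, d j ≠ 0) : GL (Fin n) F :=
  Matrix.GeneralLinearGroup.mk'' (Matrix.diagonal d) (by
    rw [Matrix.det_diagonal, isUnit_iff_ne_zero]
    exact Finset.prod_ne_zero_iff.mpr fun j _ => hd j)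

theorem dg_val (d : Fin n → F) (hd : ∀ j, d j ≠ 0) :
    ((dg d hd : GL (Fin n) F) : Matrix (Fin n) (Fin n) F) = Matrix.diagonal d := rfl

theorem dg_mem (hK : MonoIn K) (d : Fin n → F) (hd : ∀ j, d j ≠ 0) (hprod : ∏ j, d j = 1) :
    dg d hd ∈ K := by
  apply hK
  · refine ⟨1, fun r s hrs => ?_⟩
    rw [dg_val] at hrs
    by_contra hne
    exact hrs (Matrix.diagonal_apply_ne _ (by simpa using hne))
  · change Matrix.GeneralLinearGroup.det (dg d hd) = 1
    apply Units.ext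
    rw [Matrix.GeneralLinearGroup.val_det_apply, dg_val, Matrix.det_diagonal, hprod]
    rfl

/-- the torus acts on the functionals -/
theorem RowIn.torus (hK : MonoIn K) {ψ : Fin n → F} (h : RowIn K i ψ) (d : Fin n → F)
    (hd : ∀ j, d j ≠ 0) (hprod : ∏ j, d j = 1) :
    RowIn K i (fun j => d i * (ψ j * (d j)⁻¹)) := by
  refine ⟨by simp only [h.1, zero_mul, mul_zero], fun g hg => ?_⟩
  have e1 : ψ ⬝ᵥ (Pi.single i (1 : F)) = 0 := by rw [dot_single_one]; exact h.1
  obtain ⟨g1, hg1, -⟩ := exists_tvGL (Pi.single i (1 : F)) ψ e1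
  have hc := conj_tv (dg d hd) (Pi.single i (1 : F)) (fun j => ψ j * (d j)⁻¹)
  have e2 : (fun j => ψ j * (d j)⁻¹) ᵥ* ((dg d hd : GL (Fin n) F) : Matrix (Fin n) (Fin n) F) = ψ := by
    ext j
    rw [dg_val, Matrix.vecMul_diagonal, mul_assoc, inv_mul_cancel₀ (hd j), mul_one]
  have e3 : ((dg d hd : GL (Fin n) F) : Matrix (Fin n) (Fin n) F) *ᵥ (Pi.single i (1 : F))
      = d i • Pi.single i (1 : F) := by
    ext j
    rw [dg_val, Matrix.mulVec_diagonal, Pi.smul_apply, smul_eq_mul]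
    by_cases hj : j = i
    · subst hj; simp
    · simp [hj]
  rw [e2, e3] at hc
  have e4 : tv (d i • Pi.single i (1 : F)) (fun j => ψ j * (d j)⁻¹)
      = tv (Pi.single i (1 : F)) (fun j => d i * (ψ j * (d j)⁻¹)) := by
    rw [tv, tv]
    congr 1
    ext r s
    simp only [vecMulVec_apply, Pi.smul_apply, smul_eq_mul]
    ring
  rw [e4, ← hg1] at hc
  have : g = dg d hd * g1 * (dg d hd)⁻¹ :=
    Units.ext (by rw [Units.val_mul, Units.val_mul, hc, hg])
  rw [this]
  exact K.mul_mem (K.mul_mem (dg_mem hK d hd hprod) (h.2 g1 hg1)) (K.inv_mem (dg_mem hK d hd hprod))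

/-- the diagonal `a` at `j0`, `a⁻¹` at `j1`, `1` elsewhere -/
def dd (j0 j1 : Fin n) (a : F) : Fin n → F :=
  fun j => if j = j0 then a else if j = j1 then a⁻¹ else 1

theorem dd_ne_zero (j0 j1 : Fin n) (a : F) (ha : a ≠ 0) : ∀ j, dd j0 j1 a j ≠ 0 := by
  intro j
  unfold dd
  split_ifs
  · exact ha
  · exact inv_ne_zero ha
  · exact one_ne_zero

theorem dd_prod (j0 j1 : Fin n) (h01 : j0 ≠ j1) (a : F) (ha : a ≠ 0) : ∏ j, dd j0 j1 a j = 1 := by
  rw [Fintype.prod_eq_mul j0 j1 h01]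
  · unfold dd
    rw [if_pos rfl, if_neg (Ne.symm h01), if_pos rfl, mul_inv_cancel₀ ha]
  · intro x hx
    unfold dd
    rw [if_neg hx.1, if_neg hx.2]

theorem dd_self (j0 j1 : Fin n) (a : F) : dd j0 j1 a j0 = a := by
  unfold dd; rw [if_pos rfl]

theorem dd_snd (j0 j1 : Fin n) (h01 : j0 ≠ j1) (a : F) : dd j0 j1 a j1 = a⁻¹ := by
  unfold dd; rw [if_neg (Ne.symm h01), if_pos rfl]

theorem dd_other (j0 j1 : Fin n) (a : F) (j : Fin n) (h0 : j ≠ j0) (h1 : j ≠ j1) :
    dd j0 j1 a j = 1 := by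
  unfold dd; rw [if_neg h0, if_neg h1]

theorem exists_ne3 (hn : 4 ≤ n) (a b c : Fin n) : ∃ m : Fin n, m ≠ a ∧ m ≠ b ∧ m ≠ c := by
  classical
  by_contra hcon
  push Not at hcon
  have hsub : (Finset.univ : Finset (Fin n)) ⊆ {a, b, c} := by
    intro m _
    simp only [Finset.mem_insert, Finset.mem_singleton]
    by_cases h1 : m = a
    · exact Or.inl h1
    · by_cases h2 : m = b
      · exact Or.inr (Or.inl h2)
      · exact Or.inr (Or.inr (hcon m h1 h2))
  have h1 := Finset.card_le_card hsub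
  have h2 : ({a, b, c} : Finset (Fin n)).card ≤ 3 := Finset.card_le_three
  rw [Finset.card_univ, Fintype.card_fin] at h1
  omega

/-- isolate one coordinate -/
theorem RowIn.isolate (hK : MonoIn K) (hn : 4 ≤ n) (a : F) (ha0 : a ≠ 0) (ha1 : a ≠ 1)
    {ψ : Fin n → F} (h : RowIn K i ψ) (j0 : Fin n) (hj0 : ψ j0 ≠ 0) :
    ∃ c : F, c ≠ 0 ∧ RowIn K i (Pi.single j0 c) := by
  have hij0 : i ≠ j0 := by
    intro hh; rw [← hh] at hj0; exact hj0 h.1
  obtain ⟨j1, hj1i, hj1j0, -⟩ := exists_ne3 hn i j0 j0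
  obtain ⟨m, hmi, hmj0, hmj1⟩ := exists_ne3 hn i j0 j1
  have hainv : (1 - a⁻¹) ≠ 0 := by
    intro hh
    apply ha1
    have : a⁻¹ = 1 := by linear_combination -hh
    rw [inv_eq_one] at this
    exact this
  -- first step
  have h1 := h.sub (h.torus hK (dd j0 j1 a) (dd_ne_zero j0 j1 a ha0) (dd_prod j0 j1 (Ne.symm hj1j0) a ha0))
  set ψ1 : Fin n → F := ψ - fun j => dd j0 j1 a i * (ψ j * (dd j0 j1 a j)⁻¹) with hψ1
  have hdi : dd j0 j1 a i = 1 := dd_other j0 j1 a i hij0 (Ne.symm hj1i)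
  have hψ1j0 : ψ1 j0 = (1 - a⁻¹) * ψ j0 := by
    rw [hψ1, Pi.sub_apply, hdi, dd_self]; ring
  have hψ1o : ∀ j, j ≠ j0 → j ≠ j1 → ψ1 j = 0 := by
    intro j hj0' hj1'
    rw [hψ1, Pi.sub_apply, hdi, dd_other j0 j1 a j hj0' hj1']; simp
  -- second step
  have h2 := h1.sub (h1.torus hK (dd j0 m a) (dd_ne_zero j0 m a ha0) (dd_prod j0 m (Ne.symm hmj0) a ha0))
  set ψ2 : Fin n → F := ψ1 - fun j => dd j0 m a i * (ψ1 j * (dd j0 m a j)⁻¹) with hψ2
  have hdi2 : dd j0 m a i = 1 := dd_other j0 m a i hij0 (Ne.symm hmi)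
  have hψ2eq : ψ2 = Pi.single j0 ((1 - a⁻¹) * ((1 - a⁻¹) * ψ j0)) := by
    ext j
    rw [hψ2, Pi.sub_apply, hdi2]
    by_cases hj : j = j0
    · subst hj
      rw [dd_self, Pi.single_eq_same, hψ1j0]; ring
    · rw [Pi.single_eq_of_ne hj]
      by_cases hjm : j = m
      · subst hjm
        rw [hψ1o j hj hmj1]; simp
      · rw [dd_other j0 m a j hj hjm]; simp
  rw [hψ2eq] at h2
  exact ⟨_, mul_ne_zero hainv (mul_ne_zero hainv hj0), h2⟩

/-- all multiples of one coordinate functional -/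
theorem RowIn.all_single (hK : MonoIn K) (hn : 4 ≤ n) {j0 : Fin n} {c : F} (hc : c ≠ 0)
    (h : RowIn K i (Pi.single j0 c)) (x : F) : RowIn K i (Pi.single j0 x) := by
  by_cases hx : x = 0
  · rw [hx, Pi.single_zero]; exact RowIn.zero
  have hij0 : i ≠ j0 := by
    intro hh
    have := h.1
    rw [hh, Pi.single_eq_same] at this
    exact hc this
  obtain ⟨m, hmi, hmj0, -⟩ := exists_ne3 hn i j0 j0
  have hb : c * x⁻¹ ≠ 0 := mul_ne_zero hc (inv_ne_zero hx)
  have h1 := h.torus hK (dd j0 m (c * x⁻¹)) (dd_ne_zero j0 m _ hb) (dd_prod j0 m (Ne.symm hmj0) _ hb)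
  have hdi : dd j0 m (c * x⁻¹) i = 1 := dd_other j0 m _ i hij0 (Ne.symm hmi)
  have e : (fun j => dd j0 m (c * x⁻¹) i * ((Pi.single j0 c : Fin n → F) j * (dd j0 m (c * x⁻¹) j)⁻¹))
      = Pi.single j0 x := by
    ext j
    rw [hdi]
    by_cases hj : j = j0
    · subst hj
      rw [dd_self, Pi.single_eq_same, Pi.single_eq_same]
      field_simp
    · rw [Pi.single_eq_of_ne hj, Pi.single_eq_of_ne hj]; simp
  rw [e] at h1
  exact h1

/-- the sign of a permutation as an element of `F` -/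
def sgnF (π : Equiv.Perm (Fin n)) : F := (((Equiv.Perm.sign π : ℤˣ) : ℤ) : F)

theorem sgnF_mul_self (π : Equiv.Perm (Fin n)) : (sgnF π : F) * sgnF π = 1 := by
  unfold sgnF
  rcases Int.units_eq_one_or (Equiv.Perm.sign π) with h | h
  · rw [h]; simp
  · rw [h]; simp

/-- the sign-corrected permutation matrix: `e_s ↦ e_{π s}`, with the sign at column `s0` -/
def wMat (π : Equiv.Perm (Fin n)) (s0 : Fin n) : Matrix (Fin n) (Fin n) F :=
  (π⁻¹).permMatrix F * Matrix.diagonal (fun s => if s = s0 then (sgnF π : F) else 1)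

theorem wMat_apply (π : Equiv.Perm (Fin n)) (s0 r s : Fin n) :
    (wMat π s0 : Matrix (Fin n) (Fin n) F) r s =
      if r = π s then (if s = s0 then (sgnF π : F) else 1) else 0 := by
  unfold wMat
  rw [Matrix.mul_diagonal]
  unfold Equiv.Perm.permMatrix
  rw [PEquiv.toMatrix_apply, Equiv.toPEquiv_apply]
  simp only [Option.mem_def, Option.some.injEq]
  by_cases h : r = π s
  · rw [if_pos h, if_pos (by rw [h]; simp), one_mul]
  · rw [if_neg h, if_neg (by intro hh; apply h; rw [← hh]; simp), zero_mul]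

theorem wMat_det (π : Equiv.Perm (Fin n)) (s0 : Fin n) :
    (wMat π s0 : Matrix (Fin n) (Fin n) F).det = 1 := by
  unfold wMat
  rw [Matrix.det_mul, Matrix.det_permutation, Matrix.det_diagonal, Equiv.Perm.sign_inv,
    Fintype.prod_eq_single s0 (fun x hx => by rw [if_neg hx]), if_pos rfl]
  exact sgnF_mul_self π

/-- the sign-corrected permutation matrix as an element of `GL` -/
noncomputable def wGL (π : Equiv.Perm (Fin n)) (s0 : Fin n) : GL (Fin n) F :=
  Matrix.GeneralLinearGroup.mk'' (wMat π s0) (by rw [wMat_det]; exact isUnit_one)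

theorem wGL_val (π : Equiv.Perm (Fin n)) (s0 : Fin n) :
    ((wGL π s0 : GL (Fin n) F) : Matrix (Fin n) (Fin n) F) = wMat π s0 := rfl

theorem wGL_mem (hK : MonoIn K) (π : Equiv.Perm (Fin n)) (s0 : Fin n) : (wGL π s0 : GL (Fin n) F) ∈ K := by
  apply hK
  · refine ⟨π, fun r s hrs => ?_⟩
    rw [wGL_val, wMat_apply] at hrs
    by_contra hne
    rw [if_neg hne] at hrs
    exact hrs rfl
  · change Matrix.GeneralLinearGroup.det (wGL π s0) = 1
    apply Units.ext
    rw [Matrix.GeneralLinearGroup.val_det_apply, wGL_val, wMat_det]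
    rfl

/-- all root elements `1 + x E_{kl}` lie in `K` -/
def RootIn (K : Subgroup (GL (Fin n) F)) (k l : Fin n) : Prop :=
  ∀ x : F, ∀ g : GL (Fin n) F,
    (g : Matrix (Fin n) (Fin n) F) = tv (Pi.single k 1) (Pi.single l x) → g ∈ K

/-- moving a root group by a signed permutation -/
theorem RootIn.perm (hK : MonoIn K) (hn : 4 ≤ n) {k l : Fin n} (hkl : k ≠ l) (h : RootIn K k l)
    (π : Equiv.Perm (Fin n)) : RootIn K (π k) (π l) := by
  obtain ⟨s0, hs0k, hs0l, -⟩ := exists_ne3 hn k l l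
  intro x g hg
  have e0 : (Pi.single l x : Fin n → F) ⬝ᵥ (Pi.single k (1 : F)) = 0 := by
    rw [dot_single_one, Pi.single_eq_of_ne hkl]
  obtain ⟨g1, hg1, -⟩ := exists_tvGL (Pi.single k (1 : F)) (Pi.single l x) e0
  have hc := conj_tv (wGL π s0) (Pi.single k (1 : F)) (Pi.single (π l) x)
  have e2 : (Pi.single (π l) x : Fin n → F) ᵥ* ((wGL π s0 : GL (Fin n) F) : Matrix (Fin n) (Fin n) F)
      = Pi.single l x := by
    ext s
    rw [Matrix.single_vecMul, wGL_val]
    change x * wMat π s0 (π l) s = _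
    rw [wMat_apply]
    by_cases hs : s = l
    · subst hs
      rw [if_pos rfl, if_neg (Ne.symm hs0l), mul_one, Pi.single_eq_same]
    · rw [if_neg (fun hh => hs (π.injective hh).symm), mul_zero, Pi.single_eq_of_ne hs]
  have e3 : ((wGL π s0 : GL (Fin n) F) : Matrix (Fin n) (Fin n) F) *ᵥ (Pi.single k (1 : F))
      = Pi.single (π k) 1 := by
    ext r
    rw [Matrix.mulVec_single_one, wGL_val]
    change wMat π s0 r k = _
    rw [wMat_apply]
    by_cases hr : r = π k
    · subst hr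
      rw [if_pos rfl, if_neg (Ne.symm hs0k), Pi.single_eq_same]
    · rw [if_neg hr, Pi.single_eq_of_ne hr]
  rw [e2, e3, ← hg1] at hc
  have : g = wGL π s0 * g1 * (wGL π s0)⁻¹ :=
    Units.ext (by rw [Units.val_mul, Units.val_mul, hc, hg])
  rw [this]
  exact K.mul_mem (K.mul_mem (wGL_mem hK π s0) (h x g1 hg1)) (K.inv_mem (wGL_mem hK π s0))

/-- a permutation carrying a pair of distinct points to another such pair -/
theorem exists_perm_pair {k l k' l' : Fin n} (hkl : k ≠ l) (hkl' : k' ≠ l') :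
    ∃ π : Equiv.Perm (Fin n), π k = k' ∧ π l = l' := by
  let π1 : Equiv.Perm (Fin n) := Equiv.swap k k'
  have h1 : π1 k = k' := Equiv.swap_apply_left k k'
  have h2 : π1 l ≠ k' := by
    intro hh
    rw [← h1] at hh
    exact hkl (π1.injective hh).symm
  refine ⟨Equiv.swap (π1 l) l' * π1, ?_, ?_⟩
  · rw [Equiv.Perm.mul_apply, h1, Equiv.swap_apply_of_ne_of_ne (Ne.symm h2) hkl']
  · rw [Equiv.Perm.mul_apply, Equiv.swap_apply_left]

/-- all root groups in `K` give `SL_n ≤ K` -/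
theorem sl_le_of_rootIn (hn : 2 ≤ n) (h : ∀ k l : Fin n, k ≠ l → RootIn K k l) :
    Cfsg.Geo.specialLinear (Fin n) F ≤ K := by
  have : Nontrivial (Fin n) := Fin.nontrivial_iff_two_le.mpr hn
  intro s hs
  have hdet : (s : Matrix (Fin n) (Fin n) F).det = 1 := by
    have h1 : Matrix.GeneralLinearGroup.det s = 1 := hs
    have h2 := congrArg Units.val h1
    rwa [Matrix.GeneralLinearGroup.val_det_apply, Units.val_one] at h2
  have key : ∀ A : Matrix.SpecialLinearGroup (Fin n) F, ∀ g : GL (Fin n) F,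
      (g : Matrix (Fin n) (Fin n) F) = (A : Matrix (Fin n) (Fin n) F) → g ∈ K := by
    intro A
    refine Cfsg.Agent.Lib.Helper15.SLn_transvection_induction
      (fun A : Matrix.SpecialLinearGroup (Fin n) F => ∀ g : GL (Fin n) F,
        (g : Matrix (Fin n) (Fin n) F) = (A : Matrix (Fin n) (Fin n) F) → g ∈ K) ?_ ?_ A
    · intro i j hij c g hg
      apply h i j hij c g
      rw [hg, Matrix.SpecialLinearGroup.transvection_coe, tv]
      congr 1
      ext x y
      simp only [Matrix.single_apply, vecMulVec_apply, Pi.single_apply]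
      by_cases hx : i = x
      · subst hx
        by_cases hy : j = y
        · subst hy; simp
        · simp [hy, Ne.symm hy]
      · simp [hx, Ne.symm hx]
    · intro A B hA hB g hg
      have : g = Matrix.SpecialLinearGroup.toGL A * Matrix.SpecialLinearGroup.toGL B :=
        Units.ext (by rw [Units.val_mul, hg, Matrix.SpecialLinearGroup.coe_mul]; rfl)
      rw [this]
      exact K.mul_mem (hA _ rfl) (hB _ rfl)
  exact key ⟨(s : Matrix (Fin n) (Fin n) F), hdet⟩ s rfl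

/-- **FO-T1** (unfolded form).  A transvection with a coordinate centre, together with all monomial
matrices of determinant one, generates `SL_n`. -/
theorem sl_le_of_coord_transvection_aux [Fintype F] (hq : 3 ≤ Fintype.card F) (hn : 4 ≤ n)
    (K : Subgroup (GL (Fin n) F)) (hK : MonoIn K) (i : Fin n) (φ : Fin n → F) (hφ : φ ≠ 0)
    (hφi : φ i = 0) (t : GL (Fin n) F) (ht : t ∈ K)
    (hval : (t : Matrix (Fin n) (Fin n) F) = 1 + Matrix.vecMulVec (Pi.single i 1) φ) :
    Cfsg.Geo.specialLinear (Fin n) F ≤ K := by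
  have h0 : RowIn K i φ := by
    refine ⟨hφi, fun g hg => ?_⟩
    have : g = t := Units.ext (hg.trans hval.symm)
    rw [this]; exact ht
  obtain ⟨j0, hj0⟩ : ∃ j0, φ j0 ≠ 0 := by
    by_contra hcon
    push Not at hcon
    exact hφ (funext hcon)
  obtain ⟨a, ha0, ha1⟩ : ∃ a : F, a ≠ 0 ∧ a ≠ 1 := by
    have h3 : 2 < Fintype.card F := by omega
    obtain ⟨x, y, z, hxy, hxz, hyz⟩ := Fintype.two_lt_card_iff.mp h3
    by_cases hx0 : x = 0
    · by_cases hy1 : y = 1
      · exact ⟨z, fun h => hxz (by rw [hx0, h]), fun h => hyz (by rw [hy1, h])⟩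
      · exact ⟨y, fun h => hxy (by rw [hx0, h]), hy1⟩
    · by_cases hx1 : x = 1
      · by_cases hy0 : y = 0
        · exact ⟨z, fun h => hyz (by rw [hy0, h]), fun h => hxz (by rw [hx1, h])⟩
        · exact ⟨y, hy0, fun h => hxy (by rw [hx1, h])⟩
      · exact ⟨x, hx0, hx1⟩
  obtain ⟨c, hc, h1⟩ := h0.isolate hK hn a ha0 ha1 j0 hj0
  have hij0 : i ≠ j0 := by
    intro hh; rw [← hh] at hj0; exact hj0 hφi
  have hroot : RootIn K i j0 := fun x g hg => (h1.all_single hK hn hc x).2 g hg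
  apply sl_le_of_rootIn (by omega)
  intro k l hkl
  obtain ⟨π, hπk, hπl⟩ := exists_perm_pair hij0 hkl
  have := hroot.perm hK hn hij0 π
  rwa [hπk, hπl] at this

end Cfsg.Agent.Lib.Helper25.MonMax
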