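import Mathlib
import Cfsg.Agent.Lib.Helper17.ExtFDefs

/-!
# S5886 farm-out piece FO-Ea (architect helper17): `L`-linear algebra on `Fin n → F`

`finrank_pt`, `finrank_dvd`, `exists_lin_sep` (E1), `exists_lin_two` (E2),
`exists_common_one` (E3), `exists_coords` (E0), with the exact signatures of
`notes/S5886Skel_helper17.lean.txt`.
-/

set_option autoImplicit false
set_option linter.unusedSectionVars false
set_option linter.unusedVariables false

namespace Cfsg.Agent.Lib.Helper25.ExtFEa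

open Matrix Module Cfsg.Agent.Lib.Helper17.ExtF

section modL

variable {F L : Type*} [Field F] [Field L] [Algebra F L] {n : ℕ}

/-- the `L`-module structure on column vectors given by the embedded field -/
@[reducible] noncomputable def modL (ρ : L →ₐ[F] Matrix (Fin n) (Fin n) F) :
    Module L (Fin n → F) :=
  Module.compHom (Fin n → F)
    (((Matrix.toLinAlgEquiv' (R := F) (n := Fin n)).toAlgHom.comp ρ).toRingHom)

theorem modL_smul (ρ : L →ₐ[F] Matrix (Fin n) (Fin n) F) (a : L) (v : Fin n → F) :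
    (modL ρ).toSMul.smul a v = ρ a *ᵥ v := rfl

theorem modL_tower (ρ : L →ₐ[F] Matrix (Fin n) (Fin n) F) :
    @IsScalarTower F L (Fin n → F) _ (modL ρ).toSMul _ := by
  let _ := modL ρ
  refine ⟨fun c a v => ?_⟩
  change ρ (c • a) *ᵥ v = c • (ρ a *ᵥ v)
  rw [map_smul, Matrix.smul_mulVec]

/-- an `L`-linear functional restricted to `F` is `Lin` -/
theorem lin_of_linear (ρ : L →ₐ[F] Matrix (Fin n) (Fin n) F)
    (f : @LinearMap L L _ _ (RingHom.id L) (Fin n → F) L _ _ (modL ρ) _) :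
    ∃ χ : (Fin n → F) →ₗ[F] L, Lin ρ χ ∧ ∀ v, χ v = f v := by
  letI := modL ρ
  haveI : IsScalarTower F L (Fin n → F) := modL_tower ρ
  refine ⟨f.restrictScalars F, ?_, fun v => rfl⟩
  intro a v
  change f (a • v) = a * f v
  rw [map_smul, smul_eq_mul]

/-- the `L`-span of one vector is its `L`-point -/
theorem mem_span_singleton_iff (ρ : L →ₐ[F] Matrix (Fin n) (Fin n) F) (e x : Fin n → F) :
    x ∈ @Submodule.span L (Fin n → F) _ _ (modL ρ) {e} ↔ x ∈ pt ρ e := by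
  letI := modL ρ
  rw [Submodule.mem_span_singleton, mem_pt]
  exact Iff.rfl

end modL

variable {F : Type*} [Field F] [Fintype F] {L : Type*} [Field L] [Algebra F L] {n : ℕ}
  (ρ : L →ₐ[F] Matrix (Fin n) (Fin n) F) {r : ℕ}

omit [Fintype F] in
theorem orb_injective {v : Fin n → F} (hv : v ≠ 0) : Function.Injective (orb ρ v) := by
  rw [← LinearMap.ker_eq_bot, LinearMap.ker_eq_bot']
  intro a ha
  by_contra hne
  apply hv
  have h1 : ρ (a⁻¹ * a) *ᵥ v = v := by rw [inv_mul_cancel₀ hne, rho_one_mulVec]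
  rw [rho_mul_mulVec] at h1
  rw [orb_apply] at ha
  rw [ha, Matrix.mulVec_zero] at h1
  exact h1.symm

theorem finrank_pt (hrk : finrank F L = r) (hr : 0 < r) {v : Fin n → F} (hv : v ≠ 0) :
    finrank F ↥(pt ρ v) = r := by
  rw [pt, LinearMap.finrank_range_of_inj (orb_injective ρ hv), hrk]

omit [Fintype F] in
theorem finrank_mul (ρ : L →ₐ[F] Matrix (Fin n) (Fin n) F) :
    finrank F L * @finrank L (Fin n → F) _ _ (modL ρ) = n := by
  letI := modL ρ
  haveI : IsScalarTower F L (Fin n → F) := modL_tower ρ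
  have h := Module.finrank_mul_finrank F L (Fin n → F)
  rw [Module.finrank_fin_fun] at h
  exact h

include ρ in
theorem finrank_dvd (hrk : finrank F L = r) (hr : 0 < r) : r ∣ n := by
  have h := finrank_mul ρ
  rw [hrk] at h
  exact ⟨_, h.symm⟩

/-- E1 -/
theorem exists_lin_sep (hrk : finrank F L = r) (hr : 0 < r) (e u : Fin n → F) (hu : u ∉ pt ρ e) :
    ∃ χ : (Fin n → F) →ₗ[F] L, Lin ρ χ ∧ χ e = 0 ∧ χ u = 1 := by
  letI := modL ρ
  haveI : IsScalarTower F L (Fin n → F) := modL_tower ρ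
  have hu' : u ∉ Submodule.span L {e} := fun h => hu ((mem_span_singleton_iff ρ e u).1 h)
  obtain ⟨f, hfu, hle⟩ := Submodule.exists_le_ker_of_notMem hu'
  obtain ⟨χ, hχ, hχf⟩ := lin_of_linear ρ ((f u)⁻¹ • f)
  refine ⟨χ, hχ, ?_, ?_⟩
  · rw [hχf]
    have : f e = 0 := hle (Submodule.mem_span_singleton_self e)
    simp [this]
  · rw [hχf]
    simp [hfu]

/-- E2 -/
theorem exists_lin_two (hrk : finrank F L = r) (hr : 0 < r) (hn : 3 * r ≤ n) (v₁ w : Fin n → F) :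
    ∃ ψ : (Fin n → F) →ₗ[F] L, Lin ρ ψ ∧ ψ v₁ = 0 ∧ ψ w = 0 ∧ ∃ e, ψ e = 1 := by
  letI := modL ρ
  haveI : IsScalarTower F L (Fin n → F) := modL_tower ρ
  haveI : FiniteDimensional F L := Module.finite_of_finrank_pos (by omega)
  haveI : FiniteDimensional L (Fin n → F) := Module.Finite.of_restrictScalars_finite F L _
  have hmul := finrank_mul ρ
  rw [hrk] at hmul
  have h3 : 3 ≤ finrank L (Fin n → F) := by
    by_contra hlt
    have hlt : finrank L (Fin n → F) ≤ 2 := by omega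
    have : r * finrank L (Fin n → F) ≤ r * 2 := Nat.mul_le_mul_left r hlt
    omega
  have hspan : Submodule.span L ({v₁, w} : Set (Fin n → F)) ≠ ⊤ := by
    intro htop
    have h2 : finrank L ↥(Submodule.span L ({v₁, w} : Set (Fin n → F))) ≤ 2 := by
      classical
      have := finrank_span_finset_le_card (R := L) ({v₁, w} : Finset (Fin n → F))
      rw [Finset.coe_insert, Finset.coe_singleton] at this
      exact this.trans Finset.card_le_two
    rw [htop, finrank_top] at h2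
    omega
  obtain ⟨x, -, hx⟩ := SetLike.exists_of_lt (lt_top_iff_ne_top.2 hspan)
  obtain ⟨f, hfx, hle⟩ := Submodule.exists_le_ker_of_notMem hx
  obtain ⟨ψ, hψ, hψf⟩ := lin_of_linear ρ ((f x)⁻¹ • f)
  refine ⟨ψ, hψ, ?_, ?_, x, ?_⟩
  · rw [hψf]
    have : f v₁ = 0 := hle (Submodule.subset_span (by simp))
    simp [this]
  · rw [hψf]
    have : f w = 0 := hle (Submodule.subset_span (by simp))
    simp [this]
  · rw [hψf]
    simp [hfx]

/-- E3 -/
theorem exists_common_one (ψ ψ' : (Fin n → F) →ₗ[F] L) (hψ : Lin ρ ψ) (hψ' : Lin ρ ψ')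
    (h1 : ∃ e, ψ e = 1) (h1' : ∃ e, ψ' e = 1) (hnp : ¬ ∃ c : L, ∀ v, ψ' v = c * ψ v) :
    ∃ e, ψ e = 1 ∧ ψ' e = 1 := by
  obtain ⟨e₁, he₁⟩ := h1
  have hex : ∃ v, ψ v = 0 ∧ ψ' v ≠ 0 := by
    by_contra hno
    push Not at hno
    apply hnp
    refine ⟨ψ' e₁, fun v => ?_⟩
    have h0 : ψ (v - ρ (ψ v) *ᵥ e₁) = 0 := by
      rw [map_sub, hψ, he₁, mul_one, sub_self]
    have h2 := hno _ h0
    rw [map_sub, hψ', sub_eq_zero] at h2
    rw [h2, mul_comm]
  obtain ⟨v, hv0, hv1⟩ := hex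
  refine ⟨e₁ + ρ ((1 - ψ' e₁) / ψ' v) *ᵥ v, ?_, ?_⟩
  · rw [map_add, hψ, hv0, mul_zero, add_zero, he₁]
  · rw [map_add, hψ', div_mul_cancel₀ _ hv1]
    ring

/-- E0 : coordinates when `n = 2r` -/
theorem exists_coords (hrk : finrank F L = r) (hr : 0 < r) (hn : n = 2 * r) (v₁ w : Fin n → F)
    (hv₁ : v₁ ≠ 0) (hw : w ∉ pt ρ v₁) :
    ∃ π ψ : (Fin n → F) →ₗ[F] L, Lin ρ π ∧ Lin ρ ψ ∧
      (∀ v, v = ρ (π v) *ᵥ v₁ + ρ (ψ v) *ᵥ w) ∧ π v₁ = 1 ∧ π w = 0 ∧ ψ v₁ = 0 ∧ ψ w = 1 := by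
  haveI : FiniteDimensional F L := Module.finite_of_finrank_pos (by omega)
  obtain ⟨ψ, hψ, hψv, hψw⟩ := exists_lin_sep ρ hrk hr v₁ w hw
  have hv₁w : v₁ ∉ pt ρ w := by
    rintro ⟨a, ha⟩
    change ρ a *ᵥ w = v₁ at ha
    have ha0 : a ≠ 0 := by
      rintro rfl
      rw [rho_zero_mulVec] at ha
      exact hv₁ ha.symm
    apply hw
    refine ⟨a⁻¹, ?_⟩
    change ρ a⁻¹ *ᵥ v₁ = w
    rw [← ha, ← rho_mul_mulVec, inv_mul_cancel₀ ha0, rho_one_mulVec]
  obtain ⟨π, hπ, hπw, hπv⟩ := exists_lin_sep ρ hrk hr w v₁ hv₁w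
  refine ⟨π, ψ, hπ, hψ, ?_, hπv, hπw, hψv, hψw⟩
  -- the map `(π, ψ)` is a surjection between spaces of the same dimension
  let Φ : (Fin n → F) →ₗ[F] L × L := π.prod ψ
  have hsurj : Function.Surjective Φ := by
    rintro ⟨a, b⟩
    refine ⟨ρ a *ᵥ v₁ + ρ b *ᵥ w, ?_⟩
    change (π (ρ a *ᵥ v₁ + ρ b *ᵥ w), ψ (ρ a *ᵥ v₁ + ρ b *ᵥ w)) = (a, b)
    rw [map_add, map_add, hπ, hπ, hψ, hψ, hπv, hπw, hψv, hψw]
    simp
  have hdim : finrank F (Fin n → F) = finrank F (L × L) := by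
    rw [Module.finrank_fin_fun, Module.finrank_prod, hrk, hn]
    ring
  have hinj : Function.Injective Φ :=
    (LinearMap.injective_iff_surjective_of_finrank_eq_finrank hdim).2 hsurj
  intro v
  apply hinj
  change (π v, ψ v) = (π (ρ (π v) *ᵥ v₁ + ρ (ψ v) *ᵥ w), ψ (ρ (π v) *ᵥ v₁ + ρ (ψ v) *ᵥ w))
  rw [map_add, map_add, hπ, hπ, hψ, hψ, hπv, hπw, hψv, hψw]
  simp

end Cfsg.Agent.Lib.Helper25.ExtFEa
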