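import Mathlib
import Cfsg.Prelude.Def_GeometricClasses
import Cfsg.Agent.Lib.Helper18.MonDefs
import Cfsg.Agent.Lib.Helper13.TransvSL
import Cfsg.Agent.Lib.Helper25.MonMaxT1

/-!
# MonMax FO-T1a, FO-T1b (helper25), exact skeleton statements
-/

set_option autoImplicit false

namespace Cfsg.Agent.Lib.Helper25.MonMax

open Matrix Cfsg.Agent.Lib.Helper18.Mon Cfsg.Agent.Lib.Helper13

variable {F : Type*} [Field F] [Fintype F]

theorem monoIn_of_over {n : ℕ} {K : Subgroup (GL (Fin n) F)} (hK : Over K) : MonoIn K :=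
  fun g hg hSL => hK.mono_mem g hg hSL

theorem tv_single_single {n : ℕ} (i j : Fin n) (c : F) :
    tv (Pi.single i (1 : F)) (Pi.single j c) = 1 + Matrix.single i j c := by
  rw [tv]
  congr 1
  ext x y
  simp only [Matrix.single_apply, vecMulVec_apply, Pi.single_apply]
  by_cases hx : i = x
  · subst hx
    by_cases hy : j = y
    · subst hy; simp
    · simp [hy, Ne.symm hy]
  · simp [hx, Ne.symm hx]

theorem exists_ne_zero_one (hq : 3 ≤ Fintype.card F) : ∃ a : F, a ≠ 0 ∧ a ≠ 1 := by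
  have h3 : 2 < Fintype.card F := by omega
  obtain ⟨x, y, z, hxy, hxz, hyz⟩ := Fintype.two_lt_card_iff.mp h3
  by_cases hx0 : x = 0
  · by_cases hy1 : y = 1
    · exact ⟨z, fun h => hxz (by rw [hx0, h]), fun h => hyz (by rw [hy1, h])⟩
    · exact ⟨y, fun h => hxy (by rw [hx0, h]), hy1⟩
  · by_cases hx1 : x = 1
    · by_cases hy0 : y = 0
      · exact ⟨z, fun h => hyz (by rw [hy0, h]), fun h => hxz (by rw [hx1, h])⟩
      · exact ⟨y, hy0, fun h => hxy (by rw [hx1, h])⟩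
    · exact ⟨x, hx0, hx1⟩

/-- **FO-T1a**. -/
theorem exists_elem_of_coord_tv {n : ℕ} (hq : 4 ≤ Fintype.card F) (hn : 5 ≤ n)
    (K : Subgroup (GL (Fin n) F)) (hK : Over K) (i : Fin n) (φ : Fin n → F) (hφ : φ ≠ 0)
    (hφi : φ i = 0) (g : GL (Fin n) F)
    (hg : (g : Matrix (Fin n) (Fin n) F) = tv (Pi.single i 1) φ) (hgK : g ∈ K) :
    ∃ (j : Fin n) (c : F) (t : GL (Fin n) F), j ≠ i ∧ c ≠ 0 ∧ t ∈ K ∧
      (t : Matrix (Fin n) (Fin n) F) = 1 + Matrix.single i j c := by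
  have hM := monoIn_of_over hK
  have h0 : RowIn K i φ := by
    refine ⟨hφi, fun g' hg' => ?_⟩
    have : g' = g := Units.ext (hg'.trans hg.symm)
    rw [this]; exact hgK
  obtain ⟨j0, hj0⟩ : ∃ j0, φ j0 ≠ 0 := by
    by_contra hcon
    push Not at hcon
    exact hφ (funext hcon)
  obtain ⟨a, ha0, ha1⟩ := exists_ne_zero_one (F := F) (by omega)
  obtain ⟨c, hc, h1⟩ := h0.isolate hM (by omega) a ha0 ha1 j0 hj0
  have hij0 : j0 ≠ i := by
    intro hh; rw [hh] at hj0; exact hj0 hφi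
  have e0 : (Pi.single j0 c : Fin n → F) ⬝ᵥ (Pi.single i (1 : F)) = 0 := by
    rw [dot_single_one, Pi.single_eq_of_ne (Ne.symm hij0)]
  obtain ⟨t, ht, -⟩ := exists_tvGL (Pi.single i (1 : F)) (Pi.single j0 c) e0
  exact ⟨j0, c, t, hij0, hc, h1.2 t ht, by rw [ht, tv_single_single]⟩

/-- **FO-T1b**. -/
theorem SL_le_of_elem {n : ℕ} (hq : 4 ≤ Fintype.card F) (hn : 5 ≤ n)
    (K : Subgroup (GL (Fin n) F)) (hK : Over K) (i j : Fin n) (hij : i ≠ j) (c : F) (hc : c ≠ 0)
    (t : GL (Fin n) F) (ht : t ∈ K) (htv : (t : Matrix (Fin n) (Fin n) F) = 1 + Matrix.single i j c) :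
    Cfsg.Geo.specialLinear (Fin n) F ≤ K := by
  have hM := monoIn_of_over hK
  have h1 : RowIn K i (Pi.single j c) := by
    refine ⟨by rw [Pi.single_eq_of_ne hij], fun g' hg' => ?_⟩
    have : g' = t := Units.ext (by rw [hg', htv, tv_single_single])
    rw [this]; exact ht
  have hroot : RootIn K i j := fun x g hg => (h1.all_single hM (by omega) hc x).2 g hg
  apply sl_le_of_rootIn (by omega)
  intro k l hkl
  obtain ⟨π, hπk, hπl⟩ := exists_perm_pair hij hkl
  have := hroot.perm hM (by omega) hij π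
  rwa [hπk, hπl] at this

end Cfsg.Agent.Lib.Helper25.MonMax
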