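import Mathlib
import Cfsg.Prelude.Def_GeometricClasses
import Cfsg.Agent.Lib.Helper18.MonDefs
import Cfsg.Agent.Lib.Helper13.TransvSL
import Cfsg.Agent.Lib.Helper25.MonMaxFOT1

/-!
# MonMax FO-LIFT-c (helper25): elementary block ⇒ coordinate-centre transvection in `K`
-/

set_option autoImplicit false

namespace Cfsg.Agent.Lib.Helper25.MonMax

open Matrix Cfsg.Agent.Lib.Helper18.Mon Cfsg.Agent.Lib.Helper13

variable {F : Type*} [Field F] [Fintype F]

/-- the `(0,0)` entry of a determinant-one matrix with zero first column below the top and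
elementary lower-right block is `1` -/
theorem top_left_eq_one {m : ℕ} (A : Matrix (Fin (m + 1)) (Fin (m + 1)) F) (hdet : A.det = 1)
    (hcol : ∀ l : Fin m, A l.succ 0 = 0)
    (a b : Fin m) (hab : a ≠ b) (c : F)
    (hB : ∀ i j : Fin m, A i.succ j.succ = (1 + Matrix.single a b c : Matrix (Fin m) (Fin m) F) i j) :
    A 0 0 = 1 := by
  rw [Matrix.det_succ_column_zero, Fin.sum_univ_succ] at hdet
  rw [Finset.sum_eq_zero (fun l _ => by rw [hcol l, mul_zero, zero_mul])] at hdet
  have hsub : A.submatrix (Fin.succAbove 0) Fin.succ = Matrix.transvection a b c := by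
    ext x y
    rw [Matrix.submatrix_apply, Fin.succAbove_zero, hB, Matrix.transvection]
  rw [hsub, Matrix.det_transvection_of_ne a b hab] at hdet
  simpa using hdet

/-- **FO-LIFT-c**. -/
theorem exists_tv_of_elem_block {m : ℕ} (hm : 5 ≤ m) (hq : 3 ≤ Fintype.card F)
    (K : Subgroup (GL (Fin (m + 1)) F)) (hK : Over K)
    (k : GL (Fin (m + 1)) F) (hk : k ∈ K)
    (hcol : ∀ l : Fin m, (k : Matrix (Fin (m + 1)) (Fin (m + 1)) F) l.succ 0 = 0)
    (a b : Fin m) (hab : a ≠ b) (c : F) (hc : c ≠ 0)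
    (hB : ∀ i j : Fin m, (k : Matrix (Fin (m + 1)) (Fin (m + 1)) F) i.succ j.succ =
          (1 + Matrix.single a b c : Matrix (Fin m) (Fin m) F) i j) :
    ∃ (i : Fin (m + 1)) (φ : Fin (m + 1) → F) (g : GL (Fin (m + 1)) F), φ ≠ 0 ∧ φ i = 0 ∧ g ∈ K ∧
      (g : Matrix (Fin (m + 1)) (Fin (m + 1)) F) = tv (Pi.single i 1) φ := by
  have h00 : (k : Matrix (Fin (m + 1)) (Fin (m + 1)) F) 0 0 = 1 :=
    top_left_eq_one _ (hK.det_eq_one hk) hcol a b hab c hB
  by_cases hψ : ∀ j : Fin m, (k : Matrix (Fin (m + 1)) (Fin (m + 1)) F) 0 j.succ = 0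
  · -- `k` itself is elementary
    refine ⟨a.succ, Pi.single b.succ c, k, ?_, ?_, hk, ?_⟩
    · intro h
      have := congrFun h b.succ
      rw [Pi.single_eq_same, Pi.zero_apply] at this
      exact hc this
    · rw [Pi.single_eq_of_ne]
      intro h
      exact hab (Fin.succ_injective _ h)
    · rw [tv_single_single]
      ext x y
      refine Fin.cases ?_ (fun x' => ?_) x
      · refine Fin.cases ?_ (fun y' => ?_) y
        · rw [h00, Matrix.add_apply, Matrix.one_apply_eq, Matrix.single_apply,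
            if_neg (fun h => (Fin.succ_ne_zero a) h.1), add_zero]
        · rw [hψ y', Matrix.add_apply, Matrix.one_apply_ne (Fin.succ_ne_zero y').symm,
            Matrix.single_apply, if_neg (fun h => (Fin.succ_ne_zero a) h.1), add_zero]
      · refine Fin.cases ?_ (fun y' => ?_) y
        · rw [hcol x', Matrix.add_apply, Matrix.one_apply_ne (Fin.succ_ne_zero x'),
            Matrix.single_apply, if_neg (fun h => (Fin.succ_ne_zero b) h.2), add_zero]
        · rw [hB x' y', Matrix.add_apply, Matrix.add_apply, Matrix.single_apply, Matrix.single_apply,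
            Matrix.one_apply, Matrix.one_apply]
          simp only [Fin.succ_inj]
  · push Not at hψ
    obtain ⟨l, hl⟩ := hψ
    obtain ⟨r, hrl, hra, hrb⟩ := exists_ne3 (by omega : 4 ≤ m) l a b
    obtain ⟨ε, hε0, hε1⟩ := exists_ne_zero_one (F := F) hq
    have h0r : (0 : Fin (m + 1)) ≠ r.succ := (Fin.succ_ne_zero r).symm
    set d : Fin (m + 1) → F := dd (0 : Fin (m + 1)) r.succ ε with hd
    have hdne : ∀ j, d j ≠ 0 := dd_ne_zero _ _ ε hε0
    have hdprod : ∏ j, d j = 1 := dd_prod _ _ h0r ε hε0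
    have hd0 : d 0 = ε := dd_self _ _ ε
    have hdo : ∀ x : Fin m, x ≠ r → d x.succ = 1 := fun x hx =>
      dd_other _ _ ε x.succ (Fin.succ_ne_zero x) (fun h => hx (Fin.succ_injective _ h))
    have hDK : Cfsg.Agent.Lib.Helper18.Mon.dg d hdne ∈ K := hK.dg_mem d hdne hdprod
    set φ : Fin (m + 1) → F := fun y =>
      d 0 * (k : Matrix (Fin (m + 1)) (Fin (m + 1)) F) 0 y * (d y)⁻¹ -
        (k : Matrix (Fin (m + 1)) (Fin (m + 1)) F) 0 y with hφdef
    have hφ0 : φ 0 = 0 := by
      simp only [hφdef, h00, hd0]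
      field_simp
      ring
    have hφl : φ l.succ ≠ 0 := by
      simp only [hφdef, hd0, hdo l (Ne.symm hrl)]
      have : ε * (k : Matrix (Fin (m + 1)) (Fin (m + 1)) F) 0 l.succ * (1 : F)⁻¹ -
          (k : Matrix (Fin (m + 1)) (Fin (m + 1)) F) 0 l.succ =
          (ε - 1) * (k : Matrix (Fin (m + 1)) (Fin (m + 1)) F) 0 l.succ := by
        rw [inv_one]; ring
      rw [this]
      exact mul_ne_zero (sub_ne_zero.mpr hε1) hl
    have e0 : φ ⬝ᵥ (Pi.single (0 : Fin (m + 1)) (1 : F)) = 0 := by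
      rw [dot_single_one]; exact hφ0
    obtain ⟨t0, ht0, -⟩ := exists_tvGL (Pi.single (0 : Fin (m + 1)) (1 : F)) φ e0
    have hcol0 : (k : Matrix (Fin (m + 1)) (Fin (m + 1)) F) *ᵥ (Pi.single (0 : Fin (m + 1)) (1 : F))
        = Pi.single 0 1 := by
      rw [Matrix.mulVec_single_one]
      ext x
      refine Fin.cases ?_ (fun x' => ?_) x
      · change (k : Matrix (Fin (m + 1)) (Fin (m + 1)) F) 0 0 = _
        rw [h00, Pi.single_eq_same]
      · change (k : Matrix (Fin (m + 1)) (Fin (m + 1)) F) x'.succ 0 = _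
        rw [hcol x', Pi.single_eq_of_ne (Fin.succ_ne_zero x')]
    have hmat : (k : Matrix (Fin (m + 1)) (Fin (m + 1)) F) * (t0 : Matrix (Fin (m + 1)) (Fin (m + 1)) F)
        = ((Cfsg.Agent.Lib.Helper18.Mon.dg d hdne * k * (Cfsg.Agent.Lib.Helper18.Mon.dg d hdne)⁻¹ :
            GL (Fin (m + 1)) F) : Matrix (Fin (m + 1)) (Fin (m + 1)) F) := by
      rw [ht0, tv, mul_add, mul_one, Matrix.mul_vecMulVec, hcol0]
      ext x y
      rw [dg_conj_apply, Matrix.add_apply, Matrix.vecMulVec_apply]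
      refine Fin.cases ?_ (fun x' => ?_) x
      · rw [Pi.single_eq_same, one_mul]
        simp only [hφdef]
        ring
      · rw [Pi.single_eq_of_ne (Fin.succ_ne_zero x'), zero_mul, add_zero]
        refine Fin.cases ?_ (fun y' => ?_) y
        · rw [hcol x']; ring
        · rw [hB x' y']
          by_cases hxy : x' = y'
          · subst hxy
            field_simp [hdne x'.succ]
          · rw [Matrix.add_apply, Matrix.one_apply_ne hxy, zero_add, Matrix.single_apply]
            by_cases hab' : a = x' ∧ b = y'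
            · obtain ⟨rfl, rfl⟩ := hab'
              rw [if_pos ⟨rfl, rfl⟩, hdo a (Ne.symm hra), hdo b (Ne.symm hrb)]
              simp
            · rw [if_neg hab']; simp
    have hgl : k * t0 = Cfsg.Agent.Lib.Helper18.Mon.dg d hdne * k *
        (Cfsg.Agent.Lib.Helper18.Mon.dg d hdne)⁻¹ := Units.ext (by rw [Units.val_mul, hmat])
    have ht0K : t0 ∈ K := by
      have : t0 = k⁻¹ * (Cfsg.Agent.Lib.Helper18.Mon.dg d hdne * k *
          (Cfsg.Agent.Lib.Helper18.Mon.dg d hdne)⁻¹) := by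
        rw [← hgl]; group
      rw [this]
      exact K.mul_mem (K.inv_mem hk) (K.mul_mem (K.mul_mem hDK hk) (K.inv_mem hDK))
    refine ⟨0, φ, t0, ?_, hφ0, ht0K, ht0⟩
    intro h
    apply hφl
    rw [h]; rfl

end Cfsg.Agent.Lib.Helper25.MonMax
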