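import Mathlib

/-!
# Sub-lemmas requested by helper21 for S2202 (R3a, R5, R8)
-/

namespace Cfsg.Agent.Lib.Helper25.S2202R

/-- R3a (parity). -/
theorem no_two_fixed {D X : Type*} [Group D] [Finite D] [MulAction D X]
    [MulAction.IsPretransitive D X] (hodd : Odd (Nat.card D)) (x₀ x₁ : X) (hne : x₀ ≠ x₁)
    (h1 : ∀ h ∈ MulAction.stabilizer D x₀, h • x₁ = x₁)
    (h2 : ∀ y : X, (∀ h ∈ MulAction.stabilizer D x₀, h • y = y) → y = x₀ ∨ y = x₁) : False := by
  obtain ⟨d, hd⟩ := MulAction.exists_smul_eq D x₀ x₁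
  -- conjugation by d⁻¹ maps the stabiliser of x₀ into itself
  have hconj : ∀ h ∈ MulAction.stabilizer D x₀, d⁻¹ * h * d ∈ MulAction.stabilizer D x₀ := by
    intro h hh
    rw [MulAction.mem_stabilizer_iff]
    have := h1 h hh
    rw [← hd] at this
    rw [mul_smul, mul_smul, this, inv_smul_smul]
  have hfix : ∀ h ∈ MulAction.stabilizer D x₀, h • (d • x₁) = d • x₁ := by
    intro h hh
    have h3 := h1 _ (hconj h hh)
    rw [mul_smul, mul_smul] at h3
    have := congrArg (fun y => d • y) h3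
    simpa using this
  have hdx1 : d • x₁ = x₀ := by
    rcases h2 _ hfix with h | h
    · exact h
    · exfalso
      apply hne
      have : d • x₁ = d • x₀ := by rw [h, hd]
      exact (MulAction.injective d this).symm
  have hd2 : (d ^ 2) • x₀ = x₀ := by
    rw [pow_two, mul_smul, hd, hdx1]
  have hoddd : Odd (orderOf d) := by
    have hdvd : orderOf d ∣ Nat.card D := orderOf_dvd_natCard d
    exact Odd.of_dvd_nat hodd hdvd
  obtain ⟨k, hk⟩ := hoddd
  have hdk : d = (d ^ 2) ^ (k + 1) := by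
    rw [← pow_mul]
    have : 2 * (k + 1) = orderOf d + 1 := by omega
    rw [this, pow_succ, pow_orderOf_eq_one, one_mul]
  have hmem : d ^ 2 ∈ MulAction.stabilizer D x₀ := hd2
  have hdmem : d ∈ MulAction.stabilizer D x₀ := by
    rw [hdk]
    exact Subgroup.pow_mem _ hmem _
  have : d • x₀ = x₀ := hdmem
  exact hne (by rw [← this, hd])

/-- The subgroup of elements killed by `2 ^ k`. -/
private def tors (S : Type*) [CommGroup S] (k : ℕ) : Subgroup S := (powMonoidHom (2 ^ k) : S →* S).ker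

private theorem mem_tors {S : Type*} [CommGroup S] (k : ℕ) (s : S) :
    s ∈ tors S k ↔ s ^ (2 ^ k) = 1 := by
  simp [tors, MonoidHom.mem_ker]

private theorem card_tors_succ_le {S : Type*} [CommGroup S] [Finite S] (k : ℕ) :
    Nat.card (tors S (k + 1)) ≤ Nat.card (tors S 1) * Nat.card (tors S k) := by
  classical
  let φ : tors S (k + 1) →* S := (powMonoidHom 2 : S →* S).comp (tors S (k + 1)).subtype
  have h1 : Nat.card (tors S (k + 1)) = Nat.card φ.ker * Nat.card φ.range := by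
    rw [← Subgroup.index_ker, Subgroup.card_mul_index]
  have h2 : Nat.card φ.ker ≤ Nat.card (tors S 1) := by
    refine Nat.card_le_card_of_injective
      (fun x => (⟨x.1.1, ?_⟩ : tors S 1)) ?_
    · rw [mem_tors]
      have := x.2
      rw [MonoidHom.mem_ker] at this
      simpa [φ] using this
    · intro x y hxy
      have : x.1.1 = y.1.1 := by simpa using congrArg Subtype.val hxy
      exact Subtype.ext (Subtype.ext this)
  have h3 : Nat.card φ.range ≤ Nat.card (tors S k) := by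
    apply Subgroup.card_le_of_le
    rintro _ ⟨x, rfl⟩
    rw [mem_tors]
    have := x.2
    rw [mem_tors] at this
    simp only [φ, MonoidHom.comp_apply, Subgroup.coe_subtype, powMonoidHom_apply]
    rw [← pow_mul, ← pow_succ']
    exact this
  rw [h1]
  exact Nat.mul_le_mul h2 h3

/-- R5. -/
theorem four_le_card_sq_eq_one {S : Type*} [CommGroup S] [Finite S] (hS : IsPGroup 2 S)
    (hnc : ¬ IsCyclic S) : 4 ≤ Nat.card {s : S // s ^ 2 = 1} := by
  classical
  by_contra hlt
  push Not at hlt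
  apply hnc
  haveI : Fintype S := Fintype.ofFinite S
  have hT1 : Nat.card (tors S 1) = Nat.card {s : S // s ^ 2 = 1} := by
    apply Nat.card_congr
    refine Equiv.subtypeEquivRight ?_
    intro s
    rw [mem_tors, pow_one]
  have hT1le : Nat.card (tors S 1) ≤ 2 := by
    have hp : IsPGroup 2 (tors S 1) := hS.to_subgroup _
    obtain ⟨n, hn⟩ := IsPGroup.iff_card.mp hp
    rw [hT1] at hn
    rw [hT1, hn]
    rw [hn] at hlt
    have : n < 2 := by
      by_contra h
      push Not at h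
      have : 2 ^ 2 ≤ 2 ^ n := Nat.pow_le_pow_right (by norm_num) h
      omega
    interval_cases n <;> norm_num
  have hTk : ∀ k : ℕ, Nat.card (tors S k) ≤ 2 ^ k := by
    intro k
    induction k with
    | zero =>
      have : tors S 0 = ⊥ := by
        ext s
        rw [mem_tors, Subgroup.mem_bot]
        simp
      rw [this]
      simp
    | succ k ih =>
      calc Nat.card (tors S (k + 1)) ≤ Nat.card (tors S 1) * Nat.card (tors S k) :=
            card_tors_succ_le k
        _ ≤ 2 * 2 ^ k := Nat.mul_le_mul hT1le ih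
        _ = 2 ^ (k + 1) := by ring
  obtain ⟨m, hm⟩ := IsPGroup.iff_card.mp hS
  apply isCyclic_of_card_pow_eq_one_le
  intro n hn
  -- gcd n (2^m) = 2^j
  obtain ⟨j, hj, hgcd⟩ := (Nat.dvd_prime_pow Nat.prime_two).mp (Nat.gcd_dvd_right n (2 ^ m))
  have hjn : 2 ^ j ≤ n := by
    rw [← hgcd]
    exact Nat.le_of_dvd hn (Nat.gcd_dvd_left n (2 ^ m))
  have hsub : ∀ a : S, a ^ n = 1 → a ∈ tors S j := by
    intro a ha
    rw [mem_tors, ← hgcd]
    have h1 : orderOf a ∣ n := orderOf_dvd_of_pow_eq_one ha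
    have h2 : orderOf a ∣ 2 ^ m := by
      rw [← hm]
      exact orderOf_dvd_natCard a
    exact orderOf_dvd_iff_pow_eq_one.mp (Nat.dvd_gcd h1 h2)
  calc (Finset.univ.filter (fun a : S => a ^ n = 1)).card
      ≤ Nat.card (tors S j) := by
        rw [Nat.card_eq_fintype_card, Fintype.card_subtype]
        apply Finset.card_le_card
        intro a ha
        rw [Finset.mem_filter] at ha ⊢
        exact ⟨Finset.mem_univ _, hsub a ha.2⟩
    _ ≤ 2 ^ j := hTk j
    _ ≤ n := hjn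

/-- R8 (three fixed points). -/
theorem eq_one_of_three_fixed {G Ω : Type*} [Group G] [Finite G] [MulAction G Ω]
    (hswap : ∀ a b : Ω, a ≠ b → ∃ w : G, w • a = b ∧ w • b = a ∧
      ∀ d : G, d • a = a → d • b = b → w * d * w⁻¹ = d⁻¹)
    (hodd : ∀ a b : Ω, a ≠ b → ∀ d : G, d • a = a → d • b = b → Odd (orderOf d))
    (hinv : ∀ (a : Ω) (x d : G), x • a = a → d • a = a → (∃ k : ℕ, x ^ (2 ^ k) = 1) →
      Odd (orderOf d) → x * d * x⁻¹ = d⁻¹ → d = 1)
    (g : G) (a b c : Ω) (hab : a ≠ b) (hbc : b ≠ c) (hac : a ≠ c)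
    (ha : g • a = a) (hb : g • b = b) (hc : g • c = c) : g = 1 := by
  obtain ⟨w1, h1a, h1b, h1⟩ := hswap a b hab
  obtain ⟨w2, h2b, h2c, h2⟩ := hswap b c hbc
  obtain ⟨w3, h3a, h3c, h3⟩ := hswap a c hac
  obtain ⟨x, hxa, hxg⟩ : ∃ x : G, x • a = a ∧ x * g * x⁻¹ = g⁻¹ := by
    refine ⟨w3 * w2 * w1, ?_, ?_⟩
    · rw [mul_smul, mul_smul, h1a, h2b, h3c]
    · have e1 := h1 g ha hb
      have e2 := h2 g hb hc
      have e3 := h3 g ha hc
      have e2' : w2 * g⁻¹ * w2⁻¹ = g := by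
        have : w2 * g⁻¹ * w2⁻¹ = (w2 * g * w2⁻¹)⁻¹ := by group
        rw [this, e2, inv_inv]
      calc w3 * w2 * w1 * g * (w3 * w2 * w1)⁻¹
          = w3 * (w2 * (w1 * g * w1⁻¹) * w2⁻¹) * w3⁻¹ := by group
        _ = w3 * g * w3⁻¹ := by rw [e1, e2']
        _ = g⁻¹ := e3
  have hgodd : Odd (orderOf g) := hodd a b hab g ha hb
  -- x² commutes with g
  have hx2 : Commute (x ^ 2) g := by
    have : x ^ 2 * g * (x ^ 2)⁻¹ = g := by
      calc x ^ 2 * g * (x ^ 2)⁻¹ = x * (x * g * x⁻¹) * x⁻¹ := by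
            rw [pow_two, mul_inv_rev]; simp only [mul_assoc]
        _ = x * g⁻¹ * x⁻¹ := by rw [hxg]
        _ = (x * g * x⁻¹)⁻¹ := by simp only [mul_inv_rev, inv_inv, mul_assoc]
        _ = g := by rw [hxg, inv_inv]
    have h := mul_inv_eq_iff_eq_mul.mp this
    exact h
  have hox : orderOf x ≠ 0 := (orderOf_pos x).ne'
  obtain ⟨k, m, hm, hkm⟩ := Nat.exists_eq_two_pow_mul_odd hox
  obtain ⟨j, hj⟩ := hm
  have hy2 : ∃ k : ℕ, (x ^ m) ^ (2 ^ k) = 1 := by
    refine ⟨k, ?_⟩
    rw [← pow_mul, mul_comm, ← hkm, pow_orderOf_eq_one]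
  have hya : (x ^ m) • a = a := by
    have : x ^ m ∈ MulAction.stabilizer G a :=
      Subgroup.pow_mem _ (show x ∈ MulAction.stabilizer G a from hxa) _
    exact this
  have hyg : x ^ m * g * (x ^ m)⁻¹ = g⁻¹ := by
    have hc : Commute ((x ^ 2) ^ j) g := hx2.pow_left j
    have hxm : x ^ m = (x ^ 2) ^ j * x := by
      rw [hj, pow_succ, pow_mul]
    rw [hxm]
    have hc' : Commute ((x ^ 2) ^ j) g⁻¹ := hc.inv_right
    calc (x ^ 2) ^ j * x * g * ((x ^ 2) ^ j * x)⁻¹
        = (x ^ 2) ^ j * (x * g * x⁻¹) * ((x ^ 2) ^ j)⁻¹ := by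
          rw [mul_inv_rev]; simp only [mul_assoc]
      _ = (x ^ 2) ^ j * g⁻¹ * ((x ^ 2) ^ j)⁻¹ := by rw [hxg]
      _ = g⁻¹ := by rw [hc'.eq, mul_inv_cancel_right]
  exact hinv a (x ^ m) g hya ha hy2 hgodd hyg

end Cfsg.Agent.Lib.Helper25.S2202R
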