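import Mathlib
import Cfsg.Agent.Lib.Helper21.SuzD

/-!
# S2202, case (alpha): transport of the induction hypothesis (helper25, for helper21)
-/

set_option autoImplicit false
set_option linter.style.haveILetI false
set_option linter.unusedSectionVars false
set_option linter.unusedVariables false

namespace Cfsg.Agent.Lib.Helper25.SuzAlpha

open Subgroup Cfsg.Agent.Lib.Helper21.Suz
open scoped Pointwise

universe u

variable {G : Type u} [Group G]

/-- transport of `Good ↥Y` to subgroups of `G` -/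
theorem good_transport (Y : Subgroup G) (hg : Good ↥Y) :
    ∃ LG XG : Subgroup G, LG ≤ Y ∧ XG ≤ Y ∧
      (∀ y ∈ Y, ∃ l ∈ LG, ∃ x ∈ XG, y = l * x) ∧
      (∀ g, g ∈ LG → g ∈ XG → g = 1) ∧
      (∀ l ∈ LG, ∀ x ∈ XG, l * x = x * l) ∧
      (∀ a ∈ XG, ∀ b ∈ XG, a * b = b * a) ∧
      (∀ b ∈ XG, Odd (orderOf b)) ∧
      (∀ t ∈ LG, orderOf t = 2 → ∀ c ∈ LG, t * c = c * t → c * c = 1) := by
  obtain ⟨L, B, hLn, hBn, hinf, hsup, hab, hodd, hbsw⟩ := hg
  refine ⟨L.map Y.subtype, B.map Y.subtype, Subgroup.map_subtype_le L, Subgroup.map_subtype_le B,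
    ?_, ?_, ?_, ?_, ?_, ?_⟩
  · intro y hy
    have hmem : (⟨y, hy⟩ : ↥Y) ∈ L ⊔ B := by rw [hsup]; exact Subgroup.mem_top _
    have hset : ((L ⊔ B : Subgroup ↥Y) : Set ↥Y) = (L : Set ↥Y) * (B : Set ↥Y) :=
      Subgroup.mul_normal L B
    have hmem' : (⟨y, hy⟩ : ↥Y) ∈ (L : Set ↥Y) * (B : Set ↥Y) := by
      rw [← hset]; exact hmem
    obtain ⟨l, hl, b, hb, hlb⟩ := Set.mem_mul.mp hmem'
    refine ⟨(l : G), Subgroup.mem_map.mpr ⟨l, hl, rfl⟩, (b : G),
      Subgroup.mem_map.mpr ⟨b, hb, rfl⟩, ?_⟩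
    have := congrArg Subtype.val hlb
    simpa using this.symm
  · intro g hgL hgX
    obtain ⟨l, hl, rfl⟩ := Subgroup.mem_map.mp hgL
    obtain ⟨b, hb, hbl⟩ := Subgroup.mem_map.mp hgX
    have hbl' : b = l := Subtype.ext hbl
    have : l ∈ L ⊓ B := ⟨hl, hbl' ▸ hb⟩
    rw [hinf, Subgroup.mem_bot] at this
    rw [this]; rfl
  · intro l hl x hx
    obtain ⟨l', hl', rfl⟩ := Subgroup.mem_map.mp hl
    obtain ⟨x', hx', rfl⟩ := Subgroup.mem_map.mp hx
    have hd : Disjoint L B := disjoint_iff.mpr hinf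
    have := Subgroup.commute_of_normal_of_disjoint L B hLn hBn hd l' x' hl' hx'
    exact congrArg Subtype.val this.eq
  · intro a ha b hb
    obtain ⟨a', ha', rfl⟩ := Subgroup.mem_map.mp ha
    obtain ⟨b', hb', rfl⟩ := Subgroup.mem_map.mp hb
    exact congrArg Subtype.val (hab a' ha' b' hb')
  · intro b hb
    obtain ⟨b', hb', rfl⟩ := Subgroup.mem_map.mp hb
    have := hodd b' hb'
    rwa [← Subgroup.orderOf_coe] at this
  · intro t ht hto c hc htc
    obtain ⟨t', ht', rfl⟩ := Subgroup.mem_map.mp ht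
    obtain ⟨c', hc', rfl⟩ := Subgroup.mem_map.mp hc
    have h1 : orderOf t' = 2 := by
      rw [← Subgroup.orderOf_coe]; exact hto
    have h2 : t' * c' = c' * t' := Subtype.ext htc
    exact congrArg Subtype.val (hbsw t' ht' h1 c' hc' h2)

/-- ICA passes to subgroups -/
theorem ica_subgroup (h : ICA G) (Y : Subgroup G) : ICA ↥Y := by
  intro t ht a b ha hb
  apply Subtype.ext
  have ht' : orderOf (t : G) = 2 := by rw [Subgroup.orderOf_coe]; exact ht
  exact h (t : G) ht' a b (congrArg Subtype.val ha) (congrArg Subtype.val hb)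

/-- an element of odd order which is a `2`-element is trivial -/
theorem eq_one_of_odd_of_two_pow {x : G} (hodd : Odd (orderOf x)) {k : ℕ} (hx : x ^ (2 ^ k) = 1) :
    x = 1 := by
  have h1 : orderOf x ∣ 2 ^ k := orderOf_dvd_of_pow_eq_one hx
  obtain ⟨j, -, hj⟩ := (Nat.dvd_prime_pow Nat.prime_two).mp h1
  rcases Nat.eq_zero_or_pos j with h0 | h0
  · rw [h0, pow_zero] at hj
    exact orderOf_eq_one_iff.mp hj
  · exfalso
    rw [hj] at hodd
    have : Even (2 ^ j) := (Nat.even_pow' h0.ne').mpr even_two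
    exact (Nat.not_odd_iff_even.mpr this) hodd

/-- conjugation by `g⁻¹` maps the finite subgroup `X` into itself, so `g` normalizes `X` -/
theorem mem_normalizer_of_conj_le [Finite G] (X : Subgroup G) (g : G)
    (hg : ∀ b ∈ X, g⁻¹ * b * g ∈ X) : g ∈ normalizer (X : Set G) := by
  -- all powers of g⁻¹ conjugate X into X
  have hpow : ∀ n : ℕ, ∀ b ∈ X, (g⁻¹) ^ n * b * ((g⁻¹) ^ n)⁻¹ ∈ X := by
    intro n
    induction n with
    | zero => intro b hb; simpa using hb
    | succ n ih =>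
      intro b hb
      have h1 := ih b hb
      have h2 := hg _ h1
      have : (g⁻¹) ^ (n + 1) * b * ((g⁻¹) ^ (n + 1))⁻¹
          = g⁻¹ * ((g⁻¹) ^ n * b * ((g⁻¹) ^ n)⁻¹) * g := by
        rw [pow_succ']
        group
      rw [this]; exact h2
  -- g is a power of g⁻¹
  have hgp : g = (g⁻¹) ^ (orderOf g - 1) := by
    have hpos : 0 < orderOf g := orderOf_pos g
    have : g * g ^ (orderOf g - 1) = 1 := by
      rw [← pow_succ', Nat.sub_add_cancel hpos, pow_orderOf_eq_one]
    rw [inv_pow]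
    exact eq_inv_of_mul_eq_one_left this
  have hfw : ∀ b ∈ X, g * b * g⁻¹ ∈ X := by
    intro b hb
    have := hpow (orderOf g - 1) b hb
    rw [← hgp] at this
    exact this
  rw [Subgroup.mem_normalizer_iff]
  intro b
  constructor
  · exact hfw b
  · intro hb
    have := hg _ hb
    have e : g⁻¹ * (g * b * g⁻¹) * g = b := by group
    rwa [e] at this

end Cfsg.Agent.Lib.Helper25.SuzAlpha
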