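import Mathlib
import Cfsg.Agent.Lib.Helper25.SuzAlpha1

/-!
# S2202, case (alpha): the strongly embedded subgroup `N(X)` (helper25, for helper21)
-/

set_option autoImplicit false
set_option linter.style.haveILetI false
set_option linter.unusedSectionVars false
set_option linter.unusedVariables false

namespace Cfsg.Agent.Lib.Helper25.SuzAlpha

open Subgroup Cfsg.Agent.Lib.Helper21.Suz

universe u

variable {G : Type u} [Group G] [Finite G]

/-- the data of case (alpha): `Y = C(c) = LG × XG` -/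
structure AD (P : Sylow 2 G) (c : G) (Y LG XG : Subgroup G) : Prop where
  hica : ICA G
  hnc : ¬ IsCyclic (P : Subgroup G)
  hnn : ¬ (P : Subgroup G).Normal
  hcore : (normalizer ((P : Subgroup G) : Set G)).normalCore = ⊥
  hc1 : c ≠ 1
  hcodd : Odd (orderOf c)
  hcP : ∀ x ∈ P, c * x = x * c
  hY : ∀ g, g ∈ Y ↔ g * c = c * g
  hcM : ¬ Y ≤ normalizer ((P : Subgroup G) : Set G)
  hLY : LG ≤ Y
  hXY : XG ≤ Y
  hdec : ∀ y ∈ Y, ∃ l ∈ LG, ∃ x ∈ XG, y = l * x
  hdisj : ∀ g, g ∈ LG → g ∈ XG → g = 1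
  hcomm : ∀ l ∈ LG, ∀ x ∈ XG, l * x = x * l
  hXab : ∀ a ∈ XG, ∀ b ∈ XG, a * b = b * a
  hXodd : ∀ b ∈ XG, Odd (orderOf b)
  hbsw : ∀ t ∈ LG, orderOf t = 2 → ∀ d ∈ LG, t * d = d * t → d * d = 1

namespace AD

variable {P : Sylow 2 G} {c : G} {Y LG XG : Subgroup G}

theorem hPY (D : AD P c Y LG XG) : (P : Subgroup G) ≤ Y := fun x hx =>
  (D.hY x).mpr (D.hcP x hx).symm

theorem two_elt_mem_LG (D : AD P c Y LG XG) {y : G} (hy : y ∈ Y) {k : ℕ} (hk : y ^ (2 ^ k) = 1) :
    y ∈ LG := by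
  obtain ⟨l, hl, x, hx, rfl⟩ := D.hdec y hy
  have hc : Commute l x := D.hcomm l hl x hx
  rw [hc.mul_pow] at hk
  have h1 : x ^ (2 ^ k) = (l ^ (2 ^ k))⁻¹ := eq_inv_of_mul_eq_one_right hk
  have h2 : x ^ (2 ^ k) ∈ LG := by
    rw [h1]; exact Subgroup.inv_mem _ (Subgroup.pow_mem _ hl _)
  have h3 : x ^ (2 ^ k) = 1 := D.hdisj _ h2 (Subgroup.pow_mem _ hx _)
  have h4 : x = 1 := eq_one_of_odd_of_two_pow (D.hXodd x hx) h3
  rw [h4, mul_one]; exact hl

theorem sylow_le_LG (D : AD P c Y LG XG) (R : Sylow 2 G) (hR : (R : Subgroup G) ≤ Y) :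
    (R : Subgroup G) ≤ LG := by
  intro x hx
  obtain ⟨k, hk⟩ := R.isPGroup' ⟨x, hx⟩
  have hk' : x ^ (2 ^ k) = 1 := by
    have := congrArg Subtype.val hk
    simpa using this
  exact D.two_elt_mem_LG (hR hx) hk'

theorem exists_s0 (D : AD P c Y LG XG) : ∃ s₀ ∈ P, orderOf s₀ = 2 :=
  exists_invol_of_pgroup (P : Subgroup G) P.isPGroup' (sylow_ne_bot_of_not_normal P D.hnn)

theorem P_exp2 (D : AD P c Y LG XG) : ∀ x ∈ P, x * x = 1 := by
  intro x hx
  obtain ⟨s₀, hs₀P, hs₀⟩ := D.exists_s0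
  have hPL := D.sylow_le_LG P D.hPY
  exact D.hbsw s₀ (hPL hs₀P) hs₀ x (hPL hx) (sylow_comm D.hica P s₀ hs₀P x hx)

theorem mem_XG_iff (D : AD P c Y LG XG) (b : G) :
    b ∈ XG ↔ Odd (orderOf b) ∧ ∀ x ∈ P, b * x = x * b := by
  have hPL := D.sylow_le_LG P D.hPY
  constructor
  · intro hb
    exact ⟨D.hXodd b hb, fun x hx => (D.hcomm x (hPL hx) b hb).symm⟩
  · rintro ⟨hbo, hbP⟩
    obtain ⟨s₀, hs₀P, hs₀⟩ := D.exists_s0
    -- b commutes with c, as both centralize s₀
    have hbc : b * c = c * b :=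
      D.hica s₀ hs₀ b c (hbP s₀ hs₀P).symm (D.hcP s₀ hs₀P).symm
    have hbY : b ∈ Y := (D.hY b).mpr hbc
    obtain ⟨l, hl, x, hx, hblx⟩ := D.hdec b hbY
    have hlx : Commute l x := D.hcomm l hl x hx
    -- l = b * x⁻¹
    have hl' : l = b * x⁻¹ := by rw [hblx, mul_inv_cancel_right]
    have hbx : Commute b x := by
      rw [hblx]
      exact (hlx.mul_left (Commute.refl x))
    -- l commutes with s₀
    have hxs : Commute x s₀ := (D.hcomm s₀ (hPL hs₀P) x hx).symm
    have hbs : Commute b s₀ := hbP s₀ hs₀P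
    have hls : s₀ * l = l * s₀ := by
      rw [hl']
      exact ((hbs.mul_left hxs.inv_left).eq).symm
    have hll : l * l = 1 := D.hbsw s₀ (hPL hs₀P) hs₀ l hl hls
    -- l has odd order
    have hlodd : Odd (orderOf l) := by
      have h1 : l ^ (orderOf b * orderOf x) = 1 := by
        rw [hl', (hbx.inv_right).mul_pow, pow_mul, pow_orderOf_eq_one, one_pow, one_mul,
          mul_comm, pow_mul, inv_pow, pow_orderOf_eq_one, inv_one, one_pow]
      have h2 : orderOf l ∣ orderOf b * orderOf x := orderOf_dvd_of_pow_eq_one h1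
      exact Odd.of_dvd_nat (hbo.mul (D.hXodd x hx)) h2
    have hl1 : l = 1 :=
      eq_one_of_odd_of_two_pow hlodd (k := 1) (by rw [pow_one, pow_two]; exact hll)
    rw [hblx, hl1, one_mul]; exact hx

theorem c_mem_XG (D : AD P c Y LG XG) : c ∈ XG :=
  (D.mem_XG_iff c).mpr ⟨D.hcodd, D.hcP⟩

theorem comm_XG_of_mem_Y (D : AD P c Y LG XG) {y : G} (hy : y ∈ Y) :
    ∀ b ∈ XG, y * b = b * y := by
  intro b hb
  obtain ⟨l, hl, x, hx, rfl⟩ := D.hdec y hy
  have h1 : Commute l b := D.hcomm l hl b hb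
  have h2 : Commute x b := D.hXab x hx b hb
  exact (h1.mul_left h2).eq

theorem mem_Y_of_comm (D : AD P c Y LG XG) {g : G} (hg : ∀ b ∈ XG, g * b = b * g) : g ∈ Y :=
  (D.hY g).mpr (hg c D.c_mem_XG)

theorem Y_le_N1 (D : AD P c Y LG XG) : Y ≤ normalizer (XG : Set G) := by
  intro y hy
  apply mem_normalizer_of_conj_le
  intro b hb
  have h1 := D.comm_XG_of_mem_Y hy b hb
  have : y⁻¹ * b * y = b := by
    rw [mul_assoc, ← h1, ← mul_assoc, inv_mul_cancel, one_mul]
  rw [this]; exact hb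

theorem conj_mem_XG (D : AD P c Y LG XG) {μ : G} (hμ : μ ∈ normalizer (XG : Set G)) {b : G}
    (hb : b ∈ XG) : μ⁻¹ * b * μ ∈ XG := by
  have h1 : μ⁻¹ ∈ normalizer (XG : Set G) := Subgroup.inv_mem _ hμ
  have := (Subgroup.mem_normalizer_iff.mp h1 b).mp hb
  rwa [inv_inv] at this

/-- step 5: an involution normalizing `XG` centralizes it -/
theorem invol_N1_comm (D : AD P c Y LG XG) {t : G} (ht : orderOf t = 2)
    (htN : t ∈ normalizer (XG : Set G)) : ∀ b ∈ XG, t * b = b * t := by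
  intro b hb
  obtain ⟨s₀, hs₀P, hs₀⟩ := D.exists_s0
  have hz : s₀ * s₀ = 1 := sq_of_two hs₀
  have htt : t * t = 1 := sq_of_two ht
  have hpos : 0 < orderOf (s₀ * t) := orderOf_pos _
  obtain ⟨k, hk | hk⟩ := Nat.even_or_odd' (orderOf (s₀ * t))
  · -- even order
    have hk0 : 0 < k := by omega
    obtain ⟨hzo, hzs, hzt⟩ := Cfsg.Agent.Lib.Helper9.dihedral_even hz htt hk hk0
    set z := (s₀ * t) ^ k with hzdef
    have hzP1 : ∀ x ∈ P, z * x = x * z := cent_invol D.hica P hs₀ hs₀P hzs.eq.symm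
    have hzN : z ∈ normalizer ((P : Subgroup G) : Set G) := by
      apply Subgroup.centralizer_le_normalizer
      rw [Subgroup.mem_centralizer_iff]
      intro x hx
      exact (hzP1 x hx).symm
    have hzP : z ∈ P := invol_mem_sylow_of_normalizer P hzN hzo
    have htP1 : ∀ x ∈ P, t * x = x * t := cent_invol D.hica P hzo hzP hzt.eq
    have htN' : t ∈ normalizer ((P : Subgroup G) : Set G) := by
      apply Subgroup.centralizer_le_normalizer
      rw [Subgroup.mem_centralizer_iff]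
      intro x hx
      exact (htP1 x hx).symm
    have htP : t ∈ P := invol_mem_sylow_of_normalizer P htN' ht
    exact (((D.mem_XG_iff b).mp hb).2 t htP).symm
  · -- odd order
    obtain ⟨hμμ, hμs⟩ := Cfsg.Agent.Lib.Helper9.dihedral_odd hz htt hk
    set μ := (s₀ * t) ^ k * s₀ with hμdef
    have hs₀N : s₀ ∈ normalizer (XG : Set G) := D.Y_le_N1 (D.hPY hs₀P)
    have hμN : μ ∈ normalizer (XG : Set G) :=
      Subgroup.mul_mem _ (Subgroup.pow_mem _ (Subgroup.mul_mem _ hs₀N htN) _) hs₀N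
    have hb' : μ⁻¹ * b * μ ∈ XG := D.conj_mem_XG hμN hb
    have hsb : (μ⁻¹ * b * μ) * s₀ = s₀ * (μ⁻¹ * b * μ) := ((D.mem_XG_iff _).mp hb').2 s₀ hs₀P
    rw [← hμs]
    calc μ * s₀ * μ⁻¹ * b = μ * (s₀ * (μ⁻¹ * b * μ)) * μ⁻¹ := by group
      _ = μ * ((μ⁻¹ * b * μ) * s₀) * μ⁻¹ := by rw [hsb]
      _ = b * (μ * s₀ * μ⁻¹) := by group

/-- step 6: the Sylow 2-subgroup containing an involution centralizing `XG` is an `N(XG)`-conjugate
of `P` -/
theorem mem_N1_of_invol (D : AD P c Y LG XG) {t : G} (ht : orderOf t = 2)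
    (htX : ∀ b ∈ XG, t * b = b * t) {g : G} (htg : t ∈ g • P) : g ∈ normalizer (XG : Set G) := by
  apply mem_normalizer_of_conj_le
  intro b hb
  rw [D.mem_XG_iff]
  have hbgP : ∀ x ∈ g • P, b * x = x * b := cent_invol D.hica (g • P) ht htg (htX b hb)
  constructor
  · have := orderOf_conj' g⁻¹ b
    rw [inv_inv] at this
    rw [this]; exact D.hXodd b hb
  · intro x hx
    have h1 := hbgP _ (smul_mem_smul_sylow (g := g) hx)
    calc g⁻¹ * b * g * x = g⁻¹ * (b * (g * x * g⁻¹)) * g := by group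
      _ = g⁻¹ * ((g * x * g⁻¹) * b) * g := by rw [h1]
      _ = x * (g⁻¹ * b * g) := by group

theorem XG_le_normalizer (D : AD P c Y LG XG) : XG ≤ normalizer ((P : Subgroup G) : Set G) := by
  intro b hb
  apply Subgroup.centralizer_le_normalizer
  rw [Subgroup.mem_centralizer_iff]
  intro x hx
  exact (((D.mem_XG_iff b).mp hb).2 x hx).symm

/-- step 7: `N(XG)` is strongly embedded -/
theorem se_N1 (D : AD P c Y LG XG) : Cfsg.IsStronglyEmbedded (normalizer (XG : Set G)) := by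
  haveI : Fact (Nat.Prime 2) := ⟨Nat.prime_two⟩
  refine ⟨?_, ?_, ?_⟩
  · intro htop
    haveI : XG.Normal := Subgroup.normalizer_eq_top_iff.mp htop
    have h1 : XG ≤ (normalizer ((P : Subgroup G) : Set G)).normalCore :=
      Subgroup.normal_le_normalCore.mpr D.XG_le_normalizer
    rw [D.hcore] at h1
    exact D.hc1 ((Subgroup.mem_bot).mp (h1 D.c_mem_XG))
  · obtain ⟨s₀, hs₀P, hs₀⟩ := D.exists_s0
    have hs₀N : s₀ ∈ normalizer (XG : Set G) := D.Y_le_N1 (D.hPY hs₀P)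
    have h1 : orderOf (⟨s₀, hs₀N⟩ : normalizer (XG : Set G)) = 2 := by
      rw [← Subgroup.orderOf_coe]; exact hs₀
    have := orderOf_dvd_natCard (⟨s₀, hs₀N⟩ : normalizer (XG : Set G))
    rw [h1] at this
    exact even_iff_two_dvd.mpr this
  · intro g hg
    by_contra hodd
    rw [Nat.not_odd_iff_even] at hodd
    obtain ⟨x, hx⟩ := exists_prime_orderOf_dvd_card' 2 (even_iff_two_dvd.mp hodd)
    have hxt : orderOf (x : G) = 2 := by rw [Subgroup.orderOf_coe]; exact hx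
    have hx1 : (x : G) ∈ normalizer (XG : Set G) := x.2.1
    have hx2 : g⁻¹ * (x : G) * g ∈ normalizer (XG : Set G) :=
      (mem_map_conj_iff _ g (x : G)).mp x.2.2
    obtain ⟨R, hR⟩ := exists_sylow_of_invol hxt
    obtain ⟨a, rfl⟩ := MulAction.exists_smul_eq G P R
    have haN := D.mem_N1_of_invol hxt (D.invol_N1_comm hxt hx1) hR
    have hxt' : orderOf (g⁻¹ * (x : G) * g) = 2 := by
      have := orderOf_conj' g⁻¹ (x : G)
      rw [inv_inv] at this
      rw [this]; exact hxt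
    have hR' : g⁻¹ * (x : G) * g ∈ (g⁻¹ * a) • P := by
      rw [mem_smul_sylow]
      rw [mem_smul_sylow] at hR
      have : (g⁻¹ * a)⁻¹ * (g⁻¹ * (x : G) * g) * (g⁻¹ * a) = a⁻¹ * (x : G) * a := by group
      rw [this]; exact hR
    have hgaN := D.mem_N1_of_invol hxt' (D.invol_N1_comm hxt' hx2) hR'
    have hginv : g⁻¹ ∈ normalizer (XG : Set G) := by
      have := Subgroup.mul_mem _ hgaN (Subgroup.inv_mem _ haN)
      rwa [mul_inv_cancel_right] at this
    exact hg (by simpa using Subgroup.inv_mem _ hginv)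

/-- step 8: some involution lies outside `N(XG)` -/
theorem exists_invol_not_N1 (D : AD P c Y LG XG) :
    ∃ u : G, orderOf u = 2 ∧ u ∉ normalizer (XG : Set G) := by
  by_contra hall
  push Not at hall
  have hcore : c ∈ (normalizer ((P : Subgroup G) : Set G)).normalCore := by
    rw [mem_normalCore_normalizer_iff]
    intro Q
    have hQnn := not_normal_sylow P Q D.hnn
    obtain ⟨t, htQ, ht⟩ := exists_invol_of_pgroup (Q : Subgroup G) Q.isPGroup'
      (sylow_ne_bot_of_not_normal Q hQnn)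
    have htc : t * c = c * t := D.invol_N1_comm ht (hall t ht) c D.c_mem_XG
    have hcQ : ∀ x ∈ Q, c * x = x * c := cent_invol D.hica Q ht htQ htc
    rw [← mem_normalizer_sylow_iff]
    apply Subgroup.centralizer_le_normalizer
    rw [Subgroup.mem_centralizer_iff]
    intro x hx
    exact (hcQ x hx).symm
  rw [D.hcore] at hcore
  exact D.hc1 ((Subgroup.mem_bot).mp hcore)

end AD

end Cfsg.Agent.Lib.Helper25.SuzAlpha
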