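import Mathlib
import Cfsg.Agent.Lib.Helper25.SuzAlpha2
import Cfsg.Agent.Lib.Helper25.S2202R
import Cfsg.Agent.Lib.Helper2.S2202R

/-!
# S2202, case (alpha): the parity contradiction (helper25, for helper21)
-/

set_option autoImplicit false
set_option linter.style.haveILetI false
set_option linter.unusedSectionVars false
set_option linter.unusedVariables false

namespace Cfsg.Agent.Lib.Helper25.SuzAlpha

open Subgroup Cfsg.Agent.Lib.Helper21.Suz

universe u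

variable {G : Type u} [Group G] [Finite G]

namespace AD

variable {P : Sylow 2 G} {c : G} {Y LG XG : Subgroup G}

/-- `N(XG)` permutes the Sylow 2-subgroups of `Y` -/
theorem smul_le_Y (D : AD P c Y LG XG) {d : G} (hd : d ∈ normalizer (XG : Set G))
    (R : Sylow 2 G) (hR : (R : Subgroup G) ≤ Y) : ((d • R : Sylow 2 G) : Subgroup G) ≤ Y := by
  intro x hx
  have hx' : d⁻¹ * x * d ∈ R := mem_smul_sylow.mp hx
  apply D.mem_Y_of_comm
  intro b hb
  have hb' : d⁻¹ * b * d ∈ XG := D.conj_mem_XG hd hb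
  have h1 := D.comm_XG_of_mem_Y (hR hx') _ hb'
  calc x * b = d * ((d⁻¹ * x * d) * (d⁻¹ * b * d)) * d⁻¹ := by group
    _ = d * ((d⁻¹ * b * d) * (d⁻¹ * x * d)) * d⁻¹ := by rw [h1]
    _ = b * x := by group

theorem exists_R0 (D : AD P c Y LG XG) :
    ∃ R₀ : Sylow 2 G, (R₀ : Subgroup G) ≤ Y ∧ R₀ ≠ P := by
  obtain ⟨y, hyY, hyN⟩ := SetLike.not_le_iff_exists.mp D.hcM
  refine ⟨y • P, D.smul_le_Y (D.Y_le_N1 hyY) P D.hPY, ?_⟩
  intro h
  exact hyN (mem_normalizer_sylow_iff.mpr h)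

/-- (iii): `P` is transitive on the other Sylow 2-subgroups of `Y` -/
theorem P_trans (D : AD P c Y LG XG) (R R' : Sylow 2 G) (hR : (R : Subgroup G) ≤ Y)
    (hR' : (R' : Subgroup G) ≤ Y) (hRP : R ≠ P) (hR'P : R' ≠ P) : ∃ s ∈ P, s • R = R' := by
  haveI : Fact (Nat.Prime 2) := ⟨Nat.prime_two⟩
  have hPL := D.sylow_le_LG P D.hPY
  have hRL := D.sylow_le_LG R hR
  have hRL' := D.sylow_le_LG R' hR'
  have hB : BSW ↥LG := by
    intro t ht d htd
    apply Subtype.ext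
    have ht' : orderOf (t : G) = 2 := by rw [Subgroup.orderOf_coe]; exact ht
    exact D.hbsw t t.2 ht' d d.2 (congrArg Subtype.val htd)
  obtain ⟨T, hT⟩ : ∃ T : Sylow 2 ↥LG, T = P.subtype hPL := ⟨_, rfl⟩
  have hTmem : ∀ t : ↥LG, t ∈ T ↔ (t : G) ∈ P := by
    intro t
    rw [hT]
    exact Iff.rfl
  have hTnc : ¬ IsCyclic (T : Subgroup ↥LG) := by
    intro hcyc
    apply D.hnc
    have e : ((P : Subgroup G).subgroupOf LG) ≃* (P : Subgroup G) :=
      Subgroup.subgroupOfEquivOfLe hPL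
    have hcyc' : IsCyclic ((P : Subgroup G).subgroupOf LG) := by
      rw [hT] at hcyc
      exact hcyc
    exact isCyclic_of_surjective e.toMonoidHom e.surjective
  have hTnn : ¬ (T : Subgroup ↥LG).Normal := by
    intro hTn
    apply D.hcM
    intro y hy
    obtain ⟨l, hl, x, hx, rfl⟩ := D.hdec y hy
    refine Subgroup.mul_mem _ ?_ (D.XG_le_normalizer hx)
    apply mem_normalizer_of_conj_le
    intro b hb
    have hbT : (⟨b, hPL hb⟩ : ↥LG) ∈ (T : Subgroup ↥LG) := (hTmem _).mpr hb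
    have := hTn.conj_mem _ hbT (⟨l, hl⟩ : ↥LG)⁻¹
    have h2 := (hTmem _).mp this
    have h3 : l⁻¹ * b * l ∈ P := by simpa using h2
    exact h3
  obtain ⟨htrans, -⟩ := bsw_facts hB T hTnc hTnn
  -- conjugating elements
  have key : ∀ R₂ : Sylow 2 G, ∀ hR₂ : (R₂ : Subgroup G) ≤ LG, R₂ ≠ P →
      ∃ l : ↥LG, l • T = R₂.subtype hR₂ ∧ l • T ≠ T ∧ (l : G) • P = R₂ := by
    intro R₂ hR₂ hne
    obtain ⟨l, hl⟩ := MulAction.exists_smul_eq ↥LG T (R₂.subtype hR₂)
    have h1 : l • P = R₂ := by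
      rw [hT, Sylow.smul_subtype] at hl
      exact Sylow.subtype_injective hl
    refine ⟨l, hl, ?_, h1⟩
    intro h2
    rw [h2, hT] at hl
    exact hne (Sylow.subtype_injective hl).symm
  obtain ⟨l, hl, hlT, hlP⟩ := key R hRL hRP
  obtain ⟨l', hl', hlT', hlP'⟩ := key R' hRL' hR'P
  obtain ⟨t, htT, ht⟩ := htrans l l' hlT hlT'
  refine ⟨(t : G), (hTmem t).mp htT, ?_⟩
  rw [hl', mul_smul, hl] at ht
  -- t • R.subtype = R'.subtype
  have h3 : t • R.subtype hRL = (t • R).subtype (Sylow.smul_le hRL t) := Sylow.smul_subtype hRL t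
  rw [h3] at ht
  exact Sylow.subtype_injective ht

/-- the final contradiction -/
theorem false_of (D : AD P c Y LG XG) : False := by
  haveI : Fact (Nat.Prime 2) := ⟨Nat.prime_two⟩
  have hse := D.se_N1
  obtain ⟨u, hu, huN⟩ := D.exists_invol_not_N1
  obtain ⟨N₁, hN₁⟩ : ∃ N₁ : Subgroup G, N₁ = normalizer (XG : Set G) := ⟨_, rfl⟩
  rw [← hN₁] at hse huN
  obtain ⟨D₁, hD₁⟩ : ∃ D₁ : Subgroup G, D₁ = N₁ ⊓ N₁.map (MulAut.conj u).toMonoidHom := ⟨_, rfl⟩
  have hD₁odd : Odd (Nat.card D₁) := by rw [hD₁]; exact hse.2.2 u huN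
  have hD₁N : ∀ d ∈ D₁, d ∈ normalizer (XG : Set G) := by
    intro d hd
    rw [hD₁] at hd
    rw [← hN₁]; exact hd.1
  have hYN : ∀ y ∈ Y, y ∈ N₁ := by
    intro y hy; rw [hN₁]; exact D.Y_le_N1 hy
  have hconj : ∀ s t : G, orderOf s = 2 → s ∈ N₁ → orderOf t = 2 → t ∈ N₁ →
      ∃ d ∈ D₁, d * s * d⁻¹ = t := by
    intro s t hs hsN ht htN
    rw [hD₁]
    exact (Cfsg.Agent.S1225.result N₁ hse u hu huN s t hs hsN ht htN).1
  obtain ⟨s₀, hs₀P, hs₀⟩ := D.exists_s0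
  obtain ⟨H, hH⟩ : ∃ H : Subgroup G, H = D₁ ⊓ normalizer ((P : Subgroup G) : Set G) := ⟨_, rfl⟩
  have hHD : H ≤ D₁ := by rw [hH]; exact inf_le_left
  have hHodd : Odd (Nat.card H) := Odd.of_dvd_nat hD₁odd (Subgroup.card_dvd_of_le hHD)
  have hHP : ∀ h ∈ H, h • P = P := by
    intro h hh
    rw [hH] at hh
    exact mem_normalizer_sylow_iff.mp hh.2
  -- (i)
  have hi : ∀ s t : G, orderOf s = 2 → s ∈ P → orderOf t = 2 → t ∈ P →
      ∃ d ∈ H, d * s * d⁻¹ = t := by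
    intro s t hs hsP ht htP
    obtain ⟨d, hd, hdst⟩ := hconj s t hs (hYN _ (D.hPY hsP)) ht (hYN _ (D.hPY htP))
    refine ⟨d, ?_, hdst⟩
    rw [hH]
    refine Subgroup.mem_inf.mpr ⟨hd, ?_⟩
    rw [mem_normalizer_sylow_iff]
    have h1 : t ∈ d • P := by rw [← hdst]; exact smul_mem_smul_sylow hsP
    exact (sylow_TI D.hica P (d • P) (ne_one_of_two ht) htP h1).symm
  -- (ii)
  have hii : ∀ R : Sylow 2 G, (R : Subgroup G) ≤ Y → ∃ d ∈ D₁, d • P = R := by
    intro R hR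
    obtain ⟨t, htR, ht⟩ := exists_invol_of_pgroup (R : Subgroup G) R.isPGroup'
      (sylow_ne_bot_of_not_normal R (not_normal_sylow P R D.hnn))
    obtain ⟨d, hd, hdst⟩ := hconj s₀ t hs₀ (hYN _ (D.hPY hs₀P)) ht (hYN _ (hR htR))
    refine ⟨d, hd, ?_⟩
    have h1 : t ∈ d • P := by rw [← hdst]; exact smul_mem_smul_sylow hs₀P
    exact sylow_TI D.hica (d • P) R (ne_one_of_two ht) h1 htR
  -- a 2-element of P fixing a Sylow subgroup R ≠ P is trivial
  have hfree : ∀ R : Sylow 2 G, R ≠ P → ∀ s ∈ P, s • R = R → s = 1 := by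
    intro R hRP s hsP hsR
    by_contra hs1
    have hsN : s ∈ normalizer ((R : Subgroup G) : Set G) := mem_normalizer_sylow_iff.mpr hsR
    have hsR' : s ∈ R := mem_sylow_of_normalizer R hsN (k := 1)
      (by rw [pow_one, pow_two]; exact D.P_exp2 s hsP)
    exact hRP (sylow_TI D.hica P R hs1 hsP hsR').symm
  -- (iv)
  obtain ⟨R₀, hR₀Y, hR₀P⟩ := D.exists_R0
  -- (v)
  have hv := Cfsg.Agent.Lib.Helper2.S2202R.exists_fixed_in_orbit (G := G) (X := Sylow 2 G)
    (P : Subgroup G) H (D.P_exp2) (sylow_comm D.hica P)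
    (by
      intro h hh s hs
      rw [hH] at hh
      exact (Subgroup.mem_normalizer_iff.mp hh.2 s).mp hs)
    hHodd R₀ (hfree R₀ hR₀P)
    (by
      intro h hh
      have h1 : ((h • R₀ : Sylow 2 G) : Subgroup G) ≤ Y := D.smul_le_Y (hD₁N h (hHD hh)) R₀ hR₀Y
      have h2 : h • R₀ ≠ P := by
        intro heq
        apply hR₀P
        have : h • R₀ = h • P := by rw [heq, hHP h hh]
        exact MulAction.injective h this
      obtain ⟨s, hsP, hs⟩ := D.P_trans R₀ (h • R₀) hR₀Y h1 hR₀P h2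
      exact ⟨s, hsP, hs.symm⟩)
  obtain ⟨s₁, hs₁P, hfix⟩ := hv
  obtain ⟨R₁, hR₁⟩ : ∃ R₁ : Sylow 2 G, R₁ = s₁ • R₀ := ⟨_, rfl⟩
  rw [← hR₁] at hfix
  have hR₁Y : (R₁ : Subgroup G) ≤ Y := by
    rw [hR₁]; exact D.smul_le_Y (D.Y_le_N1 (D.hPY hs₁P)) R₀ hR₀Y
  have hR₁P : R₁ ≠ P := by
    intro heq
    apply hR₀P
    have h1 : s₁ • P = P := mem_normalizer_sylow_iff.mp (Subgroup.le_normalizer hs₁P)
    have : s₁ • R₀ = s₁ • P := by rw [← hR₁, heq, h1]
    exact MulAction.injective s₁ this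
  -- (vi)
  have hvi : ∀ R : Sylow 2 G, (R : Subgroup G) ≤ Y → R ≠ P → (∀ h ∈ H, h • R = R) → R = R₁ := by
    intro R hRY hRP hRfix
    obtain ⟨s, hsP, hsR⟩ := D.P_trans R₁ R hR₁Y hRY hR₁P hRP
    by_cases hs1 : s = 1
    · rw [hs1, one_smul] at hsR; exact hsR.symm
    · exfalso
      have hso : orderOf s = 2 := two_of_sq (D.P_exp2 s hsP) hs1
      -- a third involution
      obtain ⟨s', hs'P, hs'1, hs's⟩ : ∃ s' ∈ P, s' ≠ 1 ∧ s' ≠ s := by
        by_contra hall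
        push Not at hall
        apply D.hnc
        refine ⟨⟨⟨s, hsP⟩, ?_⟩⟩
        intro x
        by_cases hx1 : (x : G) = 1
        · refine ⟨0, ?_⟩
          apply Subtype.ext
          simp [hx1]
        · refine ⟨1, ?_⟩
          apply Subtype.ext
          have := hall (x : G) x.2 hx1
          simp [this]
      have hs'o : orderOf s' = 2 := two_of_sq (D.P_exp2 s' hs'P) hs'1
      obtain ⟨h, hh, hhs⟩ := hi s s' hso hsP hs'o hs'P
      have h1 : h • R = s' • R₁ := by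
        rw [← hsR, ← mul_smul]
        have : h * s = s' * h := by rw [← hhs]; group
        rw [this, mul_smul, hfix h hh]
      rw [hRfix h hh, ← hsR] at h1
      -- s • R₁ = s' • R₁
      have h2 : (s⁻¹ * s') • R₁ = R₁ := by
        rw [mul_smul, ← h1, ← mul_smul, inv_mul_cancel, one_smul]
      have h3 := hfree R₁ hR₁P (s⁻¹ * s') (Subgroup.mul_mem _ (Subgroup.inv_mem _ hsP) hs'P) h2
      apply hs's
      have : s' = s * (s⁻¹ * s') := by group
      rw [this, h3, mul_one]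
  -- (vii)
  have hP0 : P ∈ MulAction.orbit ↥D₁ P := MulAction.mem_orbit_self P
  have hR1o : R₁ ∈ MulAction.orbit ↥D₁ P := by
    obtain ⟨d, hd, hdR⟩ := hii R₁ hR₁Y
    exact ⟨⟨d, hd⟩, hdR⟩
  refine Cfsg.Agent.Lib.Helper25.S2202R.no_two_fixed (D := ↥D₁) (X := ↥(MulAction.orbit ↥D₁ P))
    hD₁odd ⟨P, hP0⟩ ⟨R₁, hR1o⟩ ?_ ?_ ?_
  · intro heq
    exact hR₁P (congrArg Subtype.val heq).symm
  · intro h hh
    rw [MulAction.mem_stabilizer_iff] at hh
    have h1 : (h : G) • P = P := congrArg Subtype.val hh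
    have h2 : (h : G) ∈ H := by
      rw [hH]
      exact Subgroup.mem_inf.mpr ⟨h.2, mem_normalizer_sylow_iff.mpr h1⟩
    apply Subtype.ext
    exact hfix (h : G) h2
  · rintro ⟨R, hRo⟩ hRfix
    have hRY : (R : Subgroup G) ≤ Y := by
      obtain ⟨d, hd⟩ := hRo
      rw [← hd]
      exact D.smul_le_Y (hD₁N (d : G) d.2) P D.hPY
    by_cases hRP : R = P
    · left; exact Subtype.ext hRP
    · right
      apply Subtype.ext
      apply hvi R hRY hRP
      intro h hh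
      have hst : (⟨h, hHD hh⟩ : ↥D₁) ∈ MulAction.stabilizer ↥D₁
          (⟨P, hP0⟩ : ↥(MulAction.orbit ↥D₁ P)) := by
        rw [MulAction.mem_stabilizer_iff]
        apply Subtype.ext
        exact hHP h hh
      have := hRfix _ hst
      exact congrArg Subtype.val this

end AD

end Cfsg.Agent.Lib.Helper25.SuzAlpha
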