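import Mathlib
import Cfsg.Agent.Lib.Helper25.SuzAlpha3

/-!
# S2202, case (alpha) (helper25, for helper21)

`c ≠ 1` of odd order centralizes the noncyclic, non-normal Sylow 2-subgroup `P`, `C(c) ≰ N(P)` and
`N(P)` is core-free: contradiction (using the induction hypothesis on `C(c)`).
-/

set_option autoImplicit false
set_option linter.style.haveILetI false
set_option linter.unusedSectionVars false
set_option linter.unusedVariables false

namespace Cfsg.Agent.Lib.Helper25.SuzAlpha

open Subgroup Cfsg.Agent.Lib.Helper21.Suz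

universe u

theorem alpha_case {G : Type u} [Group G] [Finite G] (IH : IHyp G) (h : ICA G) (P : Sylow 2 G)
    (hnc : ¬ IsCyclic (P : Subgroup G)) (hnn : ¬ (P : Subgroup G).Normal)
    (hcore : (normalizer ((P : Subgroup G) : Set G)).normalCore = ⊥) (c : G) (hc1 : c ≠ 1)
    (hcodd : Odd (orderOf c)) (hcP : ∀ x ∈ P, c * x = x * c)
    (hcM : ¬ centralizer ({c} : Set G) ≤ normalizer ((P : Subgroup G) : Set G)) : False := by
  haveI : Fact (Nat.Prime 2) := ⟨Nat.prime_two⟩
  obtain ⟨Y, hYdef⟩ : ∃ Y : Subgroup G, Y = centralizer ({c} : Set G) := ⟨_, rfl⟩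
  have hY : ∀ g, g ∈ Y ↔ g * c = c * g := by
    intro g
    rw [hYdef]
    exact Subgroup.mem_centralizer_singleton_iff
  rw [← hYdef] at hcM
  have hPY : (P : Subgroup G) ≤ Y := fun x hx => (hY x).mpr (hcP x hx).symm
  -- Y is a proper subgroup
  have hYtop : Y ≠ ⊤ := by
    intro htop
    have hcen : ∀ g : G, g * c = c * g := fun g => (hY g).mp (htop ▸ Subgroup.mem_top g)
    have hc : c ∈ (normalizer ((P : Subgroup G) : Set G)).normalCore := by
      rw [mem_normalCore_normalizer_iff]
      intro Q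
      rw [← mem_normalizer_sylow_iff]
      apply Subgroup.centralizer_le_normalizer
      rw [Subgroup.mem_centralizer_iff]
      intro x _
      exact hcen x
    rw [hcore] at hc
    exact hc1 ((Subgroup.mem_bot).mp hc)
  have hlt : Nat.card ↥Y < Nat.card G := by
    by_contra hge
    push Not at hge
    have hle : Nat.card ↥Y ≤ Nat.card G := Subgroup.card_le_card_group Y
    exact hYtop ((Subgroup.card_eq_iff_eq_top Y).mp (le_antisymm hle hge))
  -- the induction hypothesis on Y
  obtain ⟨Q, hQ⟩ : ∃ Q : Sylow 2 ↥Y, Q = P.subtype hPY := ⟨_, rfl⟩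
  have hQmem : ∀ t : ↥Y, t ∈ Q ↔ (t : G) ∈ P := by
    intro t
    rw [hQ]
    exact Iff.rfl
  have hQnc : ¬ IsCyclic (Q : Subgroup ↥Y) := by
    intro hcyc
    apply hnc
    have e : ((P : Subgroup G).subgroupOf Y) ≃* (P : Subgroup G) :=
      Subgroup.subgroupOfEquivOfLe hPY
    have hcyc' : IsCyclic ((P : Subgroup G).subgroupOf Y) := by
      rw [hQ] at hcyc
      exact hcyc
    exact isCyclic_of_surjective e.toMonoidHom e.surjective
  have hQnn : ¬ (Q : Subgroup ↥Y).Normal := by
    intro hQn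
    apply hcM
    intro y hy
    apply mem_normalizer_of_conj_le
    intro b hb
    have hbQ : (⟨b, hPY hb⟩ : ↥Y) ∈ (Q : Subgroup ↥Y) := (hQmem _).mpr hb
    have := hQn.conj_mem _ hbQ (⟨y, hy⟩ : ↥Y)⁻¹
    have h2 := (hQmem _).mp this
    have h3 : y⁻¹ * b * y ∈ P := by simpa using h2
    exact h3
  have hgood : Good ↥Y := IH ↥Y hlt (ica_subgroup h Y) Q hQnc hQnn
  obtain ⟨LG, XG, hLY, hXY, hdec, hdisj, hcomm, hXab, hXodd, hbsw⟩ := good_transport Y hgood
  have D : AD P c Y LG XG :=
    { hica := h, hnc := hnc, hnn := hnn, hcore := hcore, hc1 := hc1, hcodd := hcodd, hcP := hcP,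
      hY := hY, hcM := hcM, hLY := hLY, hXY := hXY, hdec := hdec, hdisj := hdisj, hcomm := hcomm,
      hXab := hXab, hXodd := hXodd, hbsw := hbsw }
  exact D.false_of

end Cfsg.Agent.Lib.Helper25.SuzAlpha
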