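import Mathlib
import Cfsg.Agent.Lib.Helper2.DegreeRatio
import Cfsg.Agent.Lib.Helper7.QuotientBlock
import Cfsg.Agent.Lib.Helper7.CliffordCentral
import Cfsg.Agent.Lib.Helper25.Kernel
import Cfsg.Agent.Lib.Helper25.Codegree
import Cfsg.Agent.Lib.Helper25.CharBasic

/-!
# Characters of defect zero modulo a normal subgroup (helper25 library)

* `classInner_comp_surjective`: inner products are preserved by pulling back along a surjective
  homomorphism.
* `defect_zero_restrict`: constituents of the restriction of a character of `p`-defect zero to a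
  normal subgroup have `p`-defect zero.
* `exists_constituent_mod`: if `χ ∈ Irr(H)` has the normal subgroup `Q` in its kernel and
  `ν(χ(1)) + ν|Q| = ν|H|`, then for every normal subgroup `N` of `H` some constituent `ϑ` of `χ_N`
  has `Q ∩ N` in its kernel and `ν(ϑ(1)) + ν|Q ∩ N| = ν|N|`.
* `normal_pgroup_le_of_defect_zero_mod`: in that situation every normal `p`-subgroup lies in `Q`.
-/

set_option autoImplicit false

namespace Cfsg.Agent.Lib.Helper25

open Cfsg
open scoped ComplexConjugate

section Surj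

variable {K K' : Type*} [Group K] [Group K'] [Fintype K] [Fintype K']

theorem sum_comp_surjective (f : K →* K') (hf : Function.Surjective f) (F : K' → ℂ) :
    ∑ k : K, F (f k) = (Nat.card f.ker : ℂ) * ∑ k' : K', F k' := by
  classical
  haveI : Fintype f.ker := Fintype.ofFinite _
  haveI : Fintype (K ⧸ f.ker) := Fintype.ofFinite _
  let e : K ⧸ f.ker ≃* K' := QuotientGroup.quotientKerEquivOfSurjective f hf
  have h1 := Cfsg.Agent.Lib.Helper7.sum_comp_mk f.ker (fun q => F (e q))
  have h2 : ∀ k : K, F (e (k : K ⧸ f.ker)) = F (f k) := fun k => rfl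
  simp only [h2] at h1
  rw [h1]
  congr 1
  exact Equiv.sum_comp e.toEquiv F

theorem card_eq_card_ker_mul (f : K →* K') (hf : Function.Surjective f) :
    Nat.card K = Nat.card f.ker * Nat.card K' := by
  have h := sum_comp_surjective f hf (fun _ => (1 : ℂ))
  simp only [Finset.sum_const, Finset.card_univ, nsmul_eq_mul, mul_one] at h
  rw [Nat.card_eq_fintype_card (α := K), Nat.card_eq_fintype_card (α := K')]
  exact_mod_cast h

theorem classInner_comp_surjective (f : K →* K') (hf : Function.Surjective f) (φ ψ : K' → ℂ) :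
    Cfsg.classInner (fun k => φ (f k)) (fun k => ψ (f k)) = Cfsg.classInner φ ψ := by
  rw [Cfsg.Agent.Lib.Helper2.classInner_def, Cfsg.Agent.Lib.Helper2.classInner_def,
    sum_comp_surjective f hf (fun k' => φ k' * conj (ψ k')), card_eq_card_ker_mul f hf]
  have h1 : (Nat.card f.ker : ℂ) ≠ 0 := by exact_mod_cast Nat.card_pos.ne'
  have h2 : (Nat.card K' : ℂ) ≠ 0 := by exact_mod_cast Nat.card_pos.ne'
  push_cast
  field_simp

end Surj

section DZ

universe u

/-- constituents of the restriction of a character of `p`-defect zero to a normal subgroup have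
`p`-defect zero -/
theorem defect_zero_restrict {G : Type u} [Group G] [Fintype G] (p : ℕ) [Fact p.Prime]
    (N : Subgroup G) [N.Normal] [Fintype N] (χ : G → ℂ) (hχ : IsIrrCharacter G χ)
    (hdz : (charDegree χ).factorization p = (Nat.card G).factorization p)
    (ϑ : N → ℂ) (hϑ : IsIrrCharacter N ϑ)
    (hcon : classInner (fun n : N => χ n) ϑ ≠ 0) :
    (charDegree ϑ).factorization p = (Nat.card N).factorization p := by
  obtain ⟨b, d, hd, hbd, hb⟩ := Cfsg.Agent.Lib.Helper2.DegreeRatio.main N χ hχ ϑ hϑ hcon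
  have h1 : charDegree χ = b * d := by
    have := char_one_eq_charDegree (isCharacter_of_irr hχ)
    rw [hbd] at this
    exact_mod_cast this.symm
  have h2 : charDegree ϑ = d := by
    have := char_one_eq_charDegree (isCharacter_of_irr hϑ)
    rw [hd] at this
    exact_mod_cast this.symm
  have hdpos : 0 < d := by rw [← h2]; exact irr_degree_pos hϑ
  have hbpos : 0 < b := by
    rcases Nat.eq_zero_or_pos b with h0 | h0
    · exfalso
      have := irr_degree_pos hχ
      rw [h1, h0, zero_mul] at this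
      exact lt_irrefl _ this
    · exact h0
  have h3 : d ∣ Nat.card N := by rw [← h2]; exact charDegree_dvd_card hϑ
  have hidx : N.index ≠ 0 := Subgroup.index_ne_zero_of_finite
  have hN0 : Nat.card N ≠ 0 := Nat.card_pos.ne'
  have h4 : b.factorization p ≤ N.index.factorization p :=
    (Nat.factorization_le_iff_dvd hbpos.ne' hidx).mpr hb p
  have h5 : d.factorization p ≤ (Nat.card N).factorization p :=
    (Nat.factorization_le_iff_dvd hdpos.ne' hN0).mpr h3 p
  have h6 : (Nat.card G).factorization p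
      = (Nat.card N).factorization p + N.index.factorization p := by
    rw [← Subgroup.card_mul_index N, Nat.factorization_mul hN0 hidx]
    rfl
  have h7 : (b * d).factorization p = b.factorization p + d.factorization p := by
    rw [Nat.factorization_mul hbpos.ne' hdpos.ne']
    rfl
  rw [h1, h7, h6] at hdz
  rw [h2]
  omega

end DZ

section Mod

universe u

variable {H : Type u} [Group H] [Fintype H]

/-- the kernel of `N → N Q / Q` is `Q ∩ N` -/
theorem card_ker_subgroupMap_mk (Q : Subgroup H) [Q.Normal] (N : Subgroup H) :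
    Nat.card ((QuotientGroup.mk' Q).subgroupMap N).ker = Nat.card ↥(Q ⊓ N) := by
  apply Nat.card_congr
  refine
    { toFun := fun n => ⟨(n.1 : H), ?_, n.1.2⟩
      invFun := fun z => ⟨⟨z.1, z.2.2⟩, ?_⟩
      left_inv := fun n => rfl
      right_inv := fun z => rfl }
  · have h := n.2
    rw [MonoidHom.mem_ker] at h
    have h2 := congrArg Subtype.val h
    have h3 : (((n.1 : N) : H) : H ⧸ Q) = 1 := h2
    exact (QuotientGroup.eq_one_iff _).mp h3
  · rw [MonoidHom.mem_ker]
    apply Subtype.ext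
    show ((z.1 : H) : H ⧸ Q) = 1
    exact (QuotientGroup.eq_one_iff _).mpr z.2.1

/-- **Constituents modulo a normal subgroup.** If `χ ∈ Irr(H)` has the normal subgroup `Q` in its
kernel and `ν(χ(1)) + ν|Q| = ν|H|`, then for every normal subgroup `N` some constituent `ϑ` of
`χ_N` has `Q ∩ N` in its kernel and satisfies `ν(ϑ(1)) + ν|Q ∩ N| = ν|N|`. -/
theorem exists_constituent_mod (p : ℕ) [Fact p.Prime] (Q : Subgroup H) [Q.Normal]
    (N : Subgroup H) [N.Normal] [Fintype N] (χ : H → ℂ) (hχ : IsIrrCharacter H χ)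
    (hQ : ∀ q ∈ Q, χ q = χ 1)
    (hdeg : (charDegree χ).factorization p + (Nat.card Q).factorization p
      = (Nat.card H).factorization p) :
    ∃ ϑ : N → ℂ, IsIrrCharacter N ϑ ∧ classInner (fun n : N => χ n) ϑ ≠ 0 ∧
      (∀ z : N, (z : H) ∈ Q → ϑ z = ϑ 1) ∧
      (charDegree ϑ).factorization p + (Nat.card ↥(Q ⊓ N)).factorization p
        = (Nat.card N).factorization p := by
  classical
  haveI : Fintype (H ⧸ Q) := Fintype.ofFinite _
  obtain ⟨χb, hχb, hχχb⟩ := exists_deflation Q hχ hQ
  have hdegb : charDegree χ = charDegree χb := by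
    unfold charDegree
    rw [hχχb 1]
    rfl
  have hcardH : Nat.card H = Nat.card (H ⧸ Q) * Nat.card Q :=
    Subgroup.card_eq_card_quotient_mul_card_subgroup Q
  have hdzb : (charDegree χb).factorization p = (Nat.card (H ⧸ Q)).factorization p := by
    rw [hcardH, Nat.factorization_mul Nat.card_pos.ne' Nat.card_pos.ne', hdegb] at hdeg
    have : ((Nat.card (H ⧸ Q)).factorization + (Nat.card Q).factorization) p
        = (Nat.card (H ⧸ Q)).factorization p + (Nat.card Q).factorization p := rfl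
    rw [this] at hdeg
    omega
  set Nb : Subgroup (H ⧸ Q) := N.map (QuotientGroup.mk' Q) with hNb
  haveI : Nb.Normal :=
    Subgroup.Normal.map inferInstance _ (QuotientGroup.mk'_surjective Q)
  haveI : Fintype Nb := Fintype.ofFinite _
  obtain ⟨ϑb, hϑbcon⟩ := Cfsg.Agent.Lib.Helper7.exists_constituent_restrict Nb
    (⟨χb, hχb⟩ : Cfsg.IrrCharacter (H ⧸ Q))
  have hdz := defect_zero_restrict p Nb χb hχb hdzb (ϑb : Nb → ℂ) ϑb.2 hϑbcon
  set f : N →* Nb := (QuotientGroup.mk' Q).subgroupMap N with hf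
  have hfs : Function.Surjective f := MonoidHom.subgroupMap_surjective _ _
  refine ⟨fun n => (ϑb : Nb → ℂ) (f n), isIrrCharacter_comp f hfs ϑb.2, ?_, ?_, ?_⟩
  · have h1 : (fun n : N => χ n) = fun n : N => (fun nb : Nb => χb nb) (f n) := by
      funext n
      rw [hχχb]
      rfl
    rw [h1, classInner_comp_surjective f hfs (fun nb : Nb => χb nb) (ϑb : Nb → ℂ)]
    exact hϑbcon
  · intro z hz
    have h1 : f z = 1 := by
      apply Subtype.ext
      show ((z : H) : H ⧸ Q) = 1
      exact (QuotientGroup.eq_one_iff _).mpr hz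
    show (ϑb : Nb → ℂ) (f z) = (ϑb : Nb → ℂ) (f 1)
    rw [h1, map_one]
  · have hd : charDegree (fun n : N => (ϑb : Nb → ℂ) (f n)) = charDegree (ϑb : Nb → ℂ) := by
      unfold charDegree
      show ⌊((ϑb : Nb → ℂ) (f 1)).re⌋₊ = _
      rw [map_one]
    have hc := card_eq_card_ker_mul f hfs
    rw [card_ker_subgroupMap_mk] at hc
    rw [hd, hdz, hc, Nat.factorization_mul Nat.card_pos.ne' Nat.card_pos.ne']
    show _ = (Nat.card ↥(Q ⊓ N)).factorization p + (Nat.card Nb).factorization p
    omega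

/-- a `p`-group with an irreducible character `ϑ` having `Z` in the kernel and
`ν(ϑ(1)) + ν|Z| = ν|R|` equals `Z` -/
theorem card_eq_of_pgroup_defect_zero_mod {R : Type*} [Group R] [Fintype R] (p : ℕ)
    [Fact p.Prime] (hR : IsPGroup p R) (Z : Subgroup R) (ϑ : R → ℂ) (hϑ : IsIrrCharacter R ϑ)
    (hZ : ∀ z ∈ Z, ϑ z = ϑ 1)
    (hdeg : (charDegree ϑ).factorization p + (Nat.card Z).factorization p
      = (Nat.card R).factorization p) :
    Nat.card Z = Nat.card R := by
  classical
  have hp : p.Prime := Fact.out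
  obtain ⟨m, hm⟩ := IsPGroup.iff_card.mp hR
  obtain ⟨j, hj⟩ := IsPGroup.iff_card.mp (hR.to_subgroup Z)
  have hdvd : charDegree ϑ ∣ p ^ m := by rw [← hm]; exact charDegree_dvd_card hϑ
  obtain ⟨i, _, hi⟩ := (Nat.dvd_prime_pow hp).mp hdvd
  rw [hm, hj, hi, Nat.Prime.factorization_pow hp, Nat.Prime.factorization_pow hp,
    Nat.Prime.factorization_pow hp] at hdeg
  simp only [Finsupp.single_eq_same] at hdeg
  -- sum of squares
  have hnorm : Cfsg.classInner ϑ ϑ = 1 :=
    Cfsg.Agent.Lib.Helper2.classInner_irrCharacter_self (⟨ϑ, hϑ⟩ : Cfsg.IrrCharacter R)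
  rw [Cfsg.Agent.Lib.Helper2.classInner_def] at hnorm
  have hR0 : (Nat.card R : ℂ) ≠ 0 := by exact_mod_cast Nat.card_pos.ne'
  have hsum : ∑ r : R, ϑ r * conj (ϑ r) = (Nat.card R : ℂ) := by
    field_simp at hnorm
    exact hnorm
  have hd1 := char_one_eq_charDegree (isCharacter_of_irr hϑ)
  have hle : (Nat.card Z : ℝ) * (charDegree ϑ : ℝ) ^ 2 ≤ (Nat.card R : ℝ) := by
    have h1 : ∀ r : R, ϑ r * conj (ϑ r) = ((‖ϑ r‖ ^ 2 : ℝ) : ℂ) := by
      intro r
      rw [Complex.mul_conj, Complex.normSq_eq_norm_sq]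
    have h2 : ∑ r : R, (‖ϑ r‖ ^ 2 : ℝ) = (Nat.card R : ℝ) := by
      have : ((∑ r : R, (‖ϑ r‖ ^ 2 : ℝ) : ℝ) : ℂ) = ((Nat.card R : ℝ) : ℂ) := by
        push_cast
        rw [← hsum]
        apply Finset.sum_congr rfl
        intro r _
        rw [h1 r]
        push_cast
        rfl
      exact_mod_cast this
    rw [← h2]
    haveI : Fintype Z := Fintype.ofFinite _
    calc (Nat.card Z : ℝ) * (charDegree ϑ : ℝ) ^ 2
        = ∑ z : Z, (‖ϑ (z : R)‖ ^ 2 : ℝ) := by
          have h3 : ∀ z : Z, (‖ϑ (z : R)‖ ^ 2 : ℝ) = (charDegree ϑ : ℝ) ^ 2 := by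
            intro z
            rw [hZ z.1 z.2, hd1, Complex.norm_natCast]
          rw [Finset.sum_congr rfl (fun z _ => h3 z), Finset.sum_const, Finset.card_univ,
            nsmul_eq_mul, Nat.card_eq_fintype_card]
      _ = ∑ r ∈ Finset.univ.filter (fun r : R => r ∈ Z), (‖ϑ r‖ ^ 2 : ℝ) := by
          symm
          apply Finset.sum_subtype
          intro r
          simp
      _ ≤ ∑ r : R, (‖ϑ r‖ ^ 2 : ℝ) := by
          apply Finset.sum_le_sum_of_subset_of_nonneg (Finset.filter_subset _ _)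
          intro r _ _
          positivity
  rw [hm, hj, hi] at hle
  have hle' : p ^ j * (p ^ i) ^ 2 ≤ p ^ m := by exact_mod_cast hle
  rw [← pow_mul, ← pow_add] at hle'
  have h3 := (Nat.pow_le_pow_iff_right hp.one_lt).mp hle'
  have hi0 : i = 0 := by omega
  rw [hm, hj]
  congr 1
  omega

/-- **Normal `p`-subgroups lie in `Q`.** If `χ ∈ Irr(H)` has the normal subgroup `Q` in its
kernel and `ν(χ(1)) + ν|Q| = ν|H|`, then every normal `p`-subgroup of `H` lies in `Q`. -/
theorem normal_pgroup_le_of_defect_zero_mod (p : ℕ) [Fact p.Prime] (Q : Subgroup H) [Q.Normal]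
    (R : Subgroup H) [R.Normal] (hR : IsPGroup p R) (χ : H → ℂ) (hχ : IsIrrCharacter H χ)
    (hQ : ∀ q ∈ Q, χ q = χ 1)
    (hdeg : (charDegree χ).factorization p + (Nat.card Q).factorization p
      = (Nat.card H).factorization p) : R ≤ Q := by
  classical
  haveI : Fintype R := Fintype.ofFinite _
  obtain ⟨ϑ, hϑ, _, hker, hd⟩ := exists_constituent_mod p Q R χ hχ hQ hdeg
  have hcard : Nat.card ((Q ⊓ R).subgroupOf R) = Nat.card ↥(Q ⊓ R) :=
    Nat.card_congr (Subgroup.subgroupOfEquivOfLe inf_le_right).toEquiv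
  have h1 := card_eq_of_pgroup_defect_zero_mod p hR ((Q ⊓ R).subgroupOf R) ϑ hϑ
    (fun z hz => hker z (Subgroup.mem_subgroupOf.mp hz).1) (by rw [hcard]; exact hd)
  have h2 : (Q ⊓ R).subgroupOf R = ⊤ := Subgroup.eq_top_of_card_eq _ h1
  intro r hr
  have h3 : (⟨r, hr⟩ : R) ∈ (Q ⊓ R).subgroupOf R := by rw [h2]; exact Subgroup.mem_top _
  exact (Subgroup.mem_subgroupOf.mp h3).1

end Mod

end Cfsg.Agent.Lib.Helper25
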