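import Cfsg.Agent.Lib.Helper25.Co2OutSeq
import Cfsg.Agent.Lib.Helper20.TreeT1

/-!
# S2044 [MOD-ORD] (helper25): lower bounds for the order of a permutation group from Schreier trees

The generators `known` are extended by auxiliary tables (`items`, each a path in the previous tables);
a chain of Schreier vectors in all these letters, checked by `chainOKT`, bounds the order of the group
generated by `known` from below by the product of the orbit lengths.
-/

set_option autoImplicit false

namespace Cfsg.Agent.Lib.Helper1.Co2M.Helper25

open Cfsg.Agent.Lib.Helper28.BSGS Cfsg.Agent.Lib.Helper22.SuzOut Cfsg.Agent.Lib.Helper27.TreeSift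

theorem size_le_card (n w : ℕ) [NeZero n] (known : List (ℕ × ℕ))
    (items : List ((ℕ × ℕ) × List ℕ)) (fuel : ℕ) (hk : gensOK n w known = true)
    (hs : seqOK n w known items = true) (levels : List TLevel)
    (h : chainOKT n w (known ++ items.map (fun it => it.1)) fuel [] levels = true) :
    sizeT n w levels ≤ Nat.card ↥(genGroup n w known) := by
  obtain ⟨hg, heq⟩ := seq_sound n w known items hk hs
  rw [← heq]
  have hcc := countChain_T n w (known ++ items.map (fun it => it.1)) fuel hg levels []
    (fun p hp => absurd hp List.not_mem_nil) h
  have hle := count_chain_le
    (genGroup n w (known ++ items.map (fun it => it.1))) _ hcc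
  rwa [chainSize_T] at hle

end Cfsg.Agent.Lib.Helper1.Co2M.Helper25
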