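import Cfsg.Agent.Lib.Helper25.Co2OutSeq
import Cfsg.Agent.Lib.Helper20.TreeT1

/-!
# S2044 [MOD-ORD] (helper25): a group generated inside a group of known order is the whole group

If the generators `known` lie in a subgroup `K` whose order is at most the product of the orbit lengths of
a Schreier-tree chain for `known` (extended by auxiliary tables), then they generate `K`.
-/

set_option autoImplicit false

namespace Cfsg.Agent.Lib.Helper1.Co2M.Helper25

open Cfsg.Agent.Lib.Helper28.BSGS Cfsg.Agent.Lib.Helper22.SuzOut Cfsg.Agent.Lib.Helper27.TreeSift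

theorem genGroup_eq_of_card_le (n w : ℕ) [NeZero n] (known : List (ℕ × ℕ))
    (items : List ((ℕ × ℕ) × List ℕ)) (fuel : ℕ) (hk : gensOK n w known = true)
    (hs : seqOK n w known items = true) (levels : List TLevel)
    (h : chainOKT n w (known ++ items.map (fun it => it.1)) fuel [] levels = true)
    (K : Subgroup (Equiv.Perm (Fin n))) (hK : ∀ g ∈ known, permOf n w g.1 g.2 ∈ K)
    (hN : Nat.card ↥K ≤ sizeT n w levels) : genGroup n w known = K := by
  obtain ⟨hg, heq⟩ := seq_sound n w known items hk hs
  have hle : genGroup n w (known ++ items.map (fun it => it.1)) ≤ K := by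
    rw [heq]
    unfold genGroup
    rw [Subgroup.closure_le]
    intro s hs'
    obtain ⟨g, hgm, rfl⟩ := List.mem_map.mp hs'
    exact hK g hgm
  have := (tree_main n w (known ++ items.map (fun it => it.1)) fuel hg levels h K hle hN).1
  rw [← heq]
  exact this

end Cfsg.Agent.Lib.Helper1.Co2M.Helper25
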