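import Cfsg.Agent.Lib.Helper25.Co2MOrdCData
import Cfsg.Agent.Lib.Helper25.Co2MOrdGen
import Cfsg.Agent.Lib.Helper25.Co2MOrdGen2

/-! S2044 [MOD-ORD] (helper25): kernel checks of the Schreier-tree certificate for `⟨g₀, …, g₅⟩ ≅ Co₂`. -/

set_option autoImplicit false
set_option Elab.async false

namespace Cfsg.Agent.Lib.Helper1.Co2M.Helper25

open Cfsg.Agent.Lib.Helper28.BSGS Cfsg.Agent.Lib.Helper22.SuzOut Cfsg.Agent.Lib.Helper27.TreeSift
open Cfsg.Agent.Lib.Helper25.Co2Out (itemOK seqOK_of_items)

set_option maxRecDepth 100000 in
theorem knownC_ok : gensOK 4600 13 knownC = true := by decide +kernel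

set_option maxRecDepth 100000 in
theorem itemC_0 : itemOK 4600 13 knownC itemsC 0 = true := by decide +kernel

set_option maxRecDepth 100000 in
theorem itemC_1 : itemOK 4600 13 knownC itemsC 1 = true := by decide +kernel

set_option maxRecDepth 100000 in
theorem itemC_2 : itemOK 4600 13 knownC itemsC 2 = true := by decide +kernel

set_option maxRecDepth 100000 in
theorem itemC_3 : itemOK 4600 13 knownC itemsC 3 = true := by decide +kernel

set_option maxRecDepth 100000 in
theorem itemC_4 : itemOK 4600 13 knownC itemsC 4 = true := by decide +kernel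

set_option maxRecDepth 100000 in
theorem itemC_5 : itemOK 4600 13 knownC itemsC 5 = true := by decide +kernel

set_option maxRecDepth 100000 in
theorem itemC_6 : itemOK 4600 13 knownC itemsC 6 = true := by decide +kernel

set_option maxRecDepth 100000 in
theorem itemC_7 : itemOK 4600 13 knownC itemsC 7 = true := by decide +kernel

set_option maxRecDepth 100000 in
theorem itemC_8 : itemOK 4600 13 knownC itemsC 8 = true := by decide +kernel

set_option maxRecDepth 100000 in
theorem itemC_9 : itemOK 4600 13 knownC itemsC 9 = true := by decide +kernel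

theorem seqC_ok : seqOK 4600 13 knownC itemsC = true := by
  apply seqOK_of_items
  intro j hj
  have hl : itemsC.length = 10 := rfl
  rw [hl] at hj
  interval_cases j
  · exact itemC_0
  · exact itemC_1
  · exact itemC_2
  · exact itemC_3
  · exact itemC_4
  · exact itemC_5
  · exact itemC_6
  · exact itemC_7
  · exact itemC_8
  · exact itemC_9

theorem gensC_eq : gensC = knownC ++ itemsC.map (fun it => it.1) := rfl

set_option maxRecDepth 100000 in
theorem chainC_ok : chainOKT 4600 13 gensC 6 [] levelsC = true := by decide +kernel

set_option maxRecDepth 100000 in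
theorem sizeC_eq : sizeT 4600 13 levelsC = 42305421312000 := by decide +kernel

/-- the lower bound for the order -/
theorem card_ge_C : 42305421312000 ≤ Nat.card ↥(genGroup 4600 13 knownC) := by
  have h := size_le_card 4600 13 knownC itemsC 6 knownC_ok seqC_ok levelsC (by rw [← gensC_eq]; exact chainC_ok)
  rwa [sizeC_eq] at h

/-- the six tables generate every subgroup of order at most `|Co₂|` that contains them -/
theorem genGroup_knownC_eq (K : Subgroup (Equiv.Perm (Fin 4600)))
    (hK : ∀ g ∈ knownC, permOf 4600 13 g.1 g.2 ∈ K) (hN : Nat.card ↥K ≤ 42305421312000) :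
    genGroup 4600 13 knownC = K := by
  apply genGroup_eq_of_card_le 4600 13 knownC itemsC 6 knownC_ok seqC_ok levelsC
    (by rw [← gensC_eq]; exact chainC_ok) K hK
  rw [sizeC_eq]
  exact hN

end Cfsg.Agent.Lib.Helper1.Co2M.Helper25
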