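import Cfsg.Agent.Lib.Helper25.Co2MOrdMData
import Cfsg.Agent.Lib.Helper25.Co2MOrdGen

/-! S2044 [MOD-ORD] (helper25): kernel checks of the Schreier-tree certificate for `⟨g₀, …, g₄⟩ ≅ McL`. -/

set_option autoImplicit false
set_option Elab.async false

namespace Cfsg.Agent.Lib.Helper1.Co2M.Helper25

open Cfsg.Agent.Lib.Helper28.BSGS Cfsg.Agent.Lib.Helper22.SuzOut Cfsg.Agent.Lib.Helper27.TreeSift
open Cfsg.Agent.Lib.Helper25.Co2Out (itemOK seqOK_of_items)

set_option maxRecDepth 100000 in
theorem knownM_ok : gensOK 4600 13 knownM = true := by decide +kernel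

set_option maxRecDepth 100000 in
theorem itemM_0 : itemOK 4600 13 knownM itemsM 0 = true := by decide +kernel

set_option maxRecDepth 100000 in
theorem itemM_1 : itemOK 4600 13 knownM itemsM 1 = true := by decide +kernel

set_option maxRecDepth 100000 in
theorem itemM_2 : itemOK 4600 13 knownM itemsM 2 = true := by decide +kernel

set_option maxRecDepth 100000 in
theorem itemM_3 : itemOK 4600 13 knownM itemsM 3 = true := by decide +kernel

set_option maxRecDepth 100000 in
theorem itemM_4 : itemOK 4600 13 knownM itemsM 4 = true := by decide +kernel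

set_option maxRecDepth 100000 in
theorem itemM_5 : itemOK 4600 13 knownM itemsM 5 = true := by decide +kernel

set_option maxRecDepth 100000 in
theorem itemM_6 : itemOK 4600 13 knownM itemsM 6 = true := by decide +kernel

set_option maxRecDepth 100000 in
theorem itemM_7 : itemOK 4600 13 knownM itemsM 7 = true := by decide +kernel

set_option maxRecDepth 100000 in
theorem itemM_8 : itemOK 4600 13 knownM itemsM 8 = true := by decide +kernel

set_option maxRecDepth 100000 in
theorem itemM_9 : itemOK 4600 13 knownM itemsM 9 = true := by decide +kernel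

theorem seqM_ok : seqOK 4600 13 knownM itemsM = true := by
  apply seqOK_of_items
  intro j hj
  have hl : itemsM.length = 10 := rfl
  rw [hl] at hj
  interval_cases j
  · exact itemM_0
  · exact itemM_1
  · exact itemM_2
  · exact itemM_3
  · exact itemM_4
  · exact itemM_5
  · exact itemM_6
  · exact itemM_7
  · exact itemM_8
  · exact itemM_9

theorem gensM_eq : gensM = knownM ++ itemsM.map (fun it => it.1) := rfl

set_option maxRecDepth 100000 in
theorem chainM_ok : chainOKT 4600 13 gensM 5 [] levelsM = true := by decide +kernel

set_option maxRecDepth 100000 in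
theorem sizeM_eq : sizeT 4600 13 levelsM = 898128000 := by decide +kernel

/-- the lower bound for the order -/
theorem card_ge_M : 898128000 ≤ Nat.card ↥(genGroup 4600 13 knownM) := by
  have h := size_le_card 4600 13 knownM itemsM 5 knownM_ok seqM_ok levelsM (by rw [← gensM_eq]; exact chainM_ok)
  rwa [sizeM_eq] at h

end Cfsg.Agent.Lib.Helper1.Co2M.Helper25
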