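import Cfsg.Agent.Lib.Helper25.Co2MOrdUData
import Cfsg.Agent.Lib.Helper25.Co2MOrdGen

/-! S2044 [MOD-ORD] (helper25): kernel checks of the Schreier-tree certificate for `⟨u₀, g₀⟩ ≅ 2·A₈`. -/

set_option autoImplicit false
set_option Elab.async false

namespace Cfsg.Agent.Lib.Helper1.Co2M.Helper25

open Cfsg.Agent.Lib.Helper28.BSGS Cfsg.Agent.Lib.Helper22.SuzOut Cfsg.Agent.Lib.Helper27.TreeSift
open Cfsg.Agent.Lib.Helper25.Co2Out (itemOK seqOK_of_items)

set_option maxRecDepth 100000 in
theorem knownU_ok : gensOK 4600 13 knownU = true := by decide +kernel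

set_option maxRecDepth 100000 in
theorem itemU_0 : itemOK 4600 13 knownU itemsU 0 = true := by decide +kernel

set_option maxRecDepth 100000 in
theorem itemU_1 : itemOK 4600 13 knownU itemsU 1 = true := by decide +kernel

set_option maxRecDepth 100000 in
theorem itemU_2 : itemOK 4600 13 knownU itemsU 2 = true := by decide +kernel

theorem seqU_ok : seqOK 4600 13 knownU itemsU = true := by
  apply seqOK_of_items
  intro j hj
  have hl : itemsU.length = 3 := rfl
  rw [hl] at hj
  interval_cases j
  · exact itemU_0
  · exact itemU_1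
  · exact itemU_2

theorem gensU_eq : gensU = knownU ++ itemsU.map (fun it => it.1) := rfl

set_option maxRecDepth 100000 in
theorem chainU_ok : chainOKT 4600 13 gensU 6 [] levelsU = true := by decide +kernel

set_option maxRecDepth 100000 in
theorem sizeU_eq : sizeT 4600 13 levelsU = 40320 := by decide +kernel

/-- the lower bound for the order -/
theorem card_ge_U : 40320 ≤ Nat.card ↥(genGroup 4600 13 knownU) := by
  have h := size_le_card 4600 13 knownU itemsU 6 knownU_ok seqU_ok levelsU (by rw [← gensU_eq]; exact chainU_ok)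
  rwa [sizeU_eq] at h

end Cfsg.Agent.Lib.Helper1.Co2M.Helper25
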