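import Cfsg.Agent.Lib.Helper25.Co2MOrdLChk
import Cfsg.Agent.Lib.Helper25.Co2MOrdUChk
import Cfsg.Agent.Lib.Helper25.Co2MOrdMChk
import Cfsg.Agent.Lib.Helper25.Co2MOrdCChk
import Cfsg.Agent.Lib.Helper9.Co2MRELDefs

/-!
# S2044 [MOD-ORD] (helper25): the lower bounds and the generation statement

In terms of helper9's permutations `gm i` (`g₀, …, g₅`) and `um i` (`u₀, u₁ = g₀`) of the 4600 points:
`|⟨g₀, g₁⟩| ≥ 168`, `|⟨u₀, u₁⟩| ≥ 40320`, `|⟨g₀, …, g₄⟩| ≥ 898128000`, and `g₀, …, g₅` generate every
subgroup of order at most `42305421312000` that contains them.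
-/

set_option autoImplicit false

namespace Cfsg.Agent.Lib.Helper1.Co2M

open Cfsg.Agent.Lib.Helper28.BSGS

namespace Helper25

/-- the closure of the first `k` of a family of permutations given by a list of table pairs -/
theorem closure_range_eq (k : ℕ) (gens : List (ℕ × ℕ)) (f : ℕ → Equiv.Perm (Fin 4600))
    (hlen : gens.length = k)
    (hf : ∀ (i : ℕ) (h : i < gens.length), f i = permOf 4600 13 (gens[i]).1 (gens[i]).2) :
    Subgroup.closure (Set.range fun i : Fin k => f i.val) = genGroup 4600 13 gens := by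
  subst hlen
  unfold genGroup
  congr 1
  ext s
  constructor
  · rintro ⟨i, rfl⟩
    show f i.val ∈ semGens 4600 13 gens
    rw [hf i.val i.isLt]
    exact mem_semGens 4600 13 (List.getElem_mem i.isLt)
  · intro hs
    have hs' : s ∈ semGens 4600 13 gens := hs
    unfold semGens at hs'
    obtain ⟨g, hg, rfl⟩ := List.mem_map.mp hs'
    obtain ⟨i, hi, rfl⟩ := List.mem_iff_getElem.mp hg
    exact ⟨⟨i, hi⟩, hf i hi⟩

theorem closure_gm2 :
    Subgroup.closure (Set.range fun i : Fin 2 => gm i.val) = genGroup 4600 13 knownL := by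
  apply closure_range_eq 2 knownL gm rfl
  intro i hi
  have hi' : i < 2 := hi
  interval_cases i <;> rfl

theorem closure_um2 :
    Subgroup.closure (Set.range fun i : Fin 2 => um i.val) = genGroup 4600 13 knownU := by
  apply closure_range_eq 2 knownU um rfl
  intro i hi
  have hi' : i < 2 := hi
  interval_cases i <;> rfl

theorem closure_gm5 :
    Subgroup.closure (Set.range fun i : Fin 5 => gm i.val) = genGroup 4600 13 knownM := by
  apply closure_range_eq 5 knownM gm rfl
  intro i hi
  have hi' : i < 5 := hi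
  interval_cases i <;> rfl

theorem closure_gm6 :
    Subgroup.closure (Set.range fun i : Fin 6 => gm i.val) = genGroup 4600 13 knownC := by
  apply closure_range_eq 6 knownC gm rfl
  intro i hi
  have hi' : i < 6 := hi
  interval_cases i <;> rfl

end Helper25

/-- `|⟨g₀, g₁⟩| ≥ 168` -/
theorem modOrd_card2_ge :
    168 ≤ Nat.card ↥(Subgroup.closure (Set.range fun i : Fin 2 => gm i.val)) := by
  rw [Helper25.closure_gm2]
  exact Helper25.card_ge_L

/-- `|⟨u₀, u₁⟩| ≥ 40320` -/
theorem modOrd_cardU_ge :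
    40320 ≤ Nat.card ↥(Subgroup.closure (Set.range fun i : Fin 2 => um i.val)) := by
  rw [Helper25.closure_um2]
  exact Helper25.card_ge_U

/-- `|⟨g₀, …, g₄⟩| ≥ 898128000` -/
theorem modOrd_card5_ge :
    898128000 ≤ Nat.card ↥(Subgroup.closure (Set.range fun i : Fin 5 => gm i.val)) := by
  rw [Helper25.closure_gm5]
  exact Helper25.card_ge_M

/-- `g₀, …, g₅` generate every subgroup of order at most `|Co₂|` that contains them -/
theorem modOrd_closure6 (K : Subgroup (Equiv.Perm (Fin 4600))) (hK : ∀ i < 6, gm i ∈ K)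
    (hN : Nat.card ↥K ≤ 42305421312000) :
    Subgroup.closure (Set.range fun i : Fin 6 => gm i.val) = K := by
  rw [Helper25.closure_gm6]
  apply Helper25.genGroup_knownC_eq K _ hN
  intro g hg
  obtain ⟨i, hi, rfl⟩ := List.mem_iff_getElem.mp hg
  have hi' : i < 6 := hi
  have := hK i hi'
  interval_cases i <;> exact this

/-- the same statements for the groups generated by the lists of table pairs -/
theorem modOrd_genGroup2_ge :
    168 ≤ Nat.card ↥(genGroup 4600 13 [(Tg0, Tg0i), (Tg1, Tg1i)]) := Helper25.card_ge_L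

theorem modOrd_genGroupU_ge :
    40320 ≤ Nat.card ↥(genGroup 4600 13 [(Tu0, Tu0i), (Tg0, Tg0i)]) := Helper25.card_ge_U

theorem modOrd_genGroup5_ge :
    898128000 ≤ Nat.card ↥(genGroup 4600 13
      [(Tg0, Tg0i), (Tg1, Tg1i), (Tg2, Tg2i), (Tg3, Tg3i), (Tg4, Tg4i)]) := Helper25.card_ge_M

end Cfsg.Agent.Lib.Helper1.Co2M
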