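import Mathlib

/-!
# S2281 farm-out pieces FO-3 and FO-4 (helper25, for helper14)
-/

set_option autoImplicit false
set_option linter.unusedSectionVars false
set_option linter.unusedVariables false
set_option linter.style.haveILetI false

namespace Cfsg.Agent.Lib.Helper25.RU

open Polynomial

/-- every element of a finite field is a sum of two squares -/
theorem exists_sq_add_sq {F : Type*} [Field F] [Fintype F] (x : F) : ∃ a b : F, a ^ 2 + b ^ 2 = x := by
  by_cases h2 : ringChar F = 2
  · obtain ⟨a, ha⟩ := FiniteField.isSquare_of_char_two h2 x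
    refine ⟨a, 0, ?_⟩
    rw [ha]
    ring
  · have hodd : Fintype.card F % 2 = 1 := FiniteField.odd_card_of_char_ne_two h2
    let f : F[X] := X ^ 2
    let g : F[X] := X ^ 2 - C x
    obtain ⟨a, b, hab⟩ : ∃ a b, f.eval a + g.eval b = 0 :=
      FiniteField.exists_root_sum_quadratic (f := f) (g := g) (degree_X_pow 2)
        (degree_X_pow_sub_C (by decide) _) hodd
    refine ⟨a, b, ?_⟩
    rw [← sub_eq_zero]
    simpa only [f, g, eval_C, eval_X, eval_pow, eval_sub, ← add_sub_assoc] using hab

/-- FO-3 (field generation). -/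
theorem exists_gen_scalar {F : Type*} [Field F] [Fintype F] (hq : 4 ≤ Fintype.card F) :
    ∃ l : F, l ≠ 0 ∧ l ≠ 1 ∧ l ^ 2 ≠ 1 ∧
      ∀ A : AddSubgroup F, (∃ a ∈ A, a ≠ 0) → (∀ a ∈ A, l ^ 2 * a ∈ A) → A = ⊤ := by
  classical
  obtain ⟨g, hg⟩ := IsCyclic.exists_generator (α := Fˣ)
  have hord : orderOf g = Fintype.card F - 1 := by
    rw [orderOf_eq_card_of_forall_mem_zpowers hg, Nat.card_eq_fintype_card, Fintype.card_units]
  have hord3 : 3 ≤ orderOf g := by omega
  refine ⟨(g : F), g.ne_zero, ?_, ?_, ?_⟩
  · intro h1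
    have : g = 1 := Units.ext h1
    rw [this, orderOf_one] at hord3
    omega
  · intro h1
    have h2 : g ^ 2 = 1 := Units.ext (by simpa using h1)
    have := orderOf_dvd_of_pow_eq_one h2
    have := Nat.le_of_dvd (by norm_num) this
    omega
  · intro A ⟨a₀, ha₀, ha₀0⟩ hA
    -- the multipliers of `A`
    have hpow : ∀ (k : ℕ) (a : F), a ∈ A → ((g : F) ^ 2) ^ k * a ∈ A := by
      intro k
      induction k with
      | zero => intro a ha; simpa using ha
      | succ k ih =>
        intro a ha
        have h := hA _ (ih a ha)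
        have e : ((g : F) ^ 2) ^ (k + 1) * a = (g : F) ^ 2 * (((g : F) ^ 2) ^ k * a) := by ring
        rw [e]
        exact h
    have hsq : ∀ (y a : F), a ∈ A → y ^ 2 * a ∈ A := by
      intro y a ha
      by_cases hy : y = 0
      · rw [hy]
        simp
      · obtain ⟨k, hk⟩ : ∃ k : ℕ, g ^ k = Units.mk0 y hy := by
          have hmem := hg (Units.mk0 y hy)
          have hmem' : Units.mk0 y hy ∈ Submonoid.powers g :=
            (mem_powers_iff_mem_zpowers).mpr hmem
          exact (Submonoid.mem_powers_iff _ _).mp hmem'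
        have hy' : y = (g : F) ^ k := by
          have := congrArg (fun u : Fˣ => (u : F)) hk
          simpa using this.symm
        rw [hy', ← pow_mul, mul_comm k 2, pow_mul]
        exact hpow k a ha
    rw [eq_top_iff]
    intro y _
    obtain ⟨a, b, hab⟩ := exists_sq_add_sq (y * a₀⁻¹)
    have h1 : y = a ^ 2 * a₀ + b ^ 2 * a₀ := by
      rw [← add_mul, hab, mul_assoc, inv_mul_cancel₀ ha₀0, mul_one]
    rw [h1]
    exact A.add_mem (hsq a a₀ ha₀) (hsq b a₀ ha₀)

/-- kernel growth: `dim ker (N^(k+1)) ≤ dim ker (N^k) + dim ker N` -/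
theorem finrank_ker_pow_succ_le {F V : Type*} [Field F] [AddCommGroup V] [Module F V]
    [FiniteDimensional F V] (N : Module.End F V) (k : ℕ) :
    Module.finrank F (LinearMap.ker (N ^ (k + 1))) ≤
      Module.finrank F (LinearMap.ker (N ^ k)) + Module.finrank F (LinearMap.ker N) := by
  set K' := LinearMap.ker (N ^ (k + 1)) with hK'
  let φ : K' →ₗ[F] V := (N ^ k).comp K'.subtype
  have h1 := LinearMap.finrank_range_add_finrank_ker φ
  have hrange : LinearMap.range φ ≤ LinearMap.ker N := by
    rintro _ ⟨x, rfl⟩
    rw [LinearMap.mem_ker]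
    have hx : (N ^ (k + 1)) (x : V) = 0 := LinearMap.mem_ker.mp x.2
    rw [pow_succ'] at hx
    exact hx
  have h2 : Module.finrank F (LinearMap.range φ) ≤ Module.finrank F (LinearMap.ker N) :=
    Submodule.finrank_mono hrange
  have h3 : Module.finrank F (LinearMap.ker φ) ≤ Module.finrank F (LinearMap.ker (N ^ k)) := by
    let ψ : LinearMap.ker φ →ₗ[F] LinearMap.ker (N ^ k) :=
      { toFun := fun x => ⟨((x : K') : V), by
          rw [LinearMap.mem_ker]
          exact LinearMap.mem_ker.mp x.2⟩
        map_add' := fun x y => rfl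
        map_smul' := fun c x => rfl }
    refine LinearMap.finrank_le_finrank_of_injective (f := ψ) ?_
    intro x y hxy
    apply Subtype.ext
    apply Subtype.ext
    have := congrArg (fun z : LinearMap.ker (N ^ k) => (z : V)) hxy
    exact this
  omega

/-- FO-4 (a nilpotent endomorphism with one-dimensional kernel is a single Jordan block). -/
theorem pow_ne_zero_of_finrank_ker_eq_one {F V : Type*} [Field F] [AddCommGroup V] [Module F V]
    [FiniteDimensional F V] (N : Module.End F V) (hN : IsNilpotent N)
    (hker : Module.finrank F (LinearMap.ker N) = 1) :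
    N ^ (Module.finrank F V - 1) ≠ 0 := by
  have hle : ∀ k : ℕ, Module.finrank F (LinearMap.ker (N ^ k)) ≤ k := by
    intro k
    induction k with
    | zero =>
      rw [pow_zero]
      have : LinearMap.ker (1 : Module.End F V) = ⊥ := by
        rw [LinearMap.ker_eq_bot]
        exact fun x y h => h
      rw [this, finrank_bot]
    | succ k ih =>
      have := finrank_ker_pow_succ_le N k
      omega
  have hd : 1 ≤ Module.finrank F V := by
    have := Submodule.finrank_le (LinearMap.ker N)
    omega
  intro h0
  have h1 := hle (Module.finrank F V - 1)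
  rw [h0] at h1
  have h2 : LinearMap.ker (0 : Module.End F V) = ⊤ := LinearMap.ker_zero
  rw [h2, finrank_top] at h1
  omega

end Cfsg.Agent.Lib.Helper25.RU
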