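import Mathlib
import Cfsg.Agent.Lib.Helper9.SURUDefs
import Cfsg.Agent.Lib.Helper7.SURUA12
import Cfsg.Agent.Lib.Helper25.RU34

/-!
# S2282 farm-out FO-E1 (helper25, for helper9): `uh` is a regular unipotent element of `SU_n(q)`

`uh - 1` is nilpotent, and `(uh - 1)^(n-1) ≠ 0`, for a frame whose vectors span the space.
-/

set_option autoImplicit false
set_option linter.unusedSectionVars false
set_option linter.unusedVariables false

namespace Cfsg.Agent.Lib.Helper25.SURU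

open Matrix Cfsg.Agent.Lib.Helper6 Cfsg.Agent.S0779 Cfsg.Agent.S0781
open Cfsg.Agent.Lib.Helper6.SUG Cfsg.Agent.Lib.Helper13 Cfsg.Agent.Lib.Helper9.SUGen
open Cfsg.Agent.Lib.Helper9.SURU Cfsg.Agent.Lib.Helper7.SURU

section generic
variable {ι : Type*} [Fintype ι] [DecidableEq ι] {R : Type*} [CommRing R]

/-- `(M - 1)^k` kills `v` -/
def KillsV (M : Matrix ι ι R) (k : ℕ) (v : ι → R) : Prop := ((M - 1) ^ k) *ᵥ v = 0

theorem killsV_zero (M : Matrix ι ι R) (k : ℕ) : KillsV M k 0 := Matrix.mulVec_zero _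

theorem killsV_succ {M : Matrix ι ι R} {k : ℕ} {v : ι → R} (h : KillsV M k v) :
    KillsV M (k + 1) v := by
  unfold KillsV at *
  rw [pow_succ', ← Matrix.mulVec_mulVec, h, Matrix.mulVec_zero]

theorem killsV_le {M : Matrix ι ι R} {k k' : ℕ} {v : ι → R} (hk : k ≤ k') (h : KillsV M k v) :
    KillsV M k' v := by
  induction k', hk using Nat.le_induction with
  | base => exact h
  | succ n _ ih => exact killsV_succ ih

theorem killsV_of_sub {M : Matrix ι ι R} {k : ℕ} {v : ι → R} (h : KillsV M k (M *ᵥ v - v)) :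
    KillsV M (k + 1) v := by
  unfold KillsV at *
  rw [pow_succ, ← Matrix.mulVec_mulVec, Matrix.sub_mulVec, Matrix.one_mulVec]
  exact h

theorem killsV_add {M : Matrix ι ι R} {k : ℕ} {v w : ι → R} (hv : KillsV M k v)
    (hw : KillsV M k w) : KillsV M k (v + w) := by
  unfold KillsV at *
  rw [Matrix.mulVec_add, hv, hw, add_zero]

theorem killsV_smul {M : Matrix ι ι R} {k : ℕ} {v : ι → R} (c : R) (hv : KillsV M k v) :
    KillsV M k (c • v) := by
  unfold KillsV at *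
  rw [Matrix.mulVec_smul, hv, smul_zero]

theorem killsV_neg {M : Matrix ι ι R} {k : ℕ} {v : ι → R} (hv : KillsV M k v) :
    KillsV M k (-v) := by
  unfold KillsV at *
  rw [Matrix.mulVec_neg, hv, neg_zero]

theorem killsV_sub {M : Matrix ι ι R} {k : ℕ} {v w : ι → R} (hv : KillsV M k v)
    (hw : KillsV M k w) : KillsV M k (v - w) := by
  rw [sub_eq_add_neg]
  exact killsV_add hv (killsV_neg hw)

theorem killsV_apply {M : Matrix ι ι R} {k : ℕ} {v : ι → R} (h : KillsV M k v) :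
    KillsV M k (M *ᵥ v) := by
  unfold KillsV at *
  have hc : Commute ((M - 1) ^ k) M :=
    ((Commute.refl M).sub_left (Commute.one_left M)).pow_left k
  rw [Matrix.mulVec_mulVec, hc.eq, ← Matrix.mulVec_mulVec, h, Matrix.mulVec_zero]

/-- if `(M-1)^k` kills all vectors it vanishes -/
theorem pow_eq_zero_of_killsV {M : Matrix ι ι R} {k : ℕ}
    (h : ∀ v : ι → R, KillsV M k v) : (M - 1) ^ k = 0 := by
  ext b a
  have := congrFun (h (Pi.single a 1)) b
  rw [Matrix.mulVec_single_one] at this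
  simpa using this

end generic

section E
variable {F : Type*} [Field F] [Fintype F] {q : ℕ}

/-- the frame vectors span the whole space -/
theorem mem_span_frame (hF : Fintype.card F = q ^ 2) {n m : ℕ} (𝔉 : Frm F q n m)
    (hspan : ∀ x : Fin n → F, (∀ i, i < m → Cfsg.hermForm n F q x (𝔉.e i) = 0) →
      (∀ i, i < m → Cfsg.hermForm n F q x (𝔉.f i) = 0) → Cfsg.hermForm n F q x 𝔉.w = 0 → x = 0)
    (x : Fin n → F) :
    x ∈ Submodule.span F (Set.range 𝔉.e ∪ Set.range 𝔉.f ∪ {𝔉.w}) := by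
  apply herm_double_perp hF
  intro y hy
  have hy0 : y = 0 := by
    apply hspan
    · intro i _
      exact herm_swap_zero hF (hy _ (Submodule.subset_span (Or.inl (Or.inl ⟨i, rfl⟩))))
    · intro i _
      exact herm_swap_zero hF (hy _ (Submodule.subset_span (Or.inl (Or.inr ⟨i, rfl⟩))))
    · exact herm_swap_zero hF (hy _ (Submodule.subset_span (Or.inr rfl)))
  rw [hy0]
  exact herm_zero_right hF x

variable (hF : Fintype.card F = q ^ 2) {n m : ℕ} (𝔉 : Frm F q n m)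

/-- the matrix of `uh` -/
noncomputable def uhM (t d : F) : Matrix (Fin n) (Fin n) F :=
  (((uh hF 𝔉 t d : ↥(Cfsg.SU n F q)) : Matrix.SpecialLinearGroup (Fin n) F) :
    Matrix (Fin n) (Fin n) F)

theorem uhM_mulVec (t d : F) (x : Fin n → F) : uhM hF 𝔉 t d *ᵥ x = av (uh hF 𝔉 t d) x := rfl

theorem killsV_e (t d : F) (hd : HP q t d) :
    ∀ (k i : ℕ), m ≤ i + k → KillsV (uhM hF 𝔉 t d) k (𝔉.e i)
  | 0, i, h => by
    rw [𝔉.e_junk i (by omega)]
    exact killsV_zero _ _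
  | k + 1, i, h => by
    apply killsV_of_sub
    have e1 : uhM hF 𝔉 t d *ᵥ 𝔉.e i - 𝔉.e i = 𝔉.e (i + 1) := by
      rw [uhM_mulVec, av_uh_e hF 𝔉 t d hd]
      abel
    rw [e1]
    exact killsV_e t d hd k (i + 1) (by omega)

theorem killsV_w (hm : 0 < m) (t d : F) (hd : HP q t d) :
    KillsV (uhM hF 𝔉 t d) (m + 1) 𝔉.w := by
  apply killsV_of_sub
  have e1 : uhM hF 𝔉 t d *ᵥ 𝔉.w - 𝔉.w = -(t ^ q • (𝔉.e 0 + 𝔉.e 1)) := by
    rw [uhM_mulVec, av_uh_w hF 𝔉 hm t d hd]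
    abel
  rw [e1]
  exact killsV_neg (killsV_smul _ (killsV_add (killsV_e hF 𝔉 t d hd m 0 (by omega))
    (killsV_e hF 𝔉 t d hd m 1 (by omega))))

theorem killsV_f0 (hm : 0 < m) (t d : F) (hd : HP q t d) :
    KillsV (uhM hF 𝔉 t d) (m + 2) (𝔉.f 0) := by
  apply killsV_of_sub
  have e1 : uhM hF 𝔉 t d *ᵥ 𝔉.f 0 - 𝔉.f 0 = t • 𝔉.w - d • (𝔉.e 0 + 𝔉.e 1) := by
    rw [uhM_mulVec, av_uh_f0 hF 𝔉 hm t d hd]
    abel
  rw [e1]
  exact killsV_sub (killsV_smul _ (killsV_w hF 𝔉 hm t d hd))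
    (killsV_smul _ (killsV_add (killsV_e hF 𝔉 t d hd (m + 1) 0 (by omega))
      (killsV_e hF 𝔉 t d hd (m + 1) 1 (by omega))))

theorem killsV_f (hm : 2 ≤ m) (t d : F) (hd : HP q t d) :
    ∀ i : ℕ, i < m → KillsV (uhM hF 𝔉 t d) (m + 2 + i) (𝔉.f i)
  | 0, _ => killsV_f0 hF 𝔉 (by omega) t d hd
  | 1, _ => by
    apply killsV_of_sub
    have e1 : uhM hF 𝔉 t d *ᵥ 𝔉.f 1 - 𝔉.f 1 = -(𝔉.f 0) := by
      rw [uhM_mulVec, av_uh_f1 hF 𝔉 (by omega) t d hd]
      abel
    rw [e1]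
    exact killsV_neg (killsV_f0 hF 𝔉 (by omega) t d hd)
  | j + 2, h => by
    have ih := killsV_f hm t d hd (j + 1) (by omega)
    apply killsV_of_sub
    have e1 : uhM hF 𝔉 t d *ᵥ 𝔉.f (j + 2) - 𝔉.f (j + 2) = -(uhM hF 𝔉 t d *ᵥ 𝔉.f (j + 1)) := by
      have h1 := av_uh_inv_f hF 𝔉 t d hd j h
      have h2 : av (uh hF 𝔉 t d) (𝔉.f (j + 2) + 𝔉.f (j + 1)) = 𝔉.f (j + 2) := by
        rw [← h1, av_av_inv]
      rw [av_add] at h2
      have h3 : av (uh hF 𝔉 t d) (𝔉.f (j + 2)) = 𝔉.f (j + 2) - av (uh hF 𝔉 t d) (𝔉.f (j + 1)) :=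
        eq_sub_of_add_eq h2
      rw [uhM_mulVec, uhM_mulVec, h3]
      abel
    rw [e1]
    exact killsV_neg (killsV_apply ih)

/-- all vectors are killed by `(uh - 1)^(2m+2)` -/
theorem killsV_all (hm : 2 ≤ m)
    (hspan : ∀ x : Fin n → F, (∀ i, i < m → Cfsg.hermForm n F q x (𝔉.e i) = 0) →
      (∀ i, i < m → Cfsg.hermForm n F q x (𝔉.f i) = 0) → Cfsg.hermForm n F q x 𝔉.w = 0 → x = 0)
    (t d : F) (hd : HP q t d) (x : Fin n → F) : KillsV (uhM hF 𝔉 t d) (2 * m + 2) x := by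
  have hx := mem_span_frame hF 𝔉 hspan x
  induction hx using Submodule.span_induction with
  | mem v hv =>
    rcases hv with (⟨i, rfl⟩ | ⟨i, rfl⟩) | hv
    · exact killsV_le (by omega) (killsV_e hF 𝔉 t d hd m i (by omega))
    · by_cases hi : i < m
      · exact killsV_le (by omega) (killsV_f hF 𝔉 hm t d hd i hi)
      · rw [𝔉.f_junk i (by omega)]
        exact killsV_zero _ _
    · rw [Set.mem_singleton_iff.mp hv]
      exact killsV_le (by omega) (killsV_w hF 𝔉 (by omega) t d hd)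
  | zero => exact killsV_zero _ _
  | add a b _ _ ha hb => exact killsV_add ha hb
  | smul c a _ ha => exact killsV_smul c ha

/-- `uh - 1` is nilpotent -/
theorem uhM_sub_one_isNilpotent (hm : 2 ≤ m)
    (hspan : ∀ x : Fin n → F, (∀ i, i < m → Cfsg.hermForm n F q x (𝔉.e i) = 0) →
      (∀ i, i < m → Cfsg.hermForm n F q x (𝔉.f i) = 0) → Cfsg.hermForm n F q x 𝔉.w = 0 → x = 0)
    (t d : F) (hd : HP q t d) : IsNilpotent (uhM hF 𝔉 t d - 1) :=
  ⟨2 * m + 2, pow_eq_zero_of_killsV (killsV_all hF 𝔉 hm hspan t d hd)⟩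

/-- the fixed vectors of `uh` are the multiples of `e (m-1)` -/
theorem eq_smul_of_fixed (hm : 2 ≤ m)
    (hspan : ∀ x : Fin n → F, (∀ i, i < m → Cfsg.hermForm n F q x (𝔉.e i) = 0) →
      (∀ i, i < m → Cfsg.hermForm n F q x (𝔉.f i) = 0) → Cfsg.hermForm n F q x 𝔉.w = 0 → x = 0)
    (t d : F) (ht : t ≠ 0) (hd : HP q t d) (x : Fin n → F) (hx : av (uh hF 𝔉 t d) x = x) :
    x = Cfsg.hermForm n F q x (𝔉.f (m - 1)) • 𝔉.e (m - 1) := by
  have hinv : ∀ y, Cfsg.hermForm n F q x (av (uh hF 𝔉 t d) y) = Cfsg.hermForm n F q x y := by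
    intro y
    have h := herm_av (uh hF 𝔉 t d) x y
    rw [hx] at h
    exact h
  have hes : ∀ i, Cfsg.hermForm n F q x (𝔉.e (i + 1)) = 0 := by
    intro i
    have h := hinv (𝔉.e i)
    rw [av_uh_e hF 𝔉 t d hd, herm_add_right hF] at h
    linear_combination h
  have htq : t ^ q ≠ 0 := pow_ne_zero _ ht
  have he0 : Cfsg.hermForm n F q x (𝔉.e 0) = 0 := by
    have h := hinv 𝔉.w
    rw [av_uh_w hF 𝔉 (by omega) t d hd, herm_sub_right hF, herm_smul_right, herm_add_right hF,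
      hes 0, pow_q_q hF] at h
    have h2 : t * Cfsg.hermForm n F q x (𝔉.e 0) = 0 := by linear_combination -h
    rcases mul_eq_zero.mp h2 with h3 | h3
    · exact absurd h3 ht
    · exact h3
  have he : ∀ i, Cfsg.hermForm n F q x (𝔉.e i) = 0 := by
    intro i
    rcases i with _ | i
    · exact he0
    · exact hes i
  have hw : Cfsg.hermForm n F q x 𝔉.w = 0 := by
    have h := hinv (𝔉.f 0)
    rw [av_uh_f0 hF 𝔉 (by omega) t d hd, herm_sub_right hF, herm_add_right hF, herm_smul_right,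
      herm_smul_right, herm_add_right hF, he 0, he 1] at h
    have h2 : t ^ q * Cfsg.hermForm n F q x 𝔉.w = 0 := by linear_combination h
    rcases mul_eq_zero.mp h2 with h3 | h3
    · exact absurd h3 htq
    · exact h3
  have hf0 : Cfsg.hermForm n F q x (𝔉.f 0) = 0 := by
    have h := hinv (𝔉.f 1)
    rw [av_uh_f1 hF 𝔉 (by omega) t d hd, herm_sub_right hF] at h
    linear_combination -h
  have hf : ∀ i, i + 1 < m → Cfsg.hermForm n F q x (𝔉.f i) = 0 := by
    intro i hi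
    rcases i with _ | j
    · exact hf0
    · have h1 := av_uh_inv_f hF 𝔉 t d hd j (by omega)
      have h2 : av (uh hF 𝔉 t d) (𝔉.f (j + 2) + 𝔉.f (j + 1)) = 𝔉.f (j + 2) := by
        rw [← h1, av_av_inv]
      have h := hinv (𝔉.f (j + 2) + 𝔉.f (j + 1))
      rw [h2, herm_add_right hF] at h
      linear_combination -h
  have hm1 : m - 1 < m := by omega
  have hz : x - Cfsg.hermForm n F q x (𝔉.f (m - 1)) • 𝔉.e (m - 1) = 0 := by
    apply hspan
    · intro i _
      rw [herm_sub_left', herm_smul_left, he i, 𝔉.hee]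
      ring
    · intro i hi
      rw [herm_sub_left', herm_smul_left, 𝔉.hef]
      by_cases hi' : m - 1 = i
      · rw [if_pos ⟨hi', hm1⟩, ← hi']
        ring
      · rw [if_neg (fun h => hi' h.1), hf i (by omega)]
        ring
    · rw [herm_sub_left', herm_smul_left, hw, 𝔉.hew]
      ring
  exact sub_eq_zero.mp hz

/-- regularity: `(uh - 1)^(n-1) ≠ 0` -/
theorem uhM_sub_one_pow_ne_zero (hm : 2 ≤ m)
    (hspan : ∀ x : Fin n → F, (∀ i, i < m → Cfsg.hermForm n F q x (𝔉.e i) = 0) →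
      (∀ i, i < m → Cfsg.hermForm n F q x (𝔉.f i) = 0) → Cfsg.hermForm n F q x 𝔉.w = 0 → x = 0)
    (t d : F) (ht : t ≠ 0) (hd : HP q t d) : (uhM hF 𝔉 t d - 1) ^ (n - 1) ≠ 0 := by
  classical
  have hnil := uhM_sub_one_isNilpotent hF 𝔉 hm hspan t d hd
  set M : Matrix (Fin n) (Fin n) F := uhM hF 𝔉 t d with hM
  set N : Module.End F (Fin n → F) := Matrix.toLinAlgEquiv' (M - 1) with hN
  have hNnil : IsNilpotent N := hnil.map (Matrix.toLinAlgEquiv' (R := F))
  have hNapp : ∀ x : Fin n → F, N x = av (uh hF 𝔉 t d) x - x := by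
    intro x
    rw [hN, Matrix.toLinAlgEquiv'_apply, Matrix.sub_mulVec, Matrix.one_mulVec, hM, uhM_mulVec]
  have hm1 : m - 1 < m := by omega
  have hfix : av (uh hF 𝔉 t d) (𝔉.e (m - 1)) = 𝔉.e (m - 1) := by
    rw [av_uh_e hF 𝔉 t d hd, 𝔉.e_junk (m - 1 + 1) (by omega), add_zero]
  have hne : 𝔉.e (m - 1) ≠ 0 := by
    intro h0
    have h1 := 𝔉.hef_same hm1
    rw [h0, herm_zero_left] at h1
    exact zero_ne_one h1
  have hker : LinearMap.ker N = Submodule.span F {𝔉.e (m - 1)} := by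
    apply le_antisymm
    · intro x hx
      rw [LinearMap.mem_ker, hNapp, sub_eq_zero] at hx
      rw [Submodule.mem_span_singleton]
      exact ⟨_, (eq_smul_of_fixed hF 𝔉 hm hspan t d ht hd x hx).symm⟩
    · rw [Submodule.span_le, Set.singleton_subset_iff]
      change _ ∈ LinearMap.ker N
      rw [LinearMap.mem_ker, hNapp, hfix, sub_self]
  have hfr : Module.finrank F (LinearMap.ker N) = 1 := by
    rw [hker]
    exact finrank_span_singleton hne
  have hmain := Cfsg.Agent.Lib.Helper25.RU.pow_ne_zero_of_finrank_ker_eq_one N hNnil hfr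
  have hdim : Module.finrank F (Fin n → F) = n := by
    rw [Module.finrank_fintype_fun_eq_card, Fintype.card_fin]
  rw [hdim] at hmain
  intro h0
  apply hmain
  rw [hN, ← map_pow, h0, map_zero]

/-- **FO-E1.**  `uh` is a regular unipotent element. -/
theorem uh_regular (hF : Fintype.card F = q ^ 2) {n m : ℕ} (hn : n = 2 * m + 1) (hm : 2 ≤ m)
    (𝔉 : Frm F q n m)
    (hspan : ∀ x : Fin n → F, (∀ i, i < m → Cfsg.hermForm n F q x (𝔉.e i) = 0) →
      (∀ i, i < m → Cfsg.hermForm n F q x (𝔉.f i) = 0) → Cfsg.hermForm n F q x 𝔉.w = 0 → x = 0)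
    (t d : F) (ht : t ≠ 0) (hd : HP q t d) :
    IsNilpotent ((((uh hF 𝔉 t d : ↥(Cfsg.SU n F q)) : Matrix.SpecialLinearGroup (Fin n) F) :
        Matrix (Fin n) (Fin n) F) - 1) ∧
      ((((uh hF 𝔉 t d : ↥(Cfsg.SU n F q)) : Matrix.SpecialLinearGroup (Fin n) F) :
        Matrix (Fin n) (Fin n) F) - 1) ^ (n - 1) ≠ 0 :=
  ⟨uhM_sub_one_isNilpotent hF 𝔉 hm hspan t d hd,
    uhM_sub_one_pow_ne_zero hF 𝔉 hm hspan t d ht hd⟩

end E

end Cfsg.Agent.Lib.Helper25.SURU
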