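import Mathlib
import Cfsg.Agent.Lib.Helper25.ItoMichler
import Cfsg.Agent.Lib.Helper25.DetGallagher
import Cfsg.Agent.Lib.Helper25.Kernel
import Cfsg.Agent.Lib.Helper25.Codegree
import Cfsg.Agent.S0867
import Cfsg.Agent.Lib.Helper17.PResidual
import Cfsg.Agent.Lib.Helper24.OrbitSum2
import Cfsg.Agent.Lib.Helper7.CliffordCentral

/-!
# Characters of `p'`-degree and `p'`-determinantal order, and `O^p(G)` (helper25 library)

For `N ⊴ G` of `p`-power index such that no homomorphism `N →* ℂˣ` has order divisible by `p`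
(e.g. `N = O^p(G)`): restriction is a degree-preserving bijection from
`{χ ∈ Irr(G) | p ∤ χ(1), p ∤ o(χ)}` onto the `G`-invariant `θ ∈ Irr(N)` with `p ∤ θ(1)`; hence
`|N| ≡ ∑ χ(1)²` over the former set, modulo `p`.
-/

set_option autoImplicit false
set_option linter.unusedSectionVars false
set_option linter.style.haveILetI false

namespace Cfsg.Agent.Lib.Helper25

open Cfsg Cfsg.Agent.Lib.Helper2 Cfsg.Agent.Lib.Helper7 Cfsg.Agent.Lib.Helper11
open scoped ComplexConjugate

universe u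

section Degree

variable {G : Type u} [Group G] [Finite G] (N : Subgroup G) [N.Normal]

attribute [local instance] conjIrrAction

/-- Clifford's degree formula for every `χ` over `θ`. -/
theorem degree_of_over [Fintype G] [Fintype N] (θ : IrrCharacter N) (χ : IrrCharacter G)
    (hχ : classInner (fun n : N => (χ : G → ℂ) n) (θ : N → ℂ) ≠ 0) :
    ∃ m : ℕ, 0 < m ∧ classInner (fun n : N => (χ : G → ℂ) n) (θ : N → ℂ) = m ∧
      charDegree (χ : G → ℂ) =
        m * (MulAction.stabilizer G θ).index * charDegree (θ : N → ℂ) := by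
  classical
  have hcl := clifford_restriction N χ.2 θ.2 hχ
  obtain ⟨m, hm⟩ := classInner_isCharacter_nat
    (IsCharacter.restrict (isCharacter_of_irr χ.2) N) (isCharacter_of_irr θ.2)
  have hmpos : 0 < m := by
    rcases Nat.eq_zero_or_pos m with h | h
    · exfalso; apply hχ; rw [hm, h]; simp
    · exact h
  set S : Set (N → ℂ) := {ψ : N → ℂ | ∃ g : G, ψ = conjFun N g (θ : N → ℂ)} with hS
  have hfin : S.Finite := finite_conjugates N (θ : N → ℂ)
  rw [finsum_mem_eq_finite_toFinset_sum _ hfin, hm] at hcl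
  have h1 := congrFun hcl 1
  simp only [Pi.smul_apply, Finset.sum_apply, smul_eq_mul] at h1
  have hval : ∀ ψ ∈ hfin.toFinset, ψ 1 = (θ : N → ℂ) 1 := by
    intro ψ hψ
    rw [Set.Finite.mem_toFinset] at hψ
    obtain ⟨g, rfl⟩ := hψ
    rw [conjFun_apply]
    exact congrArg (θ : N → ℂ) (Subtype.ext (by simp))
  rw [Finset.sum_congr rfl hval, Finset.sum_const, nsmul_eq_mul] at h1
  have hSimg : S = (fun μ : IrrCharacter N => (μ : N → ℂ)) '' (MulAction.orbit G θ) := by
    ext ψ
    constructor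
    · rintro ⟨g, rfl⟩
      refine ⟨g⁻¹ • θ, ⟨g⁻¹, rfl⟩, ?_⟩
      show conjFun N g⁻¹⁻¹ (θ : N → ℂ) = conjFun N g (θ : N → ℂ)
      rw [inv_inv]
    · rintro ⟨μ, ⟨g, rfl⟩, rfl⟩
      exact ⟨g⁻¹, rfl⟩
  have hcard : hfin.toFinset.card = (MulAction.stabilizer G θ).index := by
    rw [← Set.ncard_eq_toFinset_card S hfin, hSimg,
      Set.ncard_image_of_injective _ Subtype.val_injective, MulAction.index_stabilizer]
  rw [hcard] at h1
  refine ⟨m, hmpos, hm, ?_⟩
  have h2 : ((charDegree (χ : G → ℂ) : ℕ) : ℂ) =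
      ((m * (MulAction.stabilizer G θ).index * charDegree (θ : N → ℂ) : ℕ) : ℂ) := by
    rw [← char_one_eq_charDegree (isCharacter_of_irr χ.2)]
    push_cast
    rw [← char_one_eq_charDegree (isCharacter_of_irr θ.2)]
    have h3 : (χ : G → ℂ) 1 = (χ : G → ℂ) ((1 : N) : G) := rfl
    rw [h3, h1]
    ring
  exact_mod_cast h2

end Degree

section Restrict

variable {G : Type u} [Group G] [Fintype G] (N : Subgroup G) [hN : N.Normal] [Fintype N]
  (p : ℕ) [hp : Fact p.Prime]

attribute [local instance] conjIrrAction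

theorem invariant_of_stabilizer_eq_top (θ : IrrCharacter N)
    (h : MulAction.stabilizer G θ = ⊤) (g : G) (n : N) :
    (θ : N → ℂ) ⟨g * n * g⁻¹, hN.conj_mem (n : G) n.2 g⟩ = (θ : N → ℂ) n := by
  have hg : g ∈ MulAction.stabilizer G θ := by rw [h]; trivial
  rw [mem_stabilizer_conjIrr_iff] at hg
  have := congrFun hg n
  rw [conjFun_apply] at this
  exact this

theorem coprime_index_of_not_dvd {a : ℕ} (hidx : N.index = p ^ a) {x : ℕ} (hx : ¬ p ∣ x) :
    Nat.Coprime N.index x := by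
  rw [hidx]
  exact Nat.Coprime.pow_left a ((Nat.Prime.coprime_iff_not_dvd hp.out).mpr hx)

/-- An irreducible constituent `β` of `(1_N)^G` has `N` in its kernel. -/
theorem const_on_of_over_one {β : G → ℂ} (hβ : IsIrrCharacter G β)
    (hne : classInner (indFun N (fun _ : N => (1 : ℂ))) β ≠ 0) : ∀ n ∈ N, β n = β 1 := by
  have h1N : IsIrrCharacter N (fun _ : N => (1 : ℂ)) := isIrrCharacter_one
  have hβcf : IsClassFunction G β := isClassFunction_of_char (isCharacter_of_irr hβ)
  rw [frobenius_reciprocity N _ β hβcf] at hne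
  have hne' : classInner (fun n : N => β n) (fun _ : N => (1 : ℂ)) ≠ 0 := by
    rw [← classInner_conj_symm]
    intro h
    apply hne
    have := congrArg (starRingEnd ℂ) h
    simpa using this
  have hcl := clifford_restriction N hβ h1N hne'
  have hset : {ψ : N → ℂ | ∃ g : G, ψ = conjFun N g (fun _ : N => (1 : ℂ))}
      = {fun _ : N => (1 : ℂ)} := by
    ext ψ
    constructor
    · rintro ⟨g, rfl⟩; rfl
    · intro h; exact ⟨1, by rw [h]; rfl⟩
  rw [hset, finsum_mem_singleton] at hcl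
  intro n hn
  have h2 := congrFun hcl ⟨n, hn⟩
  have h3 := congrFun hcl 1
  simp only [Pi.smul_apply, smul_eq_mul, mul_one] at h2 h3
  rw [h2]
  have : β 1 = β ((1 : N) : G) := rfl
  rw [this, h3]

/-- If `G / N` is a `p`-group, `N` has no linear character of order divisible by `p`, and
`p ∤ χ(1)`, then `χ_N` is irreducible. -/
theorem restrict_irr_of_not_dvd {a : ℕ} (hidx : N.index = p ^ a)
    (hhom : ∀ δ : N →* ℂˣ, ¬ p ∣ orderOf δ) (χ : IrrCharacter G)
    (hχ : ¬ p ∣ charDegree (χ : G → ℂ)) :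
    IsIrrCharacter N (fun n : N => (χ : G → ℂ) n) := by
  classical
  obtain ⟨θ, hθ⟩ := exists_constituent_restrict N χ
  obtain ⟨m, hmpos, hm, hdeg⟩ := degree_of_over N θ χ hθ
  have hstab : (MulAction.stabilizer G θ).index = 1 := by
    apply eq_one_of_dvd_pow_of_dvd hp.out (a := a) (n := charDegree (χ : G → ℂ)) _ _ hχ
    · rw [← hidx]
      exact Subgroup.index_dvd_of_le (le_stabilizer_conjIrr N θ)
    · rw [hdeg]
      exact ⟨m * charDegree (θ : N → ℂ), by ring⟩
  have hθdeg : ¬ p ∣ charDegree (θ : N → ℂ) := by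
    intro h
    apply hχ
    rw [hdeg]
    exact Dvd.dvd.mul_left h _
  have hinv := invariant_of_stabilizer_eq_top N θ (Subgroup.index_eq_one.mp hstab)
  have hθc := isCharacter_of_irr θ.2
  have hord : ¬ p ∣ detOrder (θ : N → ℂ) := by
    rw [Cfsg.Agent.S0867.detOrder_eq hθc]; exact hhom _
  have hcop : Nat.Coprime N.index (detOrder (θ : N → ℂ) * charDegree (θ : N → ℂ)) := by
    apply coprime_index_of_not_dvd N p hidx
    intro h
    rcases (Nat.Prime.dvd_mul hp.out).mp h with h | h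
    · exact hord h
    · exact hθdeg h
  obtain ⟨θh, ⟨hθh, hθhN, _⟩, _⟩ := Cfsg.Agent.S0867.result N (θ : N → ℂ) θ.2 hinv
    (charDegree (θ : N → ℂ)) (char_one_eq_charDegree hθc) hcop
  -- Gallagher
  have h1N : IsIrrCharacter N (fun _ : N => (1 : ℂ)) := isIrrCharacter_one
  have hinv1 : ∀ g : G, conjFn N g (fun _ : N => (1 : ℂ)) = fun _ : N => (1 : ℂ) := by
    intro g; rfl
  have hθhc : IsCharacter G θh := isCharacter_of_irr hθh
  have hprodeq : ((fun _ : N => (1 : ℂ)) * fun n : N => θh n) = (θ : N → ℂ) := by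
    funext n
    rw [Pi.mul_apply, one_mul, hθhN]
  have hprod : IsIrrCharacter N ((fun _ : N => (1 : ℂ)) * fun n : N => θh n) := by
    rw [hprodeq]; exact θ.2
  obtain ⟨_, _, h3⟩ := gallagher_rigidity N h1N hinv1 hθhc hprod
  have hχcf : IsClassFunction G (χ : G → ℂ) := isClassFunction_of_char (isCharacter_of_irr χ.2)
  have hne : classInner (indFun N ((fun _ : N => (1 : ℂ)) * fun n : N => θh n)) (χ : G → ℂ) ≠ 0 := by
    rw [hprodeq, frobenius_reciprocity N _ _ hχcf, ← classInner_conj_symm]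
    intro h
    apply hθ
    have := congrArg (starRingEnd ℂ) h
    simpa using this
  obtain ⟨β, hβ, hβne, hβχ⟩ := h3 (χ : G → ℂ) χ.2 hne
  have hker := const_on_of_over_one N hβ hβne
  obtain ⟨ψ, hψ, hψβ⟩ := exists_deflation N hβ hker
  have hψdvd : charDegree ψ ∣ p ^ a := by
    have := charDegree_dvd_card hψ
    rw [← hidx]
    exact this
  have hβ1 : β 1 = (charDegree ψ : ℂ) := by
    rw [hψβ 1, ← char_one_eq_charDegree (isCharacter_of_irr hψ)]
    rfl
  have hθh1 : θh 1 = (charDegree (θ : N → ℂ) : ℂ) := by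
    have := hθhN 1
    simp only [OneMemClass.coe_one] at this
    rw [this, char_one_eq_charDegree hθc]
  have hχ1 : charDegree (χ : G → ℂ) = charDegree ψ * charDegree (θ : N → ℂ) := by
    have h4 := congrFun hβχ 1
    rw [Pi.mul_apply, hβ1, hθh1, char_one_eq_charDegree (isCharacter_of_irr χ.2)] at h4
    exact_mod_cast h4.symm
  have hψ1 : charDegree ψ = 1 :=
    eq_one_of_dvd_pow_of_dvd hp.out hψdvd (Dvd.intro _ hχ1.symm) hχ
  have hfun : (fun n : N => (χ : G → ℂ) n) = (θ : N → ℂ) := by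
    funext n
    rw [← hβχ, Pi.mul_apply, hker n n.2, hβ1, hψ1, hθhN]
    simp
  rw [hfun]
  exact θ.2

end Restrict

section Count

variable {G : Type u} [Group G] [Fintype G] (N : Subgroup G) [hN : N.Normal] [Fintype N]
  (p : ℕ) [hp : Fact p.Prime]

attribute [local instance] conjIrrAction

/-- The `p'`-degree, `p'`-determinantal-order irreducible characters of `G`. -/
def pPrimeDetSet : Set (IrrCharacter G) :=
  {χ | ¬ p ∣ charDegree (χ : G → ℂ) ∧ ¬ p ∣ detOrder (χ : G → ℂ)}

/-- The `G`-invariant irreducible characters of `N` of `p'`-degree. -/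
def invPPrimeSet : Set (IrrCharacter N) :=
  {θ | (∀ (g : G) (n : N), (θ : N → ℂ) ⟨g * n * g⁻¹, hN.conj_mem (n : G) n.2 g⟩ = (θ : N → ℂ) n) ∧
    ¬ p ∣ charDegree (θ : N → ℂ)}

/-- Restriction, as a total function. -/
noncomputable def resIrr (χ : IrrCharacter G) : IrrCharacter N :=
  haveI := Classical.propDecidable (IsIrrCharacter N (fun n : N => (χ : G → ℂ) n))
  if h : IsIrrCharacter N (fun n : N => (χ : G → ℂ) n) then ⟨_, h⟩ else irrOne N

theorem resIrr_coe {χ : IrrCharacter G} (h : IsIrrCharacter N (fun n : N => (χ : G → ℂ) n)) :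
    ((resIrr N χ : IrrCharacter N) : N → ℂ) = fun n : N => (χ : G → ℂ) n := by
  unfold resIrr
  simp only [dif_pos h]

theorem charDegree_restrict (χ : G → ℂ) : charDegree (fun n : N => χ n) = charDegree χ := rfl

theorem resIrr_bijOn {a : ℕ} (hidx : N.index = p ^ a)
    (hhom : ∀ δ : N →* ℂˣ, ¬ p ∣ orderOf δ) :
    Set.BijOn (resIrr N) (pPrimeDetSet (G := G) p) (invPPrimeSet N p) := by
  have hirr : ∀ χ ∈ pPrimeDetSet (G := G) p, IsIrrCharacter N (fun n : N => (χ : G → ℂ) n) :=
    fun χ hχ => restrict_irr_of_not_dvd N p hidx hhom χ hχ.1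
  -- the canonical extension data for invariant θ of p'-degree
  have hext : ∀ θ ∈ invPPrimeSet N p, ∃ χ : G → ℂ,
      (IsIrrCharacter G χ ∧ (∀ n : N, χ n = (θ : N → ℂ) n) ∧
        detOrder χ = detOrder (θ : N → ℂ)) ∧
      ∀ χ' : G → ℂ, IsIrrCharacter G χ' → (∀ n : N, χ' n = (θ : N → ℂ) n) →
        Nat.Coprime N.index (detOrder χ') → χ' = χ := by
    intro θ hθ
    have hθc := isCharacter_of_irr θ.2
    have hord : ¬ p ∣ detOrder (θ : N → ℂ) := by
      rw [Cfsg.Agent.S0867.detOrder_eq hθc]; exact hhom _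
    have hcop : Nat.Coprime N.index (detOrder (θ : N → ℂ) * charDegree (θ : N → ℂ)) := by
      apply coprime_index_of_not_dvd N p hidx
      intro h
      rcases (Nat.Prime.dvd_mul hp.out).mp h with h | h
      · exact hord h
      · exact hθ.2 h
    exact Cfsg.Agent.S0867.result N (θ : N → ℂ) θ.2 hθ.1 (charDegree (θ : N → ℂ))
      (char_one_eq_charDegree hθc) hcop
  refine ⟨?_, ?_, ?_⟩
  · intro χ hχ
    have h := hirr χ hχ
    refine ⟨?_, ?_⟩
    · intro g n
      rw [resIrr_coe N h]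
      exact isClassFunction_of_char (isCharacter_of_irr χ.2) n g
    · rw [resIrr_coe N h, charDegree_restrict]
      exact hχ.1
  · intro χ hχ χ' hχ' heq
    have h := hirr χ hχ
    have h' := hirr χ' hχ'
    have hθmem : resIrr N χ ∈ invPPrimeSet N p := by
      refine ⟨?_, ?_⟩
      · intro g n
        rw [resIrr_coe N h]
        exact isClassFunction_of_char (isCharacter_of_irr χ.2) n g
      · rw [resIrr_coe N h, charDegree_restrict]
        exact hχ.1
    obtain ⟨χ₀, _, huniq⟩ := hext (resIrr N χ) hθmem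
    have e1 : (χ : G → ℂ) = χ₀ := by
      apply huniq _ χ.2
      · intro n; rw [resIrr_coe N h]
      · exact coprime_index_of_not_dvd N p hidx hχ.2
    have e2 : (χ' : G → ℂ) = χ₀ := by
      apply huniq _ χ'.2
      · intro n; rw [heq, resIrr_coe N h']
      · exact coprime_index_of_not_dvd N p hidx hχ'.2
    exact Subtype.ext (e1.trans e2.symm)
  · intro θ hθ
    obtain ⟨χ₀, ⟨hχ₀, hχ₀N, hχ₀ord⟩, _⟩ := hext θ hθ
    have hθc := isCharacter_of_irr θ.2
    have hmem : (⟨χ₀, hχ₀⟩ : IrrCharacter G) ∈ pPrimeDetSet (G := G) p := by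
      refine ⟨?_, ?_⟩
      · have : charDegree χ₀ = charDegree (θ : N → ℂ) := by
          rw [← charDegree_restrict N χ₀]
          congr 1
          exact funext hχ₀N
        show ¬ p ∣ charDegree χ₀
        rw [this]; exact hθ.2
      · show ¬ p ∣ detOrder χ₀
        rw [hχ₀ord, Cfsg.Agent.S0867.detOrder_eq hθc]; exact hhom _
    refine ⟨⟨χ₀, hχ₀⟩, hmem, ?_⟩
    apply Subtype.ext
    have h : IsIrrCharacter N (fun n : N => ((⟨χ₀, hχ₀⟩ : IrrCharacter G) : G → ℂ) n) := by
      have : (fun n : N => χ₀ n) = (θ : N → ℂ) := funext hχ₀N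
      show IsIrrCharacter N (fun n : N => χ₀ n)
      rw [this]; exact θ.2
    rw [resIrr_coe N h]
    exact funext hχ₀N

/-- `|N| ≡ ∑ θ(1)²` over the invariant `p'`-degree `θ ∈ Irr(N)`, modulo `p`. -/
theorem card_modEq_sum_inv {a : ℕ} (hidx : N.index = p ^ a) :
    (Nat.card N : ℤ) ≡ (∑ᶠ θ ∈ invPPrimeSet N p, (charDegree (θ : N → ℂ) : ℤ) ^ 2) [ZMOD p] := by
  classical
  haveI : Fintype (IrrCharacter N) := Fintype.ofFinite _
  obtain ⟨P⟩ : Nonempty (Sylow p G) := inferInstance
  letI : MulAction P (IrrCharacter N) := MulAction.compHom _ (P : Subgroup G).subtype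
  have hsmul : ∀ (u : P) (θ : IrrCharacter N), u • θ = (u : G) • θ := fun _ _ => rfl
  let f : IrrCharacter N → ℤ := fun θ => (charDegree (θ : N → ℂ) : ℤ) ^ 2
  let S : AddSubgroup ℤ := AddSubgroup.zmultiples (p : ℤ)
  have hpS : ∀ x : ℤ, p • x ∈ S := by
    intro x
    rw [AddSubgroup.mem_zmultiples_iff]
    exact ⟨x, by simp [mul_comm]⟩
  have hdegsmul : ∀ (g : G) (θ : IrrCharacter N),
      charDegree ((g • θ : IrrCharacter N) : N → ℂ) = charDegree (θ : N → ℂ) := by
    intro g θ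
    have : ((g • θ : IrrCharacter N) : N → ℂ) 1 = (θ : N → ℂ) 1 := by
      show conjFun N g⁻¹ (θ : N → ℂ) 1 = _
      rw [conjFun_apply]
      exact congrArg (θ : N → ℂ) (Subtype.ext (by simp))
    unfold charDegree
    rw [this]
  have hf : ∀ (u : P) (θ : IrrCharacter N), f (u • θ) - f θ ∈ S := by
    intro u θ
    have : f (u • θ) = f θ := by
      show (charDegree ((u • θ : IrrCharacter N) : N → ℂ) : ℤ) ^ 2 = _
      rw [hsmul, hdegsmul]
    rw [this, sub_self]
    exact S.zero_mem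
  have hkey : ∑ θ : IrrCharacter N, f θ
      - ∑ θ ∈ Finset.univ.filter (fun θ : IrrCharacter N => ∀ u : P, u • θ = θ), f θ ∈ S :=
    Cfsg.Agent.Lib.Helper24.sum_sub_sum_fixed_mem (p := p) P.isPGroup' S hpS f hf
  -- total sum
  have htotal : ∑ θ : IrrCharacter N, f θ = (Nat.card N : ℤ) := by
    have h1 := sum_irr_degree_sq (G := N)
    have h2 : ((∑ θ : IrrCharacter N, f θ : ℤ) : ℂ) = ((Nat.card N : ℤ) : ℂ) := by
      push_cast
      rw [← h1]
      apply Finset.sum_congr rfl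
      intro θ _
      rw [char_one_eq_charDegree (isCharacter_of_irr θ.2)]
      simp [f]
    exact_mod_cast h2
  -- P-fixed iff G-fixed
  have hPN : (P : Subgroup G) ⊔ N = ⊤ := by
    apply Cfsg.Agent.Lib.Helper17.sup_eq_top_of_index_coprime (p := p) P.not_dvd_index
    apply IsPGroup.of_card (n := a)
    rw [← hidx]
    rfl
  have hfixed : ∀ θ : IrrCharacter N, (∀ u : P, u • θ = θ) ↔
      ∀ (g : G) (n : N), (θ : N → ℂ) ⟨g * n * g⁻¹, hN.conj_mem (n : G) n.2 g⟩ = (θ : N → ℂ) n := by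
    intro θ
    constructor
    · intro h
      apply invariant_of_stabilizer_eq_top N θ
      rw [eq_top_iff, ← hPN]
      apply sup_le
      · intro u hu
        exact h ⟨u, hu⟩
      · exact le_stabilizer_conjIrr N θ
    · intro h u
      rw [hsmul]
      have : (u : G) ∈ MulAction.stabilizer G θ := by
        rw [mem_stabilizer_conjIrr_iff]
        funext n
        rw [conjFun_apply]
        exact h (u : G) n
      exact this
  -- split the fixed sum
  have hsplit : ∑ θ ∈ Finset.univ.filter (fun θ : IrrCharacter N => ∀ u : P, u • θ = θ), f θ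
      - ∑ θ ∈ Finset.univ.filter (fun θ : IrrCharacter N => θ ∈ invPPrimeSet N p), f θ ∈ S := by
    have h1 : Finset.univ.filter (fun θ : IrrCharacter N => θ ∈ invPPrimeSet N p)
        = (Finset.univ.filter (fun θ : IrrCharacter N => ∀ u : P, u • θ = θ)).filter
            (fun θ : IrrCharacter N => ¬ p ∣ charDegree (θ : N → ℂ)) := by
      ext θ
      simp only [Finset.mem_filter, Finset.mem_univ, true_and, invPPrimeSet, Set.mem_setOf_eq]
      rw [hfixed θ]
    rw [h1, ← Finset.sum_filter_add_sum_filter_not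
      (Finset.univ.filter (fun θ : IrrCharacter N => ∀ u : P, u • θ = θ))
      (fun θ : IrrCharacter N => ¬ p ∣ charDegree (θ : N → ℂ)) f, add_sub_cancel_left]
    apply AddSubgroup.sum_mem
    intro θ hθ
    rw [Finset.mem_filter, not_not] at hθ
    rw [AddSubgroup.mem_zmultiples_iff]
    obtain ⟨c, hc⟩ := hθ.2
    refine ⟨(c : ℤ) * (charDegree (θ : N → ℂ) : ℤ), ?_⟩
    show _ = (charDegree (θ : N → ℂ) : ℤ) ^ 2
    rw [hc]
    push_cast
    ring
  have hfinsum : (∑ᶠ θ ∈ invPPrimeSet N p, (charDegree (θ : N → ℂ) : ℤ) ^ 2)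
      = ∑ θ ∈ Finset.univ.filter (fun θ : IrrCharacter N => θ ∈ invPPrimeSet N p), f θ := by
    rw [finsum_mem_eq_finite_toFinset_sum _ (Set.toFinite _)]
    apply Finset.sum_congr
    · ext θ; simp
    · intro θ _; rfl
  rw [hfinsum, Int.modEq_iff_dvd]
  have hall := S.add_mem hkey hsplit
  rw [htotal] at hall
  have h2 : (Nat.card N : ℤ) - ∑ θ ∈ Finset.univ.filter
      (fun θ : IrrCharacter N => θ ∈ invPPrimeSet N p), f θ ∈ S := by
    convert hall using 1
    ring
  rw [AddSubgroup.mem_zmultiples_iff] at h2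
  obtain ⟨k, hk⟩ := h2
  refine ⟨-k, ?_⟩
  have : (k : ℤ) * (p : ℤ) = (Nat.card N : ℤ) - ∑ θ ∈ Finset.univ.filter
      (fun θ : IrrCharacter N => θ ∈ invPPrimeSet N p), f θ := by
    rw [← hk]; simp
  linarith

/-- The congruence `|N| ≡ ∑ χ(1)²` over `χ ∈ Irr(G)` with `p ∤ χ(1)`, `p ∤ o(χ)`. -/
theorem card_modEq_sum_pPrimeDet {a : ℕ} (hidx : N.index = p ^ a)
    (hhom : ∀ δ : N →* ℂˣ, ¬ p ∣ orderOf δ) :
    (Nat.card N : ℤ) ≡ (∑ᶠ χ ∈ pPrimeDetSet (G := G) p, (charDegree (χ : G → ℂ) : ℤ) ^ 2)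
      [ZMOD p] := by
  have hbij := resIrr_bijOn N p hidx hhom
  have h1 : (∑ᶠ χ ∈ pPrimeDetSet (G := G) p, (charDegree (χ : G → ℂ) : ℤ) ^ 2)
      = ∑ᶠ θ ∈ invPPrimeSet N p, (charDegree (θ : N → ℂ) : ℤ) ^ 2 := by
    apply finsum_mem_eq_of_bijOn (resIrr N) hbij
    intro χ hχ
    have h := restrict_irr_of_not_dvd N p hidx hhom χ hχ.1
    rw [resIrr_coe N h, charDegree_restrict]
  rw [h1]
  exact card_modEq_sum_inv N p hidx

end Count

end Cfsg.Agent.Lib.Helper25
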