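import Mathlib
import Cfsg.Prelude.Def_Blocks
import Cfsg.Agent.Lib.Helper24.Loc
import Cfsg.Agent.Lib.Helper24.Defect
import Cfsg.Agent.Lib.Helper7.InducedBlock
import Cfsg.Agent.Lib.Helper25.Kernel
import Cfsg.Agent.Lib.Helper25.CharBasic

/-!
# Kernels of blocks and block induction (helper25 library)

* `constituent_ker`: if `ξ` is a constituent of `χ_H` and `h ∈ H` lies in the kernel of `χ`,
  then `h` lies in the kernel of `ξ`.
* `blockKer_restrict`: if `b^G = B` then `Ker B ∩ H ⊆ Ker b`.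
* `normal_le_blockKer_of_induced`: if `b^G = B`, `K ⊴ G` is a `p'`-group and `K ∩ H ⊆ Ker b`,
  then `K ⊆ Ker B`.
-/

set_option autoImplicit false

namespace Cfsg.Agent.Lib.Helper25.BlockKer

open Cfsg.Agent.Lib.Helper2 Cfsg.Agent.Lib.Helper24 Cfsg.Agent.Lib.Helper7
open Cfsg.Agent.Lib.Helper25
open scoped ComplexConjugate

section

variable {X : Type*} [Group X] [Fintype X] (H : Subgroup X) [Fintype H]

/-- If `ξ` is a constituent of `χ_H` and `h ∈ H` lies in the kernel of `χ`, then `h` lies in the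
kernel of `ξ`. -/
theorem constituent_ker (χ : Cfsg.IrrCharacter X) (ξ : Cfsg.IrrCharacter H)
    (hne : Cfsg.classInner (fun h : H => (χ : X → ℂ) h) (ξ : H → ℂ) ≠ 0) (h : H)
    (hh : (χ : X → ℂ) (h : X) = (χ : X → ℂ) 1) : (ξ : H → ℂ) h = (ξ : H → ℂ) 1 := by
  classical
  obtain ⟨Kχ, hKn, hKm⟩ := exists_kernel (isCharacter_of_irr χ.2)
  haveI := hKn
  haveI : (Kχ.subgroupOf H).Normal := Subgroup.Normal.subgroupOf hKn H
  letI : Fintype (Kχ.subgroupOf H) := Fintype.ofFinite _
  rcases sum_normal_char ξ.2 (Kχ.subgroupOf H) with h1 | h1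
  · apply h1 h
    rw [Subgroup.mem_subgroupOf, hKm]
    exact hh
  · exfalso
    apply hne
    rw [Cfsg.Agent.Lib.Helper2.classInner_def]
    -- average over the kernel
    have hcard : (Nat.card (Kχ.subgroupOf H) : ℂ) ≠ 0 := by
      exact_mod_cast Nat.card_pos.ne'
    have hχk : ∀ (g : H) (k : Kχ.subgroupOf H),
        (χ : X → ℂ) ((g * (k : H) : H) : X) = (χ : X → ℂ) (g : X) := by
      intro g k
      have hk : (χ : X → ℂ) ((k : H) : X) = (χ : X → ℂ) 1 := by
        rw [← hKm]; exact Subgroup.mem_subgroupOf.mp k.2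
      have := (char_mul_of_mem_ker (isCharacter_of_irr χ.2) hk (g : X)).1
      rw [Subgroup.coe_mul]
      exact this
    have hsum : ∑ g : H, (χ : X → ℂ) (g : X) * conj ((ξ : H → ℂ) g) = 0 := by
      have e1 : (Nat.card (Kχ.subgroupOf H) : ℂ)
          * ∑ g : H, (χ : X → ℂ) (g : X) * conj ((ξ : H → ℂ) g)
          = ∑ k : Kχ.subgroupOf H, ∑ g : H,
              (χ : X → ℂ) (g : X) * conj ((ξ : H → ℂ) (g * (k : H))) := by
        rw [Nat.card_eq_fintype_card, ← Finset.card_univ, ← nsmul_eq_mul, ← Finset.sum_const]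
        apply Finset.sum_congr rfl
        intro k _
        rw [← Equiv.sum_comp (Equiv.mulRight (k : H))]
        apply Finset.sum_congr rfl
        intro g _
        rw [Equiv.coe_mulRight, hχk]
      have e2 : ∑ k : Kχ.subgroupOf H, ∑ g : H,
              (χ : X → ℂ) (g : X) * conj ((ξ : H → ℂ) (g * (k : H))) = 0 := by
        rw [Finset.sum_comm]
        apply Finset.sum_eq_zero
        intro g _
        rw [← Finset.mul_sum, ← map_sum, h1 g, map_zero, mul_zero]
      rw [e2] at e1
      rcases mul_eq_zero.mp e1 with h | h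
      · exact absurd h hcard
      · exact h
    rw [hsum, mul_zero]

variable {p : ℕ} {M : Ideal Cfsg.AlgInt}

/-- If `b^G = B` then `Ker B ∩ H ⊆ Ker b`. -/
theorem blockKer_restrict (hM : Cfsg.IsPModular p M) (b : Set (Cfsg.IrrCharacter H))
    (B : Set (Cfsg.IrrCharacter X)) (hind : Cfsg.IsInducedBlock M H b B) (h : H)
    (hh : (h : X) ∈ Cfsg.blockKer B) : h ∈ Cfsg.blockKer b := by
  intro ξ hξ
  obtain ⟨χ, hχ, hne⟩ := exists_constituent_of_isInducedBlock H hM b B hind ξ hξ
  exact constituent_ker H χ ξ hne h (hh χ hχ)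

/-- If `b^G = B`, `K ⊴ G` is a `p'`-group and `K ∩ H ⊆ Ker b`, then `K ⊆ Ker B`. -/
theorem normal_le_blockKer_of_induced (hM : Cfsg.IsPModular p M) (K : Subgroup X) [K.Normal]
    (hK : ¬ p ∣ Nat.card K) (b : Set (Cfsg.IrrCharacter H)) (B : Set (Cfsg.IrrCharacter X))
    (hind : Cfsg.IsInducedBlock M H b B)
    (hker : ∀ x : H, (x : X) ∈ K → x ∈ Cfsg.blockKer b) :
    ∀ x ∈ K, x ∈ Cfsg.blockKer B := by
  classical
  intro x hx χ hχ
  letI : Fintype K := Fintype.ofFinite _
  rcases sum_normal_char χ.2 K with h1 | h1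
  · exact h1 x hx
  exfalso
  obtain ⟨ξ, hξ⟩ := isPBlock_nonempty hM hind.1
  set a : X → ℂ := fun g => if g ∈ K then (Nat.card K : ℂ)⁻¹ else 0 with ha_def
  have ha : Cfsg.IsClassFunction X a := by
    intro g h
    simp only [ha_def]
    have : h * g * h⁻¹ ∈ K ↔ g ∈ K := by
      constructor
      · intro hg
        have := Subgroup.Normal.conj_mem inferInstance (h * g * h⁻¹) hg h⁻¹
        have e : h⁻¹ * (h * g * h⁻¹) * h⁻¹⁻¹ = g := by group
        rwa [e] at this
      · intro hg
        exact Subgroup.Normal.conj_mem inferInstance g hg h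
    simp only [this]
  have hint : ∀ g, Cfsg.MemLocalRing M (a g) := by
    intro g
    simp only [ha_def]
    split_ifs
    · exact memLocalRing_natCast_inv hM hK
    · have := memLocalRing_natCast hM 0
      simpa using this
  have h2 := omega_restrict_sub_memLocalIdeal H hM (ξ : H → ℂ) χ (hind.2.2 ξ hξ χ hχ) a ha hint
  -- `omega χ a = 0`
  have hχ0 : omega (χ : X → ℂ) a = 0 := by
    unfold omega
    have : ∑ g : X, a g * (χ : X → ℂ) g = 0 := by
      have e1 : ∑ g : X, a g * (χ : X → ℂ) g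
          = (Nat.card K : ℂ)⁻¹ * ∑ g : X, if g ∈ K then (χ : X → ℂ) g else 0 := by
        rw [Finset.mul_sum]
        apply Finset.sum_congr rfl
        intro g _
        simp only [ha_def]
        split_ifs <;> simp
      have e2 : ∑ g : X, (if g ∈ K then (χ : X → ℂ) g else 0)
          = ∑ n : K, (χ : X → ℂ) (n : X) := by
        rw [← Finset.sum_filter]
        symm
        apply Finset.sum_bij (fun (n : K) _ => (n : X))
        · intro n _
          simp
        · intro n _ m _ h
          exact Subtype.ext h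
        · intro g hg
          simp only [Finset.mem_filter, Finset.mem_univ, true_and] at hg
          exact ⟨⟨g, hg⟩, Finset.mem_univ _, rfl⟩
        · intro n _
          rfl
      have e3 := h1 1
      simp only [one_mul] at e3
      rw [e1, e2, e3, mul_zero]
    rw [this, zero_div]
  -- `omega ξ (a|_H) = |K ∩ H| / |K|`
  have hξ1 : (ξ : H → ℂ) 1 ≠ 0 := irr_one_ne_zero ξ.2
  have hξ0 : omega (ξ : H → ℂ) (fun h : H => a h)
      = (Nat.card (K.subgroupOf H) : ℂ) * (Nat.card K : ℂ)⁻¹ := by
    unfold omega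
    have e1 : ∑ h : H, a (h : X) * (ξ : H → ℂ) h
        = ∑ h : H, if h ∈ K.subgroupOf H then (Nat.card K : ℂ)⁻¹ * (ξ : H → ℂ) 1 else 0 := by
      apply Finset.sum_congr rfl
      intro h _
      simp only [ha_def, Subgroup.mem_subgroupOf]
      by_cases hh : (h : X) ∈ K
      · rw [if_pos hh, if_pos hh, hker h hh ξ hξ]
      · rw [if_neg hh, if_neg hh, zero_mul]
    rw [e1, ← Finset.sum_filter, Finset.sum_const]
    have e2 : (Finset.univ.filter (fun h : H => h ∈ K.subgroupOf H)).card
        = Nat.card (K.subgroupOf H) := by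
      rw [Nat.card_eq_fintype_card, Fintype.card_subtype]
    rw [e2, nsmul_eq_mul]
    field_simp
  rw [hχ0, hξ0, sub_zero] at h2
  -- hence `p ∣ |K ∩ H|`, impossible
  have h3 : Cfsg.MemLocalIdeal M ((Nat.card (K.subgroupOf H) : ℕ) : ℂ) := by
    have := memLocalIdeal_mul_left hM (memLocalRing_natCast hM (Nat.card K)) h2
    have hKne : (Nat.card K : ℂ) ≠ 0 := by exact_mod_cast Nat.card_pos.ne'
    have e : (Nat.card K : ℂ) * ((Nat.card (K.subgroupOf H) : ℂ) * (Nat.card K : ℂ)⁻¹)
        = (Nat.card (K.subgroupOf H) : ℂ) := by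
      field_simp
    rwa [e] at this
  have h4 : p ∣ Nat.card (K.subgroupOf H) := (memLocalIdeal_natCast_iff hM _).1 h3
  have h5 : Nat.card (K.subgroupOf H) ∣ Nat.card K := by
    let f : K.subgroupOf H →* K :=
      { toFun := fun h => ⟨((h : H) : X), Subgroup.mem_subgroupOf.mp h.2⟩
        map_one' := rfl
        map_mul' := fun _ _ => rfl }
    have hf : Function.Injective f := by
      intro u v huv
      have := congrArg (fun k : K => (k : X)) huv
      exact Subtype.ext (Subtype.ext this)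
    exact Subgroup.card_dvd_of_injective f hf
  exact hK (h4.trans h5)

/-- Two blocks induced from the same block coincide. -/
theorem isInducedBlock_unique (hM : Cfsg.IsPModular p M) (b : Set (Cfsg.IrrCharacter H))
    (B B' : Set (Cfsg.IrrCharacter X)) (hind : Cfsg.IsInducedBlock M H b B)
    (hind' : Cfsg.IsInducedBlock M H b B') : B = B' := by
  obtain ⟨ξ, hξ⟩ := isPBlock_nonempty hM hind.1
  obtain ⟨χ, hχ⟩ := isPBlock_nonempty hM hind.2.1
  obtain ⟨χ', hχ'⟩ := isPBlock_nonempty hM hind'.2.1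
  have hsame : Cfsg.SameBlock M (χ : X → ℂ) (χ' : X → ℂ) := by
    intro g
    have h1 := hind.2.2 ξ hξ χ hχ g
    have h2 := hind'.2.2 ξ hξ χ' hχ' g
    have := memLocalIdeal_sub hM h2 h1
    rwa [sub_sub_sub_cancel_left] at this
  rw [eq_blockOf_of_mem hM hind.2.1 hχ, eq_blockOf_of_mem hM hind'.2.1 hχ']
  ext ψ
  constructor
  · intro h
    exact sameBlock_trans hM (sameBlock_symm hM hsame) h
  · intro h
    exact sameBlock_trans hM hsame h

end

end Cfsg.Agent.Lib.Helper25.BlockKer
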