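import Mathlib
import Cfsg.Prelude.Def_Blocks
import Cfsg.Agent.Lib.Helper25.DetSolv
import Cfsg.Agent.Lib.Helper25.PResidualChars
import Cfsg.Agent.Lib.Helper24.Covering94
import Cfsg.Agent.Lib.Helper24.CentralProd
import Cfsg.Agent.Lib.Helper24.Transport
import Cfsg.Agent.Lib.Helper24.Principal
import Cfsg.Agent.Lib.Helper7.Gallagher
import Cfsg.Agent.Lib.Helper1.Frattini

/-!
# Alperin–Dade, part 1 (helper25 library)

`N ⊴ G`, `S ≤ N` a subgroup with `p ∤ |G : S|`, `G = N C_G(S)`.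

* `principal_cong`: for `χ` in the principal block and `x` centralising a subgroup of index prime
  to `p`, `χ x / χ 1 ≡ 1` modulo the local ideal; in particular `χ x ≠ 0`.
* `principalBlock_irrMap`: transport of the principal block along group isomorphisms.
* `extend_prime_index`, `extend_solvable`: every member of the principal block of `N` extends to a
  member of the principal block of `G` when `G / N` is solvable.
-/

set_option autoImplicit false
set_option linter.unusedSectionVars false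
set_option linter.style.haveILetI false

namespace Cfsg.Agent.Lib.Helper25.AlperinDade

open Cfsg Cfsg.Agent.Lib.Helper2 Cfsg.Agent.Lib.Helper7 Cfsg.Agent.Lib.Helper11
  Cfsg.Agent.Lib.Helper24 Cfsg.Agent.Lib.Helper25
open scoped ComplexConjugate

universe u

section Cong

variable {G : Type u} [Group G] [Finite G] {p : ℕ} {M : Ideal Cfsg.AlgInt}

/-- For `χ` in the principal block and `x` centralising a subgroup `S` of index prime to `p`:
`χ x / χ 1 ≡ 1` modulo the local ideal. -/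
theorem principal_cong (hM : IsPModular p M) (χ : IrrCharacter G)
    (hχ : χ ∈ principalBlock M G) (S : Subgroup G) (hS : ¬ p ∣ S.index) {x : G}
    (hx : x ∈ Subgroup.centralizer (S : Set G)) :
    MemLocalIdeal M ((χ : G → ℂ) x / (χ : G → ℂ) 1 - 1) := by
  have h1 : SameBlock M (fun _ : G => (1 : ℂ)) (χ : G → ℂ) := hχ
  have h2 := h1 x
  unfold centralChar at h2
  set k := (Subgroup.centralizer ({x} : Set G)).index with hk
  have hSle : S ≤ Subgroup.centralizer ({x} : Set G) := by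
    intro s hs
    rw [Subgroup.mem_centralizer_iff]
    intro y hy
    rw [Set.mem_singleton_iff] at hy
    subst hy
    exact ((Subgroup.mem_centralizer_iff.mp hx) s hs).symm
  have hkdvd : k ∣ S.index := Subgroup.index_dvd_of_le hSle
  have hpk : ¬ p ∣ k := fun h => hS (h.trans hkdvd)
  have hkinv := memLocalRing_natCast_inv hM hpk
  have hk0 : (k : ℂ) ≠ 0 := by
    have : k ≠ 0 := fun h => hpk (h ▸ dvd_zero p)
    exact_mod_cast this
  have h3 := memLocalIdeal_mul_left hM hkinv h2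
  have h4 : ((k : ℂ))⁻¹ * ((k : ℂ) * 1 / 1 - (k : ℂ) * (χ : G → ℂ) x / (χ : G → ℂ) 1)
      = -((χ : G → ℂ) x / (χ : G → ℂ) 1 - 1) := by
    field_simp
    ring
  rw [h4] at h3
  have := memLocalIdeal_neg h3
  rwa [neg_neg] at this

theorem principal_ne_zero (hM : IsPModular p M) (χ : IrrCharacter G)
    (hχ : χ ∈ principalBlock M G) (S : Subgroup G) (hS : ¬ p ∣ S.index) {x : G}
    (hx : x ∈ Subgroup.centralizer (S : Set G)) : (χ : G → ℂ) x ≠ 0 := by
  intro h0
  have h1 := principal_cong hM χ hχ S hS hx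
  rw [h0, zero_div, zero_sub] at h1
  have := memLocalIdeal_neg h1
  rw [neg_neg] at this
  exact not_memLocalIdeal_one hM this

end Cong

section Transport

variable {K K' : Type u} [Group K] [Group K'] [Finite K] [Finite K'] (φ : K ≃* K')
  {M : Ideal Cfsg.AlgInt}

theorem principalBlock_irrMap (ξ : IrrCharacter K) (h : ξ ∈ principalBlock M K) :
    irrMap φ ξ ∈ principalBlock M K' := by
  have h1 : SameBlock M (trivIrr K).1 ξ.1 := h
  exact sameBlock_irrMap φ (trivIrr K) ξ h1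

end Transport

section PrimeIndex

variable {X : Type u} [Group X] [Finite X] {p : ℕ} {M : Ideal Cfsg.AlgInt}

/-- the stabilizer of a function on a normal subgroup -/
def stabFn (Y : Subgroup X) [hY : Y.Normal] (θ : Y → ℂ) : Subgroup X where
  carrier := {g | conjFn Y g θ = θ}
  one_mem' := conjFn_one Y θ
  mul_mem' := by
    intro a b ha hb
    show conjFn Y (a * b) θ = θ
    rw [conjFn_mul]
    have ha' : conjFn Y a θ = θ := ha
    rw [ha']
    exact hb
  inv_mem' := by
    intro a ha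
    show conjFn Y a⁻¹ θ = θ
    have ha' : conjFn Y a θ = θ := ha
    have := conjFn_inv_conjFn Y a θ
    rwa [ha'] at this

theorem mem_stabFn (Y : Subgroup X) [hY : Y.Normal] (θ : Y → ℂ) (g : X) :
    g ∈ stabFn Y θ ↔ conjFn Y g θ = θ := Iff.rfl

/-- A member of the principal block over `θ ∈ Irr(Y)`, `|X : Y|` prime, `X = Y C_X(S)`: then `θ` is
`X`-invariant. -/
theorem invariant_of_prime_index (hM : IsPModular p M) (Y : Subgroup X) [hY : Y.Normal]
    (hq : Y.index.Prime) (S : Subgroup X) (hS : ¬ p ∣ S.index)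
    (hfac : ∀ x : X, ∃ y ∈ Y, ∃ c ∈ Subgroup.centralizer (S : Set X), x = y * c)
    (θ : IrrCharacter Y) (χ : IrrCharacter X) (hχB : χ ∈ principalBlock M X)
    [Fintype X] [Fintype Y]
    (hχθ : classInner (fun n : Y => (χ : X → ℂ) n) (θ : Y → ℂ) ≠ 0) :
    ∀ g : X, conjFn Y g (θ : Y → ℂ) = (θ : Y → ℂ) := by
  classical
  by_contra hcon
  push Not at hcon
  obtain ⟨g₀, hg₀⟩ := hcon
  have hco : IsCoatom Y := Cfsg.Agent.Lib.Helper1.isCoatom_of_index_prime hq
  have hYT : Y ≤ stabFn Y (θ : Y → ℂ) := by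
    intro y hy
    rw [mem_stabFn]
    exact conjFn_of_mem Y (isClassFunction_of_char (isCharacter_of_irr θ.2)) hy
  have hTtop : stabFn Y (θ : Y → ℂ) ≠ ⊤ := by
    intro h
    apply hg₀
    rw [← mem_stabFn, h]
    trivial
  have hTY : stabFn Y (θ : Y → ℂ) = Y := by
    rcases (hco.le_iff).mp hYT with h | h
    · exact absurd h hTtop
    · exact h
  have hcard : Nat.card {g : X // conjFn Y g (θ : Y → ℂ) = (θ : Y → ℂ)} = Nat.card Y := by
    have : {g : X // conjFn Y g (θ : Y → ℂ) = (θ : Y → ℂ)} = ↥(stabFn Y (θ : Y → ℂ)) := rfl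
    rw [this, hTY]
  have hnorm := classInner_indFun_self_of_irr Y θ.2
  rw [hcard] at hnorm
  have hY0 : (Nat.card Y : ℂ) ≠ 0 := by
    have : 0 < Nat.card Y := Nat.card_pos
    exact_mod_cast this.ne'
  rw [div_self hY0] at hnorm
  have hindc : IsCharacter X (indFun Y (θ : Y → ℂ)) :=
    indFun_isCharacter Y _ (isCharacter_of_irr θ.2)
  have hindirr : IsIrrCharacter X (indFun Y (θ : Y → ℂ)) :=
    isIrrCharacter_of_classInner_self_eq_one hindc hnorm
  have hχcf : IsClassFunction X (χ : X → ℂ) := isClassFunction_of_char (isCharacter_of_irr χ.2)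
  have hne : classInner (indFun Y (θ : Y → ℂ)) (χ : X → ℂ) ≠ 0 := by
    rw [frobenius_reciprocity Y _ _ hχcf, ← classInner_conj_symm]
    exact fun h => hχθ ((map_eq_zero _).1 h)
  have heq : indFun Y (θ : Y → ℂ) = (χ : X → ℂ) :=
    eq_of_irr_of_classInner_ne_zero hindirr χ.2 hne
  -- an element of the centraliser outside `Y`
  have hYtop : Y ≠ ⊤ := hco.1
  obtain ⟨x, hx⟩ : ∃ x : X, x ∉ Y := by
    by_contra h
    push Not at h
    exact hYtop (eq_top_iff.mpr fun x _ => h x)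
  obtain ⟨y, hy, c, hc, hxyc⟩ := hfac x
  have hcY : c ∉ Y := by
    intro hcY
    apply hx
    rw [hxyc]
    exact Y.mul_mem hy hcY
  have h0 : (χ : X → ℂ) c = 0 := by
    rw [← heq]
    exact indFun_apply_of_not_mem Y _ hcY
  exact principal_ne_zero hM χ hχB S hS hc h0

/-- `|X : Y|` prime, `X = Y C_X(S)`: every member of the principal block of `Y` extends to a member
of the principal block of `X`. -/
theorem extend_prime_index (hM : IsPModular p M) (Y : Subgroup X) [hY : Y.Normal]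
    (hq : Y.index.Prime) (S : Subgroup X) (hS : ¬ p ∣ S.index)
    (hfac : ∀ x : X, ∃ y ∈ Y, ∃ c ∈ Subgroup.centralizer (S : Set X), x = y * c)
    (θ : IrrCharacter Y) (hθ : θ ∈ principalBlock M Y) :
    ∃ χ : IrrCharacter X, χ ∈ principalBlock M X ∧ ∀ y : Y, (χ : X → ℂ) y = (θ : Y → ℂ) y := by
  classical
  haveI : Fintype X := Fintype.ofFinite X
  haveI : Fintype Y := Fintype.ofFinite Y
  have hcov : ∃ χ ∈ principalBlock M X, ∃ θ' ∈ principalBlock M Y,
      classInner (fun n : Y => (χ : X → ℂ) n) (θ' : Y → ℂ) ≠ 0 := by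
    refine ⟨trivIrr X, trivIrr_mem_principalBlock hM, trivIrr Y, trivIrr_mem_principalBlock hM, ?_⟩
    have h1 : (fun n : Y => (trivIrr X : X → ℂ) n) = (trivIrr Y : Y → ℂ) := rfl
    rw [h1, classInner_irrCharacter_self]
    exact one_ne_zero
  obtain ⟨χ, hχB, hχθ⟩ := exists_over_of_covering Y hM _ isPBlock_principalBlock _
    isPBlock_principalBlock hcov θ hθ
  refine ⟨χ, hχB, ?_⟩
  have hinv := invariant_of_prime_index hM Y hq S hS hfac θ χ hχB hχθ
  have hinv' : ∀ (g : X) (n : Y),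
      (θ : Y → ℂ) ⟨g * n * g⁻¹, hY.conj_mem (n : X) n.2 g⟩ = (θ : Y → ℂ) n := by
    intro g n
    have := congrFun (hinv g) n
    rwa [conjFn_apply] at this
  have hcyc : IsCyclic (X ⧸ Y) := by
    haveI : Fact (Y.index.Prime) := ⟨hq⟩
    exact isCyclic_of_prime_card (p := Y.index) rfl
  obtain ⟨η, hη, hηY⟩ := CyclicExt.exists_irr_extension Y hcyc (θ : Y → ℂ) θ.2 hinv'
  -- Gallagher
  have h1Y : IsIrrCharacter Y (fun _ : Y => (1 : ℂ)) := isIrrCharacter_one
  have hinv1 : ∀ g : X, conjFn Y g (fun _ : Y => (1 : ℂ)) = fun _ : Y => (1 : ℂ) := by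
    intro g; rfl
  have hηc : IsCharacter X η := isCharacter_of_irr hη
  have hprodeq : ((fun _ : Y => (1 : ℂ)) * fun n : Y => η n) = (θ : Y → ℂ) := by
    funext n
    rw [Pi.mul_apply, one_mul, hηY]
  have hprod : IsIrrCharacter Y ((fun _ : Y => (1 : ℂ)) * fun n : Y => η n) := by
    rw [hprodeq]; exact θ.2
  obtain ⟨_, _, h3⟩ := gallagher_rigidity Y h1Y hinv1 hηc hprod
  have hχcf : IsClassFunction X (χ : X → ℂ) := isClassFunction_of_char (isCharacter_of_irr χ.2)
  have hne : classInner (indFun Y ((fun _ : Y => (1 : ℂ)) * fun n : Y => η n)) (χ : X → ℂ) ≠ 0 := by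
    rw [hprodeq, frobenius_reciprocity Y _ _ hχcf, ← classInner_conj_symm]
    exact fun h => hχθ ((map_eq_zero _).1 h)
  obtain ⟨β, hβ, hβne, hβχ⟩ := h3 (χ : X → ℂ) χ.2 hne
  have hβY := const_on_of_over_one Y hβ hβne
  obtain ⟨ψ, hψ, hψβ⟩ := exists_deflation Y hβ hβY
  have hcomm : ∀ a b : X ⧸ Y, a * b = b * a := by
    obtain ⟨g, hg⟩ := hcyc.exists_generator
    intro a b
    obtain ⟨i, rfl⟩ := Subgroup.mem_zpowers_iff.mp (hg a)
    obtain ⟨j, rfl⟩ := Subgroup.mem_zpowers_iff.mp (hg b)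
    rw [← zpow_add, ← zpow_add, add_comm]
  have hψ1 : ψ 1 = 1 := IsIrrCharacter.apply_one_of_comm hcomm hψ
  have hβ1 : β 1 = 1 := by
    rw [hψβ 1]
    exact hψ1
  intro y
  have h5 := congrFun hβχ y
  rw [Pi.mul_apply] at h5
  rw [← h5, hβY y y.2, hβ1, one_mul, hηY]

end PrimeIndex

section Solvable

variable {p : ℕ} {M : Ideal Cfsg.AlgInt}

/-- the principal block of `Y` transported to `Y.subgroupOf H` -/
theorem subFn_mem_principalBlock {X : Type u} [Group X] [Finite X] {Y H : Subgroup X}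
    (hYH : Y ≤ H) (θ : IrrCharacter Y) (hθ : θ ∈ principalBlock M Y) :
    (⟨subFn Y H (θ : Y → ℂ), isIrrCharacter_subFn hYH θ.2⟩ : IrrCharacter (Y.subgroupOf H))
      ∈ principalBlock M (Y.subgroupOf H) :=
  principalBlock_irrMap (Subgroup.subgroupOfEquivOfLe hYH).symm θ hθ

/-- the hypotheses `S ≤ Y`, `p ∤ |X : S|`, `X = Y C_X(S)` pass to intermediate subgroups -/
theorem hyp_subgroupOf {X : Type u} [Group X] [Finite X] {Y H S : Subgroup X}
    (hYH : Y ≤ H) (hSY : S ≤ Y) (hS : ¬ p ∣ S.index)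
    (hfac : ∀ x : X, ∃ y ∈ Y, ∃ c ∈ Subgroup.centralizer (S : Set X), x = y * c) :
    S.subgroupOf H ≤ Y.subgroupOf H ∧ ¬ p ∣ (S.subgroupOf H).index ∧
      ∀ x : H, ∃ y ∈ Y.subgroupOf H,
        ∃ c ∈ Subgroup.centralizer ((S.subgroupOf H : Subgroup H) : Set H), x = y * c := by
  refine ⟨?_, ?_, ?_⟩
  · intro x hx
    exact Subgroup.mem_subgroupOf.mpr (hSY (Subgroup.mem_subgroupOf.mp hx))
  · intro hdvd
    apply hS
    have h1 : (S.subgroupOf H).index * H.index = S.index :=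
      Subgroup.relIndex_mul_index (hSY.trans hYH)
    rw [← h1]
    exact Dvd.dvd.mul_right hdvd _
  · intro x
    obtain ⟨y, hy, c, hc, hxyc⟩ := hfac (x : X)
    have hyH : y ∈ H := hYH hy
    have hcH : c ∈ H := by
      have : c = y⁻¹ * (x : X) := by rw [hxyc]; group
      rw [this]
      exact H.mul_mem (H.inv_mem hyH) x.2
    refine ⟨⟨y, hyH⟩, Subgroup.mem_subgroupOf.mpr hy, ⟨c, hcH⟩, ?_, Subtype.ext hxyc⟩
    rw [Subgroup.mem_centralizer_iff]
    intro s hs
    apply Subtype.ext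
    exact (Subgroup.mem_centralizer_iff.mp hc) (s : X) (Subgroup.mem_subgroupOf.mp hs)

/-- `X / Y` solvable, `S ≤ Y` with `p ∤ |X : S|`, `X = Y C_X(S)`: every member of the principal
block of `Y` extends to a member of the principal block of `X`. -/
theorem extend_solvable (hM : IsPModular p M) :
    ∀ (k : ℕ) (X : Type u) [Group X] [Finite X] (Y : Subgroup X) [hY : Y.Normal],
      Y.index = k → Group.IsSolvable (X ⧸ Y) → ∀ S : Subgroup X, S ≤ Y → ¬ p ∣ S.index →
      (∀ x : X, ∃ y ∈ Y, ∃ c ∈ Subgroup.centralizer (S : Set X), x = y * c) →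
      ∀ θ : IrrCharacter Y, θ ∈ principalBlock M Y →
      ∃ χ : IrrCharacter X, χ ∈ principalBlock M X ∧ ∀ y : Y, (χ : X → ℂ) y = (θ : Y → ℂ) y := by
  intro k
  induction k using Nat.strong_induction_on with
  | _ k ih =>
  intro X _ _ Y hY hk hsolv S hSY hS hfac θ hθ
  by_cases htop : Y = ⊤
  · subst htop
    refine ⟨irrMap (Subgroup.topEquiv (G := X)) θ,
      principalBlock_irrMap (Subgroup.topEquiv (G := X)) θ hθ, ?_⟩
    intro y
    rw [irrMap_apply]
    rfl
  · obtain ⟨X₁, hX₁n, hYX₁, hX₁prime⟩ := exists_normal_prime_index Y hsolv htop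
    haveI := hX₁n
    have hidx : (Y.subgroupOf X₁).index * X₁.index = Y.index := Subgroup.relIndex_mul_index hYX₁
    have hidxlt : (Y.subgroupOf X₁).index < k := by
      rw [← hk, ← hidx]
      have h2 := hX₁prime.two_le
      have hpos : 0 < (Y.subgroupOf X₁).index :=
        Nat.pos_of_ne_zero Subgroup.index_ne_zero_of_finite
      nlinarith
    have hsolv' : Group.IsSolvable (↥X₁ ⧸ Y.subgroupOf X₁) :=
      isSolvable_subgroupOf_quotient Y X₁ hsolv
    obtain ⟨hS1, hS2, hS3⟩ := hyp_subgroupOf (p := p) hYX₁ hSY hS hfac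
    obtain ⟨χ₁, hχ₁B, hχ₁Y⟩ := ih (Y.subgroupOf X₁).index hidxlt ↥X₁ (Y.subgroupOf X₁) rfl hsolv'
      (S.subgroupOf X₁) hS1 hS2 hS3 _ (subFn_mem_principalBlock hYX₁ θ hθ)
    have hfac₁ : ∀ x : X, ∃ y ∈ X₁, ∃ c ∈ Subgroup.centralizer (S : Set X), x = y * c := by
      intro x
      obtain ⟨y, hy, c, hc, hxyc⟩ := hfac x
      exact ⟨y, hYX₁ hy, c, hc, hxyc⟩
    obtain ⟨χ, hχB, hχX₁⟩ := extend_prime_index hM X₁ hX₁prime S hS hfac₁ χ₁ hχ₁B
    refine ⟨χ, hχB, ?_⟩
    intro y
    have h1 := hχX₁ ⟨(y : X), hYX₁ y.2⟩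
    have h2 := hχ₁Y ⟨⟨(y : X), hYX₁ y.2⟩, Subgroup.mem_subgroupOf.mpr y.2⟩
    simp only at h1 h2
    rw [h1, h2]
    rfl

end Solvable

end Cfsg.Agent.Lib.Helper25.AlperinDade
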