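import Mathlib

/-!
# An elementary inequality for integer combinations of `p`-power roots of unity (helper25 library)

For integers `c_t` and `p^n`-th roots of unity `μ_t` with `p ∤ ∑ c_t`:
`φ(p^n) ≤ ∑_{j < p^n, (j, p^n) = 1} |∑_t c_t μ_t^j|²` (`totient_le_sum_normSq`).
This is the inequality `Tr(a ā) ≥ φ(p^n)` for `a ∈ ℤ[ζ_{p^n}] ∖ (1 - ζ)`, proved by discrete
Fourier analysis without any Galois theory.
-/

set_option autoImplicit false
set_option linter.style.haveILetI false

namespace Cfsg.Agent.Lib.Helper25.CycloIneq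

open scoped ComplexConjugate
open Finset

/-- geometric sum of a root of unity -/
theorem sum_pow_root {q : ℕ} {ω : ℂ} (hω : ω ^ q = 1) :
    ∑ j ∈ range q, ω ^ j = if ω = 1 then (q : ℂ) else 0 := by
  split_ifs with h
  · subst h; simp
  · rw [geom_sum_eq h q, hω, sub_self, zero_div]

theorem conj_eq_inv_of_pow_eq_one {q : ℕ} (hq : 0 < q) {ζ : ℂ} (hζ : ζ ^ q = 1) :
    conj ζ = ζ⁻¹ := by
  have hn : ‖ζ‖ = 1 := Complex.norm_eq_one_of_pow_eq_one hζ hq.ne'
  have h0 : ζ ≠ 0 := by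
    intro h
    rw [h, norm_zero] at hn
    exact zero_ne_one hn
  have h1 : ζ * conj ζ = 1 := by
    rw [Complex.mul_conj, Complex.normSq_eq_norm_sq, hn]
    simp
  exact eq_inv_of_mul_eq_one_right h1

/-- Parseval's identity for the discrete Fourier transform on `ℤ / q`. -/
theorem parseval {q : ℕ} (hq : 0 < q) {ζ : ℂ} (hζ : IsPrimitiveRoot ζ q) (a : ℕ → ℤ) :
    ∑ j ∈ range q, (∑ i ∈ range q, (a i : ℂ) * ζ ^ (i * j))
        * conj (∑ i ∈ range q, (a i : ℂ) * ζ ^ (i * j))
      = (q : ℂ) * ∑ i ∈ range q, ((a i : ℂ)) ^ 2 := by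
  have hζq : ζ ^ q = 1 := hζ.pow_eq_one
  have hconj : conj ζ = ζ⁻¹ := conj_eq_inv_of_pow_eq_one hq hζq
  have h0 : ζ ≠ 0 := hζ.ne_zero hq.ne'
  have hterm : ∀ j ∈ range q, (∑ i ∈ range q, (a i : ℂ) * ζ ^ (i * j))
        * conj (∑ i ∈ range q, (a i : ℂ) * ζ ^ (i * j))
      = ∑ i ∈ range q, ∑ i' ∈ range q, (a i : ℂ) * (a i' : ℂ) * (ζ ^ i * ζ⁻¹ ^ i') ^ j := by
    intro j _
    rw [map_sum, Finset.sum_mul_sum]
    apply Finset.sum_congr rfl
    intro i _
    apply Finset.sum_congr rfl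
    intro i' _
    rw [map_mul, map_pow, hconj, map_intCast, mul_pow, ← pow_mul, ← pow_mul]
    ring
  rw [Finset.sum_congr rfl hterm, Finset.sum_comm]
  have hinner : ∀ i ∈ range q, ∑ j ∈ range q, ∑ i' ∈ range q,
      (a i : ℂ) * (a i' : ℂ) * (ζ ^ i * ζ⁻¹ ^ i') ^ j = (q : ℂ) * (a i : ℂ) ^ 2 := by
    intro i hi
    rw [Finset.sum_comm]
    have h1 : ∀ i' ∈ range q, ∑ j ∈ range q, (a i : ℂ) * (a i' : ℂ) * (ζ ^ i * ζ⁻¹ ^ i') ^ j
        = if i' = i then (q : ℂ) * (a i : ℂ) ^ 2 else 0 := by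
      intro i' hi'
      rw [← Finset.mul_sum]
      have hω : (ζ ^ i * ζ⁻¹ ^ i') ^ q = 1 := by
        rw [mul_pow, ← pow_mul, ← pow_mul, mul_comm i q, mul_comm i' q, pow_mul, pow_mul, hζq,
          inv_pow, hζq]
        simp
      rw [sum_pow_root hω]
      by_cases hii : i' = i
      · subst hii
        rw [if_pos rfl]
        have : ζ ^ i' * ζ⁻¹ ^ i' = 1 := by
          rw [inv_pow, mul_inv_cancel₀ (pow_ne_zero _ h0)]
        rw [if_pos this]
        ring
      · rw [if_neg hii]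
        have : ζ ^ i * ζ⁻¹ ^ i' ≠ 1 := by
          intro h
          apply hii
          have h2 : ζ ^ i = ζ ^ i' := by
            rw [inv_pow] at h
            field_simp at h
            exact h
          exact (hζ.pow_inj (mem_range.mp hi) (mem_range.mp hi') h2).symm
        rw [if_neg this, mul_zero]
    rw [Finset.sum_congr rfl h1, Finset.sum_ite_eq' (range q) i, if_pos hi]
  rw [Finset.sum_congr rfl hinner, ← Finset.mul_sum]

/-- `p ∑ x² - (∑ x)² ≥ p - 1` for `p` integers whose sum is prime to `p` -/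
theorem block_ineq_strict {ι : Type*} [DecidableEq ι] {p : ℕ} (hp : p.Prime) (F : Finset ι)
    (hF : F.card = p) (x : ι → ℤ) (hx : ¬ (p : ℤ) ∣ ∑ i ∈ F, x i) :
    (p : ℤ) - 1 ≤ (p : ℤ) * ∑ i ∈ F, x i ^ 2 - (∑ i ∈ F, x i) ^ 2 := by
  have hne : F.Nonempty := by
    rw [← Finset.card_pos, hF]; exact hp.pos
  obtain ⟨k₀, hk₀⟩ := hne
  set m := x k₀ with hm
  set y : ι → ℤ := fun i => x i - m with hy
  have hsum : ∑ i ∈ F, x i = ∑ i ∈ F, y i + (p : ℤ) * m := by
    simp only [hy, Finset.sum_sub_distrib, Finset.sum_const, hF, nsmul_eq_mul]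
    ring
  have hsq : ∑ i ∈ F, x i ^ 2 = ∑ i ∈ F, y i ^ 2 + 2 * m * ∑ i ∈ F, y i + (p : ℤ) * m ^ 2 := by
    have : ∀ i ∈ F, x i ^ 2 = y i ^ 2 + 2 * m * y i + m ^ 2 := by
      intro i _
      simp only [hy]; ring
    rw [Finset.sum_congr rfl this, Finset.sum_add_distrib, Finset.sum_add_distrib,
      ← Finset.mul_sum, Finset.sum_const, hF, nsmul_eq_mul]
  have hinv : (p : ℤ) * ∑ i ∈ F, x i ^ 2 - (∑ i ∈ F, x i) ^ 2
      = (p : ℤ) * ∑ i ∈ F, y i ^ 2 - (∑ i ∈ F, y i) ^ 2 := by
    rw [hsum, hsq]; ring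
  rw [hinv]
  set D := F.filter (fun i => y i ≠ 0) with hD
  have hsD : ∑ i ∈ F, y i = ∑ i ∈ D, y i := by
    rw [hD, Finset.sum_filter]
    apply Finset.sum_congr rfl
    intro i _
    by_cases h : y i = 0
    · simp [h]
    · simp [h]
  have hsqD : ∑ i ∈ F, y i ^ 2 = ∑ i ∈ D, y i ^ 2 := by
    rw [hD, Finset.sum_filter]
    apply Finset.sum_congr rfl
    intro i _
    by_cases h : y i = 0
    · simp [h]
    · simp [h]
  have hk₀D : k₀ ∉ D := by
    rw [hD, Finset.mem_filter]
    intro h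
    apply h.2
    simp [hy, hm]
  have hDle : D.card + 1 ≤ p := by
    have h1 : D ⊆ F.erase k₀ := by
      intro i hi
      rw [Finset.mem_erase]
      refine ⟨fun h => hk₀D (h ▸ hi), (Finset.mem_filter.mp hi).1⟩
    have h2 := Finset.card_le_card h1
    rw [Finset.card_erase_of_mem hk₀, hF] at h2
    have := hp.pos
    omega
  have hDpos : 1 ≤ D.card := by
    by_contra h
    have h0 : D.card = 0 := by omega
    rw [Finset.card_eq_zero] at h0
    apply hx
    rw [hsum, hsD, h0, Finset.sum_empty, zero_add]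
    exact Dvd.intro _ rfl
  have hcs : (∑ i ∈ D, y i) ^ 2 ≤ (D.card : ℤ) * ∑ i ∈ D, y i ^ 2 := sq_sum_le_card_mul_sum_sq
  have hge : (D.card : ℤ) ≤ ∑ i ∈ D, y i ^ 2 := by
    have : ∀ i ∈ D, (1 : ℤ) ≤ y i ^ 2 := by
      intro i hi
      have hne : y i ≠ 0 := (Finset.mem_filter.mp hi).2
      have : 0 < y i ^ 2 := by positivity
      omega
    calc (D.card : ℤ) = ∑ i ∈ D, (1 : ℤ) := by simp
      _ ≤ ∑ i ∈ D, y i ^ 2 := Finset.sum_le_sum this
  rw [hsD, hsqD]
  have ht1 : (1 : ℤ) ≤ (D.card : ℤ) := by exact_mod_cast hDpos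
  have ht2 : (D.card : ℤ) + 1 ≤ (p : ℤ) := by exact_mod_cast hDle
  nlinarith

/-- the residue classes modulo `q'` in `range (p * q')` have `p` elements -/
theorem card_fiber (p q' : ℕ) (hq' : 0 < q') {r : ℕ} (hr : r < q') :
    ((range (p * q')).filter (fun i => i % q' = r)).card = p := by
  have h1 : (range (p * q')).filter (fun i => i % q' = r)
      = (range p).image (fun k => r + k * q') := by
    ext i
    rw [mem_filter, mem_range, mem_image]
    constructor
    · rintro ⟨hi, hir⟩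
      refine ⟨i / q', ?_, ?_⟩
      · rw [mem_range]
        apply Nat.div_lt_of_lt_mul
        rwa [mul_comm] at hi
      · rw [← hir, mul_comm]
        exact Nat.mod_add_div i q'
    · rintro ⟨k, hk, rfl⟩
      rw [mem_range] at hk
      refine ⟨?_, ?_⟩
      · calc r + k * q' < q' + k * q' := by omega
          _ = (k + 1) * q' := by ring
          _ ≤ p * q' := Nat.mul_le_mul_right _ hk
      · rw [Nat.add_mul_mod_self_right, Nat.mod_eq_of_lt hr]
  rw [h1, Finset.card_image_of_injective, Finset.card_range]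
  intro k k' h
  have : k * q' = k' * q' := by
    simp only at h
    omega
  exact Nat.eq_of_mul_eq_mul_right hq' this

/-- the key inequality for Fourier coefficients indexed by `range (p ^ n)` -/
theorem totient_le_sum_range {p : ℕ} (hp : p.Prime) (n : ℕ) {ζ : ℂ}
    (hζ : IsPrimitiveRoot ζ (p ^ n)) (a : ℕ → ℤ)
    (ha : ¬ (p : ℤ) ∣ ∑ i ∈ range (p ^ n), a i) :
    ((p ^ n).totient : ℝ) ≤ ∑ j ∈ (range (p ^ n)).filter (fun j => Nat.Coprime (p ^ n) j),
      Complex.normSq (∑ i ∈ range (p ^ n), (a i : ℂ) * ζ ^ (i * j)) := by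
  classical
  -- reduce to an identity in `ℂ`
  have hre : ∀ s : Finset ℕ, ∑ j ∈ s,
      Complex.normSq (∑ i ∈ range (p ^ n), (a i : ℂ) * ζ ^ (i * j))
      = (∑ j ∈ s, (∑ i ∈ range (p ^ n), (a i : ℂ) * ζ ^ (i * j))
        * conj (∑ i ∈ range (p ^ n), (a i : ℂ) * ζ ^ (i * j))).re := by
    intro s
    rw [Complex.re_sum]
    apply Finset.sum_congr rfl
    intro j _
    rw [Complex.mul_conj, Complex.ofReal_re]
  rw [hre]
  rcases Nat.eq_zero_or_pos n with hn | hn
  · subst hn
    simp only [pow_zero, Nat.totient_one, Nat.cast_one, range_one] at ha ⊢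
    have hfil : ({0} : Finset ℕ).filter (fun j => Nat.Coprime 1 j) = {0} := by
      ext j; simp
    rw [hfil]
    simp only [Finset.sum_singleton, mul_zero, pow_zero, mul_one]
    have ha0 : a 0 ≠ 0 := by
      intro h
      apply ha
      simp [h]
    rw [Complex.mul_conj, Complex.ofReal_re, Complex.normSq_intCast]
    have h1 : (1 : ℤ) ≤ a 0 * a 0 := by
      have : 0 < a 0 * a 0 := mul_self_pos.mpr ha0
      omega
    exact_mod_cast h1
  · obtain ⟨n', rfl⟩ : ∃ n', n = n' + 1 := ⟨n - 1, by omega⟩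
    set q' := p ^ n' with hq'
    have hq'pos : 0 < q' := pow_pos hp.pos _
    have hq : p ^ (n' + 1) = p * q' := by rw [hq', pow_succ, mul_comm]
    rw [hq] at hζ ha ⊢
    have hqpos : 0 < p * q' := Nat.mul_pos hp.pos hq'pos
    set A : ℕ → ℂ := fun j => ∑ i ∈ range (p * q'), (a i : ℂ) * ζ ^ (i * j) with hA
    -- the filter
    have hfil : (range (p * q')).filter (fun j => Nat.Coprime (p * q') j)
        = (range (p * q')).filter (fun j => ¬ p ∣ j) := by
      apply Finset.filter_congr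
      intro j _
      rw [← hq, Nat.coprime_pow_left_iff (Nat.succ_pos n'), Nat.Prime.coprime_iff_not_dvd hp]
    rw [hfil]
    have hsplit : ∑ j ∈ (range (p * q')).filter (fun j => ¬ p ∣ j), A j * conj (A j)
        = ∑ j ∈ range (p * q'), A j * conj (A j)
          - ∑ j ∈ (range (p * q')).filter (fun j => p ∣ j), A j * conj (A j) := by
      rw [← Finset.sum_filter_add_sum_filter_not (range (p * q')) (fun j => p ∣ j)]
      ring
    have hmult : (range (p * q')).filter (fun j => p ∣ j) = (range q').image (fun j' => p * j') := by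
      ext j
      rw [mem_filter, mem_range, mem_image]
      constructor
      · rintro ⟨hj, ⟨j', rfl⟩⟩
        exact ⟨j', mem_range.mpr (Nat.lt_of_mul_lt_mul_left hj), rfl⟩
      · rintro ⟨j', hj', rfl⟩
        exact ⟨Nat.mul_lt_mul_of_pos_left (mem_range.mp hj') hp.pos, Dvd.intro _ rfl⟩
    have hinj : ∀ x ∈ range q', ∀ y ∈ range q', p * x = p * y → x = y :=
      fun x _ y _ h => Nat.eq_of_mul_eq_mul_left hp.pos h
    -- the coarse coefficients
    set S : ℕ → ℤ := fun r => ∑ i ∈ (range (p * q')).filter (fun i => i % q' = r), a i with hS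
    set η := ζ ^ p with hη
    have hηprim : IsPrimitiveRoot η q' := hζ.pow hqpos rfl
    have hηq : η ^ q' = 1 := hηprim.pow_eq_one
    have hAp : ∀ j', A (p * j') = ∑ r ∈ range q', (S r : ℂ) * η ^ (r * j') := by
      intro j'
      simp only [hA]
      have hmaps : ∀ i ∈ range (p * q'), i % q' ∈ range q' :=
        fun i _ => mem_range.mpr (Nat.mod_lt _ hq'pos)
      rw [← Finset.sum_fiberwise_of_maps_to hmaps]
      apply Finset.sum_congr rfl
      intro r _
      simp only [hS]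
      push_cast
      rw [Finset.sum_mul]
      apply Finset.sum_congr rfl
      intro i hi
      have hir : i % q' = r := (mem_filter.mp hi).2
      congr 1
      rw [hη, ← pow_mul, ← hir]
      have h1 : ζ ^ (i * (p * j')) = ((ζ ^ p) ^ i) ^ j' := by
        rw [← pow_mul, ← pow_mul]; ring_nf
      have h2 : ζ ^ (p * (i % q' * j')) = ((ζ ^ p) ^ (i % q')) ^ j' := by
        rw [← pow_mul, ← pow_mul]
      rw [h1, h2, pow_eq_pow_mod i hηq]
    have hP1 := parseval hqpos hζ a
    have hP2 := parseval hq'pos hηprim S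
    have hsecond : ∑ j ∈ (range (p * q')).filter (fun j => p ∣ j), A j * conj (A j)
        = (q' : ℂ) * ∑ r ∈ range q', ((S r : ℂ)) ^ 2 := by
      rw [hmult, Finset.sum_image hinj, ← hP2]
      apply Finset.sum_congr rfl
      intro j' _
      rw [hAp j']
    have hfirst : ∑ j ∈ range (p * q'), A j * conj (A j)
        = ((p * q' : ℕ) : ℂ) * ∑ i ∈ range (p * q'), ((a i : ℂ)) ^ 2 := hP1
    rw [hsplit, hfirst, hsecond]
    -- now an integer inequality
    have hfib : ∑ i ∈ range (p * q'), (a i) ^ 2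
        = ∑ r ∈ range q', ∑ i ∈ (range (p * q')).filter (fun i => i % q' = r), (a i) ^ 2 := by
      have hmaps : ∀ i ∈ range (p * q'), i % q' ∈ range q' :=
        fun i _ => mem_range.mpr (Nat.mod_lt _ hq'pos)
      rw [Finset.sum_fiberwise_of_maps_to hmaps]
    have hsumS : ∑ r ∈ range q', S r = ∑ i ∈ range (p * q'), a i := by
      have hmaps : ∀ i ∈ range (p * q'), i % q' ∈ range q' :=
        fun i _ => mem_range.mpr (Nat.mod_lt _ hq'pos)
      simp only [hS]
      rw [Finset.sum_fiberwise_of_maps_to hmaps]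
    have hint : ((p * q' : ℕ) : ℂ) * ∑ i ∈ range (p * q'), ((a i : ℂ)) ^ 2
        - (q' : ℂ) * ∑ r ∈ range q', ((S r : ℂ)) ^ 2
        = (((q' : ℤ) * ∑ r ∈ range q',
            ((p : ℤ) * ∑ i ∈ (range (p * q')).filter (fun i => i % q' = r), (a i) ^ 2
              - (S r) ^ 2) : ℤ) : ℂ) := by
      have : ∑ i ∈ range (p * q'), ((a i : ℂ)) ^ 2
          = ((∑ i ∈ range (p * q'), (a i) ^ 2 : ℤ) : ℂ) := by push_cast; rfl
      rw [this, hfib]
      push_cast
      rw [Finset.sum_sub_distrib, ← Finset.mul_sum]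
      ring
    rw [hint, Complex.intCast_re]
    -- the bracket inequality
    have hbr0 : ∀ r ∈ range q', (0 : ℤ) ≤ (p : ℤ) * ∑ i ∈ (range (p * q')).filter
        (fun i => i % q' = r), (a i) ^ 2 - (S r) ^ 2 := by
      intro r hr
      have hc := card_fiber p q' hq'pos (mem_range.mp hr)
      have := sq_sum_le_card_mul_sum_sq (s := (range (p * q')).filter (fun i => i % q' = r))
        (f := fun i => a i)
      rw [hc] at this
      simp only [hS]
      linarith
    obtain ⟨r₀, hr₀, hr₀S⟩ : ∃ r₀ ∈ range q', ¬ (p : ℤ) ∣ S r₀ := by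
      by_contra hcon
      push Not at hcon
      apply ha
      rw [← hsumS]
      exact Finset.dvd_sum hcon
    have hbr1 : (p : ℤ) - 1 ≤ (p : ℤ) * ∑ i ∈ (range (p * q')).filter
        (fun i => i % q' = r₀), (a i) ^ 2 - (S r₀) ^ 2 :=
      block_ineq_strict hp _ (card_fiber p q' hq'pos (mem_range.mp hr₀)) a hr₀S
    have hsumge : (p : ℤ) - 1 ≤ ∑ r ∈ range q',
        ((p : ℤ) * ∑ i ∈ (range (p * q')).filter (fun i => i % q' = r), (a i) ^ 2
          - (S r) ^ 2) :=
      le_trans hbr1 (Finset.single_le_sum hbr0 hr₀)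
    have htot : (p * q').totient = q' * (p - 1) := by
      rw [← hq, Nat.totient_prime_pow_succ hp]
    rw [htot]
    have hfin : ((q' * (p - 1) : ℕ) : ℤ) ≤ (q' : ℤ) * ∑ r ∈ range q',
        ((p : ℤ) * ∑ i ∈ (range (p * q')).filter (fun i => i % q' = r), (a i) ^ 2
          - (S r) ^ 2) := by
      have hp1 : ((p - 1 : ℕ) : ℤ) = (p : ℤ) - 1 := by
        have := hp.pos
        omega
      rw [Nat.cast_mul, hp1]
      exact mul_le_mul_of_nonneg_left hsumge (by positivity)
    exact_mod_cast hfin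

/-- **The cyclotomic inequality**: for integers `c_t` with sum prime to `p` and `p^n`-th roots of
unity `μ_t`, `φ(p^n) ≤ ∑_{j} |∑_t c_t μ_t^j|²`, the outer sum over the `j < p^n` prime to `p^n`. -/
theorem totient_le_sum_normSq {p : ℕ} (hp : p.Prime) (n : ℕ) {T : Type*} [Fintype T]
    (c : T → ℤ) (μ : T → ℂ) (hμ : ∀ t, μ t ^ (p ^ n) = 1) (hc : ¬ (p : ℤ) ∣ ∑ t, c t) :
    ((p ^ n).totient : ℝ) ≤ ∑ j ∈ (range (p ^ n)).filter (fun j => Nat.Coprime (p ^ n) j),
      Complex.normSq (∑ t, (c t : ℂ) * μ t ^ j) := by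
  classical
  have hq : 0 < p ^ n := pow_pos hp.pos _
  haveI : NeZero (p ^ n) := ⟨hq.ne'⟩
  have hζ : IsPrimitiveRoot (Complex.exp (2 * Real.pi * Complex.I / ((p ^ n : ℕ) : ℂ))) (p ^ n) :=
    Complex.isPrimitiveRoot_exp _ hq.ne'
  set ζ := Complex.exp (2 * Real.pi * Complex.I / ((p ^ n : ℕ) : ℂ)) with hζdef
  have hex : ∀ t, ∃ e, e < p ^ n ∧ ζ ^ e = μ t := fun t => hζ.eq_pow_of_pow_eq_one (hμ t)
  choose e he using hex
  set a : ℕ → ℤ := fun i => ∑ t ∈ (univ : Finset T).filter (fun t => e t = i), c t with ha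
  have hmaps : ∀ t ∈ (univ : Finset T), e t ∈ range (p ^ n) :=
    fun t _ => mem_range.mpr (he t).1
  have hsum : ∑ i ∈ range (p ^ n), a i = ∑ t, c t := by
    simp only [ha]
    rw [Finset.sum_fiberwise_of_maps_to hmaps]
  have hA : ∀ j, ∑ i ∈ range (p ^ n), (a i : ℂ) * ζ ^ (i * j) = ∑ t, (c t : ℂ) * μ t ^ j := by
    intro j
    rw [← Finset.sum_fiberwise_of_maps_to hmaps]
    apply Finset.sum_congr rfl
    intro i _
    simp only [ha]
    push_cast
    rw [Finset.sum_mul]
    apply Finset.sum_congr rfl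
    intro t ht
    have : e t = i := (mem_filter.mp ht).2
    rw [← (he t).2, this, pow_mul]
  have h := totient_le_sum_range hp n hζ a (by rw [hsum]; exact hc)
  simpa only [hA] using h

end Cfsg.Agent.Lib.Helper25.CycloIneq
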