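import Mathlib
import Cfsg.Agent.Lib.Helper25.CycloIneq

/-!
# Ramanujan-sum identities for vectors with cyclotomic coefficients (helper25 library)

For `q = p q'` and complex numbers `a_i` (`i < q`), with `A_j = ∑_i a_i ζ^{ij}`:
`∑_{j < q, p ∤ j} |A_j|² = q' ∑_{r < q'} (p ∑_{i ≡ r} |a_i|² - |∑_{i ≡ r} a_i|²)` (`ram_identity`).
Consequences: lower bounds for `∑_j ‖v_j‖²`, `v_j = ∑_t μ_t^j w_t` with the `w_t` in a lattice
(`totient_mul_le_sum_vec`) and for integer combinations lying in the prime above `p`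
(`two_totient_le_sum_normSq`).
-/

set_option autoImplicit false
set_option linter.style.haveILetI false

namespace Cfsg.Agent.Lib.Helper25.CycloRam

open scoped ComplexConjugate
open Finset
open Cfsg.Agent.Lib.Helper25.CycloIneq

/-- Parseval's identity for the discrete Fourier transform on `ℤ / q`, complex coefficients. -/
theorem parsevalC {q : ℕ} (hq : 0 < q) {ζ : ℂ} (hζ : IsPrimitiveRoot ζ q) (a : ℕ → ℂ) :
    ∑ j ∈ range q, (∑ i ∈ range q, a i * ζ ^ (i * j))
        * conj (∑ i ∈ range q, a i * ζ ^ (i * j))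
      = (q : ℂ) * ∑ i ∈ range q, a i * conj (a i) := by
  have hζq : ζ ^ q = 1 := hζ.pow_eq_one
  have hconj : conj ζ = ζ⁻¹ := conj_eq_inv_of_pow_eq_one hq hζq
  have h0 : ζ ≠ 0 := hζ.ne_zero hq.ne'
  have hterm : ∀ j ∈ range q, (∑ i ∈ range q, a i * ζ ^ (i * j))
        * conj (∑ i ∈ range q, a i * ζ ^ (i * j))
      = ∑ i ∈ range q, ∑ i' ∈ range q, a i * conj (a i') * (ζ ^ i * ζ⁻¹ ^ i') ^ j := by
    intro j _
    rw [map_sum, Finset.sum_mul_sum]
    apply Finset.sum_congr rfl
    intro i _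
    apply Finset.sum_congr rfl
    intro i' _
    rw [map_mul, map_pow, hconj, mul_pow, ← pow_mul, ← pow_mul]
    ring
  rw [Finset.sum_congr rfl hterm, Finset.sum_comm]
  have hinner : ∀ i ∈ range q, ∑ j ∈ range q, ∑ i' ∈ range q,
      a i * conj (a i') * (ζ ^ i * ζ⁻¹ ^ i') ^ j = (q : ℂ) * (a i * conj (a i)) := by
    intro i hi
    rw [Finset.sum_comm]
    have h1 : ∀ i' ∈ range q, ∑ j ∈ range q, a i * conj (a i') * (ζ ^ i * ζ⁻¹ ^ i') ^ j
        = if i' = i then (q : ℂ) * (a i * conj (a i)) else 0 := by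
      intro i' hi'
      rw [← Finset.mul_sum]
      have hω : (ζ ^ i * ζ⁻¹ ^ i') ^ q = 1 := by
        rw [mul_pow, ← pow_mul, ← pow_mul, mul_comm i q, mul_comm i' q, pow_mul, pow_mul, hζq,
          inv_pow, hζq]
        simp
      rw [sum_pow_root hω]
      by_cases hii : i' = i
      · subst hii
        rw [if_pos rfl]
        have : ζ ^ i' * ζ⁻¹ ^ i' = 1 := by
          rw [inv_pow, mul_inv_cancel₀ (pow_ne_zero _ h0)]
        rw [if_pos this]
        ring
      · rw [if_neg hii]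
        have : ζ ^ i * ζ⁻¹ ^ i' ≠ 1 := by
          intro h
          apply hii
          have h2 : ζ ^ i = ζ ^ i' := by
            rw [inv_pow] at h
            field_simp at h
            exact h
          exact (hζ.pow_inj (mem_range.mp hi) (mem_range.mp hi') h2).symm
        rw [if_neg this, mul_zero]
    rw [Finset.sum_congr rfl h1, Finset.sum_ite_eq' (range q) i, if_pos hi]
  rw [Finset.sum_congr rfl hinner, ← Finset.mul_sum]

/-- the same with `Complex.normSq` -/
theorem parsevalN {q : ℕ} (hq : 0 < q) {ζ : ℂ} (hζ : IsPrimitiveRoot ζ q) (a : ℕ → ℂ) :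
    ∑ j ∈ range q, Complex.normSq (∑ i ∈ range q, a i * ζ ^ (i * j))
      = (q : ℝ) * ∑ i ∈ range q, Complex.normSq (a i) := by
  have h := parsevalC hq hζ a
  have h1 : ∀ z : ℂ, z * conj z = ((Complex.normSq z : ℝ) : ℂ) := fun z => Complex.mul_conj z
  simp only [h1] at h
  have h2 : ((∑ j ∈ range q, Complex.normSq (∑ i ∈ range q, a i * ζ ^ (i * j)) : ℝ) : ℂ)
      = (((q : ℝ) * ∑ i ∈ range q, Complex.normSq (a i) : ℝ) : ℂ) := by
    push_cast
    exact h
  exact Complex.ofReal_injective h2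

/-- **The Ramanujan-sum identity.** -/
theorem ram_identity {p q' : ℕ} (hp : 0 < p) (hq' : 0 < q') {ζ : ℂ}
    (hζ : IsPrimitiveRoot ζ (p * q')) (a : ℕ → ℂ) :
    ∑ j ∈ (range (p * q')).filter (fun j => ¬ p ∣ j),
        Complex.normSq (∑ i ∈ range (p * q'), a i * ζ ^ (i * j))
      = (q' : ℝ) * ∑ r ∈ range q',
          ((p : ℝ) * ∑ i ∈ (range (p * q')).filter (fun i => i % q' = r), Complex.normSq (a i)
            - Complex.normSq (∑ i ∈ (range (p * q')).filter (fun i => i % q' = r), a i)) := by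
  classical
  have hqpos : 0 < p * q' := Nat.mul_pos hp hq'
  set A : ℕ → ℂ := fun j => ∑ i ∈ range (p * q'), a i * ζ ^ (i * j) with hA
  have hsplit : ∑ j ∈ (range (p * q')).filter (fun j => ¬ p ∣ j), Complex.normSq (A j)
      = ∑ j ∈ range (p * q'), Complex.normSq (A j)
        - ∑ j ∈ (range (p * q')).filter (fun j => p ∣ j), Complex.normSq (A j) := by
    rw [← Finset.sum_filter_add_sum_filter_not (range (p * q')) (fun j => p ∣ j)]
    ring
  have hmult : (range (p * q')).filter (fun j => p ∣ j) = (range q').image (fun j' => p * j') := by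
    ext j
    rw [mem_filter, mem_range, mem_image]
    constructor
    · rintro ⟨hj, ⟨j', rfl⟩⟩
      exact ⟨j', mem_range.mpr (Nat.lt_of_mul_lt_mul_left hj), rfl⟩
    · rintro ⟨j', hj', rfl⟩
      exact ⟨Nat.mul_lt_mul_of_pos_left (mem_range.mp hj') hp, Dvd.intro _ rfl⟩
  have hinj : ∀ x ∈ range q', ∀ y ∈ range q', p * x = p * y → x = y :=
    fun x _ y _ h => Nat.eq_of_mul_eq_mul_left hp h
  set S : ℕ → ℂ := fun r => ∑ i ∈ (range (p * q')).filter (fun i => i % q' = r), a i with hS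
  set η := ζ ^ p with hη
  have hηprim : IsPrimitiveRoot η q' := hζ.pow hqpos rfl
  have hηq : η ^ q' = 1 := hηprim.pow_eq_one
  have hmaps : ∀ i ∈ range (p * q'), i % q' ∈ range q' :=
    fun i _ => mem_range.mpr (Nat.mod_lt _ hq')
  have hAp : ∀ j', A (p * j') = ∑ r ∈ range q', S r * η ^ (r * j') := by
    intro j'
    simp only [hA]
    rw [← Finset.sum_fiberwise_of_maps_to hmaps]
    apply Finset.sum_congr rfl
    intro r _
    simp only [hS]
    rw [Finset.sum_mul]
    apply Finset.sum_congr rfl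
    intro i hi
    have hir : i % q' = r := (mem_filter.mp hi).2
    congr 1
    rw [hη, ← pow_mul, ← hir]
    have h1 : ζ ^ (i * (p * j')) = ((ζ ^ p) ^ i) ^ j' := by
      rw [← pow_mul, ← pow_mul]; ring_nf
    have h2 : ζ ^ (p * (i % q' * j')) = ((ζ ^ p) ^ (i % q')) ^ j' := by
      rw [← pow_mul, ← pow_mul]
    rw [h1, h2, pow_eq_pow_mod i hηq]
  have hP1 := parsevalN hqpos hζ a
  have hP2 := parsevalN hq' hηprim S
  have hsecond : ∑ j ∈ (range (p * q')).filter (fun j => p ∣ j), Complex.normSq (A j)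
      = (q' : ℝ) * ∑ r ∈ range q', Complex.normSq (S r) := by
    rw [hmult, Finset.sum_image hinj, ← hP2]
    apply Finset.sum_congr rfl
    intro j' _
    rw [hAp j']
  rw [hsplit, hP1, hsecond]
  have hfib : ∑ i ∈ range (p * q'), Complex.normSq (a i)
      = ∑ r ∈ range q', ∑ i ∈ (range (p * q')).filter (fun i => i % q' = r),
          Complex.normSq (a i) := by
    rw [Finset.sum_fiberwise_of_maps_to hmaps]
  rw [hfib, Finset.mul_sum, Finset.mul_sum, Finset.mul_sum, ← Finset.sum_sub_distrib]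
  apply Finset.sum_congr rfl
  intro r _
  push_cast
  ring

/-- the squared norm of a complex vector -/
noncomputable def vecN {X : Type*} [Fintype X] (v : X → ℂ) : ℝ := ∑ x, Complex.normSq (v x)

theorem vecN_nonneg {X : Type*} [Fintype X] (v : X → ℂ) : 0 ≤ vecN v :=
  Finset.sum_nonneg (fun x _ => Complex.normSq_nonneg _)

theorem vecN_eq_zero_iff {X : Type*} [Fintype X] (v : X → ℂ) : vecN v = 0 ↔ v = 0 := by
  unfold vecN
  rw [Finset.sum_eq_zero_iff_of_nonneg (fun x _ => Complex.normSq_nonneg _)]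
  constructor
  · intro h
    funext x
    exact Complex.normSq_eq_zero.mp (h x (Finset.mem_univ x))
  · intro h x _
    rw [h]
    simp

/-- `|F| ∑ |x_i|² - |∑ x_i|² = ½ ∑_{i,i'} |x_i - x_{i'}|²` -/
theorem pair_identity {ι : Type*} (F : Finset ι) (x : ι → ℂ) :
    (F.card : ℝ) * ∑ i ∈ F, Complex.normSq (x i) - Complex.normSq (∑ i ∈ F, x i)
      = (1 / 2 : ℝ) * ∑ i ∈ F, ∑ i' ∈ F, Complex.normSq (x i - x i') := by
  have h1 : ∀ i ∈ F, ∑ i' ∈ F, Complex.normSq (x i - x i')
      = (F.card : ℝ) * Complex.normSq (x i) + ∑ i' ∈ F, Complex.normSq (x i')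
        - 2 * (x i * conj (∑ i' ∈ F, x i')).re := by
    intro i _
    have : ∀ i' ∈ F, Complex.normSq (x i - x i')
        = Complex.normSq (x i) + Complex.normSq (x i') - 2 * (x i * conj (x i')).re :=
      fun i' _ => Complex.normSq_sub _ _
    rw [Finset.sum_congr rfl this, Finset.sum_sub_distrib, Finset.sum_add_distrib,
      Finset.sum_const, nsmul_eq_mul, ← Finset.mul_sum, map_sum, Finset.mul_sum (a := x i),
      Complex.re_sum]
  rw [Finset.sum_congr rfl h1, Finset.sum_sub_distrib, Finset.sum_add_distrib,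
    ← Finset.mul_sum, Finset.sum_const, nsmul_eq_mul, ← Finset.mul_sum, ← Complex.re_sum,
    ← Finset.sum_mul, Complex.mul_conj, Complex.ofReal_re]
  ring

/-- the vector form of `pair_identity` -/
theorem pair_identity_vec {ι X : Type*} [Fintype X] (F : Finset ι) (v : ι → X → ℂ) :
    (F.card : ℝ) * ∑ i ∈ F, vecN (v i) - vecN (∑ i ∈ F, v i)
      = (1 / 2 : ℝ) * ∑ i ∈ F, ∑ i' ∈ F, vecN (v i - v i') := by
  unfold vecN
  have h1 : ∑ i ∈ F, ∑ x, Complex.normSq (v i x) = ∑ x, ∑ i ∈ F, Complex.normSq (v i x) :=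
    Finset.sum_comm
  have h2 : ∑ i ∈ F, ∑ i' ∈ F, ∑ x, Complex.normSq ((v i - v i') x)
      = ∑ x, ∑ i ∈ F, ∑ i' ∈ F, Complex.normSq (v i x - v i' x) := by
    have : ∀ i ∈ F, ∑ i' ∈ F, ∑ x, Complex.normSq ((v i - v i') x)
        = ∑ x, ∑ i' ∈ F, Complex.normSq (v i x - v i' x) := by
      intro i _
      rw [Finset.sum_comm]
      rfl
    rw [Finset.sum_congr rfl this, Finset.sum_comm]
  rw [h1, h2, Finset.mul_sum, Finset.mul_sum, ← Finset.sum_sub_distrib]
  apply Finset.sum_congr rfl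
  intro x _
  rw [Finset.sum_apply, pair_identity]

theorem fiber_nonneg {ι X : Type*} [Fintype X] (F : Finset ι) (v : ι → X → ℂ) :
    0 ≤ (F.card : ℝ) * ∑ i ∈ F, vecN (v i) - vecN (∑ i ∈ F, v i) := by
  rw [pair_identity_vec]
  apply mul_nonneg (by norm_num)
  exact Finset.sum_nonneg (fun i _ => Finset.sum_nonneg (fun i' _ => vecN_nonneg _))

theorem fiber_eq_zero_of_const {ι X : Type*} [Fintype X] (F : Finset ι) (v : ι → X → ℂ)
    (h : ∀ i ∈ F, ∀ i' ∈ F, v i = v i') :
    (F.card : ℝ) * ∑ i ∈ F, vecN (v i) - vecN (∑ i ∈ F, v i) = 0 := by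
  rw [pair_identity_vec]
  have : ∑ i ∈ F, ∑ i' ∈ F, vecN (v i - v i') = 0 := by
    apply Finset.sum_eq_zero
    intro i hi
    apply Finset.sum_eq_zero
    intro i' hi'
    rw [h i hi i' hi', sub_self, (vecN_eq_zero_iff _).mpr rfl]
  rw [this, mul_zero]

/-- a non-constant family of `|F|` lattice vectors: `|F| ∑ ‖v_i‖² - ‖∑ v_i‖² ≥ (|F| - 1) m` -/
theorem fiber_lower {ι X : Type*} [Fintype X] [DecidableEq ι] (F : Finset ι) (v : ι → X → ℂ)
    (m : ℝ) (hm0 : 0 ≤ m)
    (hm : ∀ i ∈ F, ∀ i' ∈ F, v i ≠ v i' → m ≤ vecN (v i - v i'))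
    (hne : ∃ i ∈ F, ∃ i' ∈ F, v i ≠ v i') :
    ((F.card : ℝ) - 1) * m ≤ (F.card : ℝ) * ∑ i ∈ F, vecN (v i) - vecN (∑ i ∈ F, v i) := by
  classical
  obtain ⟨i₁, hi₁, i₀, hi₀, hne⟩ := hne
  set u : ι → X → ℂ := fun i => v i - v i₀ with hu
  have hD : (F.card : ℝ) * ∑ i ∈ F, vecN (v i) - vecN (∑ i ∈ F, v i)
      = (F.card : ℝ) * ∑ i ∈ F, vecN (u i) - vecN (∑ i ∈ F, u i) := by
    rw [pair_identity_vec, pair_identity_vec]
    congr 1
    apply Finset.sum_congr rfl
    intro i _
    apply Finset.sum_congr rfl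
    intro i' _
    congr 1
    simp only [hu]
    abel
  rw [hD]
  set P := F.filter (fun i => u i ≠ 0) with hP
  have hs1 : ∑ i ∈ F, vecN (u i) = ∑ i ∈ P, vecN (u i) := by
    rw [hP, Finset.sum_filter]
    apply Finset.sum_congr rfl
    intro i _
    by_cases h : u i = 0
    · rw [if_neg (not_not.mpr h), h, (vecN_eq_zero_iff _).mpr rfl]
    · rw [if_pos h]
  have hs2 : ∑ i ∈ F, u i = ∑ i ∈ P, u i := by
    rw [hP, Finset.sum_filter]
    apply Finset.sum_congr rfl
    intro i _
    by_cases h : u i = 0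
    · rw [if_neg (not_not.mpr h), h]
    · rw [if_pos h]
  have hcs := fiber_nonneg P u
  have hi₀P : i₀ ∉ P := by
    rw [hP, Finset.mem_filter]
    intro h
    apply h.2
    simp [hu]
  have hi₁P : i₁ ∈ P := by
    rw [hP, Finset.mem_filter]
    refine ⟨hi₁, ?_⟩
    simp only [hu]
    intro h
    exact hne (sub_eq_zero.mp h)
  have hPle : P.card + 1 ≤ F.card := by
    have h1 : P ⊆ F.erase i₀ := by
      intro i hi
      rw [Finset.mem_erase]
      exact ⟨fun h => hi₀P (h ▸ hi), (Finset.mem_filter.mp hi).1⟩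
    have h2 := Finset.card_le_card h1
    rw [Finset.card_erase_of_mem hi₀] at h2
    have : 0 < F.card := Finset.card_pos.mpr ⟨i₀, hi₀⟩
    omega
  have hPpos : 1 ≤ P.card := Finset.card_pos.mpr ⟨i₁, hi₁P⟩
  have hge : (P.card : ℝ) * m ≤ ∑ i ∈ P, vecN (u i) := by
    have : ∀ i ∈ P, m ≤ vecN (u i) := by
      intro i hi
      have hiF : i ∈ F := (Finset.mem_filter.mp hi).1
      have hne' : u i ≠ 0 := (Finset.mem_filter.mp hi).2
      apply hm i hiF i₀ hi₀
      intro h
      apply hne'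
      simp only [hu]
      rw [h, sub_self]
    calc (P.card : ℝ) * m = ∑ _i ∈ P, m := by rw [Finset.sum_const, nsmul_eq_mul]
      _ ≤ ∑ i ∈ P, vecN (u i) := Finset.sum_le_sum this
  rw [hs1, hs2]
  have ht1 : (1 : ℝ) ≤ (P.card : ℝ) := by exact_mod_cast hPpos
  have ht2 : (P.card : ℝ) + 1 ≤ (F.card : ℝ) := by exact_mod_cast hPle
  have hS0 : 0 ≤ ∑ i ∈ P, vecN (u i) := Finset.sum_nonneg (fun i _ => vecN_nonneg _)
  -- D ≥ (|F| - t) Σ ≥ (|F| - t) t m ≥ (|F| - 1) m
  have h1 : ((F.card : ℝ) - (P.card : ℝ)) * ((P.card : ℝ) * m)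
      ≤ ((F.card : ℝ) - (P.card : ℝ)) * ∑ i ∈ P, vecN (u i) :=
    mul_le_mul_of_nonneg_left hge (by linarith)
  have h2 : ((F.card : ℝ) - 1) * m ≤ ((F.card : ℝ) - (P.card : ℝ)) * ((P.card : ℝ) * m) := by
    have : 0 ≤ ((P.card : ℝ) - 1) * ((F.card : ℝ) - 1 - (P.card : ℝ)) :=
      mul_nonneg (by linarith) (by linarith)
    nlinarith
  linarith

/-- the vector form of `ram_identity` -/
theorem ram_identity_vec {p q' : ℕ} (hp : 0 < p) (hq' : 0 < q') {ζ : ℂ}
    (hζ : IsPrimitiveRoot ζ (p * q')) {X : Type*} [Fintype X] (A : ℕ → X → ℂ) :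
    ∑ j ∈ (range (p * q')).filter (fun j => ¬ p ∣ j),
        vecN (∑ i ∈ range (p * q'), ζ ^ (i * j) • A i)
      = (q' : ℝ) * ∑ r ∈ range q',
          ((p : ℝ) * ∑ i ∈ (range (p * q')).filter (fun i => i % q' = r), vecN (A i)
            - vecN (∑ i ∈ (range (p * q')).filter (fun i => i % q' = r), A i)) := by
  unfold vecN
  have h1 : ∀ j, ∑ x, Complex.normSq ((∑ i ∈ range (p * q'), ζ ^ (i * j) • A i) x)
      = ∑ x, Complex.normSq (∑ i ∈ range (p * q'), A i x * ζ ^ (i * j)) := by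
    intro j
    apply Finset.sum_congr rfl
    intro x _
    rw [Finset.sum_apply]
    congr 1
    apply Finset.sum_congr rfl
    intro i _
    rw [Pi.smul_apply, smul_eq_mul, mul_comm]
  rw [Finset.sum_congr rfl (fun j _ => h1 j), Finset.sum_comm]
  rw [Finset.sum_congr rfl (fun x _ => ram_identity hp hq' hζ (fun i => A i x))]
  rw [← Finset.mul_sum, Finset.sum_comm]
  congr 1
  apply Finset.sum_congr rfl
  intro r _
  rw [Finset.sum_sub_distrib, ← Finset.mul_sum, Finset.sum_comm]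
  congr 1
  apply Finset.sum_congr rfl
  intro x _
  rw [Finset.sum_apply]

/-- **The lattice inequality**: for vectors `w_t` in an additive subgroup `Λ₀` all of whose
non-zero members have squared norm at least `m`, and `p^n`-th roots of unity `μ_t`, if
`∑ μ_t w_t ≠ 0` then `φ(p^n) m ≤ ∑_j ‖∑_t μ_t^j w_t‖²`. -/
theorem totient_mul_le_sum_vec {p : ℕ} (hp : p.Prime) (n : ℕ) {T X : Type*} [Fintype T]
    [Fintype X] (Λ₀ : AddSubgroup (X → ℂ)) (m : ℝ) (hm0 : 0 ≤ m)
    (hm : ∀ v ∈ Λ₀, v ≠ 0 → m ≤ vecN v)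
    (μ : T → ℂ) (hμ : ∀ t, μ t ^ (p ^ n) = 1) (w : T → X → ℂ) (hw : ∀ t, w t ∈ Λ₀)
    (hne : ∑ t, μ t • w t ≠ 0) :
    ((p ^ n).totient : ℝ) * m ≤ ∑ j ∈ (range (p ^ n)).filter (fun j => Nat.Coprime (p ^ n) j),
      vecN (∑ t, μ t ^ j • w t) := by
  classical
  rcases Nat.eq_zero_or_pos n with hn | hn
  · subst hn
    simp only [pow_zero, Nat.totient_one, Nat.cast_one, range_one, one_mul] at hμ ⊢
    have hfil : ({0} : Finset ℕ).filter (fun j => Nat.Coprime 1 j) = {0} := by
      ext j; simp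
    rw [hfil, Finset.sum_singleton]
    have h1 : ∑ t, μ t ^ 0 • w t = ∑ t, μ t • w t := by
      apply Finset.sum_congr rfl
      intro t _
      have := hμ t
      rw [pow_one] at this
      rw [this, pow_zero]
    rw [h1]
    apply hm _ _ hne
    apply AddSubgroup.sum_mem
    intro t _
    have := hμ t
    rw [pow_one] at this
    rw [this, one_smul]
    exact hw t
  · obtain ⟨n', rfl⟩ : ∃ n', n = n' + 1 := ⟨n - 1, by omega⟩
    set q' := p ^ n' with hq'
    have hq'pos : 0 < q' := pow_pos hp.pos _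
    have hq : p ^ (n' + 1) = p * q' := by rw [hq', pow_succ, mul_comm]
    have hqpos : 0 < p * q' := Nat.mul_pos hp.pos hq'pos
    haveI : NeZero (p * q') := ⟨hqpos.ne'⟩
    have hζ : IsPrimitiveRoot (Complex.exp (2 * Real.pi * Complex.I / ((p * q' : ℕ) : ℂ)))
        (p * q') := Complex.isPrimitiveRoot_exp _ hqpos.ne'
    set ζ := Complex.exp (2 * Real.pi * Complex.I / ((p * q' : ℕ) : ℂ)) with hζdef
    rw [hq] at hμ ⊢
    have hex : ∀ t, ∃ e, e < p * q' ∧ ζ ^ e = μ t := fun t => hζ.eq_pow_of_pow_eq_one (hμ t)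
    choose e he using hex
    set A : ℕ → X → ℂ := fun i => ∑ t ∈ (univ : Finset T).filter (fun t => e t = i), w t with hA
    have hAmem : ∀ i, A i ∈ Λ₀ := fun i => AddSubgroup.sum_mem _ (fun t _ => hw t)
    have hmaps : ∀ t ∈ (univ : Finset T), e t ∈ range (p * q') :=
      fun t _ => mem_range.mpr (he t).1
    have hv : ∀ j, ∑ t, μ t ^ j • w t = ∑ i ∈ range (p * q'), ζ ^ (i * j) • A i := by
      intro j
      rw [← Finset.sum_fiberwise_of_maps_to hmaps]
      apply Finset.sum_congr rfl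
      intro i _
      simp only [hA]
      rw [Finset.smul_sum]
      apply Finset.sum_congr rfl
      intro t ht
      have : e t = i := (mem_filter.mp ht).2
      rw [← (he t).2, this, pow_mul]
    have hfil : (range (p * q')).filter (fun j => Nat.Coprime (p * q') j)
        = (range (p * q')).filter (fun j => ¬ p ∣ j) := by
      apply Finset.filter_congr
      intro j _
      rw [← hq, Nat.coprime_pow_left_iff (Nat.succ_pos n'), Nat.Prime.coprime_iff_not_dvd hp]
    rw [hfil, Finset.sum_congr rfl (fun j _ => by rw [hv j]), ram_identity_vec hp.pos hq'pos hζ A]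
    have htot : (p * q').totient = q' * (p - 1) := by
      rw [← hq, Nat.totient_prime_pow_succ hp]
    rw [htot]
    have hD0 : ∀ r ∈ range q', 0 ≤ (p : ℝ) * ∑ i ∈ (range (p * q')).filter
        (fun i => i % q' = r), vecN (A i)
          - vecN (∑ i ∈ (range (p * q')).filter (fun i => i % q' = r), A i) := by
      intro r hr
      have hc := card_fiber p q' hq'pos (mem_range.mp hr)
      have := fiber_nonneg ((range (p * q')).filter (fun i => i % q' = r)) A
      rwa [hc] at this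
    have hp1 : ((p - 1 : ℕ) : ℝ) = (p : ℝ) - 1 := by
      rw [Nat.cast_sub hp.pos, Nat.cast_one]
    by_cases hconst : ∀ r ∈ range q', ∀ i ∈ (range (p * q')).filter (fun i => i % q' = r),
        ∀ i' ∈ (range (p * q')).filter (fun i => i % q' = r), A i = A i'
    · -- all fibres constant: contradiction
      exfalso
      have hz : ∑ j ∈ (range (p * q')).filter (fun j => ¬ p ∣ j),
          vecN (∑ i ∈ range (p * q'), ζ ^ (i * j) • A i) = 0 := by
        rw [ram_identity_vec hp.pos hq'pos hζ A]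
        have : ∑ r ∈ range q', ((p : ℝ) * ∑ i ∈ (range (p * q')).filter
            (fun i => i % q' = r), vecN (A i)
              - vecN (∑ i ∈ (range (p * q')).filter (fun i => i % q' = r), A i)) = 0 := by
          apply Finset.sum_eq_zero
          intro r hr
          have hc := card_fiber p q' hq'pos (mem_range.mp hr)
          have := fiber_eq_zero_of_const ((range (p * q')).filter (fun i => i % q' = r)) A
            (hconst r hr)
          rwa [hc] at this
        rw [this, mul_zero]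
      have h1mem : 1 ∈ (range (p * q')).filter (fun j => ¬ p ∣ j) := by
        rw [mem_filter, mem_range]
        refine ⟨?_, ?_⟩
        · have := hp.two_le
          nlinarith
        · exact hp.one_lt.ne' ∘ Nat.dvd_one.mp
      have h1 := (Finset.sum_eq_zero_iff_of_nonneg (fun j _ => vecN_nonneg _)).mp hz 1 h1mem
      rw [vecN_eq_zero_iff, ← hv 1] at h1
      apply hne
      rw [← h1]
      apply Finset.sum_congr rfl
      intro t _
      rw [pow_one]
    · push Not at hconst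
      obtain ⟨r₀, hr₀, i, hi, i', hi', hii'⟩ := hconst
      have hc := card_fiber p q' hq'pos (mem_range.mp hr₀)
      have hlow := fiber_lower ((range (p * q')).filter (fun i => i % q' = r₀)) A m hm0
        (fun i _ i' _ hne' => hm _ (AddSubgroup.sub_mem _ (hAmem i) (hAmem i'))
          (sub_ne_zero.mpr hne')) ⟨i, hi, i', hi', hii'⟩
      rw [hc] at hlow
      have hsum := Finset.single_le_sum hD0 hr₀
      have hq'R : (0 : ℝ) ≤ (q' : ℝ) := by positivity
      calc ((q' * (p - 1) : ℕ) : ℝ) * m = (q' : ℝ) * (((p : ℝ) - 1) * m) := by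
            rw [Nat.cast_mul, hp1]; ring
        _ ≤ (q' : ℝ) * ∑ r ∈ range q', ((p : ℝ) * ∑ i ∈ (range (p * q')).filter
            (fun i => i % q' = r), vecN (A i)
              - vecN (∑ i ∈ (range (p * q')).filter (fun i => i % q' = r), A i)) :=
          mul_le_mul_of_nonneg_left (le_trans hlow hsum) hq'R

/-- the three cases for `p ∑ x² - (∑ x)²`, `p` integers -/
theorem int_fiber_cases {ι : Type*} [DecidableEq ι] {p : ℕ} (hp : p.Prime) (F : Finset ι)
    (hF : F.card = p) (x : ι → ℤ) :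
    0 ≤ (p : ℤ) * ∑ i ∈ F, x i ^ 2 - (∑ i ∈ F, x i) ^ 2 ∧
    (¬ (p : ℤ) ∣ ∑ i ∈ F, x i →
      (p : ℤ) - 1 ≤ (p : ℤ) * ∑ i ∈ F, x i ^ 2 - (∑ i ∈ F, x i) ^ 2) ∧
    ((p : ℤ) ∣ ∑ i ∈ F, x i →
      (p : ℤ) * ∑ i ∈ F, x i ^ 2 - (∑ i ∈ F, x i) ^ 2 = 0 ∨
      2 * (p : ℤ) ≤ (p : ℤ) * ∑ i ∈ F, x i ^ 2 - (∑ i ∈ F, x i) ^ 2) := by
  refine ⟨?_, block_ineq_strict hp F hF x, ?_⟩
  · have := sq_sum_le_card_mul_sum_sq (s := F) (f := x)
    rw [hF] at this
    linarith
  · rintro ⟨m, hm⟩
    have hE : (p : ℤ) * ∑ i ∈ F, x i ^ 2 - (∑ i ∈ F, x i) ^ 2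
        = (p : ℤ) * ∑ i ∈ F, (x i - m) ^ 2 := by
      have h1 : ∑ i ∈ F, (x i - m) ^ 2
          = ∑ i ∈ F, x i ^ 2 - 2 * m * ∑ i ∈ F, x i + (p : ℤ) * m ^ 2 := by
        have : ∀ i ∈ F, (x i - m) ^ 2 = x i ^ 2 - 2 * m * x i + m ^ 2 := fun i _ => by ring
        rw [Finset.sum_congr rfl this, Finset.sum_add_distrib, Finset.sum_sub_distrib,
          ← Finset.mul_sum, Finset.sum_const, hF, nsmul_eq_mul]
      rw [h1, hm]
      ring
    rw [hE]
    have hE0 : 0 ≤ ∑ i ∈ F, (x i - m) ^ 2 := Finset.sum_nonneg (fun i _ => sq_nonneg _)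
    have hs0 : ∑ i ∈ F, (x i - m) = 0 := by
      rw [Finset.sum_sub_distrib, hm, Finset.sum_const, hF, nsmul_eq_mul]
      ring
    have heven : Even (∑ i ∈ F, (x i - m) ^ 2) := by
      have h1 : Even (∑ i ∈ F, (x i - m) ^ 2 - ∑ i ∈ F, (x i - m)) := by
        rw [← Finset.sum_sub_distrib]
        apply Finset.even_sum
        intro i _
        have : (x i - m) ^ 2 - (x i - m) = (x i - m) * ((x i - m) - 1) := by ring
        rw [this]
        exact Int.even_mul_pred_self _
      rwa [hs0, sub_zero] at h1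
    obtain ⟨r, hr⟩ := heven
    have hp0 : (0 : ℤ) < p := by exact_mod_cast hp.pos
    rcases Nat.eq_zero_or_pos (r.toNat) with h0 | hpos
    · left
      have : r = 0 := by omega
      rw [hr, this]
      ring
    · right
      have : 1 ≤ r := by omega
      rw [hr]
      nlinarith

/-- **The scalar inequalities**: a non-zero integer combination `x = ∑ c_t μ_t` of `p^n`-th roots
of unity has `φ(p^n) ≤ ∑_j |x^{(j)}|²`, and `2 φ(p^n) ≤ ∑_j |x^{(j)}|²` when `p ∣ ∑ c_t`. -/
theorem totient_le_sum_normSq' {p : ℕ} (hp : p.Prime) (n : ℕ) {T : Type*} [Fintype T]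
    (c : T → ℤ) (μ : T → ℂ) (hμ : ∀ t, μ t ^ (p ^ n) = 1) (hne : ∑ t, (c t : ℂ) * μ t ≠ 0) :
    ((p ^ n).totient : ℝ) ≤ ∑ j ∈ (range (p ^ n)).filter (fun j => Nat.Coprime (p ^ n) j),
        Complex.normSq (∑ t, (c t : ℂ) * μ t ^ j) ∧
    ((p : ℤ) ∣ ∑ t, c t →
      2 * ((p ^ n).totient : ℝ) ≤ ∑ j ∈ (range (p ^ n)).filter (fun j => Nat.Coprime (p ^ n) j),
        Complex.normSq (∑ t, (c t : ℂ) * μ t ^ j)) := by
  classical
  rcases Nat.eq_zero_or_pos n with hn | hn
  · subst hn
    simp only [pow_zero, Nat.totient_one, Nat.cast_one, range_one, mul_one] at hμ ⊢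
    have hfil : ({0} : Finset ℕ).filter (fun j => Nat.Coprime 1 j) = {0} := by
      ext j; simp
    rw [hfil, Finset.sum_singleton]
    have hμ1 : ∀ t, μ t = 1 := fun t => by have := hμ t; rwa [pow_one] at this
    have h1 : ∑ t, (c t : ℂ) * μ t ^ 0 = ((∑ t, c t : ℤ) : ℂ) := by
      push_cast
      apply Finset.sum_congr rfl
      intro t _
      rw [pow_zero, mul_one]
    have h2 : ∑ t, (c t : ℂ) * μ t = ((∑ t, c t : ℤ) : ℂ) := by
      push_cast
      apply Finset.sum_congr rfl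
      intro t _
      rw [hμ1 t, mul_one]
    rw [h1, Complex.normSq_intCast]
    rw [h2] at hne
    have hne' : (∑ t, c t) ≠ 0 := by
      intro h
      apply hne
      rw [h, Int.cast_zero]
    refine ⟨?_, ?_⟩
    · have : (1 : ℤ) ≤ (∑ t, c t) * (∑ t, c t) := by
        have : 0 < (∑ t, c t) * (∑ t, c t) := mul_self_pos.mpr hne'
        omega
      exact_mod_cast this
    · rintro ⟨k, hk⟩
      have hk0 : k ≠ 0 := by
        intro h
        apply hne'
        rw [hk, h, mul_zero]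
      have hp2 : (2 : ℤ) ≤ p := by exact_mod_cast hp.two_le
      have : (2 : ℤ) ≤ (∑ t, c t) * (∑ t, c t) := by
        rw [hk]
        have hk1 : 1 ≤ k * k := by
          have : 0 < k * k := mul_self_pos.mpr hk0
          omega
        have hpp : (4 : ℤ) ≤ (p : ℤ) * p := by nlinarith
        have : (p : ℤ) * k * ((p : ℤ) * k) = ((p : ℤ) * p) * (k * k) := by ring
        rw [this]
        nlinarith
      exact_mod_cast this
  · obtain ⟨n', rfl⟩ : ∃ n', n = n' + 1 := ⟨n - 1, by omega⟩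
    set q' := p ^ n' with hq'
    have hq'pos : 0 < q' := pow_pos hp.pos _
    have hq : p ^ (n' + 1) = p * q' := by rw [hq', pow_succ, mul_comm]
    have hqpos : 0 < p * q' := Nat.mul_pos hp.pos hq'pos
    haveI : NeZero (p * q') := ⟨hqpos.ne'⟩
    have hζ : IsPrimitiveRoot (Complex.exp (2 * Real.pi * Complex.I / ((p * q' : ℕ) : ℂ)))
        (p * q') := Complex.isPrimitiveRoot_exp _ hqpos.ne'
    set ζ := Complex.exp (2 * Real.pi * Complex.I / ((p * q' : ℕ) : ℂ)) with hζdef
    rw [hq] at hμ ⊢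
    have hex : ∀ t, ∃ e, e < p * q' ∧ ζ ^ e = μ t := fun t => hζ.eq_pow_of_pow_eq_one (hμ t)
    choose e he using hex
    set a : ℕ → ℤ := fun i => ∑ t ∈ (univ : Finset T).filter (fun t => e t = i), c t with ha
    have hmaps : ∀ t ∈ (univ : Finset T), e t ∈ range (p * q') :=
      fun t _ => mem_range.mpr (he t).1
    have hmaps' : ∀ i ∈ range (p * q'), i % q' ∈ range q' :=
      fun i _ => mem_range.mpr (Nat.mod_lt _ hq'pos)
    have hsum : ∑ i ∈ range (p * q'), a i = ∑ t, c t := by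
      simp only [ha]
      rw [Finset.sum_fiberwise_of_maps_to hmaps]
    have hv : ∀ j, ∑ t, (c t : ℂ) * μ t ^ j
        = ∑ i ∈ range (p * q'), ((a i : ℤ) : ℂ) * ζ ^ (i * j) := by
      intro j
      rw [← Finset.sum_fiberwise_of_maps_to hmaps]
      apply Finset.sum_congr rfl
      intro i _
      simp only [ha]
      push_cast
      rw [Finset.sum_mul]
      apply Finset.sum_congr rfl
      intro t ht
      have : e t = i := (mem_filter.mp ht).2
      rw [← (he t).2, this, pow_mul]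
    have hfil : (range (p * q')).filter (fun j => Nat.Coprime (p * q') j)
        = (range (p * q')).filter (fun j => ¬ p ∣ j) := by
      apply Finset.filter_congr
      intro j _
      rw [← hq, Nat.coprime_pow_left_iff (Nat.succ_pos n'), Nat.Prime.coprime_iff_not_dvd hp]
    set S : ℕ → ℤ := fun r => ∑ i ∈ (range (p * q')).filter (fun i => i % q' = r), a i with hS
    set Dz : ℕ → ℤ := fun r => (p : ℤ) * ∑ i ∈ (range (p * q')).filter (fun i => i % q' = r),
      a i ^ 2 - (S r) ^ 2 with hDz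
    have hkey : ∑ j ∈ (range (p * q')).filter (fun j => ¬ p ∣ j),
        Complex.normSq (∑ t, (c t : ℂ) * μ t ^ j) = (q' : ℝ) * ((∑ r ∈ range q', Dz r : ℤ) : ℝ) := by
      rw [Finset.sum_congr rfl (fun j _ => by rw [hv j]),
        ram_identity hp.pos hq'pos hζ (fun i => ((a i : ℤ) : ℂ))]
      congr 1
      push_cast
      apply Finset.sum_congr rfl
      intro r _
      simp only [hDz, hS]
      push_cast
      have h1 : ∀ i, Complex.normSq ((a i : ℤ) : ℂ) = ((a i : ℤ) : ℝ) ^ 2 := by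
        intro i
        rw [Complex.normSq_intCast, sq]
      have h2 : Complex.normSq (∑ i ∈ (range (p * q')).filter (fun i => i % q' = r),
          ((a i : ℤ) : ℂ))
          = (∑ i ∈ (range (p * q')).filter (fun i => i % q' = r), ((a i : ℤ) : ℝ)) ^ 2 := by
        rw [← Int.cast_sum, Complex.normSq_intCast, sq]
        push_cast
        rfl
      rw [Finset.sum_congr rfl (fun i _ => h1 i), h2]
    rw [hfil, hkey]
    have hsumS : ∑ r ∈ range q', S r = ∑ t, c t := by
      rw [← hsum]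
      simp only [hS]
      rw [Finset.sum_fiberwise_of_maps_to hmaps']
    have hcases := fun r (hr : r ∈ range q') =>
      int_fiber_cases hp ((range (p * q')).filter (fun i => i % q' = r))
        (card_fiber p q' hq'pos (mem_range.mp hr)) a
    have hD0 : ∀ r ∈ range q', 0 ≤ Dz r := fun r hr => (hcases r hr).1
    -- some `Dz r ≠ 0`
    have hex0 : ∃ r₀ ∈ range q', Dz r₀ ≠ 0 := by
      by_contra hcon
      push Not at hcon
      have hz : ∑ j ∈ (range (p * q')).filter (fun j => ¬ p ∣ j),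
          Complex.normSq (∑ t, (c t : ℂ) * μ t ^ j) = 0 := by
        rw [hkey, Finset.sum_eq_zero hcon, Int.cast_zero, mul_zero]
      have h1mem : 1 ∈ (range (p * q')).filter (fun j => ¬ p ∣ j) := by
        rw [mem_filter, mem_range]
        refine ⟨?_, ?_⟩
        · have := hp.two_le
          nlinarith
        · exact hp.one_lt.ne' ∘ Nat.dvd_one.mp
      have h1 := (Finset.sum_eq_zero_iff_of_nonneg
        (fun j _ => Complex.normSq_nonneg _)).mp hz 1 h1mem
      rw [Complex.normSq_eq_zero] at h1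
      apply hne
      rw [← h1]
      apply Finset.sum_congr rfl
      intro t _
      rw [pow_one]
    obtain ⟨r₀, hr₀, hr₀D⟩ := hex0
    have hp2 : (2 : ℤ) ≤ p := by exact_mod_cast hp.two_le
    have htot : (p * q').totient = q' * (p - 1) := by
      rw [← hq, Nat.totient_prime_pow_succ hp]
    have hp1 : ((p - 1 : ℕ) : ℝ) = (p : ℝ) - 1 := by
      rw [Nat.cast_sub hp.pos, Nat.cast_one]
    have hq'R : (0 : ℝ) ≤ (q' : ℝ) := by positivity
    rw [htot, Nat.cast_mul, hp1]
    have hlow1 : (p : ℤ) - 1 ≤ Dz r₀ := by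
      by_cases hdv : (p : ℤ) ∣ S r₀
      · rcases (hcases r₀ hr₀).2.2 hdv with h | h
        · exact absurd h hr₀D
        · have : 2 * (p : ℤ) ≤ Dz r₀ := h
          linarith
      · exact (hcases r₀ hr₀).2.1 hdv
    refine ⟨?_, ?_⟩
    · have h1 : (p : ℤ) - 1 ≤ ∑ r ∈ range q', Dz r :=
        le_trans hlow1 (Finset.single_le_sum hD0 hr₀)
      have h2 : ((p : ℝ) - 1) ≤ ((∑ r ∈ range q', Dz r : ℤ) : ℝ) := by exact_mod_cast h1
      exact mul_le_mul_of_nonneg_left h2 hq'R
    · intro hdvd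
      have h1 : 2 * ((p : ℤ) - 1) ≤ ∑ r ∈ range q', Dz r := by
        by_cases hall : ∀ r ∈ range q', (p : ℤ) ∣ S r
        · rcases (hcases r₀ hr₀).2.2 (hall r₀ hr₀) with h | h
          · exact absurd h hr₀D
          · have h' : 2 * (p : ℤ) ≤ Dz r₀ := h
            have := Finset.single_le_sum hD0 hr₀
            linarith
        · push Not at hall
          obtain ⟨r₁, hr₁, hr₁S⟩ := hall
          have hex2 : ∃ r₂ ∈ (range q').erase r₁, ¬ (p : ℤ) ∣ S r₂ := by
            by_contra hcon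
            push Not at hcon
            apply hr₁S
            have h2 : (p : ℤ) ∣ ∑ r ∈ (range q').erase r₁, S r := Finset.dvd_sum hcon
            have h3 : ∑ r ∈ range q', S r = S r₁ + ∑ r ∈ (range q').erase r₁, S r :=
              (Finset.add_sum_erase _ _ hr₁).symm
            rw [hsumS] at h3
            have h4 : S r₁ = ∑ t, c t - ∑ r ∈ (range q').erase r₁, S r := by rw [h3]; ring
            rw [h4]
            exact dvd_sub hdvd h2
          obtain ⟨r₂, hr₂, hr₂S⟩ := hex2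
          have hr₂' : r₂ ∈ range q' := Finset.mem_of_mem_erase hr₂
          have hd1 := (hcases r₁ hr₁).2.1 hr₁S
          have hd2 := (hcases r₂ hr₂').2.1 hr₂S
          have h3 : ∑ r ∈ range q', Dz r = Dz r₁ + ∑ r ∈ (range q').erase r₁, Dz r :=
            (Finset.add_sum_erase _ _ hr₁).symm
          have h4 : Dz r₂ ≤ ∑ r ∈ (range q').erase r₁, Dz r :=
            Finset.single_le_sum (fun r hr => hD0 r (Finset.mem_of_mem_erase hr)) hr₂
          have hd1' : (p : ℤ) - 1 ≤ Dz r₁ := hd1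
          have hd2' : (p : ℤ) - 1 ≤ Dz r₂ := hd2
          rw [h3]
          linarith
      have h2 : 2 * ((p : ℝ) - 1) ≤ ((∑ r ∈ range q', Dz r : ℤ) : ℝ) := by exact_mod_cast h1
      calc 2 * ((q' : ℝ) * ((p : ℝ) - 1)) = (q' : ℝ) * (2 * ((p : ℝ) - 1)) := by ring
        _ ≤ (q' : ℝ) * ((∑ r ∈ range q', Dz r : ℤ) : ℝ) := mul_le_mul_of_nonneg_left h2 hq'R

end Cfsg.Agent.Lib.Helper25.CycloRam
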