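import Mathlib
import Cfsg.Prelude.Def_Blocks
import Cfsg.Agent.Lib.Helper24.Loc
import Cfsg.Agent.Lib.Helper24.Contribution
import Cfsg.Agent.Lib.Helper25.CycloRam

/-!
# The combinatorial core of Brauer's `k(B) ≤ p^d` for major subsections with `l(b) ≤ 2`
(helper25 library)

Abstract data (`FrameData`): a real symmetric idempotent matrix `N` on a finite set `T` with
`p^d N` integral and of rank one modulo `p`, of trace `l`; multiplicities `a χ ξ` and roots of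
unity `ε ξ` giving the vectors `c^{(j)}_χ = ∑_ξ a χ ξ ε_ξ^j N_ξ•`, which form a Parseval frame for
every `j` prime to `p`; and the conclusions of Brauer's (5H).  Then `|I| ≤ p^d` when `l ≤ 2`
(`FrameData.card_le`).
-/

set_option autoImplicit false
set_option linter.style.haveILetI false
set_option linter.unusedSectionVars false

namespace Cfsg.Agent.Lib.Helper25.MajorCore

open scoped ComplexConjugate
open Finset
open Cfsg.Agent.Lib.Helper24 Cfsg.Agent.Lib.Helper25.CycloRam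

section Ip

variable {X : Type*} [Fintype X]

/-- the standard Hermitian product -/
noncomputable def ip (v w : X → ℂ) : ℂ := ∑ x, v x * conj (w x)

theorem ip_add_left (v v' w : X → ℂ) : ip (v + v') w = ip v w + ip v' w := by
  unfold ip
  rw [← Finset.sum_add_distrib]
  apply Finset.sum_congr rfl
  intro x _
  rw [Pi.add_apply, add_mul]

theorem ip_add_right (v w w' : X → ℂ) : ip v (w + w') = ip v w + ip v w' := by
  unfold ip
  rw [← Finset.sum_add_distrib]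
  apply Finset.sum_congr rfl
  intro x _
  rw [Pi.add_apply, map_add, mul_add]

theorem ip_smul_left (s : ℂ) (v w : X → ℂ) : ip (s • v) w = s * ip v w := by
  unfold ip
  rw [Finset.mul_sum]
  apply Finset.sum_congr rfl
  intro x _
  rw [Pi.smul_apply, smul_eq_mul, mul_assoc]

theorem ip_smul_right (s : ℂ) (v w : X → ℂ) : ip v (s • w) = conj s * ip v w := by
  unfold ip
  rw [Finset.mul_sum]
  apply Finset.sum_congr rfl
  intro x _
  rw [Pi.smul_apply, smul_eq_mul, map_mul]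
  ring

theorem ip_zero_left (w : X → ℂ) : ip 0 w = 0 := by
  unfold ip
  simp

theorem ip_zero_right (v : X → ℂ) : ip v 0 = 0 := by
  unfold ip
  simp

theorem ip_neg_left (v w : X → ℂ) : ip (-v) w = - ip v w := by
  unfold ip
  rw [← Finset.sum_neg_distrib]
  apply Finset.sum_congr rfl
  intro x _
  rw [Pi.neg_apply, neg_mul]

theorem ip_neg_right (v w : X → ℂ) : ip v (-w) = - ip v w := by
  unfold ip
  rw [← Finset.sum_neg_distrib]
  apply Finset.sum_congr rfl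
  intro x _
  rw [Pi.neg_apply, map_neg, mul_neg]

theorem ip_sub_left (v v' w : X → ℂ) : ip (v - v') w = ip v w - ip v' w := by
  rw [sub_eq_add_neg, ip_add_left, ip_neg_left, ← sub_eq_add_neg]

theorem ip_sub_right (v w w' : X → ℂ) : ip v (w - w') = ip v w - ip v w' := by
  rw [sub_eq_add_neg, ip_add_right, ip_neg_right, ← sub_eq_add_neg]

theorem ip_sum_left {ι : Type*} (s : Finset ι) (v : ι → X → ℂ) (w : X → ℂ) :
    ip (∑ i ∈ s, v i) w = ∑ i ∈ s, ip (v i) w := by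
  classical
  induction s using Finset.induction_on with
  | empty => simp [ip_zero_left]
  | insert i s hi ih => rw [Finset.sum_insert hi, Finset.sum_insert hi, ip_add_left, ih]

theorem ip_sum_right {ι : Type*} (s : Finset ι) (v : X → ℂ) (w : ι → X → ℂ) :
    ip v (∑ i ∈ s, w i) = ∑ i ∈ s, ip v (w i) := by
  classical
  induction s using Finset.induction_on with
  | empty => simp [ip_zero_right]
  | insert i s hi ih => rw [Finset.sum_insert hi, Finset.sum_insert hi, ip_add_right, ih]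

theorem ip_conj_symm (v w : X → ℂ) : conj (ip v w) = ip w v := by
  unfold ip
  rw [map_sum]
  apply Finset.sum_congr rfl
  intro x _
  rw [map_mul, Complex.conj_conj, mul_comm]

theorem ip_self (v : X → ℂ) : ip v v = ((vecN v : ℝ) : ℂ) := by
  unfold ip vecN
  push_cast
  apply Finset.sum_congr rfl
  intro x _
  exact Complex.mul_conj _

theorem ne_zero_of_ip_ne_zero_left {v w : X → ℂ} (h : ip v w ≠ 0) : v ≠ 0 := by
  rintro rfl
  exact h (ip_zero_left w)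

theorem ne_zero_of_ip_ne_zero_right {v w : X → ℂ} (h : ip v w ≠ 0) : w ≠ 0 := by
  rintro rfl
  exact h (ip_zero_right v)

/-- Pythagoras -/
theorem vecN_smul_add (s : ℂ) (φ w : X → ℂ) (h : ip w φ = 0) :
    vecN (s • φ + w) = Complex.normSq s * vecN φ + vecN w := by
  have h' : ip φ w = 0 := by rw [← ip_conj_symm, h, map_zero]
  have h1 : ip (s • φ + w) (s • φ + w)
      = ((Complex.normSq s * vecN φ + vecN w : ℝ) : ℂ) := by
    rw [ip_add_left, ip_add_right, ip_add_right, ip_smul_left, ip_smul_left, ip_smul_right,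
      ip_smul_right, h, h', ip_self, ip_self]
    push_cast
    rw [← Complex.mul_conj s]
    ring
  rw [ip_self] at h1
  exact Complex.ofReal_injective h1

/-- the product of two decomposed vectors -/
theorem ip_smul_add (s s' : ℂ) (φ w w' : X → ℂ) (h : ip w φ = 0) (h' : ip w' φ = 0) :
    ip (s • φ + w) (s' • φ + w') = s * conj s' * ip φ φ + ip w w' := by
  have h2 : ip φ w' = 0 := by rw [← ip_conj_symm, h', map_zero]
  rw [ip_add_left, ip_add_right, ip_add_right, ip_smul_left, ip_smul_left, ip_smul_right,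
    ip_smul_right, h, h2]
  ring

end Ip

/-- the abstract data of a major subsection -/
structure FrameData (p : ℕ) (M : Ideal Cfsg.AlgInt) (I T : Type*) [Fintype I] [Fintype T] where
  d : ℕ
  n : ℕ
  l : ℕ
  N : T → T → ℂ
  Nz : T → T → ℤ
  hNz : ∀ ξ ξ', (p : ℂ) ^ d * N ξ ξ' = (Nz ξ ξ' : ℂ)
  hNsymm : ∀ ξ ξ', N ξ ξ' = N ξ' ξ
  hNidem : ∀ ξ ξ', ∑ η, N ξ η * N η ξ' = N ξ ξ'
  hNtr : ∑ ξ, N ξ ξ = (l : ℂ)
  ρ : T → ℂ
  hρ : ∀ ξ, Cfsg.MemLocalRing M (ρ ξ)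
  u : T → ℤ
  hrank : ∀ ξ ξ', Cfsg.MemLocalIdeal M ((Nz ξ ξ' : ℂ) - ρ ξ * (u ξ' : ℂ))
  a : I → T → ℕ
  ε : T → ℂ
  hε : ∀ ξ, ε ξ ^ (p ^ n) = 1
  hframe : ∀ j ∈ (Finset.range (p ^ n)).filter (fun j => Nat.Coprime (p ^ n) j), ∀ ξ ξ',
    ∑ χ, conj (∑ η, (a χ η : ℂ) * ε η ^ j * N η ξ) * (∑ η, (a χ η : ℂ) * ε η ^ j * N η ξ')
      = N ξ ξ'
  ht : I → ℕ
  hht : ∃ ψ, ht ψ = 0
  h5a : ∀ χ ψ, ht ψ = 0 → (p : ℂ) ^ d * ∑ ξ, (∑ η, (a χ η : ℂ) * ε η * N η ξ)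
    * conj (∑ η, (a ψ η : ℂ) * ε η * N η ξ) ≠ 0
  h5b : ∀ χ ψ, ht ψ = 0 → (Cfsg.MemLocalIdeal M ((p : ℂ) ^ d * ∑ ξ,
    (∑ η, (a χ η : ℂ) * ε η * N η ξ) * conj (∑ η, (a ψ η : ℂ) * ε η * N η ξ)) ↔ 0 < ht χ)

namespace FrameData

variable {p : ℕ} {M : Ideal Cfsg.AlgInt} {I T : Type*} [Fintype I] [Fintype T]
  (D : FrameData p M I T)

/-- the rows of `N` -/
def r (ξ : T) : T → ℂ := fun η => D.N ξ η

/-- the coefficient vectors -/
noncomputable def cv (j : ℕ) (χ : I) : T → ℂ := ∑ η, D.ε η ^ j • ((D.a χ η : ℂ) • D.r η)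

/-- the lattice spanned by the rows -/
def Lam : AddSubgroup (T → ℂ) := AddSubgroup.closure (Set.range D.r)

theorem cv_apply (j : ℕ) (χ : I) (ξ : T) :
    D.cv j χ ξ = ∑ η, (D.a χ η : ℂ) * D.ε η ^ j * D.N η ξ := by
  unfold cv
  rw [Finset.sum_apply]
  apply Finset.sum_congr rfl
  intro η _
  rw [Pi.smul_apply, Pi.smul_apply, smul_eq_mul, smul_eq_mul]
  unfold r
  ring

theorem r_mem (ξ : T) : D.r ξ ∈ D.Lam := AddSubgroup.subset_closure ⟨ξ, rfl⟩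

theorem natCast_smul_mem (Λ₀ : AddSubgroup (T → ℂ)) (k : ℕ) {v : T → ℂ} (hv : v ∈ Λ₀) :
    (k : ℂ) • v ∈ Λ₀ := by
  rw [Nat.cast_smul_eq_nsmul]
  exact AddSubgroup.nsmul_mem _ hv k

theorem intCast_smul_mem (Λ₀ : AddSubgroup (T → ℂ)) (k : ℤ) {v : T → ℂ} (hv : v ∈ Λ₀) :
    (k : ℂ) • v ∈ Λ₀ := by
  rw [Int.cast_smul_eq_zsmul]
  exact AddSubgroup.zsmul_mem _ hv k

theorem ppos (hM : Cfsg.IsPModular p M) : (0 : ℝ) < (p : ℝ) ^ D.d :=
  pow_pos (by exact_mod_cast hM.1.pos) _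

theorem pne (hM : Cfsg.IsPModular p M) : ((p : ℂ) ^ D.d) ≠ 0 :=
  pow_ne_zero _ (Nat.cast_ne_zero.mpr hM.1.ne_zero)

/-- `N` is real -/
theorem conj_N (hM : Cfsg.IsPModular p M) (ξ η : T) : conj (D.N ξ η) = D.N ξ η := by
  have h := D.hNz ξ η
  have h2 : D.N ξ η = (D.Nz ξ η : ℂ) / (p : ℂ) ^ D.d := by
    rw [← h, mul_div_cancel_left₀ _ (D.pne hM)]
  rw [h2, map_div₀, map_pow, Complex.conj_natCast, map_intCast]

theorem ip_r (hM : Cfsg.IsPModular p M) (ξ ξ' : T) : ip (D.r ξ) (D.r ξ') = D.N ξ ξ' := by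
  unfold ip r
  rw [← D.hNidem ξ ξ']
  apply Finset.sum_congr rfl
  intro η _
  rw [D.conj_N hM, D.hNsymm ξ' η]

/-- integrality of the scaled form on the lattice -/
theorem exists_int_ip (hM : Cfsg.IsPModular p M) {v w : T → ℂ} (hv : v ∈ D.Lam)
    (hw : w ∈ D.Lam) : ∃ m : ℤ, (p : ℂ) ^ D.d * ip v w = (m : ℂ) := by
  unfold Lam at hv hw
  induction hv using AddSubgroup.closure_induction with
  | mem v hv =>
    obtain ⟨ξ, rfl⟩ := hv
    induction hw using AddSubgroup.closure_induction with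
    | mem w hw =>
      obtain ⟨ξ', rfl⟩ := hw
      exact ⟨D.Nz ξ ξ', by rw [D.ip_r hM, D.hNz]⟩
    | zero => exact ⟨0, by rw [ip_zero_right, mul_zero, Int.cast_zero]⟩
    | add w w' _ _ ih ih' =>
      obtain ⟨m, hm⟩ := ih
      obtain ⟨m', hm'⟩ := ih'
      exact ⟨m + m', by rw [ip_add_right, mul_add, hm, hm', Int.cast_add]⟩
    | neg w _ ih =>
      obtain ⟨m, hm⟩ := ih
      exact ⟨-m, by rw [ip_neg_right, mul_neg, hm, Int.cast_neg]⟩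
  | zero => exact ⟨0, by rw [ip_zero_left, mul_zero, Int.cast_zero]⟩
  | add v v' _ _ ih ih' =>
    obtain ⟨m, hm⟩ := ih
    obtain ⟨m', hm'⟩ := ih'
    exact ⟨m + m', by rw [ip_add_left, mul_add, hm, hm', Int.cast_add]⟩
  | neg v _ ih =>
    obtain ⟨m, hm⟩ := ih
    exact ⟨-m, by rw [ip_neg_left, mul_neg, hm, Int.cast_neg]⟩

/-- lattice vectors are fixed by `N` -/
theorem sum_mul_N {v : T → ℂ} (hv : v ∈ D.Lam) (ξ' : T) : ∑ ξ, v ξ * D.N ξ ξ' = v ξ' := by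
  unfold Lam at hv
  induction hv using AddSubgroup.closure_induction with
  | mem v hv =>
    obtain ⟨ξ₀, rfl⟩ := hv
    exact D.hNidem ξ₀ ξ'
  | zero => simp
  | add v v' _ _ ih ih' =>
    simp only [Pi.add_apply, add_mul, Finset.sum_add_distrib, ih, ih']
  | neg v _ ih =>
    simp only [Pi.neg_apply, neg_mul, Finset.sum_neg_distrib, ih]

/-- the frame identity on lattice vectors -/
theorem sum_normSq_ip (hM : Cfsg.IsPModular p M) {j : ℕ}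
    (hj : j ∈ (Finset.range (p ^ D.n)).filter (fun j => Nat.Coprime (p ^ D.n) j))
    {v : T → ℂ} (hv : v ∈ D.Lam) :
    ∑ χ, Complex.normSq (ip (D.cv j χ) v) = vecN v := by
  have h1 : ∀ χ, ((Complex.normSq (ip (D.cv j χ) v) : ℝ) : ℂ)
      = ∑ ξ, ∑ ξ', conj (v ξ) * v ξ' * (conj (D.cv j χ ξ') * D.cv j χ ξ) := by
    intro χ
    rw [← Complex.mul_conj]
    unfold ip
    rw [map_sum, Finset.sum_mul_sum]
    apply Finset.sum_congr rfl
    intro ξ _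
    apply Finset.sum_congr rfl
    intro ξ' _
    rw [map_mul, Complex.conj_conj]
    ring
  have h2 : ((∑ χ, Complex.normSq (ip (D.cv j χ) v) : ℝ) : ℂ) = ((vecN v : ℝ) : ℂ) := by
    push_cast
    rw [Finset.sum_congr rfl (fun χ _ => h1 χ), Finset.sum_comm]
    have h3 : ∀ ξ, ∑ χ, ∑ ξ', conj (v ξ) * v ξ' * (conj (D.cv j χ ξ') * D.cv j χ ξ)
        = conj (v ξ) * v ξ := by
      intro ξ
      rw [Finset.sum_comm]
      have h4 : ∀ ξ', ∑ χ, conj (v ξ) * v ξ' * (conj (D.cv j χ ξ') * D.cv j χ ξ)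
          = conj (v ξ) * (v ξ' * D.N ξ' ξ) := by
        intro ξ'
        rw [← Finset.mul_sum, ← D.hframe j hj ξ' ξ]
        simp only [cv_apply]
        ring
      rw [Finset.sum_congr rfl (fun ξ' _ => h4 ξ'), ← Finset.mul_sum, D.sum_mul_N hv]
    rw [Finset.sum_congr rfl (fun ξ _ => h3 ξ)]
    unfold vecN
    push_cast
    apply Finset.sum_congr rfl
    intro ξ _
    rw [mul_comm]
    exact Complex.mul_conj _
  exact Complex.ofReal_injective h2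

/-- the trace identity -/
theorem sum_vecN_cv (hM : Cfsg.IsPModular p M) {j : ℕ}
    (hj : j ∈ (Finset.range (p ^ D.n)).filter (fun j => Nat.Coprime (p ^ D.n) j)) :
    ∑ χ, vecN (D.cv j χ) = (D.l : ℝ) := by
  have h2 : ((∑ χ, vecN (D.cv j χ) : ℝ) : ℂ) = ((D.l : ℝ) : ℂ) := by
    unfold vecN
    push_cast
    rw [Finset.sum_comm]
    rw [← D.hNtr]
    apply Finset.sum_congr rfl
    intro ξ _
    rw [← D.hframe j hj ξ ξ]
    apply Finset.sum_congr rfl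
    intro χ _
    rw [← Complex.mul_conj, cv_apply, mul_comm]
  exact Complex.ofReal_injective h2

/-- the scaled contributions -/
noncomputable def Nc (χ ψ : I) : ℂ := (p : ℂ) ^ D.d * ip (D.cv 1 χ) (D.cv 1 ψ)

theorem Nc_eq (χ ψ : I) : D.Nc χ ψ = (p : ℂ) ^ D.d * ∑ ξ, (∑ η, (D.a χ η : ℂ) * D.ε η * D.N η ξ)
    * conj (∑ η, (D.a ψ η : ℂ) * D.ε η * D.N η ξ) := by
  unfold Nc ip
  simp only [cv_apply, pow_one]

theorem cv_one_eq (χ : I) : D.cv 1 χ = ∑ η, D.ε η • ((D.a χ η : ℂ) • D.r η) := by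
  unfold cv
  simp only [pow_one]

theorem Nc_ne_zero (χ ψ : I) (hψ : D.ht ψ = 0) : D.Nc χ ψ ≠ 0 := by
  rw [Nc_eq]
  exact D.h5a χ ψ hψ

theorem Nc_mem_iff (χ ψ : I) (hψ : D.ht ψ = 0) :
    Cfsg.MemLocalIdeal M (D.Nc χ ψ) ↔ 0 < D.ht χ := by
  rw [Nc_eq]
  exact D.h5b χ ψ hψ

theorem cv_one_ne_zero (hM : Cfsg.IsPModular p M) (χ : I) : D.cv 1 χ ≠ 0 := by
  obtain ⟨ψ, hψ⟩ := D.hht
  have h := D.Nc_ne_zero χ ψ hψ
  unfold Nc at h
  exact ne_zero_of_ip_ne_zero_left (right_ne_zero_of_mul h)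

theorem card_U : ((Finset.range (p ^ D.n)).filter (fun j => Nat.Coprime (p ^ D.n) j)).card
    = (p ^ D.n).totient := (Nat.totient_eq_card_coprime _).symm

theorem totient_pos (hM : Cfsg.IsPModular p M) : (0 : ℝ) < ((p ^ D.n).totient : ℝ) := by
  have : 0 < (p ^ D.n).totient := Nat.totient_pos.mpr (pow_pos hM.1.pos _)
  exact_mod_cast this

theorem sum_sum_vecN_cv (hM : Cfsg.IsPModular p M) :
    ∑ χ, ∑ j ∈ (Finset.range (p ^ D.n)).filter (fun j => Nat.Coprime (p ^ D.n) j),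
      vecN (D.cv j χ) = ((p ^ D.n).totient : ℝ) * (D.l : ℝ) := by
  rw [Finset.sum_comm, Finset.sum_congr rfl (fun j hj => D.sum_vecN_cv hM hj), Finset.sum_const,
    D.card_U, nsmul_eq_mul]

/-- **Case A**: all non-zero lattice vectors have scaled norm at least 2 -/
theorem card_le_of_min (hM : Cfsg.IsPModular p M) (hl : D.l ≤ 2)
    (hmin : ∀ v ∈ D.Lam, v ≠ 0 → 2 ≤ (p : ℝ) ^ D.d * vecN v) : Fintype.card I ≤ p ^ D.d := by
  have hP := D.ppos hM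
  have hφ := D.totient_pos hM
  have hrow : ∀ χ : I, ((p ^ D.n).totient : ℝ) * (2 / (p : ℝ) ^ D.d)
      ≤ ∑ j ∈ (Finset.range (p ^ D.n)).filter (fun j => Nat.Coprime (p ^ D.n) j),
        vecN (D.cv j χ) := by
    intro χ
    apply totient_mul_le_sum_vec hM.1 D.n D.Lam (2 / (p : ℝ) ^ D.d) (by positivity) _ D.ε D.hε
      (fun η => (D.a χ η : ℂ) • D.r η) (fun η => natCast_smul_mem _ _ (D.r_mem η))
    · rw [← cv_one_eq]
      exact D.cv_one_ne_zero hM χ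
    · intro v hv hv0
      rw [div_le_iff₀ hP, mul_comm]
      exact hmin v hv hv0
  have hsum := Finset.sum_le_sum (fun χ (_ : χ ∈ (Finset.univ : Finset I)) => hrow χ)
  rw [D.sum_sum_vecN_cv hM, Finset.sum_const, Finset.card_univ, nsmul_eq_mul] at hsum
  have hl' : (D.l : ℝ) ≤ 2 := by exact_mod_cast hl
  have h1 : (Fintype.card I : ℝ) * (2 / (p : ℝ) ^ D.d) ≤ 2 := by
    have h2 : ((p ^ D.n).totient : ℝ) * ((Fintype.card I : ℝ) * (2 / (p : ℝ) ^ D.d))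
        ≤ ((p ^ D.n).totient : ℝ) * 2 := by
      calc ((p ^ D.n).totient : ℝ) * ((Fintype.card I : ℝ) * (2 / (p : ℝ) ^ D.d))
          = (Fintype.card I : ℝ) * (((p ^ D.n).totient : ℝ) * (2 / (p : ℝ) ^ D.d)) := by ring
        _ ≤ ((p ^ D.n).totient : ℝ) * (D.l : ℝ) := hsum
        _ ≤ ((p ^ D.n).totient : ℝ) * 2 := mul_le_mul_of_nonneg_left hl' hφ.le
    exact le_of_mul_le_mul_left h2 hφ
  have h3 : (Fintype.card I : ℝ) ≤ (p : ℝ) ^ D.d := by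
    rw [mul_div_assoc', div_le_iff₀ hP] at h1
    linarith
  exact_mod_cast h3

/-! ### Case B: a lattice vector of scaled norm one -/

/-- the integer coefficients of the `φ₁`-coordinate -/
def cz (πz : T → ℤ) (χ : I) (t : T) : ℤ := (D.a χ t : ℤ) * πz t

/-- the `φ₁`-coordinate of `c^{(j)}_χ` -/
noncomputable def dj (πz : T → ℤ) (j : ℕ) (χ : I) : ℂ :=
  ∑ t, ((D.cz πz χ t : ℤ) : ℂ) * D.ε t ^ j

/-- the components orthogonal to `φ₁` -/
noncomputable def wp (φ₁ : T → ℂ) (πz : T → ℤ) (χ : I) (t : T) : T → ℂ :=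
  (D.a χ t : ℂ) • (D.r t - (πz t : ℂ) • φ₁)

noncomputable def cp (φ₁ : T → ℂ) (πz : T → ℤ) (j : ℕ) (χ : I) : T → ℂ :=
  ∑ t, D.ε t ^ j • D.wp φ₁ πz χ t

/-- the sublattice orthogonal to `φ₁` -/
def Lam' (φ₁ : T → ℂ) : AddSubgroup (T → ℂ) where
  carrier := {v | v ∈ D.Lam ∧ ip v φ₁ = 0}
  add_mem' := by
    rintro v w ⟨hv, hv0⟩ ⟨hw, hw0⟩
    exact ⟨D.Lam.add_mem hv hw, by rw [ip_add_left, hv0, hw0, add_zero]⟩
  zero_mem' := ⟨D.Lam.zero_mem, ip_zero_left _⟩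
  neg_mem' := by
    rintro v ⟨hv, hv0⟩
    exact ⟨D.Lam.neg_mem hv, by rw [ip_neg_left, hv0, neg_zero]⟩

theorem mem_Lam' (φ₁ v : T → ℂ) : v ∈ D.Lam' φ₁ ↔ v ∈ D.Lam ∧ ip v φ₁ = 0 := Iff.rfl

section CaseB

variable (hM : Cfsg.IsPModular p M) (φ₁ : T → ℂ) (hφ₁ : φ₁ ∈ D.Lam)
  (hφ₁n : (p : ℝ) ^ D.d * vecN φ₁ = 1) (πz : T → ℤ)
  (hπz : ∀ t, (p : ℂ) ^ D.d * ip (D.r t) φ₁ = (πz t : ℂ))

include hM hφ₁ hφ₁n hπz

theorem ip_phi : (p : ℂ) ^ D.d * ip φ₁ φ₁ = 1 := by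
  rw [ip_self]
  have : (((p : ℝ) ^ D.d * vecN φ₁ : ℝ) : ℂ) = ((1 : ℝ) : ℂ) := by rw [hφ₁n]
  push_cast at this
  exact this

theorem cv_decomp (j : ℕ) (χ : I) :
    D.cv j χ = D.dj πz j χ • φ₁ + D.cp φ₁ πz j χ := by
  unfold cv dj cp wp cz
  rw [Finset.sum_smul, ← Finset.sum_add_distrib]
  apply Finset.sum_congr rfl
  intro t _
  push_cast
  rw [smul_sub, smul_sub, smul_smul, smul_smul, smul_smul]
  have : ((D.a χ t : ℂ) * (πz t : ℂ) * D.ε t ^ j) = D.ε t ^ j * (D.a χ t : ℂ) * (πz t : ℂ) := by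
    ring
  rw [this]
  abel

theorem ip_wp (χ : I) (t : T) : ip (D.wp φ₁ πz χ t) φ₁ = 0 := by
  unfold wp
  rw [ip_smul_left, ip_sub_left, ip_smul_left]
  have h1 := hπz t
  have h2 := D.ip_phi hM φ₁ hφ₁ hφ₁n πz hπz
  have hP := D.pne hM
  have h3 : ip (D.r t) φ₁ = (πz t : ℂ) / (p : ℂ) ^ D.d := by
    rw [← h1, mul_div_cancel_left₀ _ hP]
  have h4 : ip φ₁ φ₁ = 1 / (p : ℂ) ^ D.d := by
    rw [← h2, mul_div_cancel_left₀ _ hP]
  rw [h3, h4]
  ring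

theorem wp_mem (χ : I) (t : T) : D.wp φ₁ πz χ t ∈ D.Lam' φ₁ := by
  refine ⟨?_, D.ip_wp hM φ₁ hφ₁ hφ₁n πz hπz χ t⟩
  unfold wp
  apply natCast_smul_mem
  exact D.Lam.sub_mem (D.r_mem t) (intCast_smul_mem _ _ hφ₁)

theorem ip_cp (j : ℕ) (χ : I) : ip (D.cp φ₁ πz j χ) φ₁ = 0 := by
  unfold cp
  rw [ip_sum_left]
  apply Finset.sum_eq_zero
  intro t _
  rw [ip_smul_left, D.ip_wp hM φ₁ hφ₁ hφ₁n πz hπz, mul_zero]

theorem pow_mul_ip_cv (j : ℕ) (χ : I) :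
    (p : ℂ) ^ D.d * ip (D.cv j χ) φ₁ = D.dj πz j χ := by
  rw [D.cv_decomp hM φ₁ hφ₁ hφ₁n πz hπz j χ, ip_add_left, ip_smul_left,
    D.ip_cp hM φ₁ hφ₁ hφ₁n πz hπz, add_zero, mul_left_comm,
    D.ip_phi hM φ₁ hφ₁ hφ₁n πz hπz, mul_one]

/-- sum rule 1 -/
theorem sum_normSq_dj {j : ℕ}
    (hj : j ∈ (Finset.range (p ^ D.n)).filter (fun j => Nat.Coprime (p ^ D.n) j)) :
    ∑ χ, Complex.normSq (D.dj πz j χ) = (p : ℝ) ^ D.d := by
  have h1 : ∀ χ, Complex.normSq (D.dj πz j χ)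
      = ((p : ℝ) ^ D.d) ^ 2 * Complex.normSq (ip (D.cv j χ) φ₁) := by
    intro χ
    rw [← D.pow_mul_ip_cv hM φ₁ hφ₁ hφ₁n πz hπz j χ, Complex.normSq_mul, map_pow,
      Complex.normSq_natCast]
    ring
  rw [Finset.sum_congr rfl (fun χ _ => h1 χ), ← Finset.mul_sum, D.sum_normSq_ip hM hj hφ₁, sq,
    mul_assoc, hφ₁n, mul_one]

theorem vecN_cv (j : ℕ) (χ : I) :
    vecN (D.cv j χ) = Complex.normSq (D.dj πz j χ) * vecN φ₁ + vecN (D.cp φ₁ πz j χ) := by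
  rw [D.cv_decomp hM φ₁ hφ₁ hφ₁n πz hπz j χ]
  exact vecN_smul_add _ _ _ (D.ip_cp hM φ₁ hφ₁ hφ₁n πz hπz j χ)

/-- sum rule 2 -/
theorem sum_vecN_cp {j : ℕ}
    (hj : j ∈ (Finset.range (p ^ D.n)).filter (fun j => Nat.Coprime (p ^ D.n) j)) :
    ∑ χ, vecN (D.cp φ₁ πz j χ) = (D.l : ℝ) - 1 := by
  have h1 := D.sum_vecN_cv hM hj
  rw [Finset.sum_congr rfl (fun χ _ => D.vecN_cv hM φ₁ hφ₁ hφ₁n πz hπz j χ),
    Finset.sum_add_distrib, ← Finset.sum_mul, D.sum_normSq_dj hM φ₁ hφ₁ hφ₁n πz hπz hj,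
    hφ₁n] at h1
  linarith

end CaseB

/-! ### rank one modulo `p` -/

theorem exists_alpha (hM : Cfsg.IsPModular p M) {v : T → ℂ} (hv : v ∈ D.Lam) :
    ∃ α : ℂ, Cfsg.MemLocalRing M α ∧
      ∀ ξ', Cfsg.MemLocalIdeal M ((p : ℂ) ^ D.d * ip v (D.r ξ') - α * (D.u ξ' : ℂ)) := by
  unfold Lam at hv
  induction hv using AddSubgroup.closure_induction with
  | mem v hv =>
    obtain ⟨ξ, rfl⟩ := hv
    refine ⟨D.ρ ξ, D.hρ ξ, fun ξ' => ?_⟩
    rw [D.ip_r hM, D.hNz]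
    exact D.hrank ξ ξ'
  | zero =>
    refine ⟨0, memLocalRing_zero hM, fun ξ' => ?_⟩
    rw [ip_zero_left, mul_zero, zero_mul, sub_zero]
    exact memLocalIdeal_zero hM
  | add v v' _ _ ih ih' =>
    obtain ⟨α, hα, h⟩ := ih
    obtain ⟨α', hα', h'⟩ := ih'
    refine ⟨α + α', memLocalRing_add hM hα hα', fun ξ' => ?_⟩
    have := memLocalIdeal_add hM (h ξ') (h' ξ')
    have e : (p : ℂ) ^ D.d * ip (v + v') (D.r ξ') - (α + α') * (D.u ξ' : ℂ)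
        = ((p : ℂ) ^ D.d * ip v (D.r ξ') - α * (D.u ξ' : ℂ))
          + ((p : ℂ) ^ D.d * ip v' (D.r ξ') - α' * (D.u ξ' : ℂ)) := by
      rw [ip_add_left]; ring
    rw [e]
    exact this
  | neg v _ ih =>
    obtain ⟨α, hα, h⟩ := ih
    refine ⟨-α, memLocalRing_neg hα, fun ξ' => ?_⟩
    have := memLocalIdeal_neg (h ξ')
    have e : (p : ℂ) ^ D.d * ip (-v) (D.r ξ') - (-α) * (D.u ξ' : ℂ)
        = -((p : ℂ) ^ D.d * ip v (D.r ξ') - α * (D.u ξ' : ℂ)) := by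
      rw [ip_neg_left]; ring
    rw [e]
    exact this

theorem exists_beta (hM : Cfsg.IsPModular p M) {w : T → ℂ} (hw : w ∈ D.Lam) :
    ∃ β : ℤ, ∀ (v : T → ℂ) (α : ℂ),
      (∀ ξ', Cfsg.MemLocalIdeal M ((p : ℂ) ^ D.d * ip v (D.r ξ') - α * (D.u ξ' : ℂ))) →
      Cfsg.MemLocalIdeal M ((p : ℂ) ^ D.d * ip v w - α * (β : ℂ)) := by
  unfold Lam at hw
  induction hw using AddSubgroup.closure_induction with
  | mem w hw =>
    obtain ⟨ξ', rfl⟩ := hw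
    exact ⟨D.u ξ', fun v α h => h ξ'⟩
  | zero =>
    refine ⟨0, fun v α _ => ?_⟩
    rw [ip_zero_right, mul_zero, Int.cast_zero, mul_zero, sub_zero]
    exact memLocalIdeal_zero hM
  | add w w' _ _ ih ih' =>
    obtain ⟨β, h⟩ := ih
    obtain ⟨β', h'⟩ := ih'
    refine ⟨β + β', fun v α hv => ?_⟩
    have := memLocalIdeal_add hM (h v α hv) (h' v α hv)
    have e : (p : ℂ) ^ D.d * ip v (w + w') - α * ((β + β' : ℤ) : ℂ)
        = ((p : ℂ) ^ D.d * ip v w - α * (β : ℂ))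
          + ((p : ℂ) ^ D.d * ip v w' - α * (β' : ℂ)) := by
      rw [ip_add_right]; push_cast; ring
    rw [e]
    exact this
  | neg w _ ih =>
    obtain ⟨β, h⟩ := ih
    refine ⟨-β, fun v α hv => ?_⟩
    have := memLocalIdeal_neg (h v α hv)
    have e : (p : ℂ) ^ D.d * ip v (-w) - α * ((-β : ℤ) : ℂ)
        = -((p : ℂ) ^ D.d * ip v w - α * (β : ℂ)) := by
      rw [ip_neg_right]; push_cast; ring
    rw [e]
    exact this

section CaseB2

variable (hM : Cfsg.IsPModular p M) (φ₁ : T → ℂ) (hφ₁ : φ₁ ∈ D.Lam)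
  (hφ₁n : (p : ℝ) ^ D.d * vecN φ₁ = 1) (πz : T → ℤ)
  (hπz : ∀ t, (p : ℂ) ^ D.d * ip (D.r t) φ₁ = (πz t : ℂ))

include hM hφ₁ hφ₁n hπz

/-- the form takes values in `p ℤ` on `Λ' × Λ` -/
theorem exists_int_ip_Lam' {v w : T → ℂ} (hv : v ∈ D.Lam' φ₁) (hw : w ∈ D.Lam) :
    ∃ m : ℤ, (p : ℂ) ^ D.d * ip v w = (p : ℂ) * (m : ℂ) := by
  obtain ⟨αv, hαv, hv1⟩ := D.exists_alpha hM hv.1
  obtain ⟨α₁, hα₁, hφ1⟩ := D.exists_alpha hM hφ₁
  obtain ⟨β₁, hβ₁⟩ := D.exists_beta hM hφ₁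
  obtain ⟨βw, hβw⟩ := D.exists_beta hM hw
  have h1 := hβ₁ v αv hv1
  rw [hv.2, mul_zero, zero_sub] at h1
  have h1' : Cfsg.MemLocalIdeal M (αv * (β₁ : ℂ)) := by
    have := memLocalIdeal_neg h1
    rwa [neg_neg] at this
  have h2 := hβ₁ φ₁ α₁ hφ1
  rw [D.ip_phi hM φ₁ hφ₁ hφ₁n πz hπz] at h2
  have hβ₁n : ¬ Cfsg.MemLocalIdeal M (β₁ : ℂ) := by
    intro hcon
    have h3 := memLocalIdeal_mul_left hM hα₁ hcon
    have h4 := memLocalIdeal_add hM h2 h3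
    rw [sub_add_cancel] at h4
    exact not_memLocalIdeal_one hM h4
  have hαvM : Cfsg.MemLocalIdeal M αv := by
    rcases memLocalIdeal_or_of_mul hM hαv (memLocalRing_intCast hM β₁) h1' with h | h
    · exact h
    · exact absurd h hβ₁n
  have h3 := hβw v αv hv1
  have h4 : Cfsg.MemLocalIdeal M ((p : ℂ) ^ D.d * ip v w) := by
    have := memLocalIdeal_add hM h3
      (memLocalIdeal_mul_right hM hαvM (memLocalRing_intCast hM βw))
    rwa [sub_add_cancel] at this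
  obtain ⟨m, hm⟩ := D.exists_int_ip hM hv.1 hw
  rw [hm] at h4 ⊢
  obtain ⟨k, hk⟩ := dvd_of_memLocalIdeal_intCast hM h4
  exact ⟨k, by rw [hk]; push_cast; ring⟩

/-- non-zero vectors of `Λ'` have scaled norm at least `2` -/
theorem two_le_of_mem_Lam' {v : T → ℂ} (hv : v ∈ D.Lam' φ₁) (hv0 : v ≠ 0) :
    2 ≤ (p : ℝ) ^ D.d * vecN v := by
  obtain ⟨m, hm⟩ := D.exists_int_ip_Lam' hM φ₁ hφ₁ hφ₁n πz hπz hv hv.1
  rw [ip_self] at hm
  have h1 : (p : ℝ) ^ D.d * vecN v = (p : ℝ) * (m : ℝ) := by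
    have : (((p : ℝ) ^ D.d * vecN v : ℝ) : ℂ) = (((p : ℝ) * (m : ℝ) : ℝ) : ℂ) := by
      push_cast
      exact hm
    exact Complex.ofReal_injective this
  have hpos : 0 < (p : ℝ) ^ D.d * vecN v := by
    apply mul_pos (D.ppos hM)
    rcases (vecN_nonneg v).lt_or_eq with h | h
    · exact h
    · exact absurd ((vecN_eq_zero_iff v).mp h.symm) hv0
  rw [h1] at hpos ⊢
  have hp2 : (2 : ℝ) ≤ (p : ℝ) := by exact_mod_cast hM.1.two_le
  have hm1 : (1 : ℝ) ≤ (m : ℝ) := by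
    have hp0 : (0 : ℝ) < (p : ℝ) := by linarith
    have : (0 : ℝ) < (m : ℝ) := by
      by_contra h
      push Not at h
      have : (p : ℝ) * (m : ℝ) ≤ 0 := mul_nonpos_of_nonneg_of_nonpos hp0.le h
      linarith
    have : 0 < m := by exact_mod_cast this
    exact_mod_cast this
  nlinarith

theorem eps_memLocalRing (t : T) : Cfsg.MemLocalRing M (D.ε t) := by
  apply memLocalRing_of_isIntegral hM
  exact ⟨Polynomial.X ^ (p ^ D.n) - 1,
    Polynomial.monic_X_pow_sub_C 1 (pow_pos hM.1.pos _).ne', by simp [D.hε t]⟩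

theorem conj_eps_pow (t : T) : (conj (D.ε t)) ^ (p ^ D.n) = 1 := by
  rw [← map_pow, D.hε t, map_one]

theorem conj_eps_memLocalRing (t : T) : Cfsg.MemLocalRing M (conj (D.ε t)) := by
  apply memLocalRing_of_isIntegral hM
  exact ⟨Polynomial.X ^ (p ^ D.n) - 1,
    Polynomial.monic_X_pow_sub_C 1 (pow_pos hM.1.pos _).ne', by simp [D.conj_eps_pow hM φ₁ hφ₁ hφ₁n πz hπz t]⟩

theorem dj_memLocalRing (j : ℕ) (χ : I) : Cfsg.MemLocalRing M (D.dj πz j χ) := by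
  unfold dj
  apply memLocalRing_sum hM
  intro t _
  exact memLocalRing_mul hM (memLocalRing_intCast hM _)
    (memLocalRing_pow hM (D.eps_memLocalRing hM φ₁ hφ₁ hφ₁n πz hπz t) j)

theorem conj_dj_memLocalRing (j : ℕ) (χ : I) : Cfsg.MemLocalRing M (conj (D.dj πz j χ)) := by
  unfold dj
  rw [map_sum]
  apply memLocalRing_sum hM
  intro t _
  rw [map_mul, map_intCast, map_pow]
  exact memLocalRing_mul hM (memLocalRing_intCast hM _)
    (memLocalRing_pow hM (D.conj_eps_memLocalRing hM φ₁ hφ₁ hφ₁n πz hπz t) j)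

/-- the orthogonal part of the contribution lies in the local ideal -/
theorem pow_mul_ip_cp_mem (χ ψ : I) :
    Cfsg.MemLocalIdeal M ((p : ℂ) ^ D.d * ip (D.cp φ₁ πz 1 χ) (D.cp φ₁ πz 1 ψ)) := by
  unfold cp
  rw [ip_sum_left, Finset.mul_sum]
  apply memLocalIdeal_sum hM
  intro t _
  rw [ip_sum_right, Finset.mul_sum]
  apply memLocalIdeal_sum hM
  intro s _
  rw [ip_smul_left, ip_smul_right]
  obtain ⟨m, hm⟩ := D.exists_int_ip_Lam' hM φ₁ hφ₁ hφ₁n πz hπz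
    (D.wp_mem hM φ₁ hφ₁ hφ₁n πz hπz χ t) (D.wp_mem hM φ₁ hφ₁ hφ₁n πz hπz ψ s).1
  have e : (p : ℂ) ^ D.d * (D.ε t ^ 1 * (conj (D.ε s ^ 1)
      * ip (D.wp φ₁ πz χ t) (D.wp φ₁ πz ψ s)))
      = (D.ε t * conj (D.ε s)) * ((p : ℂ) * (m : ℂ)) := by
    rw [← hm, pow_one, pow_one]
    ring
  rw [e]
  apply memLocalIdeal_mul_left hM
  · exact memLocalRing_mul hM (D.eps_memLocalRing hM φ₁ hφ₁ hφ₁n πz hπz t)
      (D.conj_eps_memLocalRing hM φ₁ hφ₁ hφ₁n πz hπz s)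
  · exact memLocalIdeal_mul_right hM ((memLocalIdeal_natCast_iff hM p).mpr dvd_rfl)
      (memLocalRing_intCast hM m)

theorem Nc_decomp (χ ψ : I) :
    D.Nc χ ψ = D.dj πz 1 χ * conj (D.dj πz 1 ψ)
      + (p : ℂ) ^ D.d * ip (D.cp φ₁ πz 1 χ) (D.cp φ₁ πz 1 ψ) := by
  unfold Nc
  rw [D.cv_decomp hM φ₁ hφ₁ hφ₁n πz hπz 1 χ, D.cv_decomp hM φ₁ hφ₁ hφ₁n πz hπz 1 ψ,
    ip_smul_add _ _ _ _ _ (D.ip_cp hM φ₁ hφ₁ hφ₁n πz hπz 1 χ)
      (D.ip_cp hM φ₁ hφ₁ hφ₁n πz hπz 1 ψ), mul_add]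
  congr 1
  rw [mul_left_comm, D.ip_phi hM φ₁ hφ₁ hφ₁n πz hπz, mul_one]

/-- height zero: the `φ₁`-coordinate is a unit -/
theorem dj_not_mem (ψ : I) (hψ : D.ht ψ = 0) :
    ¬ Cfsg.MemLocalIdeal M (D.dj πz 1 ψ) ∧ ¬ Cfsg.MemLocalIdeal M (conj (D.dj πz 1 ψ)) := by
  have h1 : ¬ Cfsg.MemLocalIdeal M (D.Nc ψ ψ) := by
    rw [D.Nc_mem_iff ψ ψ hψ, hψ]
    exact lt_irrefl 0
  rw [D.Nc_decomp hM φ₁ hφ₁ hφ₁n πz hπz ψ ψ] at h1
  have hE := D.pow_mul_ip_cp_mem hM φ₁ hφ₁ hφ₁n πz hπz ψ ψ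
  constructor
  · intro hcon
    apply h1
    exact memLocalIdeal_add hM (memLocalIdeal_mul_right hM hcon
      (D.conj_dj_memLocalRing hM φ₁ hφ₁ hφ₁n πz hπz 1 ψ)) hE
  · intro hcon
    apply h1
    exact memLocalIdeal_add hM (memLocalIdeal_mul_left hM
      (D.dj_memLocalRing hM φ₁ hφ₁ hφ₁n πz hπz 1 ψ) hcon) hE

/-- positive height: the `φ₁`-coordinate lies in the local ideal -/
theorem dj_mem (χ : I) (hχ : 0 < D.ht χ) : Cfsg.MemLocalIdeal M (D.dj πz 1 χ) := by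
  obtain ⟨ψ, hψ⟩ := D.hht
  have h1 : Cfsg.MemLocalIdeal M (D.Nc χ ψ) := (D.Nc_mem_iff χ ψ hψ).mpr hχ
  rw [D.Nc_decomp hM φ₁ hφ₁ hφ₁n πz hπz χ ψ] at h1
  have hE := D.pow_mul_ip_cp_mem hM φ₁ hφ₁ hφ₁n πz hπz χ ψ
  have h2 : Cfsg.MemLocalIdeal M (D.dj πz 1 χ * conj (D.dj πz 1 ψ)) := by
    have := memLocalIdeal_sub hM h1 hE
    rwa [add_sub_cancel_right] at this
  rcases memLocalIdeal_or_of_mul hM (D.dj_memLocalRing hM φ₁ hφ₁ hφ₁n πz hπz 1 χ)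
    (D.conj_dj_memLocalRing hM φ₁ hφ₁ hφ₁n πz hπz 1 ψ) h2 with h | h
  · exact h
  · exact absurd h (D.dj_not_mem hM φ₁ hφ₁ hφ₁n πz hπz ψ hψ).2

/-- a coordinate in the local ideal has coefficient sum divisible by `p` -/
theorem dvd_sum_cz (χ : I) (h : Cfsg.MemLocalIdeal M (D.dj πz 1 χ)) :
    (p : ℤ) ∣ ∑ t, D.cz πz χ t := by
  apply dvd_of_memLocalIdeal_intCast hM
  have h1 : Cfsg.MemLocalIdeal M (D.dj πz 1 χ - ((∑ t, D.cz πz χ t : ℤ) : ℂ)) := by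
    unfold dj
    push_cast
    rw [← Finset.sum_sub_distrib]
    apply memLocalIdeal_sum hM
    intro t _
    have e : ((D.cz πz χ t : ℤ) : ℂ) * D.ε t ^ 1 - ((D.cz πz χ t : ℤ) : ℂ)
        = ((D.cz πz χ t : ℤ) : ℂ) * (D.ε t - 1) := by
      rw [pow_one]; ring
    rw [e]
    exact memLocalIdeal_mul_left hM (memLocalRing_intCast hM _)
      (memLocalIdeal_sub_one_of_pow_eq_one hM (D.hε t))
  have := memLocalIdeal_sub hM h h1
  rwa [sub_sub_cancel] at this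

theorem totient_le_sum_dj (χ : I) (hne : D.dj πz 1 χ ≠ 0) :
    ((p ^ D.n).totient : ℝ)
      ≤ ∑ j ∈ (Finset.range (p ^ D.n)).filter (fun j => Nat.Coprime (p ^ D.n) j),
        Complex.normSq (D.dj πz j χ) ∧
    (0 < D.ht χ → 2 * ((p ^ D.n).totient : ℝ)
      ≤ ∑ j ∈ (Finset.range (p ^ D.n)).filter (fun j => Nat.Coprime (p ^ D.n) j),
        Complex.normSq (D.dj πz j χ)) := by
  have hne' : ∑ t, ((D.cz πz χ t : ℤ) : ℂ) * D.ε t ≠ 0 := by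
    intro h
    apply hne
    unfold dj
    simp only [pow_one]
    exact h
  have h := totient_le_sum_normSq' hM.1 D.n (D.cz πz χ) D.ε D.hε hne'
  refine ⟨h.1, fun hχ => h.2 ?_⟩
  exact D.dvd_sum_cz hM φ₁ hφ₁ hφ₁n πz hπz χ (D.dj_mem hM φ₁ hφ₁ hφ₁n πz hπz χ hχ)

theorem totient_le_sum_cp (χ : I) (hne : D.cp φ₁ πz 1 χ ≠ 0) :
    2 * ((p ^ D.n).totient : ℝ)
      ≤ (p : ℝ) ^ D.d * ∑ j ∈ (Finset.range (p ^ D.n)).filter
        (fun j => Nat.Coprime (p ^ D.n) j), vecN (D.cp φ₁ πz j χ) := by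
  have hP := D.ppos hM
  have h := totient_mul_le_sum_vec hM.1 D.n (D.Lam' φ₁) (2 / (p : ℝ) ^ D.d) (by positivity)
    (fun v hv hv0 => by
      rw [div_le_iff₀ hP, mul_comm]
      exact D.two_le_of_mem_Lam' hM φ₁ hφ₁ hφ₁n πz hπz hv hv0)
    D.ε D.hε (D.wp φ₁ πz χ) (fun t => D.wp_mem hM φ₁ hφ₁ hφ₁n πz hπz χ t)
    (by
      intro h
      apply hne
      unfold cp
      simp only [pow_one]
      exact h)
  have h2 : (p : ℝ) ^ D.d * (((p ^ D.n).totient : ℝ) * (2 / (p : ℝ) ^ D.d))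
      ≤ (p : ℝ) ^ D.d * ∑ j ∈ (Finset.range (p ^ D.n)).filter
        (fun j => Nat.Coprime (p ^ D.n) j), vecN (D.cp φ₁ πz j χ) :=
    mul_le_mul_of_nonneg_left h hP.le
  have e : (p : ℝ) ^ D.d * (((p ^ D.n).totient : ℝ) * (2 / (p : ℝ) ^ D.d))
      = 2 * ((p ^ D.n).totient : ℝ) := by
    field_simp
  rwa [e] at h2

theorem sum_sum_normSq_dj :
    ∑ χ, ∑ j ∈ (Finset.range (p ^ D.n)).filter (fun j => Nat.Coprime (p ^ D.n) j),
      Complex.normSq (D.dj πz j χ) = ((p ^ D.n).totient : ℝ) * (p : ℝ) ^ D.d := by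
  rw [Finset.sum_comm, Finset.sum_congr rfl
    (fun j hj => D.sum_normSq_dj hM φ₁ hφ₁ hφ₁n πz hπz hj), Finset.sum_const, D.card_U,
    nsmul_eq_mul]

theorem sum_sum_vecN_cp :
    ∑ χ, ∑ j ∈ (Finset.range (p ^ D.n)).filter (fun j => Nat.Coprime (p ^ D.n) j),
      vecN (D.cp φ₁ πz j χ) = ((p ^ D.n).totient : ℝ) * ((D.l : ℝ) - 1) := by
  rw [Finset.sum_comm, Finset.sum_congr rfl
    (fun j hj => D.sum_vecN_cp hM φ₁ hφ₁ hφ₁n πz hπz hj), Finset.sum_const, D.card_U,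
    nsmul_eq_mul]

/-- **Case B** -/
theorem card_le_of_unit (hl : D.l ≤ 2) : Fintype.card I ≤ p ^ D.d := by
  have hP := D.ppos hM
  have hφ := D.totient_pos hM
  have hl' : (D.l : ℝ) ≤ 2 := by exact_mod_cast hl
  have hA0 : ∀ χ : I, 0 ≤ ∑ j ∈ (Finset.range (p ^ D.n)).filter
      (fun j => Nat.Coprime (p ^ D.n) j), Complex.normSq (D.dj πz j χ) :=
    fun χ => Finset.sum_nonneg (fun j _ => Complex.normSq_nonneg _)
  have hB0 : ∀ χ : I, 0 ≤ ∑ j ∈ (Finset.range (p ^ D.n)).filter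
      (fun j => Nat.Coprime (p ^ D.n) j), vecN (D.cp φ₁ πz j χ) :=
    fun χ => Finset.sum_nonneg (fun j _ => vecN_nonneg _)
  have hsA := D.sum_sum_normSq_dj hM φ₁ hφ₁ hφ₁n πz hπz
  have hsB := D.sum_sum_vecN_cp hM φ₁ hφ₁ hφ₁n πz hπz
  by_cases hall : ∀ χ : I, D.dj πz 1 χ ≠ 0
  · have hsum := Finset.sum_le_sum (fun χ (_ : χ ∈ (Finset.univ : Finset I)) =>
      (D.totient_le_sum_dj hM φ₁ hφ₁ hφ₁n πz hπz χ (hall χ)).1)
    rw [hsA, Finset.sum_const, Finset.card_univ, nsmul_eq_mul, mul_comm] at hsum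
    have h3 : (Fintype.card I : ℝ) ≤ (p : ℝ) ^ D.d := le_of_mul_le_mul_left hsum hφ
    exact_mod_cast h3
  · push Not at hall
    obtain ⟨χ₁, hχ₁⟩ := hall
    obtain ⟨ψ₀, hψ₀⟩ := D.hht
    -- characters of height zero have non-zero orthogonal part
    have hcp0 : ∀ ψ : I, D.ht ψ = 0 → D.cp φ₁ πz 1 ψ ≠ 0 := by
      intro ψ hψ
      have h1 := D.Nc_ne_zero χ₁ ψ hψ
      rw [D.Nc_decomp hM φ₁ hφ₁ hφ₁n πz hπz χ₁ ψ, hχ₁, zero_mul, zero_add] at h1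
      exact ne_zero_of_ip_ne_zero_right (right_ne_zero_of_mul h1)
    have hcp1 : ∀ χ : I, D.dj πz 1 χ = 0 → D.cp φ₁ πz 1 χ ≠ 0 := by
      intro χ hχ
      have h1 := D.Nc_ne_zero χ ψ₀ hψ₀
      rw [D.Nc_decomp hM φ₁ hφ₁ hφ₁n πz hπz χ ψ₀, hχ, zero_mul, zero_add] at h1
      exact ne_zero_of_ip_ne_zero_left (right_ne_zero_of_mul h1)
    have hrow : ∀ χ : I, 2 * ((p ^ D.n).totient : ℝ)
        ≤ ∑ j ∈ (Finset.range (p ^ D.n)).filter (fun j => Nat.Coprime (p ^ D.n) j),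
            Complex.normSq (D.dj πz j χ)
          + (p : ℝ) ^ D.d * ∑ j ∈ (Finset.range (p ^ D.n)).filter
            (fun j => Nat.Coprime (p ^ D.n) j), vecN (D.cp φ₁ πz j χ) := by
      intro χ
      by_cases hd : D.dj πz 1 χ = 0
      · have := D.totient_le_sum_cp hM φ₁ hφ₁ hφ₁n πz hπz χ (hcp1 χ hd)
        linarith [hA0 χ]
      · rcases Nat.eq_zero_or_pos (D.ht χ) with h0 | hpos
        · have h1 := D.totient_le_sum_cp hM φ₁ hφ₁ hφ₁n πz hπz χ (hcp0 χ h0)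
          linarith [hA0 χ]
        · have h1 := (D.totient_le_sum_dj hM φ₁ hφ₁ hφ₁n πz hπz χ hd).2 hpos
          have h2 : 0 ≤ (p : ℝ) ^ D.d * ∑ j ∈ (Finset.range (p ^ D.n)).filter
              (fun j => Nat.Coprime (p ^ D.n) j), vecN (D.cp φ₁ πz j χ) :=
            mul_nonneg hP.le (hB0 χ)
          linarith
    have hsum := Finset.sum_le_sum (fun χ (_ : χ ∈ (Finset.univ : Finset I)) => hrow χ)
    rw [Finset.sum_add_distrib, ← Finset.mul_sum (a := (p : ℝ) ^ D.d), hsA, hsB, Finset.sum_const,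
      Finset.card_univ, nsmul_eq_mul] at hsum
    have h2 : ((p ^ D.n).totient : ℝ) * (2 * (Fintype.card I : ℝ))
        ≤ ((p ^ D.n).totient : ℝ) * (2 * (p : ℝ) ^ D.d) := by
      have h3 : (p : ℝ) ^ D.d * (((p ^ D.n).totient : ℝ) * ((D.l : ℝ) - 1))
          ≤ (p : ℝ) ^ D.d * (((p ^ D.n).totient : ℝ) * 1) := by
        apply mul_le_mul_of_nonneg_left _ hP.le
        apply mul_le_mul_of_nonneg_left _ hφ.le
        linarith
      linarith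
    have h3 : (Fintype.card I : ℝ) ≤ (p : ℝ) ^ D.d := by
      have := le_of_mul_le_mul_left h2 hφ
      linarith
    exact_mod_cast h3

end CaseB2

/-- **The combinatorial core**: `|I| ≤ p^d` when `l ≤ 2`. -/
theorem card_le (hM : Cfsg.IsPModular p M) (hl : D.l ≤ 2) : Fintype.card I ≤ p ^ D.d := by
  by_cases hmin : ∀ v ∈ D.Lam, v ≠ 0 → 2 ≤ (p : ℝ) ^ D.d * vecN v
  · exact D.card_le_of_min hM hl hmin
  · push Not at hmin
    obtain ⟨φ₁, hφ₁, hφ₁0, hφ₁lt⟩ := hmin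
    obtain ⟨m, hm⟩ := D.exists_int_ip hM hφ₁ hφ₁
    rw [ip_self] at hm
    have h1 : (p : ℝ) ^ D.d * vecN φ₁ = (m : ℝ) := by
      have : (((p : ℝ) ^ D.d * vecN φ₁ : ℝ) : ℂ) = (((m : ℝ) : ℝ) : ℂ) := by
        push_cast
        exact hm
      exact Complex.ofReal_injective this
    have hpos : 0 < (p : ℝ) ^ D.d * vecN φ₁ := by
      apply mul_pos (D.ppos hM)
      rcases (vecN_nonneg φ₁).lt_or_eq with h | h
      · exact h
      · exact absurd ((vecN_eq_zero_iff φ₁).mp h.symm) hφ₁0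
    have hm1 : m = 1 := by
      rw [h1] at hpos hφ₁lt
      have h2 : 0 < m := by exact_mod_cast hpos
      have h3 : m < 2 := by exact_mod_cast hφ₁lt
      omega
    rw [hm1, Int.cast_one] at h1
    choose πz hπz using fun t => D.exists_int_ip hM (D.r_mem t) hφ₁
    exact D.card_le_of_unit hM φ₁ hφ₁ h1 πz hπz hl

end FrameData

end Cfsg.Agent.Lib.Helper25.MajorCore
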