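import Mathlib
import Cfsg.Prelude.Def_Blocks
import Cfsg.Prelude.Def_BlockRank
import Cfsg.Agent.Lib.Helper24.SectionContrib
import Cfsg.Agent.Lib.Helper24.SectionIdem
import Cfsg.Agent.Lib.Helper24.BlockBasic
import Cfsg.Agent.Lib.Helper7.PPart
import Cfsg.Agent.Lib.Helper7.BrauerCount2
import Cfsg.Agent.Lib.Helper2.PSection

/-!
# Brauer's (5H) for major subsections (helper25 library)

`(z, b)` a subsection of the block `B` with `d(b) = d(B)`, `ψ ∈ B` of height zero and `χ ∈ B`
arbitrary: the scaled contribution `p^d m_{χψ}` is non-zero, and lies in the local ideal iff `χ`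
has positive height (`major_five_h`).
-/

set_option autoImplicit false
set_option linter.style.haveILetI false
set_option linter.unusedSectionVars false

namespace Cfsg.Agent.Lib.Helper25.MajorFiveH

open Cfsg Cfsg.Agent.Lib.Helper2 Cfsg.Agent.Lib.Helper7 Cfsg.Agent.Lib.Helper24
open scoped ComplexConjugate

variable {G : Type*} [Group G] [Fintype G] {p : ℕ} [Fact p.Prime] {M : Ideal Cfsg.AlgInt}

/-- the `b`-part of `c ↦ ψ (y c)` on the `p`-regular elements of `C_G(y)` -/
noncomputable def secV (p : ℕ) (y : G) [Fintype (Subgroup.centralizer ({y} : Set G))]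
    (b : Set (IrrCharacter (Subgroup.centralizer ({y} : Set G)))) (ψ : G → ℂ) :
    Subgroup.centralizer ({y} : Set G) → ℂ :=
  blockProj b (pRegularPart p (fun c : Subgroup.centralizer ({y} : Set G) => ψ (y * (c : G))))

theorem secV_apply (y : G) [Fintype (Subgroup.centralizer ({y} : Set G))]
    (b : Set (IrrCharacter (Subgroup.centralizer ({y} : Set G))))
    [Fintype (IrrCharacter (Subgroup.centralizer ({y} : Set G)))] [DecidablePred (· ∈ b)]
    (ψ : G → ℂ) (c : Subgroup.centralizer ({y} : Set G)) :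
    secV p y b ψ c = ∑ ξ : IrrCharacter (Subgroup.centralizer ({y} : Set G)),
      if ξ ∈ b then secCoeff p y ψ (ξ : Subgroup.centralizer ({y} : Set G) → ℂ)
        * (ξ : Subgroup.centralizer ({y} : Set G) → ℂ) c else 0 := by
  unfold secV
  rw [blockProj_apply]
  apply Finset.sum_congr rfl
  intro ξ _
  by_cases hξ : ξ ∈ b
  · rw [if_pos hξ, if_pos hξ]
    rfl
  · rw [if_neg hξ, if_neg hξ]

theorem secV_singular (hM : IsPModular p M) (y : G)
    [Fintype (Subgroup.centralizer ({y} : Set G))]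
    (b : Set (IrrCharacter (Subgroup.centralizer ({y} : Set G)))) (hb : IsPBlock M b)
    (ψ : G → ℂ) (c : Subgroup.centralizer ({y} : Set G)) (hc : p ∣ orderOf c) :
    secV p y b ψ c = 0 := by
  unfold secV
  rw [pRegularPart_eq_setTrunc, blockProj_setTrunc_regular hM b hb, setTrunc_apply, if_neg]
  intro h
  exact h hc

theorem secV_isClassFunction (y : G) [Fintype (Subgroup.centralizer ({y} : Set G))]
    (b : Set (IrrCharacter (Subgroup.centralizer ({y} : Set G)))) (ψ : G → ℂ) :
    IsClassFunction (Subgroup.centralizer ({y} : Set G)) (secV p y b ψ) := by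
  classical
  haveI : Fintype (IrrCharacter (Subgroup.centralizer ({y} : Set G))) := Fintype.ofFinite _
  intro g x
  rw [secV_apply, secV_apply]
  apply Finset.sum_congr rfl
  intro ξ _
  by_cases hξ : ξ ∈ b
  · rw [if_pos hξ, if_pos hξ, IrrCharacter.isClassFunction ξ g x]
  · rw [if_neg hξ, if_neg hξ]

/-- the values of `secV` are algebraic integers -/
theorem secV_isIntegral (hM : IsPModular p M) (y : G) (hy : ∃ k : ℕ, orderOf y = p ^ k)
    [Fintype (Subgroup.centralizer ({y} : Set G))]
    (b : Set (IrrCharacter (Subgroup.centralizer ({y} : Set G)))) (hb : IsPBlock M b)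
    (ψ : IrrCharacter G) (c : Subgroup.centralizer ({y} : Set G)) :
    IsIntegral ℤ (secV p y b (ψ : G → ℂ) c) := by
  classical
  haveI : Fintype (IrrCharacter (Subgroup.centralizer ({y} : Set G))) := Fintype.ofFinite _
  have hp : p.Prime := hM.1
  obtain ⟨ε, k, hε1, hεF⟩ := exists_shift_scalars (p := p) y hy
  have hψC : IsCharacter (Subgroup.centralizer ({y} : Set G))
      (fun c : Subgroup.centralizer ({y} : Set G) => (ψ : G → ℂ) c) :=
    IsCharacter.restrict (IsIrrCharacter.isCharacter ψ.2) _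
  choose a ha using fun η : IrrCharacter (Subgroup.centralizer ({y} : Set G)) =>
    classInner_isCharacter_nat hψC (IsIrrCharacter.isCharacter η.2)
  set F : Subgroup.centralizer ({y} : Set G) → ℂ :=
    fun c : Subgroup.centralizer ({y} : Set G) => (ψ : G → ℂ) (y * (c : G)) with hFdef
  have hFcf : IsClassFunction (Subgroup.centralizer ({y} : Set G)) F := isClassFunction_shift ψ y
  have h2 := Cfsg.Agent.Lib.Helper2.classFunction_expansion F hFcf
  have h3 : pRegularPart p F
      = ∑ η : IrrCharacter (Subgroup.centralizer ({y} : Set G)),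
          classInner F (η : Subgroup.centralizer ({y} : Set G) → ℂ)
          • pRegularPart p (η : Subgroup.centralizer ({y} : Set G) → ℂ) := by
    have h4 : pRegLin p (Subgroup.centralizer ({y} : Set G)) F = pRegularPart p F := rfl
    rw [← h4]
    conv_lhs => rw [h2]
    rw [map_sum]
    apply Finset.sum_congr rfl
    intro η _
    rw [map_smul]
    rfl
  have h5 : secV p y b (ψ : G → ℂ)
      = ∑ η : IrrCharacter (Subgroup.centralizer ({y} : Set G)),
          classInner F (η : Subgroup.centralizer ({y} : Set G) → ℂ)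
          • (if η ∈ b then pRegularPart p (η : Subgroup.centralizer ({y} : Set G) → ℂ)
              else 0) := by
    unfold secV
    rw [h3, map_sum]
    apply Finset.sum_congr rfl
    intro η _
    rw [map_smul, blockProj_pRegularPart hM b hb η]
  rw [h5, Finset.sum_apply]
  apply IsIntegral.sum
  intro η _
  rw [Pi.smul_apply, smul_eq_mul]
  apply IsIntegral.mul
  · rw [hεF ψ η, ha η]
    apply IsIntegral.mul
    · exact isIntegral_of_pow_eq_one (pow_pos hp.pos k) (hε1 η)
    · have h := isIntegral_algebraMap (R := ℤ) (A := ℂ) (x := (a η : ℤ))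
      simpa using h
  · by_cases hη : η ∈ b
    · rw [if_pos hη]
      by_cases hc : p ∣ orderOf c
      · rw [Cfsg.Agent.Lib.Helper7.pRegularPart_of_singular p _ c hc]
        exact isIntegral_zero
      · rw [Cfsg.Agent.Lib.Helper7.pRegularPart_of_regular p _ c hc]
        exact Cfsg.Agent.Lib.Helper2.PSection.isCharacter_isIntegral (IsIrrCharacter.isCharacter η.2) c
    · rw [if_neg hη]
      exact isIntegral_zero

/-- the contribution as a sum over the centralizer -/
theorem secContrib_eq_sum_secV (hM : IsPModular p M) (y : G)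
    [Fintype (Subgroup.centralizer ({y} : Set G))]
    (b : Set (IrrCharacter (Subgroup.centralizer ({y} : Set G)))) (hb : IsPBlock M b)
    [Fintype (IrrCharacter (Subgroup.centralizer ({y} : Set G)))] [DecidablePred (· ∈ b)]
    (χ ψ : G → ℂ) :
    secContrib p y b χ ψ = (Nat.card (Subgroup.centralizer ({y} : Set G)) : ℂ)⁻¹
      * ∑ c : Subgroup.centralizer ({y} : Set G), χ (y * (c : G)) * conj (secV p y b ψ c) := by
  unfold secContrib
  have h1 : ∀ ξ : IrrCharacter (Subgroup.centralizer ({y} : Set G)),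
      (if ξ ∈ b then secCoeff p y χ (ξ : Subgroup.centralizer ({y} : Set G) → ℂ)
        * conj (secCoeff p y ψ (ξ : Subgroup.centralizer ({y} : Set G) → ℂ)) else 0)
      = (Nat.card (Subgroup.centralizer ({y} : Set G)) : ℂ)⁻¹
        * ∑ c : Subgroup.centralizer ({y} : Set G),
          pRegularPart p (fun c : Subgroup.centralizer ({y} : Set G) => χ (y * (c : G))) c
          * (if ξ ∈ b then conj (secCoeff p y ψ (ξ : Subgroup.centralizer ({y} : Set G) → ℂ)
            * (ξ : Subgroup.centralizer ({y} : Set G) → ℂ) c) else 0) := by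
    intro ξ
    by_cases hξ : ξ ∈ b
    · simp only [if_pos hξ]
      conv_lhs => rw [secCoeff, classInner_def]
      rw [mul_assoc, Finset.sum_mul]
      congr 1
      apply Finset.sum_congr rfl
      intro c _
      rw [map_mul]
      ring
    · simp only [if_neg hξ, mul_zero, Finset.sum_const_zero]
  rw [Finset.sum_congr rfl (fun ξ _ => h1 ξ), ← Finset.mul_sum, Finset.sum_comm]
  congr 1
  apply Finset.sum_congr rfl
  intro c _
  rw [← Finset.mul_sum, secV_apply, map_sum]
  have h2 : ∑ ξ : IrrCharacter (Subgroup.centralizer ({y} : Set G)),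
      (if ξ ∈ b then conj (secCoeff p y ψ (ξ : Subgroup.centralizer ({y} : Set G) → ℂ)
            * (ξ : Subgroup.centralizer ({y} : Set G) → ℂ) c) else 0)
      = ∑ ξ : IrrCharacter (Subgroup.centralizer ({y} : Set G)),
        conj (if ξ ∈ b then secCoeff p y ψ (ξ : Subgroup.centralizer ({y} : Set G) → ℂ)
            * (ξ : Subgroup.centralizer ({y} : Set G) → ℂ) c else 0) := by
    apply Finset.sum_congr rfl
    intro ξ _
    by_cases hξ : ξ ∈ b
    · rw [if_pos hξ, if_pos hξ]
    · rw [if_neg hξ, if_neg hξ, map_zero]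
  rw [h2, ← map_sum, ← secV_apply]
  by_cases hc : p ∣ orderOf c
  · rw [secV_singular hM y b hb ψ c hc, map_zero, mul_zero, mul_zero]
  · rw [Cfsg.Agent.Lib.Helper7.pRegularPart_of_regular p _ c hc]

omit [Fintype G] in
/-- conjugacy inside a `p`-section is controlled by the centralizer of the `p`-part -/
theorem mem_centralizer_of_section [Finite G] (y : G) (hy : ∃ k : ℕ, orderOf y = p ^ k)
    {s s' : G} (hs : s ∈ Subgroup.centralizer ({y} : Set G))
    (hs' : s' ∈ Subgroup.centralizer ({y} : Set G)) (hsr : ¬ p ∣ orderOf s)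
    (hs'r : ¬ p ∣ orderOf s') {k : G} (hk : k * (y * s') * k⁻¹ = y * s) :
    k ∈ Subgroup.centralizer ({y} : Set G) ∧ k * s' * k⁻¹ = s := by
  have hzs : Commute y s := (Subgroup.mem_centralizer_singleton_iff.mp hs).symm
  have hzs' : Commute y s' := (Subgroup.mem_centralizer_singleton_iff.mp hs').symm
  have h1 : IsPPart p (y * s') y := ⟨s', rfl, hzs', hy, hs'r⟩
  have h2 : IsPPart p (y * s) y := ⟨s, rfl, hzs, hy, hsr⟩
  have h3 := isPPart_conj p k h1
  rw [hk] at h3
  have hkz : k * y * k⁻¹ = y := isPPart_unique p h3 h2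
  refine ⟨?_, ?_⟩
  · rw [Subgroup.mem_centralizer_singleton_iff]
    calc k * y = k * y * k⁻¹ * k := by group
      _ = y * k := by rw [hkz]
  · have : k * (y * s') * k⁻¹ = (k * y * k⁻¹) * (k * s' * k⁻¹) := by group
    rw [this, hkz] at hk
    exact mul_left_cancel hk

/-- the function `W`: `conj (secV c)` at `y c` -/
noncomputable def secW (p : ℕ) (y : G) [Fintype (Subgroup.centralizer ({y} : Set G))]
    (b : Set (IrrCharacter (Subgroup.centralizer ({y} : Set G)))) (ψ : G → ℂ) (g : G) : ℂ :=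
  by classical exact ∑ c : Subgroup.centralizer ({y} : Set G),
    if y * (c : G) = g then conj (secV p y b ψ c) else 0

/-- the class function `A` on `G` -/
noncomputable def secA (p : ℕ) (y : G) [Fintype (Subgroup.centralizer ({y} : Set G))]
    (b : Set (IrrCharacter (Subgroup.centralizer ({y} : Set G)))) (ψ : G → ℂ) (g : G) : ℂ :=
  (Nat.card (Subgroup.centralizer ({y} : Set G)) : ℂ)⁻¹ * ∑ x : G, secW p y b ψ (x * g * x⁻¹)

theorem secA_isClassFunction (y : G) [Fintype (Subgroup.centralizer ({y} : Set G))]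
    (b : Set (IrrCharacter (Subgroup.centralizer ({y} : Set G)))) (ψ : G → ℂ) :
    IsClassFunction G (secA p y b ψ) := by
  intro g t
  unfold secA
  congr 1
  apply Fintype.sum_equiv (Equiv.mulRight t)
  intro x
  show secW p y b ψ (x * (t * g * t⁻¹) * x⁻¹) = secW p y b ψ (x * t * g * (x * t)⁻¹)
  congr 1
  group

theorem sum_secW_mul (y : G) [Fintype (Subgroup.centralizer ({y} : Set G))]
    (b : Set (IrrCharacter (Subgroup.centralizer ({y} : Set G)))) (ψ χ : G → ℂ) :
    ∑ g : G, secW p y b ψ g * χ g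
      = ∑ c : Subgroup.centralizer ({y} : Set G), χ (y * (c : G)) * conj (secV p y b ψ c) := by
  classical
  unfold secW
  simp only [Finset.sum_mul]
  rw [Finset.sum_comm]
  apply Finset.sum_congr rfl
  intro c _
  have : ∀ g : G, (if y * (c : G) = g then conj (secV p y b ψ c) else 0) * χ g
      = if y * (c : G) = g then χ (y * (c : G)) * conj (secV p y b ψ c) else 0 := by
    intro g
    by_cases h : y * (c : G) = g
    · rw [if_pos h, if_pos h, h, mul_comm]
    · rw [if_neg h, if_neg h, zero_mul]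
  rw [Finset.sum_congr rfl (fun g _ => this g), Finset.sum_ite_eq, if_pos (Finset.mem_univ _)]

/-- `∑_g A(g) χ(g) = |G| m_{χψ}` -/
theorem sum_secA_mul (hM : IsPModular p M) (y : G)
    [Fintype (Subgroup.centralizer ({y} : Set G))]
    (b : Set (IrrCharacter (Subgroup.centralizer ({y} : Set G)))) (hb : IsPBlock M b)
    [Fintype (IrrCharacter (Subgroup.centralizer ({y} : Set G)))] [DecidablePred (· ∈ b)]
    (ψ χ : G → ℂ) (hχ : IsClassFunction G χ) :
    ∑ g : G, secA p y b ψ g * χ g = (Nat.card G : ℂ) * secContrib p y b χ ψ := by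
  unfold secA
  have h1 : ∀ g : G, (Nat.card (Subgroup.centralizer ({y} : Set G)) : ℂ)⁻¹
        * (∑ x : G, secW p y b ψ (x * g * x⁻¹)) * χ g
      = (Nat.card (Subgroup.centralizer ({y} : Set G)) : ℂ)⁻¹
        * ∑ x : G, secW p y b ψ (x * g * x⁻¹) * χ (x * g * x⁻¹) := by
    intro g
    rw [mul_assoc, Finset.sum_mul]
    congr 1
    apply Finset.sum_congr rfl
    intro x _
    rw [hχ g x]
  rw [Finset.sum_congr rfl (fun g _ => h1 g), ← Finset.mul_sum, Finset.sum_comm]
  have h2 : ∀ x : G, ∑ g : G, secW p y b ψ (x * g * x⁻¹) * χ (x * g * x⁻¹)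
      = ∑ g : G, secW p y b ψ g * χ g := by
    intro x
    apply Fintype.sum_equiv (MulAut.conj x).toEquiv
    intro g
    rfl
  rw [Finset.sum_congr rfl (fun x _ => h2 x), Finset.sum_const, Finset.card_univ, nsmul_eq_mul,
    sum_secW_mul, secContrib_eq_sum_secV hM y b hb]
  simp only [Nat.card_eq_fintype_card]
  ring

/-- `A` at an element of the section -/
theorem secA_section (hM : IsPModular p M) (y : G) (hy : ∃ k : ℕ, orderOf y = p ^ k)
    [Fintype (Subgroup.centralizer ({y} : Set G))]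
    (b : Set (IrrCharacter (Subgroup.centralizer ({y} : Set G)))) (hb : IsPBlock M b)
    (ψ : G → ℂ) (c₀ : Subgroup.centralizer ({y} : Set G)) (hc₀ : ¬ p ∣ orderOf c₀) :
    secA p y b ψ (y * (c₀ : G)) = conj (secV p y b ψ c₀) := by
  classical
  have hterm : ∀ x : G, secW p y b ψ (x * (y * (c₀ : G)) * x⁻¹)
      = if x ∈ Subgroup.centralizer ({y} : Set G) then conj (secV p y b ψ c₀) else 0 := by
    intro x
    by_cases hx : x ∈ Subgroup.centralizer ({y} : Set G)
    · rw [if_pos hx]
      obtain ⟨xC, hxC⟩ : ∃ xC : Subgroup.centralizer ({y} : Set G), xC = ⟨x, hx⟩ := ⟨_, rfl⟩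
      have hxCcoe : (xC : G) = x := by rw [hxC]
      have hxy : x * y = y * x := Subgroup.mem_centralizer_singleton_iff.mp hx
      have e : x * (y * (c₀ : G)) * x⁻¹
          = y * ((xC * c₀ * xC⁻¹ : Subgroup.centralizer ({y} : Set G)) : G) := by
        rw [Subgroup.coe_mul, Subgroup.coe_mul, Subgroup.coe_inv, hxCcoe]
        calc x * (y * (c₀ : G)) * x⁻¹ = (x * y) * (c₀ : G) * x⁻¹ := by group
          _ = (y * x) * (c₀ : G) * x⁻¹ := by rw [hxy]
          _ = y * (x * (c₀ : G) * x⁻¹) := by group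
      rw [e]
      unfold secW
      rw [Finset.sum_eq_single (xC * c₀ * xC⁻¹)]
      · rw [if_pos rfl, secV_isClassFunction y b ψ c₀ xC]
      · intro c _ hc
        rw [if_neg]
        intro h
        apply hc
        exact Subtype.ext (mul_left_cancel h)
      · intro h
        exact absurd (Finset.mem_univ _) h
    · rw [if_neg hx]
      unfold secW
      apply Finset.sum_eq_zero
      intro c _
      by_cases hcond : y * (c : G) = x * (y * (c₀ : G)) * x⁻¹
      · rw [if_pos hcond]
        by_cases hc : p ∣ orderOf c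
        · rw [secV_singular hM y b hb ψ c hc, map_zero]
        · exfalso
          apply hx
          have hcG : ¬ p ∣ orderOf (c : G) := by rw [Subgroup.orderOf_coe]; exact hc
          have hc₀G : ¬ p ∣ orderOf (c₀ : G) := by rw [Subgroup.orderOf_coe]; exact hc₀
          exact (mem_centralizer_of_section y hy c.2 c₀.2 hcG hc₀G hcond.symm).1
      · rw [if_neg hcond]
  unfold secA
  rw [Finset.sum_congr rfl (fun x _ => hterm x), Finset.sum_ite, Finset.sum_const_zero, add_zero,
    Finset.sum_const, nsmul_eq_mul, Nat.card_eq_fintype_card, Fintype.card_subtype]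
  have hne : ((Finset.univ.filter (fun x : G => x ∈ Subgroup.centralizer ({y} : Set G))).card : ℂ)
      ≠ 0 := by
    rw [Nat.cast_ne_zero]
    apply Finset.card_ne_zero.mpr
    exact ⟨1, Finset.mem_filter.mpr ⟨Finset.mem_univ _, Subgroup.one_mem _⟩⟩
  rw [← mul_assoc, inv_mul_cancel₀ hne, one_mul]

/-- the values of `A` are algebraic integers -/
theorem secA_isIntegral (hM : IsPModular p M) (y : G) (hy : ∃ k : ℕ, orderOf y = p ^ k)
    [Fintype (Subgroup.centralizer ({y} : Set G))]
    (b : Set (IrrCharacter (Subgroup.centralizer ({y} : Set G)))) (hb : IsPBlock M b)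
    (ψ : IrrCharacter G) (g : G) : IsIntegral ℤ (secA p y b (ψ : G → ℂ) g) := by
  classical
  by_cases h : ∃ x : G, ∃ c : Subgroup.centralizer ({y} : Set G),
      y * (c : G) = x * g * x⁻¹ ∧ secV p y b (ψ : G → ℂ) c ≠ 0
  · obtain ⟨x₀, c₀, h1, h2⟩ := h
    have hc₀ : ¬ p ∣ orderOf c₀ := by
      intro hc
      exact h2 (secV_singular hM y b hb _ c₀ hc)
    rw [← secA_isClassFunction y b (ψ : G → ℂ) g x₀, ← h1, secA_section hM y hy b hb _ c₀ hc₀]
    exact map_isIntegral_int (starRingEnd ℂ) (secV_isIntegral hM y hy b hb ψ c₀)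
  · push Not at h
    have : secA p y b (ψ : G → ℂ) g = 0 := by
      unfold secA
      rw [Finset.sum_eq_zero, mul_zero]
      intro x _
      unfold secW
      apply Finset.sum_eq_zero
      intro c _
      by_cases hcond : y * (c : G) = x * g * x⁻¹
      · rw [if_pos hcond, h x c hcond, map_zero]
      · rw [if_neg hcond]
    rw [this]
    exact isIntegral_zero

/-- **Brauer's (5H) for major subsections.** -/
theorem major_five_h (hM : IsPModular p M) (y : G) (hy : ∃ k : ℕ, orderOf y = p ^ k)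
    [Fintype (Subgroup.centralizer ({y} : Set G))]
    (B : Set (IrrCharacter G))
    (b : Set (IrrCharacter (Subgroup.centralizer ({y} : Set G))))
    (hind : IsInducedBlock M (Subgroup.centralizer ({y} : Set G)) b B)
    (hdef : blockDefect p b = blockDefect p B)
    [Fintype (IrrCharacter (Subgroup.centralizer ({y} : Set G)))] [DecidablePred (· ∈ b)]
    (χ ψ : IrrCharacter G) (hχ : χ ∈ B) (hψ : ψ ∈ B)
    (h0 : blockHeight p B (ψ : G → ℂ) = 0) :
    (p : ℂ) ^ blockDefect p b * secContrib p y b (χ : G → ℂ) (ψ : G → ℂ) ≠ 0 ∧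
    (MemLocalIdeal M ((p : ℂ) ^ blockDefect p b * secContrib p y b (χ : G → ℂ) (ψ : G → ℂ))
      ↔ 0 < blockHeight p B (χ : G → ℂ)) := by
  classical
  have hp : p.Prime := hM.1
  have hb : IsPBlock M b := hind.1
  have hB : IsPBlock M B := hind.2.1
  have hp0 : (p : ℂ) ≠ 0 := Nat.cast_ne_zero.mpr hp.ne_zero
  have hG0 : Nat.card G ≠ 0 := Nat.card_pos.ne'
  have hGC : (Nat.card G : ℂ) ≠ 0 := Nat.cast_ne_zero.mpr hG0
  obtain ⟨a, ha⟩ : ∃ a : ℕ, a = (Nat.card G).factorization p := ⟨_, rfl⟩
  obtain ⟨s, hs⟩ : ∃ s : ℕ, s = sInf ((fun χ : IrrCharacter G =>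
      (charDegree (χ : G → ℂ)).factorization p) '' B) := ⟨_, rfl⟩
  obtain ⟨d, hd⟩ : ∃ d : ℕ, d = blockDefect p B := ⟨_, rfl⟩
  have hd' : d = a - s := by rw [hd, ha, hs]; rfl
  have hsle : ∀ θ : IrrCharacter G, θ ∈ B → s ≤ (charDegree (θ : G → ℂ)).factorization p := by
    intro θ hθ
    rw [hs]
    exact Nat.sInf_le ⟨θ, hθ, rfl⟩
  have hdeg0 : ∀ θ : IrrCharacter G, charDegree (θ : G → ℂ) ≠ 0 := charDegree_ne_zero
  have hsa : s ≤ a := by
    have h1 := hsle χ hχ
    have h2 : (charDegree (χ : G → ℂ)).factorization p ≤ (Nat.card G).factorization p :=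
      (Nat.factorization_le_iff_dvd (hdeg0 χ) hG0).mpr
        (Cfsg.Agent.Lib.Helper25.charDegree_dvd_card χ.2) p
    rw [ha]
    exact le_trans h1 h2
  have hasd : a = s + d := by omega
  rw [hdef, ← hd]
  -- the class function `A`
  obtain ⟨A, hA⟩ : ∃ A : G → ℂ, A = secA p y b (ψ : G → ℂ) := ⟨_, rfl⟩
  have hAcf : IsClassFunction G A := by rw [hA]; exact secA_isClassFunction y b _
  have hAint : ∀ g, MemLocalRing M (A g) := by
    intro g
    rw [hA]
    exact memLocalRing_of_isIntegral hM (secA_isIntegral hM y hy b hb ψ g)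
  have homega : ∀ θ : IrrCharacter G, omega (θ : G → ℂ) A
      = (Nat.card G : ℂ) * secContrib p y b (θ : G → ℂ) (ψ : G → ℂ) / (θ : G → ℂ) 1 := by
    intro θ
    unfold omega
    rw [hA, sum_secA_mul hM y b hb _ _ (IrrCharacter.isClassFunction θ)]
  obtain ⟨κ, hκ⟩ : ∃ κ : IrrCharacter G → ℂ, κ = fun θ : IrrCharacter G =>
      ((p : ℂ) ^ (Nat.card G).factorization p / (Nat.card G : ℂ)) * omega (θ : G → ℂ) A :=
    ⟨_, rfl⟩
  have hκR : ∀ θ, MemLocalRing M (κ θ) := by
    intro θ
    rw [hκ]
    exact memLocalRing_mul hM (pow_factorization_div_memLocalRing hM hG0)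
      (omega_memLocalRing hM θ A hAcf hAint)
  have hsame : SameBlock M (χ : G → ℂ) (ψ : G → ℂ) := by
    obtain ⟨χ₀, rfl⟩ := hB
    exact sameBlock_trans hM (sameBlock_symm hM hχ) hψ
  have hκsub : MemLocalIdeal M (κ χ - κ ψ) := by
    rw [hκ]
    simp only
    rw [← mul_sub]
    exact memLocalIdeal_mul_left hM (pow_factorization_div_memLocalRing hM hG0)
      (omega_sub_memLocalIdeal hM χ ψ hsame A hAcf hAint)
  -- `κ θ * u θ = p^d m_{θψ}`
  have hu : ∀ θ : IrrCharacter G, θ ∈ B → ∃ u : ℕ, charDegree (θ : G → ℂ) = p ^ s * u ∧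
      κ θ * (u : ℂ) = (p : ℂ) ^ d * secContrib p y b (θ : G → ℂ) (ψ : G → ℂ) := by
    intro θ hθ
    obtain ⟨u, hu⟩ := (Nat.Prime.pow_dvd_iff_le_factorization hp (hdeg0 θ)).mpr (hsle θ hθ)
    refine ⟨u, hu, ?_⟩
    have h1 : (θ : G → ℂ) 1 = (p : ℂ) ^ s * (u : ℂ) := by
      rw [apply_one_eq_charDegree, hu]
      push_cast
      rfl
    have hθ1 : (θ : G → ℂ) 1 ≠ 0 := IsIrrCharacter.apply_one_ne_zero θ.2
    have hu0 : (u : ℂ) ≠ 0 := by
      intro h
      apply hθ1
      rw [h1, h, mul_zero]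
    have hps : (p : ℂ) ^ s ≠ 0 := pow_ne_zero _ hp0
    rw [hκ]
    simp only
    rw [homega θ, ← ha, hasd, h1, pow_add]
    field_simp
  obtain ⟨uψ, huψ, hκψ⟩ := hu ψ hψ
  obtain ⟨uχ, huχ, hκχ⟩ := hu χ hχ
  -- `ψ` has height zero: `p ∤ uψ`
  have huψp : ¬ p ∣ uψ := by
    intro hdiv
    obtain ⟨w, hw⟩ := hdiv
    have h1 : p ^ (s + 1) ∣ charDegree (ψ : G → ℂ) := by
      rw [huψ, hw, pow_succ]
      exact ⟨w, by ring⟩
    have h2 := (Nat.Prime.pow_dvd_iff_le_factorization hp (hdeg0 ψ)).mp h1
    unfold blockHeight at h0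
    rw [← hs] at h0
    omega
  have hunit := (secContrib_unit hM y hy B b hind ψ ψ hψ hψ h0 h0).2
  rw [hdef, ← hd, ← hκψ] at hunit
  have hκψn : ¬ MemLocalIdeal M (κ ψ) := by
    intro h
    exact hunit (memLocalIdeal_mul_right hM h (memLocalRing_natCast hM uψ))
  have hκχn : ¬ MemLocalIdeal M (κ χ) := by
    intro h
    apply hκψn
    have := memLocalIdeal_sub hM h hκsub
    rwa [sub_sub_cancel] at this
  have hκχ0 : κ χ ≠ 0 := by
    intro h
    apply hκχn
    rw [h]
    exact memLocalIdeal_zero hM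
  have huχ0 : uχ ≠ 0 := by
    intro h
    apply hdeg0 χ
    rw [huχ, h, mul_zero]
  rw [← hκχ]
  refine ⟨mul_ne_zero hκχ0 (Nat.cast_ne_zero.mpr huχ0), ?_⟩
  have hht : blockHeight p B (χ : G → ℂ) = (charDegree (χ : G → ℂ)).factorization p - s := by
    unfold blockHeight
    rw [← hs]
  rw [hht]
  constructor
  · intro h
    rcases memLocalIdeal_or_of_mul hM (hκR χ) (memLocalRing_natCast hM uχ) h with h1 | h1
    · exact absurd h1 hκχn
    · obtain ⟨w, hw⟩ := (memLocalIdeal_natCast_iff hM uχ).mp h1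
      have h2 : p ^ (s + 1) ∣ charDegree (χ : G → ℂ) := by
        rw [huχ, hw, pow_succ]
        exact ⟨w, by ring⟩
      have h3 := (Nat.Prime.pow_dvd_iff_le_factorization hp (hdeg0 χ)).mp h2
      omega
  · intro h
    have h2 : p ^ (s + 1) ∣ charDegree (χ : G → ℂ) :=
      (Nat.Prime.pow_dvd_iff_le_factorization hp (hdeg0 χ)).mpr (by omega)
    rw [huχ, pow_succ] at h2
    have h3 : p ∣ uχ := by
      have hps : 0 < p ^ s := pow_pos hp.pos s
      exact Nat.dvd_of_mul_dvd_mul_left hps h2
    exact memLocalIdeal_mul_left hM (hκR χ) ((memLocalIdeal_natCast_iff hM uχ).mpr h3)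

/-- (5H) for a subgroup `H` propositionally equal to the centralizer, in expanded form -/
theorem major_five_h_general (hM : IsPModular p M) (y : G) (hy : ∃ k : ℕ, orderOf y = p ^ k)
    (H : Subgroup G) (hH : H = Subgroup.centralizer ({y} : Set G)) [Fintype H]
    (B : Set (IrrCharacter G)) (b : Set (IrrCharacter H)) (hind : IsInducedBlock M H b B)
    (hdef : blockDefect p b = blockDefect p B)
    [Fintype (IrrCharacter H)] [DecidablePred (· ∈ b)]
    (χ ψ : IrrCharacter G) (hχ : χ ∈ B) (hψ : ψ ∈ B)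
    (h0 : blockHeight p B (ψ : G → ℂ) = 0) :
    (p : ℂ) ^ blockDefect p b * (∑ ξ : IrrCharacter H, if ξ ∈ b then
        classInner (pRegularPart p (fun c : H => (χ : G → ℂ) (y * (c : G)))) (ξ : H → ℂ)
        * conj (classInner (pRegularPart p (fun c : H => (ψ : G → ℂ) (y * (c : G))))
          (ξ : H → ℂ)) else 0) ≠ 0 ∧
    (MemLocalIdeal M ((p : ℂ) ^ blockDefect p b * (∑ ξ : IrrCharacter H, if ξ ∈ b then
        classInner (pRegularPart p (fun c : H => (χ : G → ℂ) (y * (c : G)))) (ξ : H → ℂ)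
        * conj (classInner (pRegularPart p (fun c : H => (ψ : G → ℂ) (y * (c : G))))
          (ξ : H → ℂ)) else 0))
      ↔ 0 < blockHeight p B (χ : G → ℂ)) := by
  subst hH
  exact major_five_h hM y hy B b hind hdef χ ψ hχ hψ h0

end Cfsg.Agent.Lib.Helper25.MajorFiveH
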