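import Mathlib
import Cfsg.Prelude.Def_Blocks
import Cfsg.Prelude.Def_BlockRank
import Cfsg.Agent.Lib.Helper24.SectionContrib
import Cfsg.Agent.Lib.Helper24.SectionIdem
import Cfsg.Agent.Lib.Helper7.CentralHom
import Cfsg.Agent.Lib.Helper25.CycloIneq

/-!
# Glue for major subsections: all powers `z^j` of the `p`-element (helper25 library)

* `exists_shift_scalars_pow`: for `z` central in `H`, `⟨χ(z^j ·), ξ⟩ = ε_ξ^j ⟨χ_H, ξ⟩`.
* `frame_general`: section orthogonality (helper24 `sum_conj_secCoeff_mul`) transported to a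
  subgroup `H` propositionally equal to the centralizer.
* `coeff_expand`: `⟨(χ(z^j ·))°, ξ⟩ = ∑_{η ∈ b} ⟨χ_H, η⟩ ε_η^j ⟨η°, ξ⟩` for `ξ ∈ b`.
-/

set_option autoImplicit false
set_option linter.style.haveILetI false
set_option linter.unusedSectionVars false

namespace Cfsg.Agent.Lib.Helper25.MajorGlue

open Cfsg Cfsg.Agent.Lib.Helper2 Cfsg.Agent.Lib.Helper7 Cfsg.Agent.Lib.Helper24
open scoped ComplexConjugate

variable {G : Type*} [Group G] [Fintype G] {p : ℕ} [Fact p.Prime] {M : Ideal Cfsg.AlgInt}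

/-- shifting by powers of a central element of `H` multiplies the inner products with the
irreducible characters of `H` by powers of a root of unity -/
theorem exists_shift_scalars_pow (z : G) (q : ℕ) (hq : 0 < q) (hz : z ^ q = 1) (H : Subgroup G)
    [Fintype H] (hzH : z ∈ H) (hcent : ∀ h ∈ H, h * z = z * h) :
    ∃ ε : IrrCharacter H → ℂ, (∀ ξ, ε ξ ^ q = 1) ∧
      ∀ (j : ℕ) (χ : G → ℂ) (ξ : IrrCharacter H),
        classInner (fun c : H => χ (z ^ j * (c : G))) (ξ : H → ℂ)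
          = ε ξ ^ j * classInner (fun c : H => χ c) (ξ : H → ℂ) := by
  classical
  obtain ⟨zC, hzCdef⟩ : ∃ zC : H, zC = ⟨z, hzH⟩ := ⟨_, rfl⟩
  have hzCcoe : (zC : G) = z := by rw [hzCdef]
  have hzc : zC ∈ Subgroup.center H := by
    rw [Subgroup.mem_center_iff]
    intro c
    apply Subtype.ext
    rw [Subgroup.coe_mul, Subgroup.coe_mul, hzCcoe]
    exact hcent c c.2
  have hpow : zC ^ q = 1 := by
    apply Subtype.ext
    rw [Subgroup.coe_pow, hzCcoe, Subgroup.coe_one, hz]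
  have h1 : ∀ ξ : IrrCharacter H, (ξ : H → ℂ) 1 ≠ 0 :=
    fun ξ => IsIrrCharacter.apply_one_ne_zero ξ.2
  obtain ⟨ε, hε⟩ : ∃ ε : IrrCharacter H → ℂ,
      ∀ ξ : IrrCharacter H, ε ξ = (ξ : H → ℂ) zC / (ξ : H → ℂ) 1 := ⟨_, fun _ => rfl⟩
  have hmul : ∀ (ξ : IrrCharacter H) (c : H), (ξ : H → ℂ) (zC * c) = ε ξ * (ξ : H → ℂ) c := by
    intro ξ c
    have := irr_mul_of_mem_center ξ hzc c
    rw [hε, div_mul_eq_mul_div, ← this, mul_div_assoc, div_self (h1 ξ), mul_one]
  have hmulpow : ∀ (ξ : IrrCharacter H) (j : ℕ) (c : H),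
      (ξ : H → ℂ) (zC ^ j * c) = ε ξ ^ j * (ξ : H → ℂ) c := by
    intro ξ j
    induction j with
    | zero => intro c; rw [pow_zero, pow_zero, one_mul, one_mul]
    | succ j ih =>
      intro c
      rw [pow_succ', mul_assoc, hmul, ih, pow_succ']
      ring
  have hε1 : ∀ ξ : IrrCharacter H, ε ξ ^ q = 1 := by
    intro ξ
    have := hmulpow ξ q 1
    rw [hpow, one_mul] at this
    have h2 : ε ξ ^ q * (ξ : H → ℂ) 1 = 1 * (ξ : H → ℂ) 1 := by
      rw [one_mul]
      exact this.symm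
    exact mul_right_cancel₀ (h1 ξ) h2
  have hεconj : ∀ ξ : IrrCharacter H, conj (ε ξ) = (ε ξ)⁻¹ :=
    fun ξ => Cfsg.Agent.Lib.Helper25.CycloIneq.conj_eq_inv_of_pow_eq_one hq (hε1 ξ)
  have hε0 : ∀ ξ : IrrCharacter H, ε ξ ≠ 0 := by
    intro ξ h
    have := hε1 ξ
    rw [h, zero_pow hq.ne'] at this
    exact zero_ne_one this
  have hmul' : ∀ (ξ : IrrCharacter H) (j : ℕ) (c : H),
      conj ((ξ : H → ℂ) ((zC ^ j)⁻¹ * c)) = ε ξ ^ j * conj ((ξ : H → ℂ) c) := by
    intro ξ j c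
    have h2 := hmulpow ξ j ((zC ^ j)⁻¹ * c)
    rw [mul_inv_cancel_left] at h2
    have h3 : (ξ : H → ℂ) ((zC ^ j)⁻¹ * c) = (ε ξ ^ j)⁻¹ * (ξ : H → ℂ) c := by
      rw [h2, ← mul_assoc, inv_mul_cancel₀ (pow_ne_zero _ (hε0 ξ)), one_mul]
    rw [h3, map_mul, map_inv₀, map_pow, hεconj, inv_pow, inv_inv]
  refine ⟨ε, hε1, ?_⟩
  intro j χ ξ
  rw [classInner_def, classInner_def]
  have e : ∑ c : H, (fun c : H => χ (z ^ j * (c : G))) c * conj ((ξ : H → ℂ) c)
      = ∑ c : H, χ c * conj ((ξ : H → ℂ) ((zC ^ j)⁻¹ * c)) := by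
    symm
    apply Fintype.sum_equiv (Equiv.mulLeft (zC ^ j)⁻¹)
    intro c
    show χ (c : G) * conj ((ξ : H → ℂ) ((zC ^ j)⁻¹ * c))
      = χ (z ^ j * (((zC ^ j)⁻¹ * c : H) : G)) * conj ((ξ : H → ℂ) ((zC ^ j)⁻¹ * c))
    congr 2
    rw [Subgroup.coe_mul, Subgroup.coe_inv, Subgroup.coe_pow, hzCcoe, mul_inv_cancel_left]
  rw [e, Finset.sum_congr rfl (fun c _ => by rw [hmul' ξ j c])]
  rw [Finset.mul_sum, Finset.mul_sum, Finset.mul_sum]
  apply Finset.sum_congr rfl
  intro c _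
  ring

/-- section orthogonality for a subgroup equal to the centralizer -/
theorem frame_general (hM : IsPModular p M) (y : G) (hy : ∃ k : ℕ, orderOf y = p ^ k)
    (H : Subgroup G) (hH : H = Subgroup.centralizer ({y} : Set G)) [Fintype H]
    (B : Set (IrrCharacter G)) (b : Set (IrrCharacter H)) (hind : IsInducedBlock M H b B)
    [Fintype (IrrCharacter G)] [Fintype (IrrCharacter H)] [DecidablePred (· ∈ B)]
    (ξ ξ' : IrrCharacter H) (hξ : ξ ∈ b) :
    ∑ χ : IrrCharacter G, (if χ ∈ B then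
        conj (classInner (pRegularPart p (fun c : H => (χ : G → ℂ) (y * (c : G)))) (ξ : H → ℂ))
          * classInner (pRegularPart p (fun c : H => (χ : G → ℂ) (y * (c : G)))) (ξ' : H → ℂ)
        else 0)
      = classInner (pRegularPart p (ξ : H → ℂ)) (ξ' : H → ℂ) := by
  subst hH
  exact sum_conj_secCoeff_mul hM y hy B b hind ξ ξ' hξ

omit [Fintype G] in
/-- the shifted restriction is a class function of `H` when the shift is central -/
theorem isClassFunction_shift_of_central (χ : IrrCharacter G) (w : G) (H : Subgroup G)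
    (hcent : ∀ h ∈ H, h * w = w * h) :
    IsClassFunction H (fun c : H => (χ : G → ℂ) (w * (c : G))) := by
  intro g t
  have e : w * ((t * g * t⁻¹ : H) : G) = (t : G) * (w * (g : G)) * (t : G)⁻¹ := by
    rw [Subgroup.coe_mul, Subgroup.coe_mul, Subgroup.coe_inv]
    have := hcent t t.2
    calc w * ((t : G) * (g : G) * (t : G)⁻¹) = (w * (t : G)) * (g : G) * (t : G)⁻¹ := by group
      _ = ((t : G) * w) * (g : G) * (t : G)⁻¹ := by rw [this]
      _ = (t : G) * (w * (g : G)) * (t : G)⁻¹ := by group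
  show (χ : G → ℂ) (w * ((t * g * t⁻¹ : H) : G)) = (χ : G → ℂ) (w * (g : G))
  rw [e]
  exact IrrCharacter.isClassFunction χ _ _

/-- expansion of the section coefficients -/
theorem coeff_expand (hM : IsPModular p M) (w : G) (H : Subgroup G) [Fintype H]
    (hcent : ∀ h ∈ H, h * w = w * h) (b : Set (IrrCharacter H)) (hb : IsPBlock M b)
    [Fintype (IrrCharacter H)] [DecidablePred (· ∈ b)] (χ : IrrCharacter G)
    (ξ : IrrCharacter H) (hξ : ξ ∈ b) :
    classInner (pRegularPart p (fun c : H => (χ : G → ℂ) (w * (c : G)))) (ξ : H → ℂ)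
      = ∑ η : IrrCharacter H, if η ∈ b then
          classInner (fun c : H => (χ : G → ℂ) (w * (c : G))) (η : H → ℂ)
            * classInner (pRegularPart p (η : H → ℂ)) (ξ : H → ℂ) else 0 := by
  rw [classInner_pRegularPart_expand _ (isClassFunction_shift_of_central χ w H hcent)]
  apply Finset.sum_congr rfl
  intro η _
  by_cases hη : η ∈ b
  · rw [if_pos hη]
  · rw [if_neg hη, classInner_pRegularPart_symm η ξ,
      classInner_pRegularPart_eq_zero hM b hb ξ η hξ hη, mul_zero]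

/-- sums over a subtype -/
theorem sum_subtype_eq_sum_ite {α : Type*} [Fintype α] (S : Set α) [DecidablePred (· ∈ S)]
    [Fintype ↥S] (f : α → ℂ) : ∑ x : ↥S, f x = ∑ x : α, if x ∈ S then f x else 0 := by
  rw [← Finset.sum_filter]
  exact (Finset.sum_subtype (Finset.univ.filter (· ∈ S)) (by simp) f).symm

end Cfsg.Agent.Lib.Helper25.MajorGlue
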