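import Mathlib

/-!
# Groups all of whose Sylow subgroups are abelian (helper25 library)

* `AGroup N`: every Sylow subgroup of `N` is abelian.
* `AGroup.center_inf_commutator`: (Taunt) a central element lying in the derived subgroup is
  trivial, by transfer.
* `AGroup.of_injective`, `AGroup.of_surjective`: subgroups and quotients.
-/

set_option autoImplicit false

namespace Cfsg.Agent.Lib.Helper25

/-- every Sylow subgroup is abelian -/
def AGroup (N : Type*) [Group N] : Prop :=
  ∀ (p : ℕ) [Fact p.Prime] (P : Sylow p N), ∀ a ∈ P, ∀ b ∈ P, a * b = b * a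

namespace AGroup

/-- Taunt's lemma: in a finite group with abelian Sylow subgroups, `Z(N) ∩ N' = 1`. -/
theorem center_inf_commutator {N : Type*} [Group N] [Finite N] (hA : AGroup N) (z : N)
    (hz : z ∈ Subgroup.center N) (hz' : z ∈ commutator N) : z = 1 := by
  classical
  by_contra hne
  have hord : orderOf z ≠ 1 := fun h => hne (orderOf_eq_one_iff.mp h)
  obtain ⟨p, hp, hpz⟩ := Nat.exists_prime_and_dvd hord
  have : Fact p.Prime := ⟨hp⟩
  obtain ⟨P⟩ : Nonempty (Sylow p N) := inferInstance
  letI : CommGroup ↥(P : Subgroup N) :=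
    { (inferInstance : Group ↥(P : Subgroup N)) with
      mul_comm := fun a b => Subtype.ext (hA p P a a.2 b b.2) }
  have key : ∀ (k : ℕ) (g₀ : N), g₀⁻¹ * z ^ k * g₀ ∈ (P : Subgroup N) →
      g₀⁻¹ * z ^ k * g₀ = z ^ k := by
    intro k g₀ _
    have hc : z ^ k ∈ Subgroup.center N := Subgroup.pow_mem _ hz k
    rw [Subgroup.mem_center_iff] at hc
    rw [mul_assoc, ← hc g₀, ← mul_assoc, inv_mul_cancel, one_mul]
  have h1 := MonoidHom.transfer_eq_pow (MonoidHom.id ↥(P : Subgroup N)) z key
  have h2 : MonoidHom.transfer (MonoidHom.id ↥(P : Subgroup N)) z = 1 := by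
    have hle : commutator N ≤ (MonoidHom.transfer (MonoidHom.id ↥(P : Subgroup N))).ker :=
      Abelianization.commutator_subset_ker _
    exact hle hz'
  rw [h2] at h1
  have h3 : z ^ (P : Subgroup N).index = 1 := by
    have := congrArg Subtype.val h1
    simpa using this.symm
  have h4 : orderOf z ∣ (P : Subgroup N).index := orderOf_dvd_of_pow_eq_one h3
  exact P.not_dvd_index (hpz.trans h4)

/-- transport along an injective homomorphism -/
theorem of_injective {N M : Type*} [Group N] [Group M] [Finite N] (hA : AGroup N) (f : M →* N)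
    (hf : Function.Injective f) : AGroup M := by
  intro p _ Q a ha b hb
  have hQ : IsPGroup p ((Q : Subgroup M).map f) := Q.2.map f
  obtain ⟨P, hP⟩ := hQ.exists_le_sylow
  apply hf
  rw [map_mul, map_mul]
  exact hA p P (f a) (hP ⟨a, ha, rfl⟩) (f b) (hP ⟨b, hb, rfl⟩)

/-- transport along a surjective homomorphism -/
theorem of_surjective {N M : Type*} [Group N] [Group M] [Finite N] (hA : AGroup N) (f : N →* M)
    (hf : Function.Surjective f) : AGroup M := by
  intro p _ Q a ha b hb
  obtain ⟨P, rfl⟩ := Sylow.mapSurjective_surjective hf p Q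
  have ha1 : a ∈ ((Sylow.mapSurjective hf P : Sylow p M) : Subgroup M) := ha
  have hb1 : b ∈ ((Sylow.mapSurjective hf P : Sylow p M) : Subgroup M) := hb
  rw [Sylow.coe_mapSurjective, Subgroup.mem_map] at ha1 hb1
  obtain ⟨a', ha', rfl⟩ := ha1
  obtain ⟨b', hb', rfl⟩ := hb1
  rw [← map_mul, ← map_mul, hA p P a' ha' b' hb']

end AGroup

end Cfsg.Agent.Lib.Helper25
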