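import Mathlib
import Cfsg.Prelude
import Cfsg.Agent.Lib.Helper24.FrobSchur
import Cfsg.Agent.Lib.Helper25.CharBasic
import Cfsg.Agent.Lib.Helper25.LinearChar

/-!
# Strongly real characters: involution count and real linear characters

* `invol_le_sum_degree`: the number of square roots of `1` is at most the sum of the degrees of the
  irreducible characters of Frobenius–Schur indicator `+1`.
* `real_linear_values`: a linear character of indicator `+1` takes values `±1`.
* `card_mul_card_le`: a set `L` of linear characters, all trivial on the subgroup `K`, has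
  `|L| · |K| ≤ |G|`.
-/

set_option autoImplicit false

namespace Cfsg.Agent.Lib.Helper25.AcdTwo

open Cfsg
open scoped ComplexConjugate

variable {G : Type*} [Group G] [Fintype G]

/-- The Frobenius–Schur indicator, as a complex number. -/
noncomputable def nu (χ : IrrCharacter G) : ℂ :=
  (Nat.card G : ℂ)⁻¹ * ∑ s : G, (χ : G → ℂ) (s * s)

theorem exists_int_nu (χ : IrrCharacter G) : ∃ ε : ℤ, |ε| ≤ 1 ∧ (ε : ℂ) = nu χ ∧
    (ε ≠ 0 → ∀ g : G, ((χ : G → ℂ) g).im = 0) :=
  Cfsg.Agent.Lib.Helper24.irr_fsIndicator χ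

theorem invol_le_sum_degree [DecidableEq G] [Fintype (IrrCharacter G)]
    (S : Finset (IrrCharacter G)) (hS : ∀ χ : IrrCharacter G, nu χ = 1 → χ ∈ S) :
    (Finset.univ.filter (fun s : G => s * s = 1)).card ≤
      ∑ χ ∈ S, charDegree (χ : G → ℂ) := by
  classical
  choose ε hε1 hε2 _ using exists_int_nu (G := G)
  have hsum := Cfsg.Agent.Lib.Helper24.sum_fs_degree (G := G)
  have hdeg : ∀ χ : IrrCharacter G, (χ : G → ℂ) 1 = (charDegree (χ : G → ℂ) : ℂ) := fun χ =>
    char_one_eq_charDegree (Cfsg.Agent.Lib.Helper25.isCharacter_of_irr χ.2)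
  have h1 : ∑ χ : IrrCharacter G, ((charDegree (χ : G → ℂ) : ℤ) * ε χ : ℤ) =
      ((Finset.univ.filter (fun s : G => s * s = 1)).card : ℤ) := by
    have : ((∑ χ : IrrCharacter G, ((charDegree (χ : G → ℂ) : ℤ) * ε χ : ℤ) : ℤ) : ℂ) =
        (((Finset.univ.filter (fun s : G => s * s = 1)).card : ℤ) : ℂ) := by
      rw [Int.cast_sum, Int.cast_natCast, ← hsum]
      apply Finset.sum_congr rfl
      intro χ _
      rw [Int.cast_mul, Int.cast_natCast, hε2 χ, hdeg χ]
      rfl
    exact_mod_cast this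
  have h2 : ∑ χ : IrrCharacter G, ((charDegree (χ : G → ℂ) : ℤ) * ε χ : ℤ) ≤
      ∑ χ ∈ S, (charDegree (χ : G → ℂ) : ℤ) := by
    rw [← Finset.sum_filter_add_sum_filter_not Finset.univ (fun χ => χ ∈ S)]
    have hA : ∑ χ ∈ Finset.univ.filter (fun χ => χ ∈ S),
        ((charDegree (χ : G → ℂ) : ℤ) * ε χ : ℤ) ≤ ∑ χ ∈ S, (charDegree (χ : G → ℂ) : ℤ) := by
      have : Finset.univ.filter (fun χ => χ ∈ S) = S := by ext; simp
      rw [this]
      apply Finset.sum_le_sum
      intro χ _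
      have := hε1 χ
      rw [abs_le] at this
      have hd : (0 : ℤ) ≤ (charDegree (χ : G → ℂ) : ℤ) := Int.natCast_nonneg _
      nlinarith
    have hB : ∑ χ ∈ Finset.univ.filter (fun χ => ¬ χ ∈ S),
        ((charDegree (χ : G → ℂ) : ℤ) * ε χ : ℤ) ≤ 0 := by
      apply Finset.sum_nonpos
      intro χ hχ
      rw [Finset.mem_filter] at hχ
      have hne : ε χ ≠ 1 := by
        intro h
        apply hχ.2
        apply hS
        rw [← hε2 χ, h, Int.cast_one]
      have := hε1 χ
      rw [abs_le] at this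
      have hd : (0 : ℤ) ≤ (charDegree (χ : G → ℂ) : ℤ) := Int.natCast_nonneg _
      have hle : ε χ ≤ 0 := by omega
      nlinarith
    linarith
  have h3 : ((Finset.univ.filter (fun s : G => s * s = 1)).card : ℤ) ≤
      ((∑ χ ∈ S, charDegree (χ : G → ℂ) : ℕ) : ℤ) := by
    rw [← h1, Nat.cast_sum]
    exact h2
  exact_mod_cast h3

/-- A linear character with indicator `+1` takes values `±1`. -/
theorem real_linear_values (χ : IrrCharacter G) (h1 : (χ : G → ℂ) 1 = 1) (hν : nu χ = 1)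
    (g : G) : (χ : G → ℂ) g = 1 ∨ (χ : G → ℂ) g = -1 := by
  obtain ⟨ε, -, hε2, hε3⟩ := exists_int_nu χ
  have hne : ε ≠ 0 := by
    intro h
    rw [h, Int.cast_zero, hν] at hε2
    exact zero_ne_one hε2
  have him := hε3 hne g
  have hnorm := Cfsg.Agent.Lib.Helper25.norm_linear_char
    (Cfsg.Agent.Lib.Helper25.isCharacter_of_irr χ.2) h1 g
  have hz : (χ : G → ℂ) g = (((χ : G → ℂ) g).re : ℂ) := by
    apply Complex.ext
    · simp
    · simp [him]
  rw [hz, Complex.norm_real, Real.norm_eq_abs] at hnorm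
  rcases abs_eq (zero_le_one' ℝ) |>.mp hnorm with h | h
  · left; rw [hz, h]; simp
  · right; rw [hz, h]; simp

/-- A set `L` of irreducible characters all taking the value `1` on the subgroup `K` has
`|L| · |K| ≤ |G|`. -/
theorem card_mul_card_le (L : Finset (IrrCharacter G)) (K : Subgroup G)
    (hK : ∀ χ ∈ L, ∀ g ∈ K, (χ : G → ℂ) g = 1) : L.card * Nat.card K ≤ Nat.card G := by
  classical
  by_cases hL : L.card = 0
  · rw [hL, zero_mul]; exact Nat.zero_le _
  have hLpos : 0 < L.card := Nat.pos_of_ne_zero hL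
  have hG0 : (Nat.card G : ℂ) ≠ 0 := by exact_mod_cast Nat.card_pos.ne'
  -- orthonormality
  have horth : ∀ χ ψ : IrrCharacter G, ∑ g : G, (χ : G → ℂ) g * conj ((ψ : G → ℂ) g) =
      if χ = ψ then (Nat.card G : ℂ) else 0 := by
    intro χ ψ
    have h := Cfsg.Agent.Lib.Helper25.irr_classInner χ.2 ψ.2
    unfold classInner at h
    have h' : ∑ g : G, (χ : G → ℂ) g * conj ((ψ : G → ℂ) g) =
        (Nat.card G : ℂ) * (if (χ : G → ℂ) = (ψ : G → ℂ) then 1 else 0) := by
      rw [← h, ← mul_assoc, mul_inv_cancel₀ hG0, one_mul]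
    rw [h']
    by_cases hχψ : χ = ψ
    · rw [if_pos hχψ, if_pos (by rw [hχψ]), mul_one]
    · rw [if_neg hχψ, if_neg (fun h => hχψ (Subtype.ext h)), mul_zero]
  have hS : ∑ g : G, (∑ χ ∈ L, (χ : G → ℂ) g) * conj (∑ χ ∈ L, (χ : G → ℂ) g) =
      (Nat.card G : ℂ) * (L.card : ℂ) := by
    simp only [map_sum, Finset.sum_mul, Finset.mul_sum]
    rw [Finset.sum_comm]
    have : ∀ ψ ∈ L, ∑ g : G, ∑ χ ∈ L, (χ : G → ℂ) g * conj ((ψ : G → ℂ) g) =
        (Nat.card G : ℂ) := by
      intro ψ hψ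
      rw [Finset.sum_comm]
      simp only [horth]
      rw [Finset.sum_ite_eq' L ψ, if_pos hψ]
    rw [Finset.sum_congr rfl this, Finset.sum_const, nsmul_eq_mul, mul_comm]
  have hS' : ∑ g : G, Complex.normSq (∑ χ ∈ L, (χ : G → ℂ) g) =
      (Nat.card G : ℝ) * (L.card : ℝ) := by
    have : ((∑ g : G, Complex.normSq (∑ χ ∈ L, (χ : G → ℂ) g) : ℝ) : ℂ) =
        (((Nat.card G : ℝ) * (L.card : ℝ) : ℝ) : ℂ) := by
      rw [Complex.ofReal_sum]
      simp only [← Complex.mul_conj]
      rw [hS]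
      push_cast
      rfl
    exact_mod_cast this
  have hlow : (Nat.card K : ℝ) * ((L.card : ℝ) * (L.card : ℝ)) ≤
      ∑ g : G, Complex.normSq (∑ χ ∈ L, (χ : G → ℂ) g) := by
    have h1 : ∑ g ∈ Finset.univ.filter (fun g : G => g ∈ K),
        Complex.normSq (∑ χ ∈ L, (χ : G → ℂ) g) ≤
        ∑ g : G, Complex.normSq (∑ χ ∈ L, (χ : G → ℂ) g) := by
      apply Finset.sum_le_sum_of_subset_of_nonneg (Finset.filter_subset _ _)
      intro g _ _
      exact Complex.normSq_nonneg _
    have h2 : ∑ g ∈ Finset.univ.filter (fun g : G => g ∈ K),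
        Complex.normSq (∑ χ ∈ L, (χ : G → ℂ) g) =
        (Nat.card K : ℝ) * ((L.card : ℝ) * (L.card : ℝ)) := by
      have h3 : ∀ g ∈ Finset.univ.filter (fun g : G => g ∈ K),
          Complex.normSq (∑ χ ∈ L, (χ : G → ℂ) g) = (L.card : ℝ) * (L.card : ℝ) := by
        intro g hg
        rw [Finset.mem_filter] at hg
        have : ∑ χ ∈ L, (χ : G → ℂ) g = (L.card : ℂ) := by
          rw [Finset.sum_congr rfl (fun χ hχ => hK χ hχ g hg.2), Finset.sum_const, nsmul_eq_mul,
            mul_one]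
        rw [this, Complex.normSq_natCast]
      rw [Finset.sum_congr rfl h3, Finset.sum_const, nsmul_eq_mul]
      congr 1
      rw [Nat.card_eq_fintype_card, Fintype.card_subtype]
    rw [← h2]
    exact h1
  rw [hS'] at hlow
  have hLr : (0 : ℝ) < (L.card : ℝ) := by exact_mod_cast hLpos
  have : (L.card : ℝ) * (Nat.card K : ℝ) ≤ (Nat.card G : ℝ) := by
    have h4 : ((L.card : ℝ) * (Nat.card K : ℝ)) * (L.card : ℝ) ≤
        (Nat.card G : ℝ) * (L.card : ℝ) := by nlinarith
    exact le_of_mul_le_mul_right h4 hLr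
  exact_mod_cast this

end Cfsg.Agent.Lib.Helper25.AcdTwo
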