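import Mathlib
import Cfsg.Prelude
import Cfsg.Agent.Lib.Helper25.AcdTwoA
import Cfsg.Agent.Lib.Helper11.FratIdxG

/-!
# `G = N ⋊ P`, `N` odd abelian unique minimal normal, `P` a `2`-group

Group-theoretic facts for the bound `acd_{2,+}(G) ≥ 4/3`.
-/

set_option autoImplicit false

namespace Cfsg.Agent.Lib.Helper25.AcdTwo

open Cfsg Cfsg.Agent.Lib.Helper11.FratIdx

variable {G : Type*} [Group G] [Finite G]

/-- (adapted from helper11's proof of S4188) `P` has sectional `2`-rank at most `kb |N|`. -/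
theorem sr_bound (N P : Subgroup G) (hN : N.Normal) (hNab : IsMulCommutative ↥N)
    (hNodd : Odd (Nat.card ↥N)) (hP : IsPGroup 2 ↥P) (hdisj : N ⊓ P = ⊥) (hprod : N ⊔ P = ⊤)
    (hmin : N ≠ ⊥ ∧ ∀ M : Subgroup G, M.Normal → M ≠ ⊥ → N ≤ M) :
    SR (kb (Nat.card N)) P := by
  haveI := hN
  letI : CommGroup N := { (inferInstance : Group N) with mul_comm := hNab.is_comm.comm }
  obtain ⟨hNne, hNmin⟩ := hmin
  set φ : P →* MulAut N := (MulAut.conjNormal (H := N)).comp P.subtype with hφ
  have hinj : Function.Injective φ := by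
    rw [injective_iff_map_eq_one]
    intro x hx
    by_contra hx1
    set C : Subgroup G := P ⊓ Subgroup.centralizer (N : Set G) with hC
    have hCcent : ∀ c ∈ C, ∀ n ∈ N, n * c = c * n := by
      intro c hc n hn
      rw [hC, Subgroup.mem_inf] at hc
      exact Subgroup.mem_centralizer_iff.mp hc.2 n hn
    haveI hcn : (Subgroup.centralizer (N : Set G)).Normal := Subgroup.normal_centralizer
    have hxC : (x : G) ∈ C := by
      rw [hC, Subgroup.mem_inf]
      refine ⟨x.2, ?_⟩
      rw [Subgroup.mem_centralizer_iff]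
      intro n hn
      have h1 : φ x ⟨n, hn⟩ = ⟨n, hn⟩ := by rw [hx]; rfl
      have h2 := congrArg Subtype.val h1
      change (x : G) * n * (x : G)⁻¹ = n at h2
      calc n * (x : G) = ((x : G) * n * (x : G)⁻¹) * (x : G) := by rw [h2]
        _ = (x : G) * n := by group
    have hCne : C ≠ ⊥ := by
      intro h
      apply hx1
      rw [h, Subgroup.mem_bot] at hxC
      exact Subtype.ext hxC
    have hCn : C.Normal := by
      have hle : N ⊔ P ≤ Subgroup.normalizer (C : Set G) := by
        apply sup_le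
        · intro n hn
          rw [Subgroup.mem_normalizer_iff]
          intro c
          have key : ∀ c ∈ C, n * c * n⁻¹ = c := by
            intro c hc
            rw [hCcent c hc n hn]; group
          constructor
          · intro hc
            rw [key c hc]; exact hc
          · intro hc
            have h1 := key _ hc
            have h2 : c = n⁻¹ * (n * c * n⁻¹) * n := by group
            have hinv : ∀ c ∈ C, n⁻¹ * c * n = c := by
              intro c hc
              have := hCcent c hc n⁻¹ (N.inv_mem hn)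
              rw [this]; group
            rw [h2, hinv _ hc]; exact hc
        · intro p hp
          rw [Subgroup.mem_normalizer_iff]
          intro c
          constructor
          · intro hc
            rw [hC, Subgroup.mem_inf] at hc ⊢
            exact ⟨P.mul_mem (P.mul_mem hp hc.1) (P.inv_mem hp), hcn.conj_mem c hc.2 p⟩
          · intro hc
            have h2 : c = p⁻¹ * (p * c * p⁻¹) * p⁻¹⁻¹ := by group
            rw [h2]
            rw [hC, Subgroup.mem_inf] at hc ⊢
            exact ⟨P.mul_mem (P.mul_mem (P.inv_mem hp) hc.1) (P.inv_mem (P.inv_mem hp)),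
              hcn.conj_mem _ hc.2 p⁻¹⟩
      rw [hprod] at hle
      exact Subgroup.normalizer_eq_top_iff.mp (top_le_iff.mp hle)
    have hNC : N ≤ C := hNmin C hCn hCne
    apply hNne
    rw [eq_bot_iff, ← hdisj]
    exact le_inf le_rfl (hNC.trans inf_le_left)
  have hn1 : 1 < Nat.card N := N.one_lt_card_iff_ne_bot.mpr hNne
  have hR2 : IsPGroup 2 φ.range :=
    IsPGroup.of_surjective hP φ.rangeRestrict φ.rangeRestrict_surjective
  have hSR := main_bound (Nat.card N) N rfl hNodd hn1 φ.range hR2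
  apply SR.of_injective φ.rangeRestrict _ hSR
  rw [MonoidHom.rangeRestrict_injective_iff]
  exact hinj

theorem two_mul_two_pow_kb_le {n : ℕ} (h3 : 3 ≤ n) (hodd : Odd n) : 2 * 2 ^ kb n ≤ n + 1 := by
  have h1 := two_pow_kb_le h3 hodd
  have h2 : 2 * gb n ≤ n + 1 := by
    unfold gb
    split_ifs with h
    · omega
    · have := Nat.div_mul_le_self (n - 1) 2
      omega
  omega

/-- `|N| · |P| = |G|`. -/
theorem card_mul_card (N P : Subgroup G) (hN : N.Normal) (hdisj : N ⊓ P = ⊥)
    (hprod : N ⊔ P = ⊤) : Nat.card N * Nat.card P = Nat.card G := by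
  haveI := hN
  have hc : N.IsComplement' P := by
    apply Subgroup.isComplement'_of_disjoint_and_mul_eq_univ
    · rw [disjoint_iff]; exact hdisj
    · rw [← Subgroup.normal_mul, hprod]; rfl
  exact hc.card_mul_card

/-- A subgroup `C` stable under conjugation by `N` and by `P` is normal when `N ⊔ P = ⊤`. -/
theorem normal_of_conj_stable (N P C : Subgroup G) (hprod : N ⊔ P = ⊤)
    (h1 : ∀ g ∈ N, ∀ c ∈ C, g * c * g⁻¹ ∈ C) (h2 : ∀ g ∈ P, ∀ c ∈ C, g * c * g⁻¹ ∈ C) :
    C.Normal := by
  have key : ∀ H : Subgroup G, (∀ g ∈ H, ∀ c ∈ C, g * c * g⁻¹ ∈ C) →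
      H ≤ Subgroup.normalizer (C : Set G) := by
    intro H hH g hg
    rw [Subgroup.mem_normalizer_iff]
    intro c
    constructor
    · exact hH g hg c
    · intro hc
      have := hH g⁻¹ (H.inv_mem hg) _ hc
      have e : g⁻¹ * (g * c * g⁻¹) * g⁻¹⁻¹ = c := by group
      rwa [e] at this
  have hle : N ⊔ P ≤ Subgroup.normalizer (C : Set G) := sup_le (key N h1) (key P h2)
  rw [hprod] at hle
  exact Subgroup.normalizer_eq_top_iff.mp (top_le_iff.mp hle)

/-- A central involution of `P` inverts `N`. -/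
theorem exists_inverting (N P : Subgroup G) (hN : N.Normal) (hNab : IsMulCommutative ↥N)
    (hP : IsPGroup 2 ↥P) (hP1 : P ≠ ⊥) (hdisj : N ⊓ P = ⊥) (hprod : N ⊔ P = ⊤)
    (hmin : N ≠ ⊥ ∧ ∀ M : Subgroup G, M.Normal → M ≠ ⊥ → N ≤ M) :
    ∃ z ∈ P, z ≠ 1 ∧ z * z = 1 ∧ ∀ n ∈ N, z * n * z⁻¹ = n⁻¹ := by
  haveI : Fact (Nat.Prime 2) := ⟨Nat.prime_two⟩
  obtain ⟨hNne, hNmin⟩ := hmin
  haveI : Nontrivial ↥P := (Subgroup.nontrivial_iff_ne_bot P).mpr hP1
  haveI := hP.center_nontrivial
  have hZ2 : IsPGroup 2 ↥(Subgroup.center ↥P) := hP.to_subgroup _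
  obtain ⟨k, hk⟩ := IsPGroup.iff_card.mp hZ2
  have hk0 : k ≠ 0 := by
    intro h
    rw [h, pow_zero] at hk
    have := Finite.one_lt_card (α := ↥(Subgroup.center ↥P))
    omega
  have hdvd : 2 ∣ Nat.card ↥(Subgroup.center ↥P) := by
    rw [hk]
    exact dvd_pow_self 2 hk0
  obtain ⟨z0, hz0⟩ := exists_prime_orderOf_dvd_card' 2 hdvd
  obtain ⟨z, hz⟩ : ∃ z : G, z = ((z0 : ↥P) : G) := ⟨_, rfl⟩
  have hzP : z ∈ P := by rw [hz]; exact (z0 : ↥P).2
  have hzz : z * z = 1 := by
    have h1 : z0 ^ 2 = 1 := by rw [← hz0]; exact pow_orderOf_eq_one z0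
    have h2 := congrArg (fun x : ↥(Subgroup.center ↥P) => ((x : ↥P) : G)) h1
    simp only [Subgroup.coe_pow, Subgroup.coe_one] at h2
    rw [hz, ← pow_two]
    exact h2
  have hz1 : z ≠ 1 := by
    intro h
    have h1 : z0 = 1 := by
      apply Subtype.ext
      apply Subtype.ext
      rw [← hz, h]
      rfl
    rw [h1, orderOf_one] at hz0
    omega
  have hzi : z⁻¹ = z := inv_eq_of_mul_eq_one_right hzz
  have hzc : ∀ p ∈ P, p * z = z * p := by
    intro p hp
    have h1 := Subgroup.mem_center_iff.mp z0.2 ⟨p, hp⟩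
    have h2 := congrArg Subtype.val h1
    simp only [Subgroup.coe_mul] at h2
    rw [hz]
    exact h2
  have hcommN : ∀ a ∈ N, ∀ b ∈ N, a * b = b * a := by
    intro a ha b hb
    have := hNab.is_comm.comm (⟨a, ha⟩ : ↥N) ⟨b, hb⟩
    exact congrArg Subtype.val this
  -- `C = C_N(z)`
  have hCn : (N ⊓ Subgroup.centralizer ({z} : Set G)).Normal := by
    apply normal_of_conj_stable N P _ hprod
    · intro g hg c hc
      rw [Subgroup.mem_inf] at hc
      have : g * c * g⁻¹ = c := by rw [hcommN g hg c hc.1, mul_inv_cancel_right]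
      rw [this]
      exact Subgroup.mem_inf.mpr hc
    · intro g hg c hc
      rw [Subgroup.mem_inf] at hc ⊢
      refine ⟨hN.conj_mem c hc.1 g, ?_⟩
      rw [Subgroup.mem_centralizer_iff]
      intro t ht
      rw [Set.mem_singleton_iff] at ht
      rw [ht]
      have h1 : z * c = c * z := (Subgroup.mem_centralizer_iff.mp hc.2) z rfl
      have h2 : g * z = z * g := hzc g hg
      have h3 : g⁻¹ * z = z * g⁻¹ := hzc g⁻¹ (P.inv_mem hg)
      calc z * (g * c * g⁻¹) = (z * g) * c * g⁻¹ := by simp only [mul_assoc]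
        _ = g * (z * c) * g⁻¹ := by rw [← h2]; simp only [mul_assoc]
        _ = g * c * (z * g⁻¹) := by rw [h1]; simp only [mul_assoc]
        _ = g * c * g⁻¹ * z := by rw [← h3]; simp only [mul_assoc]
  have hCbot : N ⊓ Subgroup.centralizer ({z} : Set G) = ⊥ := by
    by_contra hne
    have hNC := hNmin _ hCn hne
    -- `z` is central in `G`
    have hzcen : z ∈ Subgroup.center G := by
      have hle : N ⊔ P ≤ Subgroup.centralizer ({z} : Set G) := by
        apply sup_le
        · exact hNC.trans inf_le_right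
        · intro p hp
          rw [Subgroup.mem_centralizer_iff]
          intro t ht
          rw [Set.mem_singleton_iff] at ht
          rw [ht]
          exact (hzc p hp).symm
      rw [hprod] at hle
      rw [Subgroup.mem_center_iff]
      intro g
      have := hle (Subgroup.mem_top g)
      rw [Subgroup.mem_centralizer_iff] at this
      exact (this z rfl).symm
    have hZn : (Subgroup.zpowers z).Normal := by
      refine ⟨fun x hx g => ?_⟩
      have hxc : x ∈ Subgroup.center G :=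
        (Subgroup.zpowers_le.mpr hzcen) hx
      have : g * x * g⁻¹ = x := by
        rw [Subgroup.mem_center_iff.mp hxc g, mul_inv_cancel_right]
      rw [this]
      exact hx
    have hZne : Subgroup.zpowers z ≠ ⊥ := by
      intro h
      apply hz1
      have := Subgroup.mem_zpowers z
      rw [h, Subgroup.mem_bot] at this
      exact this
    have hNZ := hNmin _ hZn hZne
    apply hNne
    rw [eq_bot_iff, ← hdisj]
    exact le_inf le_rfl (hNZ.trans (Subgroup.zpowers_le.mpr hzP))
  refine ⟨z, hzP, hz1, hzz, ?_⟩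
  intro n hn
  have hconj : z * n * z⁻¹ ∈ N := hN.conj_mem n hn z
  have hw : n * (z * n * z⁻¹) ∈ N ⊓ Subgroup.centralizer ({z} : Set G) := by
    rw [Subgroup.mem_inf]
    refine ⟨N.mul_mem hn hconj, ?_⟩
    rw [Subgroup.mem_centralizer_iff]
    intro t ht
    rw [Set.mem_singleton_iff] at ht
    rw [ht, hzi]
    have hconj' : z * n * z ∈ N := by rw [hzi] at hconj; exact hconj
    calc z * (n * (z * n * z)) = (z * n * z) * n * z := by simp only [mul_assoc]
      _ = n * (z * n * z) * z := by rw [hcommN _ hconj' n hn]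
  rw [hCbot, Subgroup.mem_bot] at hw
  exact (eq_inv_of_mul_eq_one_right hw)

/-- At least `|N| + 1` square roots of `1`. -/
theorem invol_count [Fintype G] [DecidableEq G] (N : Subgroup G) {z : G} (hzN : z ∉ N)
    (hzz : z * z = 1) (hinv : ∀ n ∈ N, z * n * z⁻¹ = n⁻¹) :
    Nat.card N + 1 ≤ (Finset.univ.filter (fun s : G => s * s = 1)).card := by
  classical
  haveI : Fintype ↥N := Fintype.ofFinite _
  have hzi : z⁻¹ = z := inv_eq_of_mul_eq_one_right hzz
  have hinj : Function.Injective (fun n : ↥N => z * (n : G)) := by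
    intro a b hab
    exact Subtype.ext (mul_left_cancel hab)
  have hsub : insert (1 : G) (Finset.univ.image (fun n : ↥N => z * (n : G))) ⊆
      Finset.univ.filter (fun s : G => s * s = 1) := by
    intro s hs
    rw [Finset.mem_insert, Finset.mem_image] at hs
    rw [Finset.mem_filter]
    refine ⟨Finset.mem_univ _, ?_⟩
    rcases hs with rfl | ⟨n, -, rfl⟩
    · exact one_mul 1
    · have h1 := hinv n n.2
      rw [hzi] at h1
      calc z * (n : G) * (z * (n : G)) = (z * (n : G) * z) * (n : G) := by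
            simp only [mul_assoc]
        _ = 1 := by rw [h1, inv_mul_cancel]
  have hnot : (1 : G) ∉ Finset.univ.image (fun n : ↥N => z * (n : G)) := by
    intro h
    rw [Finset.mem_image] at h
    obtain ⟨n, -, hn⟩ := h
    apply hzN
    have : z = (n : G)⁻¹ := eq_inv_of_mul_eq_one_left hn
    rw [this]
    exact N.inv_mem n.2
  have hcard := Finset.card_le_card hsub
  rw [Finset.card_insert_of_notMem hnot, Finset.card_image_of_injective _ hinj,
    Finset.card_univ, ← Nat.card_eq_fintype_card] at hcard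
  exact hcard

/-- The number of linear characters of indicator `+1` is at most `2 ^ k`. -/
theorem card_real_linear_le [Fintype G] (N P : Subgroup G) (hN : N.Normal)
    (hNodd : Odd (Nat.card N)) (hdisj : N ⊓ P = ⊥) (hprod : N ⊔ P = ⊤) {k : ℕ} (hSR : SR k P)
    (L : Finset (IrrCharacter G)) (hL : ∀ χ ∈ L, (χ : G → ℂ) 1 = 1 ∧ nu χ = 1) :
    L.card ≤ 2 ^ k := by
  classical
  have hmul : ∀ χ ∈ L, ∀ g h : G, (χ : G → ℂ) (g * h) = (χ : G → ℂ) g * (χ : G → ℂ) h :=
    fun χ hχ g h => Cfsg.Agent.Lib.Helper25.linear_char_mul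
      (Cfsg.Agent.Lib.Helper25.isCharacter_of_irr χ.2) (hL χ hχ).1 g h
  have hcls : ∀ χ ∈ L, ∀ g h : G, (χ : G → ℂ) (h * g * h⁻¹) = (χ : G → ℂ) g :=
    fun χ _ g h => Cfsg.Agent.Lib.Helper25.isClassFunction_of_char
      (Cfsg.Agent.Lib.Helper25.isCharacter_of_irr χ.2) g h
  have hpm : ∀ χ ∈ L, ∀ g : G, (χ : G → ℂ) g = 1 ∨ (χ : G → ℂ) g = -1 :=
    fun χ hχ g => real_linear_values χ (hL χ hχ).1 (hL χ hχ).2 g
  have hsq : ∀ χ ∈ L, ∀ g : G, (χ : G → ℂ) (g * g) = 1 := by
    intro χ hχ g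
    rw [hmul χ hχ]
    rcases hpm χ hχ g with h | h <;> rw [h] <;> norm_num
  let K : Subgroup G :=
    { carrier := {g | ∀ χ ∈ L, (χ : G → ℂ) g = 1}
      mul_mem' := by
        intro a b ha hb χ hχ
        rw [hmul χ hχ, ha χ hχ, hb χ hχ, mul_one]
      one_mem' := fun χ hχ => (hL χ hχ).1
      inv_mem' := by
        intro a ha χ hχ
        have h1 := hmul χ hχ a⁻¹ a
        rw [inv_mul_cancel, (hL χ hχ).1, ha χ hχ, mul_one] at h1
        exact h1.symm }
  have hKmem : ∀ g : G, g ∈ K ↔ ∀ χ ∈ L, (χ : G → ℂ) g = 1 := fun g => Iff.rfl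
  -- `N ≤ K`
  have hNK : N ≤ K := by
    intro n hn χ hχ
    obtain ⟨lam, hlam⟩ := Cfsg.Agent.Lib.Helper25.exists_hom_of_linear
      (Cfsg.Agent.Lib.Helper25.isCharacter_of_irr χ.2) (hL χ hχ).1
    rcases hpm χ hχ n with h | h
    · exact h
    · exfalso
      have hpow : (⟨n, hn⟩ : ↥N) ^ Nat.card ↥N = 1 := pow_card_eq_one'
      have hpow' : n ^ Nat.card ↥N = 1 := by
        have h0 := congrArg Subtype.val hpow
        rw [Subgroup.coe_pow, Subgroup.coe_one] at h0
        exact h0
      have h1 : ((lam n : ℂˣ) : ℂ) ^ Nat.card ↥N = 1 := by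
        rw [← Units.val_pow_eq_pow_val, ← map_pow, hpow', map_one, Units.val_one]
      rw [← hlam, h, hNodd.neg_one_pow] at h1
      norm_num at h1
  -- the section of `P`
  have hEA : Cfsg.Agent.Lib.Helper16.SectRank.EA 2 (⊤ : Subgroup ↥P) (K.subgroupOf P) := by
    refine ⟨le_top, ?_, ?_, ?_⟩
    · intro b _ n hn
      rw [Subgroup.mem_subgroupOf] at hn ⊢
      intro χ hχ
      simp only [Subgroup.coe_mul, InvMemClass.coe_inv]
      rw [hcls χ hχ]
      exact hn χ hχ
    · intro b _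
      rw [Subgroup.mem_subgroupOf]
      intro χ hχ
      rw [pow_two, Subgroup.coe_mul]
      exact hsq χ hχ _
    · intro a _ b _
      rw [Subgroup.mem_subgroupOf]
      intro χ hχ
      simp only [Subgroup.coe_mul, InvMemClass.coe_inv]
      rw [hmul χ hχ, hcls χ hχ, ← hmul χ hχ, mul_inv_cancel]
      exact (hL χ hχ).1
  have h1 := hSR _ _ hEA
  rw [Subgroup.card_top] at h1
  -- `|N| · |K ∩ P| ≤ |K|`
  have h2 : Nat.card ↥N * Nat.card ↥(K.subgroupOf P) ≤ Nat.card ↥K := by
    rw [← Nat.card_prod]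
    let f : ↥N × ↥(K.subgroupOf P) → ↥K := fun x =>
      ⟨(x.1 : G) * ((x.2 : ↥P) : G), K.mul_mem (hNK x.1.2) (Subgroup.mem_subgroupOf.mp x.2.2)⟩
    apply Nat.card_le_card_of_injective f
    intro x y hxy
    have h3 : (x.1 : G) * ((x.2 : ↥P) : G) = (y.1 : G) * ((y.2 : ↥P) : G) :=
      congrArg Subtype.val hxy
    have h4 : (y.1 : G)⁻¹ * (x.1 : G) = ((y.2 : ↥P) : G) * ((x.2 : ↥P) : G)⁻¹ := by
      calc (y.1 : G)⁻¹ * (x.1 : G) =
            (y.1 : G)⁻¹ * ((x.1 : G) * ((x.2 : ↥P) : G)) * ((x.2 : ↥P) : G)⁻¹ := by group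
        _ = ((y.2 : ↥P) : G) * ((x.2 : ↥P) : G)⁻¹ := by rw [h3]; group
    have h5 : (y.1 : G)⁻¹ * (x.1 : G) ∈ N ⊓ P := by
      rw [Subgroup.mem_inf]
      refine ⟨N.mul_mem (N.inv_mem y.1.2) x.1.2, ?_⟩
      rw [h4]
      exact P.mul_mem (y.2 : ↥P).2 (P.inv_mem (x.2 : ↥P).2)
    rw [hdisj, Subgroup.mem_bot] at h5
    have h6 : (x.1 : G) = (y.1 : G) := (inv_mul_eq_one.mp h5).symm
    have h7 : ((x.2 : ↥P) : G) = ((y.2 : ↥P) : G) := by
      rw [h6] at h3
      exact mul_left_cancel h3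
    exact Prod.ext (Subtype.ext h6) (Subtype.ext (Subtype.ext h7))
  have h3 := card_mul_card_le L K (fun χ hχ g hg => hg χ hχ)
  have h4 := card_mul_card N P hN hdisj hprod
  have hNpos : 0 < Nat.card ↥N := Nat.card_pos
  have hKPpos : 0 < Nat.card ↥(K.subgroupOf P) := Nat.card_pos
  -- assemble
  have h5 : L.card * (Nat.card ↥N * Nat.card ↥(K.subgroupOf P)) ≤
      2 ^ k * (Nat.card ↥N * Nat.card ↥(K.subgroupOf P)) := by
    calc L.card * (Nat.card ↥N * Nat.card ↥(K.subgroupOf P)) ≤ L.card * Nat.card ↥K :=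
          Nat.mul_le_mul_left _ h2
      _ ≤ Nat.card G := h3
      _ = Nat.card ↥N * Nat.card ↥P := h4.symm
      _ ≤ Nat.card ↥N * (2 ^ k * Nat.card ↥(K.subgroupOf P)) := Nat.mul_le_mul_left _ h1
      _ = 2 ^ k * (Nat.card ↥N * Nat.card ↥(K.subgroupOf P)) := by ring
  exact Nat.le_of_mul_le_mul_right h5 (Nat.mul_pos hNpos hKPpos)

end Cfsg.Agent.Lib.Helper25.AcdTwo
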