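import Mathlib
import Cfsg.Agent.Lib.Helper25.DetGallagher

/-!
# Gluing canonical extensions over subgroups with solvable quotient (helper25 library)

Abstract form of the argument proving Gallagher's extension theorem (Isaacs 8.15) by Brauer's
characterization of characters.  Let `N ⊴ G`, `ϑ ∈ Irr(N)`, and let `Good H η` be a property of
functions `η` on subgroups `H ≥ N` such that good functions are irreducible characters extending
`ϑ`, are unique on each `H`, exist whenever `H / N` is solvable, and are stable under restriction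
to intermediate subgroups and under conjugation.  Then the good extensions glue to an irreducible
character of `G` which agrees with every good function (`GlueAxioms.exists_glued`).
-/

set_option autoImplicit false
set_option linter.unusedSectionVars false
set_option linter.style.haveILetI false

namespace Cfsg.Agent.Lib.Helper25.GlueExt

open Cfsg Cfsg.Agent.Lib.Helper2 Cfsg.Agent.Lib.Helper7 Cfsg.Agent.Lib.Helper11
  Cfsg.Agent.Lib.Helper25
open scoped ComplexConjugate

universe u

/-- The axioms for a family of canonical extensions of `ϑ ∈ Irr(N)`. -/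
structure GlueAxioms {G : Type u} [Group G] (N : Subgroup G) [N.Normal] (ϑ : N → ℂ)
    (Good : ∀ H : Subgroup G, (H → ℂ) → Prop) : Prop where
  irr : IsIrrCharacter N ϑ
  good_irr : ∀ {H : Subgroup G} {η : H → ℂ}, Good H η → IsIrrCharacter H η
  good_res : ∀ {H : Subgroup G} {η : H → ℂ}, Good H η →
    ∀ n : N.subgroupOf H, η n = subFn N H ϑ n
  unique : ∀ {H : Subgroup G}, N ≤ H → ∀ {η η' : H → ℂ}, Good H η → Good H η' → η = η'
  exists_solv : ∀ {H : Subgroup G}, N ≤ H → Group.IsSolvable (↥H ⧸ N.subgroupOf H) →
    ∃ η : H → ℂ, Good H η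
  restrict : ∀ {K H : Subgroup G}, N ≤ K → ∀ (hKH : K ≤ H) {η : H → ℂ}, Good H η →
    Good K (fun k : K => η ⟨(k : G), hKH k.2⟩)
  conjg : ∀ (x : G) {H H' : Subgroup G} (e : H ≃* H'), N ≤ H' →
    (∀ h : H, ((e h : H') : G) = x * h * x⁻¹) → ∀ {η' : H' → ℂ}, Good H' η' → Good H (η' ∘ e)

section Glue

variable {G : Type u} [Group G] [Finite G] (N : Subgroup G) [hN : N.Normal] (ϑ : N → ℂ)
  (Good : ∀ H : Subgroup G, (H → ℂ) → Prop)

/-- A chosen good function on `H` (zero if there is none). -/
noncomputable def gCanon (H : Subgroup G) : H → ℂ :=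
  haveI := Classical.propDecidable (∃ η : H → ℂ, Good H η)
  if h : ∃ η : H → ℂ, Good H η then Classical.choose h else 0

variable {Good}

theorem gCanon_spec {H : Subgroup G} (h : ∃ η : H → ℂ, Good H η) :
    Good H (gCanon Good H) := by
  unfold gCanon
  simp only [dif_pos h]
  exact Classical.choose_spec h

variable (Good)

/-- The glued function `g ↦ (canonical extension to N⟨g⟩)(g)`. -/
noncomputable def glued (g : G) : ℂ :=
  gCanon Good (cycSub N g) ⟨g, self_mem_cycSub N g⟩

variable {N ϑ Good}

theorem GlueAxioms.exists_cyc (A : GlueAxioms N ϑ Good) (g : G) :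
    ∃ η : cycSub N g → ℂ, Good (cycSub N g) η :=
  A.exists_solv (le_cycSub N g) (cycSub_solvable N g)

/-- The glued function agrees with every good function. -/
theorem glued_eq (A : GlueAxioms N ϑ Good) {H : Subgroup G} (hNH : N ≤ H) {η : H → ℂ}
    (hη : Good H η) {g : G} (hg : g ∈ H) : glued N Good g = η ⟨g, hg⟩ := by
  have hle := cycSub_le N hNH hg
  have h1 := A.restrict (le_cycSub N g) hle hη
  have h2 : Good (cycSub N g) (gCanon Good (cycSub N g)) := gCanon_spec ⟨_, h1⟩
  have h3 := A.unique (le_cycSub N g) h2 h1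
  unfold glued
  rw [h3]

theorem glued_restrict (A : GlueAxioms N ϑ Good) (n : N) : glued N Good n = ϑ n := by
  have h := gCanon_spec (A.exists_cyc (n : G))
  have h1 := A.good_res h ⟨⟨(n : G), self_mem_cycSub N (n : G)⟩, Subgroup.mem_subgroupOf.mpr n.2⟩
  unfold glued
  rw [h1]
  rfl

theorem glued_conj (A : GlueAxioms N ϑ Good) (x g : G) :
    glued N Good (x * g * x⁻¹) = glued N Good g := by
  have h' := gCanon_spec (A.exists_cyc (x * g * x⁻¹))
  have h1 := A.conjg x (cycSubConj N x g) (le_cycSub N (x * g * x⁻¹)) (cycSubConj_apply N x g) h'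
  rw [glued_eq A (le_cycSub N g) h1 (self_mem_cycSub N g)]
  rfl

theorem glued_isClassFunction (A : GlueAxioms N ϑ Good) :
    IsClassFunction G (glued N Good) := fun g h => glued_conj A h g

theorem glued_elementary (A : GlueAxioms N ϑ Good) (q : ℕ) (hq : q.Prime) (E : Subgroup G)
    (hE : IsElementary q E) : IsCharacter E (fun e : E => glued N Good e) := by
  have hNH : N ≤ N ⊔ E := le_sup_left
  have hEH : E ≤ N ⊔ E := le_sup_right
  obtain ⟨η, hη⟩ := A.exists_solv hNH (isSolvable_sup_elementary q hq E hE)
  have h1 : (fun e : E => glued N Good e) = fun e : E => η (Subgroup.inclusion hEH e) := by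
    funext e
    exact glued_eq A hNH hη (hEH e.2)
  rw [h1]
  exact isCharacter_comp_hom (Subgroup.inclusion hEH) (isCharacter_of_irr (A.good_irr hη))

end Glue

section Norm

variable {G : Type u} [Group G] [Fintype G] {N : Subgroup G} [hN : N.Normal] {ϑ : N → ℂ}
  {Good : ∀ H : Subgroup G, (H → ℂ) → Prop}

theorem glued_norm (A : GlueAxioms N ϑ Good) :
    classInner (glued N Good) (glued N Good) = 1 := by
  classical
  haveI : Fintype N := Fintype.ofFinite N
  haveI : Fintype (G ⧸ N) := Fintype.ofFinite _
  rw [classInner_def, sum_eq_sum_cosets N]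
  have hq : ∀ q : G ⧸ N, ∑ n : N, glued N Good (q.out * n) * conj (glued N Good (q.out * n))
      = (Nat.card N : ℂ) := by
    intro q
    set g₀ := q.out with hg₀
    set K := cycSub N g₀ with hK
    have hNK : N ≤ K := le_cycSub N g₀
    have hgood := gCanon_spec (A.exists_cyc g₀)
    set η := gCanon Good K with hη
    haveI : Fintype (N.subgroupOf K) := Fintype.ofFinite _
    have hab : ∀ x y : K, x * y * x⁻¹ * y⁻¹ ∈ N.subgroupOf K := by
      intro x y
      rw [Subgroup.mem_subgroupOf]
      exact cycSub_comm_mem N g₀ x.2 y.2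
    have hηN : IsIrrCharacter (N.subgroupOf K) (fun n : N.subgroupOf K => η n) := by
      have : (fun n : N.subgroupOf K => η n) = subFn N K ϑ := funext (A.good_res hgood)
      rw [this]
      exact isIrrCharacter_subFn hNK A.irr
    have hsum := sum_coset_normSq (N.subgroupOf K) hab (A.good_irr hgood) hηN
      ⟨g₀, self_mem_cycSub N g₀⟩
    have hcard : Nat.card (N.subgroupOf K) = Nat.card N :=
      Nat.card_congr (Subgroup.subgroupOfEquivOfLe hNK).toEquiv
    rw [hcard] at hsum
    rw [← hsum]
    symm
    apply Fintype.sum_equiv (Subgroup.subgroupOfEquivOfLe hNK).toEquiv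
    intro n
    have h1 : glued N Good (g₀ * ((Subgroup.subgroupOfEquivOfLe hNK) n : N))
        = η (⟨g₀, self_mem_cycSub N g₀⟩ * (n : K)) :=
      glued_eq A hNK hgood (K.mul_mem (self_mem_cycSub N g₀) (n : K).2)
    show η (⟨g₀, self_mem_cycSub N g₀⟩ * (n : K)) * conj (η (⟨g₀, self_mem_cycSub N g₀⟩ * (n : K)))
      = glued N Good (g₀ * ((Subgroup.subgroupOfEquivOfLe hNK) n : N))
        * conj (glued N Good (g₀ * ((Subgroup.subgroupOfEquivOfLe hNK) n : N)))
    rw [h1]
  rw [Finset.sum_congr rfl (fun q _ => hq q), Finset.sum_const, Finset.card_univ, nsmul_eq_mul]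
  have h2 : Fintype.card (G ⧸ N) * Nat.card N = Nat.card G := by
    rw [← Nat.card_eq_fintype_card]
    have := Subgroup.card_eq_card_quotient_mul_card_subgroup N
    rw [this]
  have hGne : (Nat.card G : ℂ) ≠ 0 := by
    have : 0 < Nat.card G := Nat.card_pos
    exact_mod_cast this.ne'
  have h3 : ((Fintype.card (G ⧸ N) : ℕ) : ℂ) * (Nat.card N : ℂ) = (Nat.card G : ℂ) := by
    exact_mod_cast h2
  rw [h3]
  exact inv_mul_cancel₀ hGne

end Norm

section Main

variable {G : Type u} [Group G] [Finite G] {N : Subgroup G} [hN : N.Normal] {ϑ : N → ℂ}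
  {Good : ∀ H : Subgroup G, (H → ℂ) → Prop}

/-- The good extensions glue to an irreducible character of `G` extending `ϑ` and agreeing with
every good function. -/
theorem GlueAxioms.exists_glued (A : GlueAxioms N ϑ Good) :
    ∃ χ : G → ℂ, IsIrrCharacter G χ ∧ (∀ n : N, χ n = ϑ n) ∧
      ∀ {H : Subgroup G}, N ≤ H → ∀ {η : H → ℂ}, Good H η → ∀ h : H, χ h = η h := by
  classical
  haveI : Fintype G := Fintype.ofFinite G
  have hcf := glued_isClassFunction A
  have hgc : IsGeneralizedCharacter G (glued N Good) := by
    apply isGeneralizedCharacter_of_elementary hcf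
    intro q hq E hE
    exact gc_of_char (glued_elementary A q hq E hE)
  have hsigned := IsGeneralizedCharacter.isSignedIrr_of_norm_one hgc (glued_norm A)
  obtain ⟨d, hd⟩ := char_one_eq (isCharacter_of_irr A.irr)
  have hd0 : (d : ℂ) ≠ 0 := by
    rw [← hd]; exact irr_one_ne_zero A.irr
  have h1 : glued N Good 1 = d := by
    have := glued_restrict A 1
    simp only [OneMemClass.coe_one] at this
    rw [this, hd]
  have hagree : ∀ {H : Subgroup G}, N ≤ H → ∀ {η : H → ℂ}, Good H η →
      ∀ h : H, glued N Good h = η h := fun hNH _ hη h => glued_eq A hNH hη h.2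
  rcases hsigned with h | h
  · exact ⟨glued N Good, h, glued_restrict A, hagree⟩
  · exfalso
    have h2 := char_one_eq_charDegree (isCharacter_of_irr h)
    rw [Pi.neg_apply, h1] at h2
    have h3 : ((d + charDegree (-glued N Good) : ℕ) : ℂ) = 0 := by
      push_cast
      linear_combination -h2
    have h4 : d + charDegree (-glued N Good) = 0 := by exact_mod_cast h3
    have h5 : d = 0 := by omega
    apply hd0
    rw [h5]; simp

end Main

end Cfsg.Agent.Lib.Helper25.GlueExt
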