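import Mathlib
import Cfsg.Prelude.Def_Blocks
import Cfsg.Agent.Lib.Helper25.AlperinDade1
import Cfsg.Agent.Lib.Helper25.GlueExt
import Cfsg.Agent.Lib.Helper7.ResidueRoots

/-!
# Alperin–Dade, part 2 (helper25 library)

`N ⊴ G`, `S ≤ N` with `p ∤ |G : S|`, `G = N C_G(S)`.  The canonical extensions of
`θ ∈ Irr(B₀(N))` to the subgroups `H ≥ N` are those `η ∈ Irr(H)` extending `θ` with
`η x / η 1 ≡ 1` for all `x ∈ H ∩ C_G(S)`.  They satisfy the gluing axioms of `GlueExt`, and the
glued character is the unique member of the principal block of `G` over `θ`.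
-/

set_option autoImplicit false
set_option linter.unusedSectionVars false
set_option linter.style.haveILetI false

namespace Cfsg.Agent.Lib.Helper25.AlperinDade

open Cfsg Cfsg.Agent.Lib.Helper2 Cfsg.Agent.Lib.Helper7 Cfsg.Agent.Lib.Helper11
  Cfsg.Agent.Lib.Helper24 Cfsg.Agent.Lib.Helper25 Cfsg.Agent.Lib.Helper25.GlueExt
open scoped ComplexConjugate

universe u

section Good

variable {G : Type u} [Group G] [Finite G] (p : ℕ) (M : Ideal Cfsg.AlgInt)
  (N : Subgroup G) [hN : N.Normal] (S : Subgroup G) (θ : N → ℂ)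

/-- the standing hypotheses -/
structure ADHyp : Prop where
  modular : IsPModular p M
  le : S ≤ N
  idx : ¬ p ∣ S.index
  fac : ∀ x : G, ∃ y ∈ N, ∃ c ∈ Subgroup.centralizer (S : Set G), x = y * c

/-- canonical extensions -/
def ADGood (H : Subgroup G) (η : H → ℂ) : Prop :=
  IsIrrCharacter H η ∧ (∀ n : N.subgroupOf H, η n = subFn N H θ n) ∧
    ∀ x : H, (x : G) ∈ Subgroup.centralizer (S : Set G) → MemLocalIdeal M (η x / η 1 - 1)

variable {p M N S θ}

theorem ADHyp.not_dvd_index (D : ADHyp p M N S) : ¬ p ∣ N.index :=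
  fun h => D.idx (h.trans (Subgroup.index_dvd_of_le D.le))

/-- a linear character trivial on `N` and congruent to `1` on the centraliser is trivial -/
theorem hom_eq_one_of_cong (D : ADHyp p M N S) {H : Subgroup G} (hNH : N ≤ H) (β : H →* ℂˣ)
    (hβN : ∀ n : N.subgroupOf H, β n = 1)
    (hβ : ∀ x : H, (x : G) ∈ Subgroup.centralizer (S : Set G) →
      MemLocalIdeal M (((β x : ℂˣ) : ℂ) - 1)) : β = 1 := by
  have hM := D.modular
  have key : ∀ x : H, (x : G) ∈ Subgroup.centralizer (S : Set G) → β x = 1 := by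
    intro x hx
    set m := (N.subgroupOf H).index with hm
    have hpm : ¬ p ∣ m := fun h => D.not_dvd_index (h.trans (index_subgroupOf_dvd hNH))
    have hxm : x ^ m ∈ N.subgroupOf H := Subgroup.pow_index_mem _ x
    have hbm : ((β x : ℂˣ) : ℂ) ^ m = 1 := by
      have h1 := hβN ⟨x ^ m, hxm⟩
      simp only at h1
      rw [map_pow] at h1
      have h2 := congrArg (fun u : ℂˣ => (u : ℂ)) h1
      simpa using h2
    have hm0 : 0 < m := Nat.pos_of_ne_zero Subgroup.index_ne_zero_of_finite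
    have hint : IsIntegral ℤ ((β x : ℂˣ) : ℂ) :=
      ⟨Polynomial.X ^ m - 1, Polynomial.monic_X_pow_sub_C 1 hm0.ne', by simp [hbm]⟩
    let ε : Cfsg.AlgInt := ⟨((β x : ℂˣ) : ℂ), hint⟩
    have h1 : ∃ m : ℕ, ¬ p ∣ m ∧ ((ε : Cfsg.AlgInt) : ℂ) ^ m = 1 := ⟨m, hpm, hbm⟩
    have h2 : ∃ m : ℕ, ¬ p ∣ m ∧ (((1 : Cfsg.AlgInt) : Cfsg.AlgInt) : ℂ) ^ m = 1 :=
      ⟨1, hM.1.one_lt.ne' ∘ Nat.dvd_one.mp, by simp⟩
    have h3 : ε - 1 ∈ M := by
      rw [← memLocalIdeal_algInt_iff hM]
      have : ((ε - 1 : Cfsg.AlgInt) : ℂ) = ((β x : ℂˣ) : ℂ) - 1 := by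
        push_cast
        rfl
      rw [this]
      exact hβ x hx
    have h4 := eq_of_root_sub_mem hM ε 1 h1 h2 h3
    have h5 : ((β x : ℂˣ) : ℂ) = 1 := by
      have := congrArg (fun a : Cfsg.AlgInt => (a : ℂ)) h4
      simpa [ε] using this
    exact Units.ext h5
  apply MonoidHom.ext
  intro x
  obtain ⟨y, hy, c, hc, hxyc⟩ := D.fac (x : G)
  have hyH : y ∈ H := hNH hy
  have hcH : c ∈ H := by
    have : c = y⁻¹ * (x : G) := by rw [hxyc]; group
    rw [this]
    exact H.mul_mem (H.inv_mem hyH) x.2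
  have hx : x = ⟨y, hyH⟩ * ⟨c, hcH⟩ := Subtype.ext hxyc
  rw [hx, map_mul, key ⟨c, hcH⟩ hc]
  have := hβN ⟨⟨y, hyH⟩, Subgroup.mem_subgroupOf.mpr hy⟩
  simp only at this
  rw [this]
  simp

theorem adGood_unique (D : ADHyp p M N S) (hθ : IsIrrCharacter N θ) {H : Subgroup G}
    (hNH : N ≤ H) {η η' : H → ℂ} (h : ADGood M N S θ H η) (h' : ADGood M N S θ H η') :
    η = η' := by
  have hM := D.modular
  have hθ' : IsIrrCharacter (N.subgroupOf H) (subFn N H θ) := isIrrCharacter_subFn hNH hθ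
  obtain ⟨β, hβN, hβ⟩ := exists_hom_of_two_extensions (N.subgroupOf H) hθ' h.1 h'.1 h.2.1 h'.2.1
  have hβ1 : β = 1 := by
    apply hom_eq_one_of_cong D hNH β hβN
    intro x hx
    have e1 := h.2.2 x hx
    have e2 := h'.2.2 x hx
    have hη1 : η 1 ≠ 0 := irr_one_ne_zero h.1
    set b : ℂ := ((β x : ℂˣ) : ℂ) with hb
    have e3 : η' x / η' 1 - 1 = b * (η x / η 1) - 1 := by
      rw [hβ]
      simp only [Pi.mul_apply, coeFunHom_apply, map_one, Units.val_one, one_mul]
      rw [hb]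
      ring
    rw [e3] at e2
    -- b is integral
    have hbR : MemLocalRing M b := by
      set m := (N.subgroupOf H).index with hm
      have hxm : x ^ m ∈ N.subgroupOf H := Subgroup.pow_index_mem _ x
      have hbm : b ^ m = 1 := by
        have h1 := hβN ⟨x ^ m, hxm⟩
        simp only at h1
        rw [map_pow] at h1
        have h2 := congrArg (fun u : ℂˣ => (u : ℂ)) h1
        simpa using h2
      have hm0 : 0 < m := Nat.pos_of_ne_zero Subgroup.index_ne_zero_of_finite
      exact memLocalRing_of_isIntegral hM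
        ⟨Polynomial.X ^ m - 1, Polynomial.monic_X_pow_sub_C 1 hm0.ne', by simp [hbm]⟩
    have e4 : b - 1 = (b * (η x / η 1) - 1) - b * (η x / η 1 - 1) := by ring
    rw [e4]
    exact memLocalIdeal_sub hM e2 (memLocalIdeal_mul_left hM hbR e1)
  rw [hβ, hβ1, map_one, one_mul]

end Good

section Axioms

variable {G : Type u} [Group G] [Finite G] {p : ℕ} {M : Ideal Cfsg.AlgInt}
  {N : Subgroup G} [hN : N.Normal] {S : Subgroup G}

theorem adGood_exists (D : ADHyp p M N S) (θ : IrrCharacter N) (hθ : θ ∈ principalBlock M N)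
    {H : Subgroup G} (hNH : N ≤ H) (hsolv : Group.IsSolvable (↥H ⧸ N.subgroupOf H)) :
    ∃ η : H → ℂ, ADGood M N S (θ : N → ℂ) H η := by
  have hM := D.modular
  obtain ⟨hS1, hS2, hS3⟩ := hyp_subgroupOf (p := p) hNH D.le D.idx D.fac
  obtain ⟨χ, hχB, hχN⟩ := extend_solvable hM (N.subgroupOf H).index ↥H (N.subgroupOf H) rfl hsolv
    (S.subgroupOf H) hS1 hS2 hS3 _ (subFn_mem_principalBlock hNH θ hθ)
  refine ⟨(χ : H → ℂ), χ.2, hχN, ?_⟩
  intro x hx
  apply principal_cong hM χ hχB (S.subgroupOf H) hS2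
  rw [Subgroup.mem_centralizer_iff]
  intro s hs
  apply Subtype.ext
  exact (Subgroup.mem_centralizer_iff.mp hx) (s : G) (Subgroup.mem_subgroupOf.mp hs)

theorem adGood_restrict {θ : N → ℂ} (hθ : IsIrrCharacter N θ) {K H : Subgroup G} (hNK : N ≤ K)
    (hKH : K ≤ H) {η : H → ℂ} (h : ADGood M N S θ H η) :
    ADGood M N S θ K (fun k : K => η ⟨(k : G), hKH k.2⟩) := by
  have hηc := isCharacter_of_irr h.1
  have hresc : IsCharacter K (fun k : K => η ⟨(k : G), hKH k.2⟩) :=
    isCharacter_comp_hom (Subgroup.inclusion hKH) hηc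
  have hN' : ∀ n : N.subgroupOf K, (fun k : K => η ⟨(k : G), hKH k.2⟩) n = subFn N K θ n := by
    intro n
    have h1 := h.2.1 ⟨⟨((n : K) : G), hKH (n : K).2⟩,
      Subgroup.mem_subgroupOf.mpr (Subgroup.mem_subgroupOf.mp n.2)⟩
    exact h1
  refine ⟨?_, hN', ?_⟩
  · apply isIrrCharacter_of_comp_irr (N.subgroupOf K).subtype hresc
    have h2 : (fun x : N.subgroupOf K => (fun k : K => η ⟨(k : G), hKH k.2⟩)
        ((N.subgroupOf K).subtype x)) = subFn N K θ := funext hN'
    rw [h2]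
    exact isIrrCharacter_subFn hNK hθ
  · intro x hx
    exact h.2.2 ⟨(x : G), hKH x.2⟩ hx

/-- `θ` is `G`-invariant -/
theorem invariant_of_principal (D : ADHyp p M N S) (θ : IrrCharacter N)
    (hθ : θ ∈ principalBlock M N) (g : G) (n : N) :
    (θ : N → ℂ) ⟨g * n * g⁻¹, hN.conj_mem (n : G) n.2 g⟩ = (θ : N → ℂ) n := by
  obtain ⟨η, hη⟩ := adGood_exists D θ hθ (le_cycSub N g) (cycSub_solvable N g)
  set K := cycSub N g with hK
  have hgK : g ∈ K := self_mem_cycSub N g
  have hnK : (n : G) ∈ K := le_cycSub N g n.2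
  have hcK : g * n * g⁻¹ ∈ K := le_cycSub N g (hN.conj_mem (n : G) n.2 g)
  have h1 := hη.2.1 ⟨⟨g * n * g⁻¹, hcK⟩, Subgroup.mem_subgroupOf.mpr (hN.conj_mem (n : G) n.2 g)⟩
  have h2 := hη.2.1 ⟨⟨(n : G), hnK⟩, Subgroup.mem_subgroupOf.mpr n.2⟩
  simp only [subFn_apply] at h1 h2
  have hcf := isClassFunction_of_char (isCharacter_of_irr hη.1)
  have h3 := hcf ⟨(n : G), hnK⟩ ⟨g, hgK⟩
  have h4 : (⟨g, hgK⟩ * ⟨(n : G), hnK⟩ * (⟨g, hgK⟩ : K)⁻¹ : K) = ⟨g * n * g⁻¹, hcK⟩ := rfl
  rw [h4] at h3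
  rw [← h1, h3, h2]

theorem adGood_conj (D : ADHyp p M N S) {θ : N → ℂ}
    (hinv : ∀ (g : G) (n : N), θ ⟨g * n * g⁻¹, hN.conj_mem (n : G) n.2 g⟩ = θ n)
    (x : G) {H H' : Subgroup G} (e : H ≃* H') (hNH' : N ≤ H')
    (he : ∀ h : H, ((e h : H') : G) = x * h * x⁻¹)
    {η' : H' → ℂ} (h : ADGood M N S θ H' η') : ADGood M N S θ H (η' ∘ e) := by
  refine ⟨isIrrCharacter_comp_equiv e h.1, ?_, ?_⟩
  · intro n
    have hmem : e (n : H) ∈ N.subgroupOf H' := by
      rw [Subgroup.mem_subgroupOf, he]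
      exact hN.conj_mem _ (Subgroup.mem_subgroupOf.mp n.2) x
    have h1 := h.2.1 ⟨e (n : H), hmem⟩
    show η' (e (n : H)) = _
    rw [h1, subFn_apply, subFn_apply]
    have h2 := hinv x ⟨((n : H) : G), Subgroup.mem_subgroupOf.mp n.2⟩
    rw [← h2]
    congr 1
    apply Subtype.ext
    exact he (n : H)
  · intro h₀ hh₀
    show MemLocalIdeal M (η' (e h₀) / η' (e 1) - 1)
    rw [map_one]
    obtain ⟨y, hy, c, hc, hxyc⟩ := D.fac x
    have hyH' : y ∈ H' := hNH' hy
    -- the element `c h₀ c⁻¹`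
    have hcc : c * (h₀ : G) * c⁻¹ ∈ Subgroup.centralizer (S : Set G) :=
      Subgroup.mul_mem _ (Subgroup.mul_mem _ hc hh₀) (Subgroup.inv_mem _ hc)
    have heq : c * (h₀ : G) * c⁻¹ = y⁻¹ * ((e h₀ : H') : G) * y := by
      rw [he, hxyc]; group
    have hmemH' : c * (h₀ : G) * c⁻¹ ∈ H' := by
      rw [heq]
      exact H'.mul_mem (H'.mul_mem (H'.inv_mem hyH') (e h₀).2) hyH'
    have hcf := isClassFunction_of_char (isCharacter_of_irr h.1)
    have h3 := hcf ⟨c * (h₀ : G) * c⁻¹, hmemH'⟩ ⟨y, hyH'⟩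
    have h4 : (⟨y, hyH'⟩ * ⟨c * (h₀ : G) * c⁻¹, hmemH'⟩ * (⟨y, hyH'⟩ : H')⁻¹ : H') = e h₀ := by
      apply Subtype.ext
      show y * (c * (h₀ : G) * c⁻¹) * y⁻¹ = ((e h₀ : H') : G)
      rw [heq]; group
    rw [h4] at h3
    rw [h3]
    exact h.2.2 ⟨c * (h₀ : G) * c⁻¹, hmemH'⟩ hcc

theorem glueAxioms (D : ADHyp p M N S) (θ : IrrCharacter N) (hθ : θ ∈ principalBlock M N) :
    GlueAxioms N (θ : N → ℂ) (ADGood M N S (θ : N → ℂ)) where
  irr := θ.2
  good_irr := fun h => h.1
  good_res := fun h => h.2.1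
  unique := fun hNH _ _ h h' => adGood_unique D θ.2 hNH h h'
  exists_solv := fun hNH hsolv => adGood_exists D θ hθ hNH hsolv
  restrict := fun hNK hKH _ h => adGood_restrict θ.2 hNK hKH h
  conjg := fun x _ _ e hNH' he _ h =>
    adGood_conj D (invariant_of_principal D θ hθ) x e hNH' he h

end Axioms

section Main

variable {G : Type u} [Group G] [Fintype G] {p : ℕ} {M : Ideal Cfsg.AlgInt}
  {N : Subgroup G} [hN : N.Normal] [Fintype N] {S : Subgroup G}

/-- an irreducible character of `G` with `N` in its kernel which is congruent to its degree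
everywhere is trivial, when `p ∤ |G : N|` -/
theorem eq_one_of_cong (hM : IsPModular p M) (hidx : ¬ p ∣ N.index) {β : G → ℂ}
    (hβ : IsIrrCharacter G β) (hβN : ∀ n ∈ N, β n = β 1)
    (hcong : ∀ g : G, MemLocalIdeal M (β g / β 1 - 1)) : β = fun _ => 1 := by
  classical
  obtain ⟨ψ, hψ, hψβ⟩ := exists_deflation N hβ hβN
  haveI : Fintype (G ⧸ N) := Fintype.ofFinite _
  have hψ1 : ψ 1 = β 1 := (hψβ 1).symm
  have hψone : ψ = fun _ => 1 := by
    by_contra hne1
    have h0 := irr_classInner hψ (isIrrCharacter_one (G := G ⧸ N))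
    rw [if_neg hne1, classInner_def] at h0
    have hsum : ∑ q : G ⧸ N, ψ q = 0 := by
      have hcard : (Nat.card (G ⧸ N) : ℂ)⁻¹ ≠ 0 := by
        have : 0 < Nat.card (G ⧸ N) := Nat.card_pos
        exact inv_ne_zero (by exact_mod_cast this.ne')
      have := (mul_eq_zero.mp h0).resolve_left hcard
      simpa using this
    have hall : ∀ q : G ⧸ N, MemLocalIdeal M (ψ q / ψ 1 - 1) := by
      intro q
      obtain ⟨g, rfl⟩ := QuotientGroup.mk_surjective q
      rw [← hψβ g, hψ1]
      exact hcong g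
    have hs := memLocalIdeal_sum hM Finset.univ (fun q : G ⧸ N => ψ q / ψ 1 - 1)
      (fun q _ => hall q)
    have hcardQ : Fintype.card (G ⧸ N) = N.index := by
      rw [Subgroup.index_eq_card, Nat.card_eq_fintype_card]
    have hval : ∑ q : G ⧸ N, (ψ q / ψ 1 - 1) = -((N.index : ℕ) : ℂ) := by
      rw [Finset.sum_sub_distrib, ← Finset.sum_div, hsum, zero_div, zero_sub, Finset.sum_const,
        Finset.card_univ, nsmul_eq_mul, mul_one, hcardQ]
    rw [hval] at hs
    have hs' := memLocalIdeal_neg hs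
    rw [neg_neg] at hs'
    exact hidx ((memLocalIdeal_natCast_iff hM _).mp hs')
  funext g
  rw [hψβ g, hψone]

/-- **Alperin–Dade**: for `θ` in the principal block of `N` there is an extension `χ` of `θ` in the
principal block of `G`, and it is the only member of the principal block of `G` lying over `θ`. -/
theorem exists_unique_over (D : ADHyp p M N S) (θ : IrrCharacter N)
    (hθ : θ ∈ principalBlock M N) :
    ∃ χ : IrrCharacter G, χ ∈ principalBlock M G ∧
      (∀ n : N, (χ : G → ℂ) n = (θ : N → ℂ) n) ∧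
      ∀ χ' : IrrCharacter G, χ' ∈ principalBlock M G →
        classInner (fun n : N => (χ' : G → ℂ) n) (θ : N → ℂ) ≠ 0 → χ' = χ := by
  classical
  have hM := D.modular
  have A := glueAxioms D θ hθ
  obtain ⟨χt, hirr, hres, hagree⟩ := A.exists_glued
  have hχt1 : χt 1 ≠ 0 := irr_one_ne_zero hirr
  -- congruence for the glued character
  have hcong : ∀ x ∈ Subgroup.centralizer (S : Set G), MemLocalIdeal M (χt x / χt 1 - 1) := by
    intro x hx
    obtain ⟨η, hη⟩ := A.exists_cyc x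
    have h1 : χt x = η ⟨x, self_mem_cycSub N x⟩ :=
      hagree (le_cycSub N x) hη ⟨x, self_mem_cycSub N x⟩
    have h2 : χt 1 = η 1 := hagree (le_cycSub N x) hη 1
    rw [h1, h2]
    exact hη.2.2 ⟨x, self_mem_cycSub N x⟩ hx
  -- uniqueness
  have huniq : ∀ χ' : IrrCharacter G, χ' ∈ principalBlock M G →
      classInner (fun n : N => (χ' : G → ℂ) n) (θ : N → ℂ) ≠ 0 → (χ' : G → ℂ) = χt := by
    intro χ' hχ'B hχ'θ
    have h1N : IsIrrCharacter N (fun _ : N => (1 : ℂ)) := isIrrCharacter_one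
    have hinv1 : ∀ g : G, conjFn N g (fun _ : N => (1 : ℂ)) = fun _ : N => (1 : ℂ) :=
      fun g => rfl
    have hχtc : IsCharacter G χt := isCharacter_of_irr hirr
    have hprodeq : ((fun _ : N => (1 : ℂ)) * fun n : N => χt n) = (θ : N → ℂ) := by
      funext n
      rw [Pi.mul_apply, one_mul, hres]
    have hprod : IsIrrCharacter N ((fun _ : N => (1 : ℂ)) * fun n : N => χt n) := by
      rw [hprodeq]; exact θ.2
    obtain ⟨_, _, h3⟩ := gallagher_rigidity N h1N hinv1 hχtc hprod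
    have hχ'cf : IsClassFunction G (χ' : G → ℂ) :=
      isClassFunction_of_char (isCharacter_of_irr χ'.2)
    have hne : classInner (indFun N ((fun _ : N => (1 : ℂ)) * fun n : N => χt n))
        (χ' : G → ℂ) ≠ 0 := by
      rw [hprodeq, frobenius_reciprocity N _ _ hχ'cf, ← classInner_conj_symm]
      exact fun h => hχ'θ ((map_eq_zero _).1 h)
    obtain ⟨β, hβ, hβne, hβχ⟩ := h3 (χ' : G → ℂ) χ'.2 hne
    have hβN := const_on_of_over_one N hβ hβne
    have hβc := isCharacter_of_irr hβ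
    have hβ1 : β 1 ≠ 0 := irr_one_ne_zero hβ
    have hβcong : ∀ g : G, MemLocalIdeal M (β g / β 1 - 1) := by
      have hC : ∀ c ∈ Subgroup.centralizer (S : Set G), MemLocalIdeal M (β c / β 1 - 1) := by
        intro c hc
        have e1 := principal_cong hM χ' hχ'B S D.idx hc
        have e2 := hcong c hc
        rw [← hβχ] at e1
        simp only [Pi.mul_apply] at e1
        set a := β c / β 1 with ha
        set u := χt c / χt 1 with hu
        have e1' : β c * χt c / (β 1 * χt 1) - 1 = a * u - 1 := by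
          rw [ha, hu]
          field_simp
        rw [e1'] at e1
        have huR : MemLocalRing M u := by
          have : u = (u - 1) + 1 := by ring
          rw [this]
          exact memLocalRing_add hM (memLocalRing_of_memLocalIdeal e2) (memLocalRing_one hM)
        have huI : ¬ MemLocalIdeal M u := by
          intro h
          apply not_memLocalIdeal_one hM
          have : (1 : ℂ) = u - (u - 1) := by ring
          rw [this]
          exact memLocalIdeal_sub hM h e2
        have hu0 : u ≠ 0 := by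
          intro h0
          apply huI
          rw [h0]
          exact memLocalIdeal_zero hM
        have huinv := memLocalRing_inv hM huR huI
        have e3 : a - 1 = u⁻¹ * ((a * u - 1) - (u - 1)) := by
          field_simp
          ring
        rw [e3]
        exact memLocalIdeal_mul_left hM huinv (memLocalIdeal_sub hM e1 e2)
      intro g
      obtain ⟨y, hy, c, hc, hg⟩ := D.fac g
      have : β g = β c := by
        rw [hg]
        exact (char_mul_of_mem_ker hβc (hβN y hy) c).2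
      rw [this]
      exact hC c hc
    have hβone := eq_one_of_cong hM D.not_dvd_index hβ hβN hβcong
    rw [← hβχ, hβone]
    funext g
    rw [Pi.mul_apply, one_mul]
  -- existence of a member of the principal block over θ
  have hcov : ∃ χ ∈ principalBlock M G, ∃ θ' ∈ principalBlock M N,
      classInner (fun n : N => (χ : G → ℂ) n) (θ' : N → ℂ) ≠ 0 := by
    refine ⟨trivIrr G, trivIrr_mem_principalBlock hM, trivIrr N, trivIrr_mem_principalBlock hM, ?_⟩
    have h1 : (fun n : N => (trivIrr G : G → ℂ) n) = (trivIrr N : N → ℂ) := rfl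
    rw [h1, classInner_irrCharacter_self]
    exact one_ne_zero
  obtain ⟨χ₀, hχ₀B, hχ₀θ⟩ := exists_over_of_covering N hM _ isPBlock_principalBlock _
    isPBlock_principalBlock hcov θ hθ
  have h0 := huniq χ₀ hχ₀B hχ₀θ
  have hmem : (⟨χt, hirr⟩ : IrrCharacter G) ∈ principalBlock M G := by
    have : χ₀ = ⟨χt, hirr⟩ := Subtype.ext h0
    rw [← this]
    exact hχ₀B
  refine ⟨⟨χt, hirr⟩, hmem, hres, ?_⟩
  intro χ' hχ'B hχ'θ
  exact Subtype.ext (huniq χ' hχ'B hχ'θ)

end Main

end Cfsg.Agent.Lib.Helper25.AlperinDade
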