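import Mathlib
import Cfsg.Agent.Lib.Helper25.GlueExt
import Cfsg.Agent.Lib.Helper7.PiParts

/-!
# Gluing linear characters over subgroups with `p'`-quotient (helper25 library)

Let `N ⊴ G` and let `Good H β` be a property of homomorphisms `β : H →* ℂˣ` on subgroups `H ≥ N`
such that good homomorphisms are trivial on `N`, are unique and exist whenever `p ∤ |H : N|`, and
are stable under restriction and conjugation.  Then there is a character `f` of `G` of degree `1`,
trivial on `N`, agreeing with every good homomorphism on the `p`-regular elements of its domain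
(`LinGlueAxioms.exists_glued`).  The function is `f g = β_{N⟨g_{p'}⟩} (g_{p'})`; it is a
generalized character by Brauer's characterization.
-/

set_option autoImplicit false
set_option linter.unusedSectionVars false
set_option linter.style.haveILetI false

namespace Cfsg.Agent.Lib.Helper25.PrimeGlue

open Cfsg Cfsg.Agent.Lib.Helper2 Cfsg.Agent.Lib.Helper7 Cfsg.Agent.Lib.Helper11
  Cfsg.Agent.Lib.Helper25 Cfsg.Agent.Lib.Helper25.GlueExt
open scoped ComplexConjugate

universe u

/-- The axioms for a family of canonical linear characters on the subgroups `H ≥ N` with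
`p ∤ |H : N|`. -/
structure LinGlueAxioms {G : Type u} [Group G] (N : Subgroup G) [N.Normal] (p : ℕ)
    (Good : ∀ H : Subgroup G, (H →* ℂˣ) → Prop) : Prop where
  triv : ∀ {H : Subgroup G} {β : H →* ℂˣ}, Good H β → ∀ n : N.subgroupOf H, β n = 1
  unique : ∀ {H : Subgroup G}, N ≤ H → ¬ p ∣ N.relIndex H → ∀ {β β' : H →* ℂˣ},
    Good H β → Good H β' → β = β'
  exists_adm : ∀ {H : Subgroup G}, N ≤ H → ¬ p ∣ N.relIndex H → ∃ β : H →* ℂˣ, Good H β
  restrict : ∀ {K H : Subgroup G}, N ≤ K → ∀ (hKH : K ≤ H) {β : H →* ℂˣ}, Good H β →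
    Good K (β.comp (Subgroup.inclusion hKH))
  conjg : ∀ (x : G) {H H' : Subgroup G} (e : H ≃* H'), N ≤ H' →
    (∀ h : H, ((e h : H') : G) = x * h * x⁻¹) → ∀ {β' : H' →* ℂˣ}, Good H' β' →
    Good H (β'.comp e.toMonoidHom)

section Exp

variable (G : Type u) [Group G] [Finite G] (p : ℕ)

/-- the `p`-part of `|G|` -/
noncomputable def ppart : ℕ := p ^ (Nat.card G).factorization p

/-- the `p'`-part of `|G|` -/
noncomputable def pcompl : ℕ := Nat.card G / p ^ (Nat.card G).factorization p

theorem ppart_mul_pcompl : ppart G p * pcompl G p = Nat.card G :=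
  Nat.ordProj_mul_ordCompl_eq_self _ _

variable {p}

theorem coprime_ppart_pcompl (hp : p.Prime) : Nat.Coprime (ppart G p) (pcompl G p) :=
  (Nat.coprime_ordCompl hp Nat.card_pos.ne').pow_left _

theorem not_dvd_pcompl (hp : p.Prime) : ¬ p ∣ pcompl G p :=
  Nat.not_dvd_ordCompl hp Nat.card_pos.ne'

/-- the exponent giving `p'`-parts -/
noncomputable def kexp (hp : p.Prime) : ℕ := piExp (coprime_ppart_pcompl G hp)

variable {G}

theorem pow_kexp_of_regular (hp : p.Prime) {g : G} (hg : ¬ p ∣ orderOf g) :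
    g ^ kexp G hp = g := by
  have h1 : orderOf g ∣ ppart G p * pcompl G p := by
    rw [ppart_mul_pcompl]; exact orderOf_dvd_natCard g
  have h2 : Nat.Coprime (orderOf g) (ppart G p) :=
    Nat.Coprime.pow_right _ ((Nat.Prime.coprime_iff_not_dvd hp).mpr hg).symm
  have h3 : orderOf g ∣ pcompl G p := h2.dvd_of_dvd_mul_left h1
  have h4 : g ^ kexp G hp = g ^ 1 := by
    rw [pow_eq_pow_iff_modEq]
    exact (piExp_modEq (coprime_ppart_pcompl G hp)).of_dvd h3
  rw [h4, pow_one]

theorem orderOf_pow_kexp_dvd (hp : p.Prime) (g : G) :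
    orderOf (g ^ kexp G hp) ∣ pcompl G p := by
  apply orderOf_dvd_of_pow_eq_one
  rw [← pow_mul]
  apply orderOf_dvd_iff_pow_eq_one.mp
  have h1 : ppart G p ∣ kexp G hp := dvd_piExp (coprime_ppart_pcompl G hp)
  have h2 : Nat.card G ∣ kexp G hp * pcompl G p := by
    rw [← ppart_mul_pcompl G p]
    exact Nat.mul_dvd_mul_right h1 _
  exact (orderOf_dvd_natCard g).trans h2

theorem not_dvd_orderOf_pow_kexp (hp : p.Prime) (g : G) : ¬ p ∣ orderOf (g ^ kexp G hp) :=
  fun h => not_dvd_pcompl G hp (h.trans (orderOf_pow_kexp_dvd hp g))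

end Exp

section Idx

variable {G : Type u} [Group G] [Finite G] (N : Subgroup G) [hN : N.Normal]

theorem relIndex_cycSub_dvd (g : G) : N.relIndex (cycSub N g) ∣ orderOf g := by
  have h2 : N.relIndex (cycSub N g) = Nat.card ((cycSub N g).map (QuotientGroup.mk' N)) := by
    have := Subgroup.relIndex_ker (K := cycSub N g) (QuotientGroup.mk' N)
    rwa [QuotientGroup.ker_mk'] at this
  have h3 : (cycSub N g).map (QuotientGroup.mk' N) = Subgroup.zpowers (QuotientGroup.mk' N g) := by
    unfold cycSub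
    exact Subgroup.map_comap_eq_self_of_surjective (QuotientGroup.mk'_surjective N) _
  rw [h2, h3, Nat.card_zpowers]
  exact orderOf_map_dvd _ g

theorem not_dvd_relIndex_cycSub {p : ℕ} (hp : p.Prime) (g : G) :
    ¬ p ∣ N.relIndex (cycSub N (g ^ kexp G hp)) :=
  fun h => not_dvd_orderOf_pow_kexp hp g (h.trans (relIndex_cycSub_dvd N _))

end Idx

section Glue

variable {G : Type u} [Group G] [Finite G] (N : Subgroup G) [hN : N.Normal] {p : ℕ}
  (hp : p.Prime) (Good : ∀ H : Subgroup G, (H →* ℂˣ) → Prop)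

/-- A chosen good homomorphism on `H` (trivial if there is none). -/
noncomputable def bCanon (H : Subgroup G) : H →* ℂˣ :=
  haveI := Classical.propDecidable (∃ β : H →* ℂˣ, Good H β)
  if h : ∃ β : H →* ℂˣ, Good H β then Classical.choose h else 1

variable {Good}

theorem bCanon_spec {H : Subgroup G} (h : ∃ β : H →* ℂˣ, Good H β) :
    Good H (bCanon Good H) := by
  unfold bCanon
  simp only [dif_pos h]
  exact Classical.choose_spec h

variable (Good)

/-- The glued function `g ↦ β_{N⟨g_{p'}⟩}(g_{p'})`. -/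
noncomputable def lglued (g : G) : ℂ :=
  ((bCanon Good (cycSub N (g ^ kexp G hp)) ⟨g ^ kexp G hp, self_mem_cycSub N _⟩ : ℂˣ) : ℂ)

variable {N Good}

theorem lglued_eq (A : LinGlueAxioms N p Good) {H : Subgroup G} (hNH : N ≤ H)
    (_hadm : ¬ p ∣ N.relIndex H) {β : H →* ℂˣ} (hβ : Good H β) {g : G}
    (hg : g ^ kexp G hp ∈ H) :
    lglued N hp Good g = ((β ⟨g ^ kexp G hp, hg⟩ : ℂˣ) : ℂ) := by
  have hle := cycSub_le N hNH hg
  have hK := le_cycSub N (g ^ kexp G hp)
  have hKadm := not_dvd_relIndex_cycSub N hp g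
  have h1 := A.restrict hK hle hβ
  have h2 : Good (cycSub N (g ^ kexp G hp)) (bCanon Good (cycSub N (g ^ kexp G hp))) :=
    bCanon_spec ⟨_, h1⟩
  have h3 := A.unique hK hKadm h2 h1
  unfold lglued
  rw [h3]
  rfl

theorem lglued_regular (A : LinGlueAxioms N p Good) {H : Subgroup G} (hNH : N ≤ H)
    (hadm : ¬ p ∣ N.relIndex H) {β : H →* ℂˣ} (hβ : Good H β) (h : H)
    (hreg : ¬ p ∣ orderOf (h : G)) :
    lglued N hp Good h = ((β h : ℂˣ) : ℂ) := by
  have hk : (h : G) ^ kexp G hp = h := pow_kexp_of_regular hp hreg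
  have hmem : (h : G) ^ kexp G hp ∈ H := by rw [hk]; exact h.2
  rw [lglued_eq hp A hNH hadm hβ hmem]
  congr 2
  exact Subtype.ext hk

theorem lglued_of_mem (A : LinGlueAxioms N p Good) {n : G} (hn : n ∈ N) :
    lglued N hp Good n = 1 := by
  have hK := le_cycSub N (n ^ kexp G hp)
  have hKadm := not_dvd_relIndex_cycSub N hp n
  obtain ⟨β, hβ⟩ := A.exists_adm hK hKadm
  rw [lglued_eq hp A hK hKadm hβ (self_mem_cycSub N _)]
  have h1 := A.triv hβ ⟨⟨n ^ kexp G hp, self_mem_cycSub N _⟩,
    Subgroup.mem_subgroupOf.mpr (N.pow_mem hn _)⟩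
  simp only at h1
  rw [h1]
  rfl

theorem lglued_conj (A : LinGlueAxioms N p Good) (x g : G) :
    lglued N hp Good (x * g * x⁻¹) = lglued N hp Good g := by
  set k := kexp G hp with hk
  have hpow : (x * g * x⁻¹) ^ k = x * g ^ k * x⁻¹ := conj_pow
  have hK' := le_cycSub N (x * g ^ k * x⁻¹)
  have hK'adm : ¬ p ∣ N.relIndex (cycSub N (x * g ^ k * x⁻¹)) := by
    have := not_dvd_relIndex_cycSub N hp (x * g * x⁻¹)
    rw [← hk, hpow] at this
    exact this
  obtain ⟨β', hβ'⟩ := A.exists_adm hK' hK'adm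
  have hmem : (x * g * x⁻¹) ^ k ∈ cycSub N (x * g ^ k * x⁻¹) := by
    rw [hpow]; exact self_mem_cycSub N _
  rw [lglued_eq hp A hK' hK'adm hβ' hmem]
  have h1 := A.conjg x (cycSubConj N x (g ^ k)) hK' (cycSubConj_apply N x (g ^ k)) hβ'
  rw [lglued_eq hp A (le_cycSub N (g ^ k)) (not_dvd_relIndex_cycSub N hp g) h1
    (self_mem_cycSub N _)]
  show ((β' ⟨(x * g * x⁻¹) ^ k, hmem⟩ : ℂˣ) : ℂ)
    = ((β' (cycSubConj N x (g ^ k) ⟨g ^ k, self_mem_cycSub N _⟩) : ℂˣ) : ℂ)
  congr 2
  apply Subtype.ext
  exact hpow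

theorem lglued_isClassFunction (A : LinGlueAxioms N p Good) :
    IsClassFunction G (lglued N hp Good) := fun g h => lglued_conj hp A h g

end Glue

section Elementary

variable {G : Type u} [Group G] [Finite G] {p : ℕ} (hp : p.Prime)

/-- in an elementary subgroup, taking `p'`-parts is multiplicative and lands in the subgroup of
`p`-regular elements -/
theorem exists_regular_part {q : ℕ} (hq : q.Prime) (E : Subgroup G) (hE : IsElementary q E) :
    ∃ B : Subgroup E, Nat.card B ∣ pcompl G p ∧ (∀ e : E, e ^ kexp G hp ∈ B) ∧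
      ∀ e e' : E, (e * e') ^ kexp G hp = e ^ kexp G hp * e' ^ kexp G hp := by
  have hcop := coprime_ppart_pcompl G hp
  have hcard : Nat.card E ∣ ppart G p * pcompl G p := by
    rw [ppart_mul_pcompl]; exact Subgroup.card_subgroup_dvd_card E
  obtain ⟨A, B, _, _, hA, hB, hc, _, hAB, _, hBm⟩ :=
    exists_hall_decomp_of_isElementary hq hE hcop hcard
  have hord : ∀ e : E, orderOf e ∣ ppart G p * pcompl G p :=
    fun e => (orderOf_dvd_natCard e).trans hcard
  have hBn : Nat.card B ∣ pcompl G p := by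
    have h1 : Nat.card B ∣ ppart G p * pcompl G p := by
      rw [← hAB] at hcard
      exact (Dvd.intro_left _ rfl).trans hcard
    exact hBm.dvd_of_dvd_mul_left h1
  -- decomposition data
  have hdec : ∀ e : E, ∃ u v : E, e = u * v ∧ u ∈ A ∧ v ∈ B ∧ e ^ kexp G hp = v := by
    intro e
    obtain ⟨u, v, huv, hcomm, hu, hv, -, -⟩ := exists_pi_decomp hcop e (hord e)
    refine ⟨u, v, huv, (hA u).mpr (Nat.Coprime.coprime_dvd_left hu hcop),
      (hB v).mpr (Nat.Coprime.coprime_dvd_left hv hcop.symm), ?_⟩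
    exact pow_piExp_eq hcop huv hcomm hu hv
  refine ⟨B, hBn, ?_, ?_⟩
  · intro e
    obtain ⟨u, v, -, -, hv, hev⟩ := hdec e
    rw [hev]; exact hv
  · intro e e'
    obtain ⟨u, v, huv, hu, hv, hev⟩ := hdec e
    obtain ⟨u', v', huv', hu', hv', hev'⟩ := hdec e'
    rw [hev, hev']
    have hx : e * e' = (u * u') * (v * v') := by
      rw [huv, huv']
      have := hc u' hu' v hv
      calc u * v * (u' * v') = u * (v * u') * v' := by group
        _ = u * (u' * v) * v' := by rw [this]
        _ = u * u' * (v * v') := by group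
    have hcomm : Commute (u * u') (v * v') :=
      hc (u * u') (A.mul_mem hu hu') (v * v') (B.mul_mem hv hv')
    have h1 : orderOf (u * u') ∣ ppart G p := by
      have h2 := (hA (u * u')).mp (A.mul_mem hu hu')
      exact h2.dvd_of_dvd_mul_right (hord _)
    have h2 : orderOf (v * v') ∣ pcompl G p := by
      have h3 := (hB (v * v')).mp (B.mul_mem hv hv')
      exact h3.dvd_of_dvd_mul_left (hord _)
    exact pow_piExp_eq hcop hx hcomm h1 h2

variable {N : Subgroup G} [hN : N.Normal] {Good : ∀ H : Subgroup G, (H →* ℂˣ) → Prop}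

theorem lglued_elementary (A : LinGlueAxioms N p Good) (q : ℕ) (hq : q.Prime) (E : Subgroup G)
    (hE : IsElementary q E) : IsCharacter E (fun e : E => lglued N hp Good e) := by
  obtain ⟨B, hBn, hBmem, hBmul⟩ := exists_regular_part hp hq E hE
  set B' : Subgroup G := B.map E.subtype with hB'
  set H : Subgroup G := N ⊔ B' with hH
  have hNH : N ≤ H := le_sup_left
  have hB'H : B' ≤ H := le_sup_right
  have hadm : ¬ p ∣ N.relIndex H := by
    intro hdvd
    apply not_dvd_pcompl G hp
    rw [hH, Subgroup.relIndex_sup_left] at hdvd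
    have h1 : N.relIndex B' ∣ Nat.card B' := Subgroup.relIndex_dvd_card _ _
    have h2 : Nat.card B' = Nat.card B := by
      rw [hB']
      exact Nat.card_congr (B.equivMapOfInjective E.subtype E.subtype_injective).symm.toEquiv
    rw [h2] at h1
    exact hdvd.trans (h1.trans hBn)
  obtain ⟨β, hβ⟩ := A.exists_adm hNH hadm
  have hmem : ∀ e : E, ((e : G)) ^ kexp G hp ∈ H := by
    intro e
    apply hB'H
    rw [hB', Subgroup.mem_map]
    exact ⟨e ^ kexp G hp, hBmem e, by simp⟩
  let π : E →* H :=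
    { toFun := fun e => ⟨(e : G) ^ kexp G hp, hmem e⟩
      map_one' := by
        apply Subtype.ext
        simp
      map_mul' := by
        intro e e'
        apply Subtype.ext
        have := congrArg (fun z : E => (z : G)) (hBmul e e')
        simpa using this }
  have h1 : (fun e : E => lglued N hp Good e) = coeFunHom E (β.comp π) := by
    funext e
    rw [lglued_eq hp A hNH hadm hβ (hmem e)]
    rfl
  rw [h1]
  exact (isCharacter_coeFunHom _).1

end Elementary

section Norm

variable {G : Type u} [Group G] [Fintype G] {N : Subgroup G} [hN : N.Normal] {p : ℕ}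
  (hp : p.Prime) {Good : ∀ H : Subgroup G, (H →* ℂˣ) → Prop}

theorem lglued_mul_conj (g : G) :
    lglued N hp Good g * conj (lglued N hp Good g) = 1 := by
  unfold lglued
  set H := cycSub N (g ^ kexp G hp)
  set x : H := ⟨g ^ kexp G hp, self_mem_cycSub N _⟩
  set u : ℂˣ := bCanon Good H x
  have hpow : u ^ orderOf x = 1 := by
    rw [← map_pow, pow_orderOf_eq_one, map_one]
  have hpos : orderOf x ≠ 0 := (orderOf_pos x).ne'
  have hpow' : (u : ℂ) ^ orderOf x = 1 := by
    have := congrArg (fun z : ℂˣ => (z : ℂ)) hpow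
    simpa using this
  have hnorm : ‖(u : ℂ)‖ = 1 := Complex.norm_eq_one_of_pow_eq_one hpow' hpos
  rw [Complex.mul_conj, Complex.normSq_eq_norm_sq, hnorm]
  simp

theorem lglued_norm :
    classInner (lglued N hp Good) (lglued N hp Good) = 1 := by
  classical
  rw [classInner_def]
  rw [Finset.sum_congr rfl (fun g _ => lglued_mul_conj hp g), Finset.sum_const, Finset.card_univ,
    nsmul_eq_mul, mul_one, ← Nat.card_eq_fintype_card]
  have hGne : (Nat.card G : ℂ) ≠ 0 := by
    have : 0 < Nat.card G := Nat.card_pos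
    exact_mod_cast this.ne'
  exact inv_mul_cancel₀ hGne

end Norm

section Main

variable {G : Type u} [Group G] [Finite G] {N : Subgroup G} [hN : N.Normal] {p : ℕ}
  {Good : ∀ H : Subgroup G, (H →* ℂˣ) → Prop}

/-- The good homomorphisms glue to a character of degree `1` of `G`, trivial on `N`, agreeing with
every good homomorphism on `p`-regular elements. -/
theorem LinGlueAxioms.exists_glued (hp : p.Prime) (A : LinGlueAxioms N p Good) :
    ∃ f : G → ℂ, IsIrrCharacter G f ∧ f 1 = 1 ∧ (∀ n ∈ N, f n = 1) ∧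
      ∀ {H : Subgroup G}, N ≤ H → ¬ p ∣ N.relIndex H → ∀ {β : H →* ℂˣ}, Good H β →
        ∀ h : H, ¬ p ∣ orderOf (h : G) → f h = ((β h : ℂˣ) : ℂ) := by
  classical
  haveI : Fintype G := Fintype.ofFinite G
  have hcf := lglued_isClassFunction hp A
  have hgc : IsGeneralizedCharacter G (lglued N hp Good) := by
    apply isGeneralizedCharacter_of_elementary hcf
    intro q hq E hE
    exact gc_of_char (lglued_elementary hp A q hq E hE)
  have hsigned := IsGeneralizedCharacter.isSignedIrr_of_norm_one hgc (lglued_norm hp)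
  have h1 : lglued N hp Good 1 = 1 := lglued_of_mem hp A N.one_mem
  have hagree : ∀ {H : Subgroup G}, N ≤ H → ¬ p ∣ N.relIndex H → ∀ {β : H →* ℂˣ}, Good H β →
      ∀ h : H, ¬ p ∣ orderOf (h : G) → lglued N hp Good h = ((β h : ℂˣ) : ℂ) :=
    fun hNH hadm _ hβ h hreg => lglued_regular hp A hNH hadm hβ h hreg
  rcases hsigned with h | h
  · exact ⟨lglued N hp Good, h, h1, fun n hn => lglued_of_mem hp A hn, hagree⟩
  · exfalso
    have h2 := char_one_eq_charDegree (isCharacter_of_irr h)
    rw [Pi.neg_apply, h1] at h2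
    have h3 : ((1 + charDegree (-lglued N hp Good) : ℕ) : ℂ) = 0 := by
      push_cast
      linear_combination -h2
    have h4 : 1 + charDegree (-lglued N hp Good) = 0 := by exact_mod_cast h3
    omega

end Main

end Cfsg.Agent.Lib.Helper25.PrimeGlue
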