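import Mathlib
import Cfsg.Prelude.Def_Blocks
import Cfsg.Agent.Lib.Helper25.AlperinDade2
import Cfsg.Agent.Lib.Helper25.PrimeGlue
import Cfsg.Agent.Lib.Helper7.RegularDetermines
import Cfsg.Agent.Lib.Helper2.DirectProduct

/-!
# Alperin–Dade, part 3: extendible characters of the principal block (helper25 library)

`N ⊴ G`, `S ≤ N` with `p ∤ |N : S|`, `G = N C_G(S)` (no assumption on `|G : N|`).  If
`θ ∈ Irr(B₀(N))` extends to `ψ ∈ Irr(G)` then some extension `χ` of `θ` restricts to a member of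
the principal block of `J` for every `N ≤ J ≤ G` (`exists_extension_principal`).

The canonical multipliers `β_H ∈ Lin(H / N)` (for `p ∤ |H : N|`, so that Alperin–Dade applies to
`N ⊴ H`) are glued along `p'`-parts by `PrimeGlue`; block membership of the restrictions follows
from `mem_blockOf_of_regular` since `|g^{N⟨g⟩}| = |g^N|` divides `|g^J|`.
-/

set_option autoImplicit false
set_option linter.unusedSectionVars false
set_option linter.style.haveILetI false

namespace Cfsg.Agent.Lib.Helper25.AlperinDade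

open Cfsg Cfsg.Agent.Lib.Helper2 Cfsg.Agent.Lib.Helper7 Cfsg.Agent.Lib.Helper11
  Cfsg.Agent.Lib.Helper24 Cfsg.Agent.Lib.Helper25 Cfsg.Agent.Lib.Helper25.GlueExt
  Cfsg.Agent.Lib.Helper25.PrimeGlue
open scoped ComplexConjugate

universe u

section Index

variable {G : Type u} [Group G] [Finite G]

theorem card_mul_relIndex_of_le {A B : Subgroup G} (h : A ≤ B) :
    Nat.card A * A.relIndex B = Nat.card B := by
  have := Subgroup.relIndex_mul_relIndex ⊥ A B bot_le h
  rwa [Subgroup.relIndex_bot_left, Subgroup.relIndex_bot_left] at this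

theorem relIndex_pos' (A B : Subgroup G) : 0 < A.relIndex B :=
  Nat.pos_of_ne_zero Subgroup.index_ne_zero_of_finite

/-- `|N D : D| = |N : N ∩ D|` for `N` normal. -/
theorem relIndex_sup_of_normal (N D : Subgroup G) [N.Normal] :
    D.relIndex (N ⊔ D) = D.relIndex N := by
  have e1 := card_mul_relIndex_of_le (le_sup_right : D ≤ N ⊔ D)
  have e2 := card_mul_relIndex_of_le (le_sup_left : N ≤ N ⊔ D)
  have e3 : N.relIndex (N ⊔ D) = N.relIndex D := Subgroup.relIndex_sup_left D N
  have e4 := card_mul_relIndex_of_le (inf_le_right : N ⊓ D ≤ D)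
  have e5 := card_mul_relIndex_of_le (inf_le_left : N ⊓ D ≤ N)
  have e6 : (N ⊓ D).relIndex D = N.relIndex D := Subgroup.inf_relIndex_right N D
  have e7 : (N ⊓ D).relIndex N = D.relIndex N := Subgroup.inf_relIndex_left N D
  rw [e6] at e4
  rw [e7] at e5
  rw [e3] at e2
  have hpos : 0 < Nat.card ↥(N ⊓ D) * N.relIndex D :=
    Nat.mul_pos Nat.card_pos (relIndex_pos' _ _)
  apply Nat.eq_of_mul_eq_mul_left hpos
  calc Nat.card ↥(N ⊓ D) * N.relIndex D * D.relIndex (N ⊔ D)
      = Nat.card ↥(N ⊔ D) := by rw [e4, e1]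
    _ = Nat.card N * N.relIndex D := e2.symm
    _ = Nat.card ↥(N ⊓ D) * D.relIndex N * N.relIndex D := by rw [e5]
    _ = Nat.card ↥(N ⊓ D) * N.relIndex D * D.relIndex N := by ring

theorem relIndex_inf_of_le {N K : Subgroup G} (C : Subgroup G) (hNK : N ≤ K) :
    (K ⊓ C).relIndex N = C.relIndex N := by
  have : (K ⊓ C).subgroupOf N = C.subgroupOf N := by
    ext x
    rw [Subgroup.mem_subgroupOf, Subgroup.mem_subgroupOf, Subgroup.mem_inf]
    exact ⟨fun h => h.2, fun h => ⟨hNK x.2, h⟩⟩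
  unfold Subgroup.relIndex
  rw [this]

/-- `|N : C_N(g)|` divides `|K : C_K(g)|` for `N ≤ K`, `N` normal. -/
theorem relIndex_normal_dvd (N : Subgroup G) [N.Normal] (C : Subgroup G) {K : Subgroup G}
    (hNK : N ≤ K) : C.relIndex N ∣ C.relIndex K := by
  have h1 : (K ⊓ C).relIndex K = C.relIndex K := Subgroup.inf_relIndex_left K C
  have h2 : N ⊔ K ⊓ C ≤ K := sup_le hNK inf_le_left
  have h3 := Subgroup.relIndex_mul_relIndex (K ⊓ C) (N ⊔ K ⊓ C) K le_sup_right h2
  rw [relIndex_sup_of_normal, relIndex_inf_of_le C hNK, h1] at h3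
  exact Dvd.intro _ h3

/-- `|N⟨g⟩ : C_{N⟨g⟩}(g)| = |N : C_N(g)|`. -/
theorem relIndex_cycSub_centralizer (N : Subgroup G) [hN : N.Normal] (g : G) :
    (Subgroup.centralizer ({g} : Set G)).relIndex (cycSub N g)
      = (Subgroup.centralizer ({g} : Set G)).relIndex N := by
  set C := Subgroup.centralizer ({g} : Set G) with hC
  set H := cycSub N g with hH
  have hNH : N ≤ H := le_cycSub N g
  have hgC : g ∈ C := by
    rw [hC, Subgroup.mem_centralizer_iff]
    intro y hy
    rw [Set.mem_singleton_iff] at hy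
    rw [hy]
  have hsup : N ⊔ H ⊓ C = H := by
    apply le_antisymm (sup_le hNH inf_le_left)
    exact cycSub_le N le_sup_left
      ((le_sup_right : H ⊓ C ≤ N ⊔ H ⊓ C) ⟨self_mem_cycSub N g, hgC⟩)
  calc C.relIndex H = (H ⊓ C).relIndex H := (Subgroup.inf_relIndex_left H C).symm
    _ = (H ⊓ C).relIndex (N ⊔ H ⊓ C) := by rw [hsup]
    _ = (H ⊓ C).relIndex N := relIndex_sup_of_normal N _
    _ = C.relIndex N := relIndex_inf_of_le C hNH

theorem index_centralizer_subtype (K : Subgroup G) (g : K) :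
    (Subgroup.centralizer ({g} : Set K)).index
      = (Subgroup.centralizer ({(g : G)} : Set G)).relIndex K := by
  have : Subgroup.centralizer ({g} : Set K)
      = (Subgroup.centralizer ({(g : G)} : Set G)).subgroupOf K := by
    ext x
    rw [Subgroup.mem_subgroupOf, Subgroup.mem_centralizer_iff, Subgroup.mem_centralizer_iff]
    constructor
    · intro h y hy
      rw [Set.mem_singleton_iff] at hy
      subst hy
      have := h g rfl
      exact congrArg Subtype.val this
    · intro h y hy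
      rw [Set.mem_singleton_iff] at hy
      subst hy
      apply Subtype.ext
      exact h (y : G) rfl
  rw [this]
  rfl

end Index

section RegularDvd

variable {X : Type u} [Group X] [Fintype X] {p : ℕ} {M : Ideal Cfsg.AlgInt}

/-- membership in the principal block from congruences at `p`-regular elements, with class sizes
replaced by divisors -/
theorem mem_principalBlock_of_regular_dvd (hM : IsPModular p M) (χ : IrrCharacter X)
    (h : ∀ g : X, ¬ p ∣ orderOf g → ∃ d : ℕ, d ∣ (Subgroup.centralizer ({g} : Set X)).index ∧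
      MemLocalIdeal M ((d : ℂ) - (d : ℂ) * (χ : X → ℂ) g / (χ : X → ℂ) 1)) :
    χ ∈ principalBlock M X := by
  have key := mem_blockOf_of_regular hM (trivIrr X) χ ?_
  · exact key
  intro g hg
  obtain ⟨d, ⟨e, he⟩, hd⟩ := h g hg
  unfold centralChar
  have h1 : (((Subgroup.centralizer ({g} : Set X)).index : ℕ) : ℂ) * (trivIrr X : X → ℂ) g
        / (trivIrr X : X → ℂ) 1
      - (((Subgroup.centralizer ({g} : Set X)).index : ℕ) : ℂ) * (χ : X → ℂ) g / (χ : X → ℂ) 1
      = (e : ℂ) * ((d : ℂ) - (d : ℂ) * (χ : X → ℂ) g / (χ : X → ℂ) 1) := by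
    rw [he, trivIrr_apply, trivIrr_apply]
    push_cast
    ring
  rw [h1]
  exact memLocalIdeal_mul_left hM (memLocalRing_natCast hM e) hd

end RegularDvd

section Lin

variable {G : Type u} [Group G] [Finite G] (p : ℕ) (M : Ideal Cfsg.AlgInt)
  (N : Subgroup G) [hN : N.Normal] (S : Subgroup G) (ψ : G → ℂ)

/-- the standing hypotheses: no assumption on `|G : N|` -/
structure ADHypRel : Prop where
  modular : IsPModular p M
  le : S ≤ N
  idx : ¬ p ∣ S.relIndex N
  fac : ∀ x : G, ∃ y ∈ N, ∃ c ∈ Subgroup.centralizer (S : Set G), x = y * c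

/-- canonical linear multipliers of the extension `ψ` -/
def LinGood (H : Subgroup G) (β : H →* ℂˣ) : Prop :=
  (∀ n : N.subgroupOf H, β n = 1) ∧
    ∀ x : H, (x : G) ∈ Subgroup.centralizer (S : Set G) →
      MemLocalIdeal M (((β x : ℂˣ) : ℂ) * ψ x / ψ 1 - 1)

variable {p M N S ψ}

theorem isIntegral_hom_apply {H : Type*} [Group H] [Finite H] (β : H →* ℂˣ) (x : H) :
    IsIntegral ℤ ((β x : ℂˣ) : ℂ) := by
  have hpow : (β x) ^ orderOf x = 1 := by
    rw [← map_pow, pow_orderOf_eq_one, map_one]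
  have hpow' : ((β x : ℂˣ) : ℂ) ^ orderOf x = 1 := by
    have := congrArg (fun z : ℂˣ => (z : ℂ)) hpow
    simpa using this
  exact ⟨Polynomial.X ^ orderOf x - 1, Polynomial.monic_X_pow_sub_C 1 (orderOf_pos x).ne',
    by simp [hpow']⟩

/-- a linear character trivial on `N` and congruent to `1` on the centraliser is trivial when
`p ∤ |H : N|` -/
theorem hom_eq_one_of_cong_rel (D : ADHypRel p M N S) {H : Subgroup G} (hNH : N ≤ H)
    (hadm : ¬ p ∣ N.relIndex H) (β : H →* ℂˣ)
    (hβN : ∀ n : N.subgroupOf H, β n = 1)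
    (hβ : ∀ x : H, (x : G) ∈ Subgroup.centralizer (S : Set G) →
      MemLocalIdeal M (((β x : ℂˣ) : ℂ) - 1)) : β = 1 := by
  have hM := D.modular
  have key : ∀ x : H, (x : G) ∈ Subgroup.centralizer (S : Set G) → β x = 1 := by
    intro x hx
    set m := (N.subgroupOf H).index with hm
    have hpm : ¬ p ∣ m := hadm
    have hxm : x ^ m ∈ N.subgroupOf H := Subgroup.pow_index_mem _ x
    have hbm : ((β x : ℂˣ) : ℂ) ^ m = 1 := by
      have h1 := hβN ⟨x ^ m, hxm⟩
      simp only at h1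
      rw [map_pow] at h1
      have h2 := congrArg (fun u : ℂˣ => (u : ℂ)) h1
      simpa using h2
    have hint : IsIntegral ℤ ((β x : ℂˣ) : ℂ) := isIntegral_hom_apply β x
    let ε : Cfsg.AlgInt := ⟨((β x : ℂˣ) : ℂ), hint⟩
    have h1 : ∃ m : ℕ, ¬ p ∣ m ∧ ((ε : Cfsg.AlgInt) : ℂ) ^ m = 1 := ⟨m, hpm, hbm⟩
    have h2 : ∃ m : ℕ, ¬ p ∣ m ∧ (((1 : Cfsg.AlgInt) : Cfsg.AlgInt) : ℂ) ^ m = 1 :=
      ⟨1, hM.1.one_lt.ne' ∘ Nat.dvd_one.mp, by simp⟩
    have h3 : ε - 1 ∈ M := by
      rw [← memLocalIdeal_algInt_iff hM]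
      have : ((ε - 1 : Cfsg.AlgInt) : ℂ) = ((β x : ℂˣ) : ℂ) - 1 := by
        push_cast
        rfl
      rw [this]
      exact hβ x hx
    have h4 := eq_of_root_sub_mem hM ε 1 h1 h2 h3
    have h5 : ((β x : ℂˣ) : ℂ) = 1 := by
      have := congrArg (fun a : Cfsg.AlgInt => (a : ℂ)) h4
      simpa [ε] using this
    exact Units.ext h5
  apply MonoidHom.ext
  intro x
  obtain ⟨y, hy, c, hc, hxyc⟩ := D.fac (x : G)
  have hyH : y ∈ H := hNH hy
  have hcH : c ∈ H := by
    have : c = y⁻¹ * (x : G) := by rw [hxyc]; group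
    rw [this]
    exact H.mul_mem (H.inv_mem hyH) x.2
  have hx : x = ⟨y, hyH⟩ * ⟨c, hcH⟩ := Subtype.ext hxyc
  rw [hx, map_mul, key ⟨c, hcH⟩ hc]
  have := hβN ⟨⟨y, hyH⟩, Subgroup.mem_subgroupOf.mpr hy⟩
  simp only at this
  rw [this]
  simp

theorem linGood_unique (D : ADHypRel p M N S) {H : Subgroup G} (hNH : N ≤ H)
    (hadm : ¬ p ∣ N.relIndex H) {β β' : H →* ℂˣ} (h : LinGood M N S ψ H β)
    (h' : LinGood M N S ψ H β') : β = β' := by
  have hM := D.modular
  have h1 : β' * β⁻¹ = 1 := by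
    apply hom_eq_one_of_cong_rel D hNH hadm
    · intro n
      rw [MonoidHom.mul_apply, MonoidHom.inv_apply, h.1 n, h'.1 n]
      simp
    · intro x hx
      have e1 := h.2 x hx
      have e2 := h'.2 x hx
      set a : ℂ := ((β x : ℂˣ) : ℂ) with ha
      set a' : ℂ := ((β' x : ℂˣ) : ℂ) with ha'
      set u : ℂ := ψ x / ψ 1 with hu
      have e1' : a * ψ x / ψ 1 - 1 = a * u - 1 := by rw [hu]; ring
      have e2' : a' * ψ x / ψ 1 - 1 = a' * u - 1 := by rw [hu]; ring
      rw [e1'] at e1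
      rw [e2'] at e2
      have ha0 : a ≠ 0 := Units.ne_zero _
      have haR : MemLocalRing M a := memLocalRing_of_isIntegral hM (isIntegral_hom_apply β x)
      have hainvR : MemLocalRing M a⁻¹ := by
        have : a⁻¹ = (((β x)⁻¹ : ℂˣ) : ℂ) := by rw [ha]; simp
        rw [this, ← map_inv]
        exact memLocalRing_of_isIntegral hM (isIntegral_hom_apply β x⁻¹)
      have hauR : MemLocalRing M (a * u) := by
        have : a * u = (a * u - 1) + 1 := by ring
        rw [this]
        exact memLocalRing_add hM (memLocalRing_of_memLocalIdeal e1) (memLocalRing_one hM)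
      have huR : MemLocalRing M u := by
        have : u = a⁻¹ * (a * u) := by field_simp
        rw [this]
        exact memLocalRing_mul hM hainvR hauR
      have huI : ¬ MemLocalIdeal M u := by
        intro hI
        apply not_memLocalIdeal_one hM
        have : (1 : ℂ) = a * u - (a * u - 1) := by ring
        rw [this]
        exact memLocalIdeal_sub hM (memLocalIdeal_mul_left hM haR hI) e1
      have hu0 : u ≠ 0 := by
        intro h0
        apply huI
        rw [h0]
        exact memLocalIdeal_zero hM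
      have huinv := memLocalRing_inv hM huR huI
      have e3 : ((((β' * β⁻¹) x : ℂˣ)) : ℂ) - 1
          = a⁻¹ * (u⁻¹ * ((a' * u - 1) - (a * u - 1))) := by
        rw [MonoidHom.mul_apply, MonoidHom.inv_apply]
        have : (((β' x * (β x)⁻¹ : ℂˣ)) : ℂ) = a' * a⁻¹ := by
          rw [ha, ha']; simp
        rw [this]
        field_simp
        ring
      rw [e3]
      exact memLocalIdeal_mul_left hM hainvR
        (memLocalIdeal_mul_left hM huinv (memLocalIdeal_sub hM e2 e1))
  exact (mul_inv_eq_one.mp h1).symm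

theorem linGood_restrict {K H : Subgroup G} (hKH : K ≤ H) {β : H →* ℂˣ}
    (h : LinGood M N S ψ H β) : LinGood M N S ψ K (β.comp (Subgroup.inclusion hKH)) := by
  refine ⟨?_, ?_⟩
  · intro n
    exact h.1 ⟨⟨((n : K) : G), hKH (n : K).2⟩,
      Subgroup.mem_subgroupOf.mpr (Subgroup.mem_subgroupOf.mp n.2)⟩
  · intro x hx
    exact h.2 ⟨(x : G), hKH x.2⟩ hx

theorem linGood_conj (D : ADHypRel p M N S) (hψ : IsClassFunction G ψ)
    (x : G) {H H' : Subgroup G} (e : H ≃* H') (hNH' : N ≤ H')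
    (he : ∀ h : H, ((e h : H') : G) = x * h * x⁻¹)
    {β' : H' →* ℂˣ} (h : LinGood M N S ψ H' β') :
    LinGood M N S ψ H (β'.comp e.toMonoidHom) := by
  refine ⟨?_, ?_⟩
  · intro n
    have hmem : e (n : H) ∈ N.subgroupOf H' := by
      rw [Subgroup.mem_subgroupOf, he]
      exact hN.conj_mem _ (Subgroup.mem_subgroupOf.mp n.2) x
    exact h.1 ⟨e (n : H), hmem⟩
  · intro h₀ hh₀
    show MemLocalIdeal M (((β' (e h₀) : ℂˣ) : ℂ) * ψ h₀ / ψ 1 - 1)
    obtain ⟨y, hy, c, hc, hxyc⟩ := D.fac x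
    have hyH' : y ∈ H' := hNH' hy
    have hcc : c * (h₀ : G) * c⁻¹ ∈ Subgroup.centralizer (S : Set G) :=
      Subgroup.mul_mem _ (Subgroup.mul_mem _ hc hh₀) (Subgroup.inv_mem _ hc)
    have heq : c * (h₀ : G) * c⁻¹ = y⁻¹ * ((e h₀ : H') : G) * y := by
      rw [he, hxyc]; group
    have hmemH' : c * (h₀ : G) * c⁻¹ ∈ H' := by
      rw [heq]
      exact H'.mul_mem (H'.mul_mem (H'.inv_mem hyH') (e h₀).2) hyH'
    have h4 : e h₀ = ⟨y, hyH'⟩ * ⟨c * (h₀ : G) * c⁻¹, hmemH'⟩ * (⟨y, hyH'⟩ : H')⁻¹ := by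
      apply Subtype.ext
      show ((e h₀ : H') : G) = y * (c * (h₀ : G) * c⁻¹) * y⁻¹
      rw [heq]; group
    have h5 : β' (e h₀) = β' ⟨c * (h₀ : G) * c⁻¹, hmemH'⟩ := by
      rw [h4, map_mul, map_mul, map_inv]
      rw [mul_comm, ← mul_assoc, inv_mul_cancel, one_mul]
    have h6 : ψ h₀ = ψ (c * (h₀ : G) * c⁻¹) := (hψ (h₀ : G) c).symm
    rw [h5, h6]
    exact h.2 ⟨c * (h₀ : G) * c⁻¹, hmemH'⟩ hcc

/-- existence for `p ∤ |H : N|`, with membership in the principal block -/
theorem linGood_exists (D : ADHypRel p M N S) (θ : IrrCharacter N)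
    (hθ : θ ∈ principalBlock M N) (hψ : IsIrrCharacter G ψ)
    (hψN : ∀ n : N, ψ n = (θ : N → ℂ) n) {H : Subgroup G} (hNH : N ≤ H)
    (hadm : ¬ p ∣ N.relIndex H) :
    ∃ β : H →* ℂˣ, LinGood M N S ψ H β ∧ ∃ ξ : IrrCharacter H, ξ ∈ principalBlock M H ∧
      ∀ h : H, (ξ : H → ℂ) h = ((β h : ℂˣ) : ℂ) * ψ h := by
  classical
  have hM := D.modular
  haveI : Fintype H := Fintype.ofFinite H
  haveI : Fintype (N.subgroupOf H) := Fintype.ofFinite _
  have hS1 : S.subgroupOf H ≤ N.subgroupOf H := by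
    intro x hx
    exact Subgroup.mem_subgroupOf.mpr (D.le (Subgroup.mem_subgroupOf.mp hx))
  have hS2 : ¬ p ∣ (S.subgroupOf H).index := by
    have h1 : S.relIndex N * N.relIndex H = S.relIndex H :=
      Subgroup.relIndex_mul_relIndex S N H D.le hNH
    show ¬ p ∣ S.relIndex H
    rw [← h1]
    intro hd
    rcases (Nat.Prime.dvd_mul hM.1).mp hd with hd | hd
    · exact D.idx hd
    · exact hadm hd
  have hS3 : ∀ x : H, ∃ y ∈ N.subgroupOf H,
      ∃ c ∈ Subgroup.centralizer ((S.subgroupOf H : Subgroup H) : Set H), x = y * c := by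
    intro x
    obtain ⟨y, hy, c, hc, hxyc⟩ := D.fac (x : G)
    have hyH : y ∈ H := hNH hy
    have hcH : c ∈ H := by
      have : c = y⁻¹ * (x : G) := by rw [hxyc]; group
      rw [this]
      exact H.mul_mem (H.inv_mem hyH) x.2
    refine ⟨⟨y, hyH⟩, Subgroup.mem_subgroupOf.mpr hy, ⟨c, hcH⟩, ?_, Subtype.ext hxyc⟩
    rw [Subgroup.mem_centralizer_iff]
    intro s hs
    apply Subtype.ext
    exact (Subgroup.mem_centralizer_iff.mp hc) (s : G) (Subgroup.mem_subgroupOf.mp hs)
  have D' : ADHyp p M (N.subgroupOf H) (S.subgroupOf H) := ⟨hM, hS1, hS2, hS3⟩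
  have hθ'irr : IsIrrCharacter (N.subgroupOf H) (subFn N H (θ : N → ℂ)) :=
    isIrrCharacter_subFn hNH θ.2
  obtain ⟨χ, hχB, hχN, -⟩ := exists_unique_over D' ⟨subFn N H (θ : N → ℂ), hθ'irr⟩
    (subFn_mem_principalBlock hNH θ hθ)
  -- the restriction of ψ to H
  have hψc : IsCharacter G ψ := isCharacter_of_irr hψ
  have hψHc : IsCharacter H (fun h : H => ψ h) := isCharacter_comp_hom H.subtype hψc
  have hψHN : ∀ n : N.subgroupOf H, (fun h : H => ψ h) n = subFn N H (θ : N → ℂ) n := by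
    intro n
    rw [subFn_apply]
    exact hψN ⟨((n : H) : G), Subgroup.mem_subgroupOf.mp n.2⟩
  have hψHirr : IsIrrCharacter H (fun h : H => ψ h) := by
    apply isIrrCharacter_of_comp_irr (N.subgroupOf H).subtype hψHc
    have h2 : (fun x : N.subgroupOf H => (fun h : H => ψ h) ((N.subgroupOf H).subtype x))
        = subFn N H (θ : N → ℂ) := funext hψHN
    rw [h2]
    exact hθ'irr
  obtain ⟨β, hβN, hβ⟩ := exists_hom_of_two_extensions (N.subgroupOf H) hθ'irr hψHirr χ.2
    hψHN hχN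
  have hval : ∀ h : H, (χ : H → ℂ) h = ((β h : ℂˣ) : ℂ) * ψ h := by
    intro h
    rw [hβ]
    rfl
  refine ⟨β, ⟨hβN, ?_⟩, χ, hχB, hval⟩
  intro x hx
  have hx' : x ∈ Subgroup.centralizer ((S.subgroupOf H : Subgroup H) : Set H) := by
    rw [Subgroup.mem_centralizer_iff]
    intro s hs
    apply Subtype.ext
    exact (Subgroup.mem_centralizer_iff.mp hx) (s : G) (Subgroup.mem_subgroupOf.mp hs)
  have h1 := principal_cong hM χ hχB (S.subgroupOf H) hS2 hx'
  rw [hval x, hval 1, map_one] at h1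
  simpa using h1

theorem linGlueAxioms (D : ADHypRel p M N S) (θ : IrrCharacter N)
    (hθ : θ ∈ principalBlock M N) (hψ : IsIrrCharacter G ψ)
    (hψN : ∀ n : N, ψ n = (θ : N → ℂ) n) :
    LinGlueAxioms N p (LinGood M N S ψ) where
  triv := fun h => h.1
  unique := fun hNH hadm _ _ h h' => linGood_unique D hNH hadm h h'
  exists_adm := fun hNH hadm => by
    obtain ⟨β, hβ, -⟩ := linGood_exists D θ hθ hψ hψN hNH hadm
    exact ⟨β, hβ⟩
  restrict := fun _ hKH _ h => linGood_restrict hKH h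
  conjg := fun x _ _ e hNH' he _ h =>
    linGood_conj D (isClassFunction_of_char (isCharacter_of_irr hψ)) x e hNH' he h

end Lin

section Main

variable {G : Type u} [Group G] [Finite G] {p : ℕ} {M : Ideal Cfsg.AlgInt}
  {N : Subgroup G} [hN : N.Normal] {S : Subgroup G}

/-- `N ⊴ G`, `S ≤ N` with `p ∤ |N : S|`, `G = N C_G(S)`: if `θ ∈ Irr(B₀(N))` extends to `G`, then
some extension `χ` of `θ` restricts to a member of the principal block of `J` for every subgroup
`J ≥ N`. -/
theorem exists_extension_principal (D : ADHypRel p M N S) (θ : IrrCharacter N)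
    (hθ : θ ∈ principalBlock M N) (ψ : IrrCharacter G)
    (hψN : ∀ n : N, (ψ : G → ℂ) n = (θ : N → ℂ) n) :
    ∃ χ : IrrCharacter G, (∀ n : N, (χ : G → ℂ) n = (θ : N → ℂ) n) ∧
      ∀ J : Subgroup G, N ≤ J → ∃ ξ : IrrCharacter J, ξ ∈ principalBlock M J ∧
        ∀ y : J, (ξ : J → ℂ) y = (χ : G → ℂ) y := by
  classical
  have hM := D.modular
  have hp := hM.1
  have A := linGlueAxioms D θ hθ ψ.2 hψN
  obtain ⟨f, hfirr, hf1, hfN, hfagree⟩ := A.exists_glued hp
  have hψc := isCharacter_of_irr ψ.2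
  have hχc : IsCharacter G (f * (ψ : G → ℂ)) := isCharacter_mul (isCharacter_of_irr hfirr) hψc
  have hχN : ∀ n : N, (f * (ψ : G → ℂ)) n = (θ : N → ℂ) n := by
    intro n
    rw [Pi.mul_apply, hfN n n.2, one_mul, hψN]
  -- irreducibility of restrictions
  have hirrJ : ∀ J : Subgroup G, N ≤ J →
      IsIrrCharacter J (fun y : J => (f * (ψ : G → ℂ)) y) := by
    intro J hNJ
    have hc : IsCharacter J (fun y : J => (f * (ψ : G → ℂ)) y) :=
      isCharacter_comp_hom J.subtype hχc
    apply isIrrCharacter_of_comp_irr (N.subgroupOf J).subtype hc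
    have h2 : (fun x : N.subgroupOf J =>
        (fun y : J => (f * (ψ : G → ℂ)) y) ((N.subgroupOf J).subtype x))
        = subFn N J (θ : N → ℂ) := by
      funext x
      rw [subFn_apply]
      exact hχN ⟨((x : J) : G), Subgroup.mem_subgroupOf.mp x.2⟩
    rw [h2]
    exact isIrrCharacter_subFn hNJ θ.2
  have hχirr : IsIrrCharacter G (f * (ψ : G → ℂ)) := by
    apply isIrrCharacter_of_comp_irr N.subtype hχc
    have h2 : (fun x : N => (f * (ψ : G → ℂ)) (N.subtype x)) = (θ : N → ℂ) := funext hχN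
    rw [h2]; exact θ.2
  refine ⟨⟨f * (ψ : G → ℂ), hχirr⟩, hχN, ?_⟩
  intro J hNJ
  haveI : Fintype J := Fintype.ofFinite J
  refine ⟨⟨_, hirrJ J hNJ⟩, ?_, fun y => rfl⟩
  apply mem_principalBlock_of_regular_dvd hM
  intro g hg
  have hgG : ¬ p ∣ orderOf (g : G) := by rwa [Subgroup.orderOf_coe]
  set H := cycSub N (g : G) with hH
  have hNH : N ≤ H := le_cycSub N _
  have hHJ : H ≤ J := cycSub_le N hNJ g.2
  have hadm : ¬ p ∣ N.relIndex H := fun h => hgG (h.trans (relIndex_cycSub_dvd N _))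
  obtain ⟨β, hβ, ξ, hξB, hξ⟩ := linGood_exists D θ hθ ψ.2 hψN hNH hadm
  set gH : H := ⟨(g : G), self_mem_cycSub N _⟩ with hgH
  refine ⟨(Subgroup.centralizer ({gH} : Set H)).index, ?_, ?_⟩
  · rw [index_centralizer_subtype H gH, index_centralizer_subtype J g,
      relIndex_cycSub_centralizer]
    exact relIndex_normal_dvd N _ hNJ
  · have h1 : SameBlock M (fun _ : H => (1 : ℂ)) (ξ : H → ℂ) := hξB
    have h2 := h1 gH
    unfold centralChar at h2
    have h3 : (ξ : H → ℂ) gH = f g * (ψ : G → ℂ) g := by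
      rw [hξ gH, ← hfagree hNH hadm hβ gH hgG]
    have h4 : (ξ : H → ℂ) 1 = f 1 * (ψ : G → ℂ) 1 := by
      rw [hξ 1, map_one, hf1]; simp
    rw [h3, h4] at h2
    simpa using h2

end Main

end Cfsg.Agent.Lib.Helper25.AlperinDade
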