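import Mathlib
import Cfsg.Prelude.Def_Blocks
import Cfsg.Prelude.Def_BlockRank
import Cfsg.Agent.Lib.Helper24.BlockRegular

/-!
# The block part of a class function vanishing at the `p`-singular elements (helper25 library)

`blockPart_vanish_singular`: if the class function `η` vanishes at the `p`-singular elements,
so does its `B`-part `∑_{χ ∈ B} ⟨η, χ⟩ χ` for every `p`-block `B`.
-/

set_option autoImplicit false

namespace Cfsg.Agent.Lib.Helper25

open Cfsg.Agent.Lib.Helper2 Cfsg.Agent.Lib.Helper24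
open scoped ComplexConjugate

variable {G : Type*} [Group G] [Fintype G] {p : ℕ} {M : Ideal Cfsg.AlgInt}

/-- If the class function `η` vanishes at the `p`-singular elements then so does its part in any
`p`-block. -/
theorem blockPart_vanish_singular (hM : Cfsg.IsPModular p M) (B : Set (Cfsg.IrrCharacter G))
    (hB : Cfsg.IsPBlock M B) [Fintype (Cfsg.IrrCharacter G)] [DecidablePred (· ∈ B)]
    (η : G → ℂ) (hη : Cfsg.IsClassFunction G η)
    (hvan : ∀ x : G, p ∣ orderOf x → η x = 0) (x : G) (hx : p ∣ orderOf x) :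
    ∑ χ : Cfsg.IrrCharacter G,
      (if χ ∈ B then Cfsg.classInner η (χ : G → ℂ) * (χ : G → ℂ) x else 0) = 0 := by
  classical
  -- `η` is its own `p`-regular part
  have hη0 : Cfsg.pRegularPart p η = η := by
    funext g
    by_cases hg : p ∣ orderOf g
    · rw [pRegularPart_of_singular _ hg, hvan g hg]
    · rw [pRegularPart_of_regular _ hg]
  have hexp := Cfsg.Agent.Lib.Helper2.classFunction_expansion η hη
  -- expansion of `η` through the `p`-regular parts
  have hexp0 : η = ∑ ψ : Cfsg.IrrCharacter G,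
      Cfsg.classInner η (ψ : G → ℂ) • Cfsg.pRegularPart p (ψ : G → ℂ) := by
    have h1 : pRegLin p G η = η := hη0
    conv_lhs => rw [← h1, hexp]
    rw [map_sum]
    apply Finset.sum_congr rfl
    intro ψ _
    rw [map_smul]
    rfl
  -- the coefficients inside the block
  have hcoef : ∀ χ : Cfsg.IrrCharacter G, χ ∈ B → Cfsg.classInner η (χ : G → ℂ) =
      ∑ ψ : Cfsg.IrrCharacter G, (if ψ ∈ B then Cfsg.classInner η (ψ : G → ℂ) *
        Cfsg.classInner (Cfsg.pRegularPart p (ψ : G → ℂ)) (χ : G → ℂ) else 0) := by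
    intro χ hχ
    have h1 : Cfsg.classInner η (χ : G → ℂ) = Cfsg.classInner (∑ ψ : Cfsg.IrrCharacter G,
        Cfsg.classInner η (ψ : G → ℂ) • Cfsg.pRegularPart p (ψ : G → ℂ)) (χ : G → ℂ) := by
      rw [← hexp0]
    rw [h1, Cfsg.Agent.Lib.Helper2.classInner_sum_left]
    apply Finset.sum_congr rfl
    intro ψ _
    rw [Cfsg.Agent.Lib.Helper2.classInner_smul_left]
    by_cases hψ : ψ ∈ B
    · rw [if_pos hψ]
    · rw [if_neg hψ]
      have h0 := sum_pRegularPart_mul_conj_eq_zero hM B hB ψ hψ χ hχ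
      have h00 : Cfsg.classInner (Cfsg.pRegularPart p (ψ : G → ℂ)) (χ : G → ℂ) = 0 := by
        rw [Cfsg.Agent.Lib.Helper2.classInner_def, h0, mul_zero]
      rw [h00, mul_zero]
  -- assemble
  have h2 : ∀ χ : Cfsg.IrrCharacter G,
      (if χ ∈ B then Cfsg.classInner η (χ : G → ℂ) * (χ : G → ℂ) x else 0) =
      ∑ ψ : Cfsg.IrrCharacter G, (if ψ ∈ B then Cfsg.classInner η (ψ : G → ℂ) *
        (if χ ∈ B then Cfsg.classInner (Cfsg.pRegularPart p (ψ : G → ℂ)) (χ : G → ℂ) *
          (χ : G → ℂ) x else 0) else 0) := by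
    intro χ
    by_cases hχ : χ ∈ B
    · rw [if_pos hχ, hcoef χ hχ, Finset.sum_mul]
      apply Finset.sum_congr rfl
      intro ψ _
      by_cases hψ : ψ ∈ B
      · rw [if_pos hψ, if_pos hψ, if_pos hχ]; ring
      · rw [if_neg hψ, if_neg hψ, zero_mul]
    · rw [if_neg hχ]
      symm
      apply Finset.sum_eq_zero
      intro ψ _
      rw [if_neg hχ, mul_zero]
      simp
  rw [Finset.sum_congr rfl (fun (χ : Cfsg.IrrCharacter G) _ => h2 χ), Finset.sum_comm]
  apply Finset.sum_eq_zero
  intro ψ _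
  by_cases hψ : ψ ∈ B
  · simp only [if_pos hψ]
    rw [← Finset.mul_sum]
    have h3 := congrFun (pRegularPart_eq_sum_block hM B hB ψ hψ) x
    rw [pRegularPart_of_singular _ hx, Finset.sum_apply] at h3
    have h4 : ∑ χ : Cfsg.IrrCharacter G,
        (if χ ∈ B then Cfsg.classInner (Cfsg.pRegularPart p (ψ : G → ℂ)) (χ : G → ℂ) *
          (χ : G → ℂ) x else 0) = 0 := by
      refine Eq.trans ?_ h3.symm
      apply Finset.sum_congr rfl
      intro χ _
      by_cases hχ : χ ∈ B
      · rw [if_pos hχ, if_pos hχ]; rfl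
      · rw [if_neg hχ, if_neg hχ]; rfl
    rw [h4, mul_zero]
  · simp only [if_neg hψ]
    simp

end Cfsg.Agent.Lib.Helper25
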