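import Mathlib
import Cfsg.Agent.Lib.Helper3.CardSL
import Cfsg.Agent.Lib.Helper28.CG.Defs

/-!
# S3412 farm, helper25: the unitriangular subgroup of `SL(3,3)`

`UU`: the 27 upper unitriangular matrices; it is a Sylow 3-subgroup, its centralizer consists of
the matrices `1 + a E₁₃`, and every subgroup of order 27 is conjugate to it.
-/

set_option autoImplicit false

namespace Cfsg.Agent.Lib.Helper28.CG.Helper25

open Matrix

/-- the order of `SL(3,3)` -/
theorem card_S33 : Nat.card S33 = 5616 := by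
  have h2 := Cfsg.Agent.Lib.Helper3.CardSL.card_GL_eq_card_SL_mul (F := ZMod 3) 3 (by norm_num)
  rw [Matrix.card_GL_field, Nat.card_units, Nat.card_eq_fintype_card (α := ZMod 3), ZMod.card] at h2
  generalize Nat.card (Matrix.SpecialLinearGroup (Fin 3) (ZMod 3)) = n at h2 ⊢
  rw [Fin.prod_univ_three] at h2
  norm_num at h2
  omega

/-- the upper unitriangular matrix with entries `a`, `b`, `c` -/
def uMat (a b c : ZMod 3) : Matrix (Fin 3) (Fin 3) (ZMod 3) := !![1, a, b; 0, 1, c; 0, 0, 1]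

theorem det_uMat (a b c : ZMod 3) : (uMat a b c).det = 1 := by
  rw [Matrix.det_fin_three]
  simp [uMat]

/-- the upper unitriangular element of `SL(3,3)` -/
def uEl (a b c : ZMod 3) : S33 := ⟨uMat a b c, det_uMat a b c⟩

theorem coe_uEl (a b c : ZMod 3) :
    ((uEl a b c : S33) : Matrix (Fin 3) (Fin 3) (ZMod 3)) = uMat a b c := rfl

theorem uEl_mul (a b c a' b' c' : ZMod 3) :
    uEl a b c * uEl a' b' c' = uEl (a + a') (b + b' + a * c') (c + c') := by
  apply Subtype.ext
  rw [Matrix.SpecialLinearGroup.coe_mul]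
  ext i j
  fin_cases i <;> fin_cases j <;>
    simp [uEl, uMat, Matrix.mul_apply, Fin.sum_univ_three] <;> ring

theorem uEl_zero : uEl 0 0 0 = 1 := by
  apply Subtype.ext
  ext i j
  fin_cases i <;> fin_cases j <;> simp [uEl, uMat]

theorem uEl_inv (a b c : ZMod 3) : (uEl a b c)⁻¹ = uEl (-a) (a * c - b) (-c) := by
  apply inv_eq_of_mul_eq_one_right
  rw [uEl_mul, ← uEl_zero]
  congr 1 <;> ring

theorem uEl_injective : Function.Injective (fun p : ZMod 3 × ZMod 3 × ZMod 3 => uEl p.1 p.2.1 p.2.2) := by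
  rintro ⟨a, b, c⟩ ⟨a', b', c'⟩ h
  have hm : uMat a b c = uMat a' b' c' := congrArg Subtype.val h
  have h1 : a = a' := by simpa [uMat] using congrFun (congrFun hm 0) 1
  have h2 : b = b' := by simpa [uMat] using congrFun (congrFun hm 0) 2
  have h3 : c = c' := by simpa [uMat] using congrFun (congrFun hm 1) 2
  rw [h1, h2, h3]

/-- the unitriangular subgroup -/
def UU : Subgroup S33 where
  carrier := Set.range (fun p : ZMod 3 × ZMod 3 × ZMod 3 => uEl p.1 p.2.1 p.2.2)
  mul_mem' := by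
    rintro _ _ ⟨⟨a, b, c⟩, rfl⟩ ⟨⟨a', b', c'⟩, rfl⟩
    exact ⟨(a + a', b + b' + a * c', c + c'), (uEl_mul a b c a' b' c').symm⟩
  one_mem' := ⟨(0, 0, 0), uEl_zero⟩
  inv_mem' := by
    rintro _ ⟨⟨a, b, c⟩, rfl⟩
    exact ⟨(-a, a * c - b, -c), (uEl_inv a b c).symm⟩

theorem uEl_mem_UU (a b c : ZMod 3) : uEl a b c ∈ UU := ⟨(a, b, c), rfl⟩

theorem mem_UU {A : S33} : A ∈ UU ↔ ∃ a b c : ZMod 3, A = uEl a b c := by
  constructor
  · rintro ⟨⟨a, b, c⟩, rfl⟩
    exact ⟨a, b, c, rfl⟩
  · rintro ⟨a, b, c, rfl⟩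
    exact uEl_mem_UU a b c

theorem card_UU : Nat.card UU = 27 := by
  have h : Nat.card (Set.range (fun p : ZMod 3 × ZMod 3 × ZMod 3 => uEl p.1 p.2.1 p.2.2)) =
      Nat.card (ZMod 3 × ZMod 3 × ZMod 3) := Nat.card_range_of_injective uEl_injective
  have h2 : Nat.card (ZMod 3 × ZMod 3 × ZMod 3) = 27 := by
    rw [Nat.card_prod, Nat.card_prod, Nat.card_eq_fintype_card, ZMod.card]
  rw [← h2, ← h]
  rfl

instance fact3 : Fact (Nat.Prime 3) := ⟨by norm_num⟩

theorem factorization_card_S33 : (Nat.card S33).factorization 3 = 3 := by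
  rw [card_S33, Nat.factorization_def _ (by norm_num : Nat.Prime 3)]
  have h : (5616 : ℕ) = 3 ^ 3 * 208 := by norm_num
  rw [h, padicValNat.mul (by norm_num) (by norm_num), padicValNat.prime_pow,
    padicValNat.eq_zero_of_not_dvd (by norm_num)]

/-- every subgroup of order 27 of `SL(3,3)` is a conjugate of `UU` -/
theorem exists_conj_of_card (P : Subgroup S33) (hP : Nat.card P = 27) :
    ∃ g : S33, ∀ A : S33, A ∈ UU → g * A * g⁻¹ ∈ P := by
  have e1 : Nat.card UU = 3 ^ (Nat.card S33).factorization 3 := by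
    rw [factorization_card_S33, card_UU]; norm_num
  have e2 : Nat.card P = 3 ^ (Nat.card S33).factorization 3 := by
    rw [factorization_card_S33, hP]; norm_num
  obtain ⟨g, hg⟩ := MulAction.exists_smul_eq S33 (Sylow.ofCard UU e1) (Sylow.ofCard P e2)
  refine ⟨g, fun A hA => ?_⟩
  have h3 : ((g • Sylow.ofCard UU e1 : Sylow 3 S33) : Subgroup S33) = P := by
    rw [hg]; rfl
  rw [Sylow.coe_subgroup_smul] at h3
  rw [← h3, Subgroup.mem_pointwise_smul_iff_inv_smul_mem]
  simp only [MulAut.smul_def, MulAut.inv_apply, MulAut.conj_symm_apply]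
  have : g⁻¹ * (g * A * g⁻¹) * g = A := by group
  rw [this]
  exact hA

/-- an element commuting with `1 + E₁₂` and `1 + E₂₃` is of the form `1 + a E₁₃` -/
theorem eq_uEl_of_commute (y : S33) (h1 : y * uEl 1 0 0 = uEl 1 0 0 * y)
    (h2 : y * uEl 0 0 1 = uEl 0 0 1 * y) : ∃ a : ZMod 3, y = uEl 0 a 0 := by
  have m1 : (y : Matrix (Fin 3) (Fin 3) (ZMod 3)) * uMat 1 0 0 = uMat 1 0 0 * y := by
    have := congrArg Subtype.val h1
    rwa [Matrix.SpecialLinearGroup.coe_mul, Matrix.SpecialLinearGroup.coe_mul] at this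
  have m2 : (y : Matrix (Fin 3) (Fin 3) (ZMod 3)) * uMat 0 0 1 = uMat 0 0 1 * y := by
    have := congrArg Subtype.val h2
    rwa [Matrix.SpecialLinearGroup.coe_mul, Matrix.SpecialLinearGroup.coe_mul] at this
  set M : Matrix (Fin 3) (Fin 3) (ZMod 3) := (y : Matrix (Fin 3) (Fin 3) (ZMod 3)) with hM
  have hdet : M.det = 1 := y.2
  have a01 := congrFun (congrFun m1 0) 1
  have a11 := congrFun (congrFun m1 1) 1
  have a21 := congrFun (congrFun m1 2) 1
  have a00 := congrFun (congrFun m1 0) 0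
  have a02 := congrFun (congrFun m1 0) 2
  have b02 := congrFun (congrFun m2 0) 2
  have b12 := congrFun (congrFun m2 1) 2
  have b22 := congrFun (congrFun m2 2) 2
  have b10 := congrFun (congrFun m2 1) 0
  have b11 := congrFun (congrFun m2 1) 1
  simp [uMat, Matrix.mul_apply, Fin.sum_univ_three] at a01 a11 a21 a00 a02 b02 b12 b22 b10 b11
  have e1 : M 0 0 = M 1 1 := by linear_combination a01
  have e2 : M 2 2 = M 1 1 := by linear_combination -b12
  rw [Matrix.det_fin_three] at hdet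
  rw [a11, a21, a02, b02, b22, e1, e2] at hdet
  have hl : ∀ l : ZMod 3, l * l * l = 1 → l = 1 := by decide
  have h11 : M 1 1 = 1 := hl _ (by linear_combination hdet)
  refine ⟨M 0 2, ?_⟩
  apply Subtype.ext
  show M = uMat 0 (M 0 2) 0
  ext i j
  fin_cases i <;> fin_cases j <;> simp [uMat, a11, a21, a02, b02, b22, e1, e2, h11]

theorem coe_mul_inv (g : S33) :
    (g : Matrix (Fin 3) (Fin 3) (ZMod 3)) * ((g⁻¹ : S33) : Matrix (Fin 3) (Fin 3) (ZMod 3)) = 1 := by
  rw [← Matrix.SpecialLinearGroup.coe_mul, mul_inv_cancel, Matrix.SpecialLinearGroup.coe_one]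

theorem coe_inv_mul (g : S33) :
    ((g⁻¹ : S33) : Matrix (Fin 3) (Fin 3) (ZMod 3)) * (g : Matrix (Fin 3) (Fin 3) (ZMod 3)) = 1 := by
  rw [← Matrix.SpecialLinearGroup.coe_mul, inv_mul_cancel, Matrix.SpecialLinearGroup.coe_one]

/-- the conjugates of `1 + a E₁₃` are transvections -/
theorem coe_conj_uEl (g : S33) (a : ZMod 3) :
    ((g * uEl 0 a 0 * g⁻¹ : S33) : Matrix (Fin 3) (Fin 3) (ZMod 3)) =
      tv (fun i => (g : Matrix (Fin 3) (Fin 3) (ZMod 3)) i 0)
        (fun j => a * ((g⁻¹ : S33) : Matrix (Fin 3) (Fin 3) (ZMod 3)) 2 j) := by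
  have hu : uMat 0 a 0 = 1 + vecMulVec ![1, 0, 0] ![0, 0, a] := by
    ext i j
    fin_cases i <;> fin_cases j <;> simp [uMat]
  rw [Matrix.SpecialLinearGroup.coe_mul, Matrix.SpecialLinearGroup.coe_mul, coe_uEl, hu, mul_add,
    add_mul, mul_one, coe_mul_inv, mul_vecMulVec, vecMulVec_mul, tv]
  congr 2
  · ext i
    simp [mulVec, dotProduct, Fin.sum_univ_three]
  · ext j
    simp [vecMul, dotProduct, Fin.sum_univ_three]

/-- the flag-pair conditions for the centre and axis of a conjugate of `1 + a E₁₃` -/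
theorem isFlagPair_conj (g : S33) (a : ZMod 3) (ha : a ≠ 0) :
    IsFlagPair (fun i => (g : Matrix (Fin 3) (Fin 3) (ZMod 3)) i 0)
      (fun j => a * ((g⁻¹ : S33) : Matrix (Fin 3) (Fin 3) (ZMod 3)) 2 j) := by
  have h00 := congrFun (congrFun (coe_inv_mul g) 0) 0
  have h22 := congrFun (congrFun (coe_inv_mul g) 2) 2
  have h20 := congrFun (congrFun (coe_inv_mul g) 2) 0
  simp only [Matrix.mul_apply, Fin.sum_univ_three, Matrix.one_apply_eq] at h00 h22
  rw [Matrix.mul_apply, Fin.sum_univ_three, Matrix.one_apply_ne (by decide)] at h20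
  refine ⟨?_, ?_, ?_⟩
  · intro h
    have e0 := congrFun h 0
    have e1 := congrFun h 1
    have e2 := congrFun h 2
    simp only [Pi.zero_apply] at e0 e1 e2
    rw [e0, e1, e2] at h00
    simp at h00
  · intro h
    have e0 := congrFun h 0
    have e1 := congrFun h 1
    have e2 := congrFun h 2
    simp only [Pi.zero_apply, mul_eq_zero, ha, false_or] at e0 e1 e2
    rw [e0, e1, e2] at h22
    simp at h22
  · simp only [dotProduct, Fin.sum_univ_three]
    linear_combination a * h20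

end Cfsg.Agent.Lib.Helper28.CG.Helper25
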