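import Mathlib
import Cfsg.Agent.Lib.Helper28.CG.Defs
import Cfsg.Agent.Lib.Helper25.CGU

/-!
# S3412 farm, leaf [S6a] (helper25): centralizer order divisible by 27 forces a transvection
-/

set_option autoImplicit false

namespace Cfsg.Agent.Lib.Helper28.CG

open Matrix

/-- [S6a] centralizer order divisible by 27 forces a transvection (Sylow: the centralizer contains
a conjugate of the unitriangular group `U`, and `C(U) = Z(U)`) -/
theorem isTv_of_mem_TT (x : V S33) (hx : x ∈ TT S33) : IsTv x := by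
  have hx' : 3 ^ 3 ∣ Nat.card (Subgroup.centralizer ({x.1} : Set S33)) := by
    have h : 27 ∣ cdeg x := hx
    unfold cdeg at h
    norm_num
    exact h
  obtain ⟨K, hK⟩ := Sylow.exists_subgroup_card_pow_prime 3 hx'
  have hP : Nat.card (K.map (Subgroup.centralizer ({x.1} : Set S33)).subtype) = 27 := by
    rw [Subgroup.card_subtype, hK]; norm_num
  obtain ⟨g, hg⟩ := Helper25.exists_conj_of_card _ hP
  -- every conjugate of an element of `UU` commutes with `x`
  have hcomm : ∀ A : S33, A ∈ Helper25.UU → (g⁻¹ * x.1 * g) * A = A * (g⁻¹ * x.1 * g) := by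
    intro A hA
    obtain ⟨⟨k, hk⟩, -, hkA⟩ := Subgroup.mem_map.mp (hg A hA)
    have hk' : k * x.1 = x.1 * k := Subgroup.mem_centralizer_singleton_iff.mp hk
    have hkA' : k = g * A * g⁻¹ := hkA
    rw [hkA'] at hk'
    have e1 : g⁻¹ * x.1 * g * A = g⁻¹ * (x.1 * (g * A * g⁻¹)) * g := by group
    have e2 : A * (g⁻¹ * x.1 * g) = g⁻¹ * (g * A * g⁻¹ * x.1) * g := by group
    rw [e1, e2, hk']
  obtain ⟨a, ha⟩ := Helper25.eq_uEl_of_commute (g⁻¹ * x.1 * g)
    (hcomm _ (Helper25.uEl_mem_UU 1 0 0)) (hcomm _ (Helper25.uEl_mem_UU 0 0 1))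
  have hxe : x.1 = g * Helper25.uEl 0 a 0 * g⁻¹ := by
    rw [← ha]; group
  have ha0 : a ≠ 0 := by
    rintro rfl
    apply x.2
    rw [hxe, Helper25.uEl_zero]
    group
  refine ⟨_, _, Helper25.isFlagPair_conj g a ha0, ?_⟩
  rw [hxe]
  exact Helper25.coe_conj_uEl g a

end Cfsg.Agent.Lib.Helper28.CG
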