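import Mathlib
import Cfsg.Agent.Lib.Helper28.CG.Defs
import Cfsg.Agent.Lib.Helper25.CGU

/-!
# S3412 farm, leaf [S6b] (helper25): transvections have centralizer order divisible by 27

Every flag pair `(v, φ)` is completed to a basis `v, w, u` with `w` on the axis and determinant one;
the matrix `g = (v | w | u)` conjugates `1 + (φ·u) E₁₃` to `tv v φ`, and the unitriangular group
(order 27) centralizes `1 + s E₁₃`.
-/

set_option autoImplicit false

namespace Cfsg.Agent.Lib.Helper28.CG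

open Matrix

namespace Helper25

set_option maxRecDepth 100000 in
/-- basis completion of a flag pair, by exhaustion -/
theorem basis_table : ∀ a b c d e f : ZMod 3, ¬(a = 0 ∧ b = 0 ∧ c = 0) → ¬(d = 0 ∧ e = 0 ∧ f = 0) →
    d * a + e * b + f * c = 0 →
    ∃ w1 w2 w3 : ZMod 3, d * w1 + e * w2 + f * w3 = 0 ∧ ∃ u1 u2 u3 : ZMod 3,
      a * (w2 * u3 - u2 * w3) - w1 * (b * u3 - u2 * c) + u1 * (b * w3 - w2 * c) = 1 := by
  decide

/-- every flag pair is the image of the standard one under an element of `SL(3,3)` -/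
theorem exists_conj_tv (v φ : Vec) (h : IsFlagPair v φ) :
    ∃ (g : S33) (s : ZMod 3), tv v φ * (g : Matrix (Fin 3) (Fin 3) (ZMod 3)) =
      (g : Matrix (Fin 3) (Fin 3) (ZMod 3)) * uMat 0 s 0 := by
  obtain ⟨hv, hφ, hd⟩ := h
  have hv' : ¬(v 0 = 0 ∧ v 1 = 0 ∧ v 2 = 0) := by
    rintro ⟨h0, h1, h2⟩
    apply hv
    ext i
    fin_cases i <;> simp [h0, h1, h2]
  have hφ' : ¬(φ 0 = 0 ∧ φ 1 = 0 ∧ φ 2 = 0) := by
    rintro ⟨h0, h1, h2⟩
    apply hφ
    ext i
    fin_cases i <;> simp [h0, h1, h2]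
  have hd' : φ 0 * v 0 + φ 1 * v 1 + φ 2 * v 2 = 0 := by
    simpa [dotProduct, Fin.sum_univ_three] using hd
  obtain ⟨w1, w2, w3, hw, u1, u2, u3, hdet⟩ :=
    basis_table (v 0) (v 1) (v 2) (φ 0) (φ 1) (φ 2) hv' hφ' hd'
  have hdet' : (!![v 0, w1, u1; v 1, w2, u2; v 2, w3, u3] :
      Matrix (Fin 3) (Fin 3) (ZMod 3)).det = 1 := by
    rw [Matrix.det_fin_three]
    show v 0 * w2 * u3 - v 0 * u2 * w3 - w1 * v 1 * u3 + w1 * u2 * v 2 + u1 * v 1 * w3 -
      u1 * w2 * v 2 = 1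
    linear_combination hdet
  refine ⟨⟨_, hdet'⟩, φ 0 * u1 + φ 1 * u2 + φ 2 * u3, ?_⟩
  show tv v φ * !![v 0, w1, u1; v 1, w2, u2; v 2, w3, u3] =
    !![v 0, w1, u1; v 1, w2, u2; v 2, w3, u3] * uMat 0 (φ 0 * u1 + φ 1 * u2 + φ 2 * u3) 0
  have hu : uMat 0 (φ 0 * u1 + φ 1 * u2 + φ 2 * u3) 0 =
      1 + vecMulVec ![1, 0, 0] ![0, 0, φ 0 * u1 + φ 1 * u2 + φ 2 * u3] := by
    ext i j
    fin_cases i <;> fin_cases j <;> simp [uMat]
  have h1 : φ ᵥ* (!![v 0, w1, u1; v 1, w2, u2; v 2, w3, u3] : Matrix (Fin 3) (Fin 3) (ZMod 3)) =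
      ![0, 0, φ 0 * u1 + φ 1 * u2 + φ 2 * u3] := by
    ext j
    fin_cases j
    · simpa [vecMul, dotProduct, Fin.sum_univ_three] using hd'
    · simpa [vecMul, dotProduct, Fin.sum_univ_three] using hw
    · simp [vecMul, dotProduct, Fin.sum_univ_three]
  have h2 : (!![v 0, w1, u1; v 1, w2, u2; v 2, w3, u3] : Matrix (Fin 3) (Fin 3) (ZMod 3)) *ᵥ
      ![1, 0, 0] = v := by
    ext i
    fin_cases i <;> simp [mulVec, dotProduct, Fin.sum_univ_three]
  rw [hu, tv, add_mul, one_mul, mul_add, mul_one, vecMulVec_mul, mul_vecMulVec, h1, h2]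

end Helper25

/-- [S6b] transvections have centralizer order divisible by 27 -/
theorem mem_TT_of_isTv (x : V S33) (hx : IsTv x) : x ∈ TT S33 := by
  obtain ⟨v, φ, hflag, hxm⟩ := hx
  obtain ⟨g, s, hg⟩ := Helper25.exists_conj_tv v φ hflag
  have hxg : x.1 * g = g * Helper25.uEl 0 s 0 := by
    apply Subtype.ext
    rw [Matrix.SpecialLinearGroup.coe_mul, Matrix.SpecialLinearGroup.coe_mul, hxm, hg,
      Helper25.coe_uEl]
  have hxe : x.1 = g * Helper25.uEl 0 s 0 * g⁻¹ := by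
    rw [← hxg]; group
  have hle : Helper25.UU.map (MulAut.conj g).toMonoidHom ≤
      Subgroup.centralizer ({x.1} : Set S33) := by
    rintro _ ⟨A, hA, rfl⟩
    obtain ⟨a, b, c, rfl⟩ := Helper25.mem_UU.mp hA
    rw [Subgroup.mem_centralizer_singleton_iff]
    have hc : Helper25.uEl a b c * Helper25.uEl 0 s 0 =
        Helper25.uEl 0 s 0 * Helper25.uEl a b c := by
      rw [Helper25.uEl_mul, Helper25.uEl_mul]
      congr 1 <;> ring
    show g * Helper25.uEl a b c * g⁻¹ * x.1 = x.1 * (g * Helper25.uEl a b c * g⁻¹)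
    rw [hxe]
    have e1 : g * Helper25.uEl a b c * g⁻¹ * (g * Helper25.uEl 0 s 0 * g⁻¹) =
        g * (Helper25.uEl a b c * Helper25.uEl 0 s 0) * g⁻¹ := by group
    have e2 : g * Helper25.uEl 0 s 0 * g⁻¹ * (g * Helper25.uEl a b c * g⁻¹) =
        g * (Helper25.uEl 0 s 0 * Helper25.uEl a b c) * g⁻¹ := by group
    rw [e1, e2, hc]
  have hcard : Nat.card (Helper25.UU.map (MulAut.conj g).toMonoidHom) = 27 := by
    rw [Subgroup.card_map_of_injective (MulAut.conj g).injective, Helper25.card_UU]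
  have := Subgroup.card_dvd_of_le hle
  rw [hcard] at this
  exact this

end Cfsg.Agent.Lib.Helper28.CG
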