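import Mathlib

/-!
# `|A ⊔ Z(G)| = |A| |Z(G)|` when `A ⊓ Z(G) = ⊥` (helper25; offered for S4751-N27)
-/

set_option autoImplicit false

namespace Cfsg.Agent.Lib.Helper25.CardSupCenter

variable {G : Type*} [Group G]

/-- the multiplication map `A × Z(G) → G` -/
def mulHom (A : Subgroup G) : ↥A × ↥(Subgroup.center G) →* G where
  toFun p := (p.1 : G) * (p.2 : G)
  map_one' := by simp
  map_mul' := by
    rintro ⟨a, z⟩ ⟨a', z'⟩
    have hz : (z : G) * (a' : G) = (a' : G) * (z : G) :=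
      ((Subgroup.mem_center_iff.mp z.2) (a' : G)).symm
    show ((a * a' : A) : G) * ((z * z' : Subgroup.center G) : G) = (a : G) * z * ((a' : G) * z')
    rw [Subgroup.coe_mul, Subgroup.coe_mul]
    calc (a : G) * a' * ((z : G) * z') = (a : G) * ((a' : G) * (z : G)) * z' := by group
      _ = (a : G) * ((z : G) * (a' : G)) * z' := by rw [hz]
      _ = (a : G) * z * ((a' : G) * z') := by group

theorem mulHom_injective (A : Subgroup G) (hAZ : A ⊓ Subgroup.center G = ⊥) :
    Function.Injective (mulHom A) := by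
  rw [injective_iff_map_eq_one]
  rintro ⟨a, z⟩ h
  have h1 : (a : G) * (z : G) = 1 := h
  have ha : (a : G) = (z : G)⁻¹ := eq_inv_of_mul_eq_one_left h1
  have hmem : (a : G) ∈ A ⊓ Subgroup.center G := ⟨a.2, by rw [ha]; exact (Subgroup.center G).inv_mem z.2⟩
  rw [hAZ, Subgroup.mem_bot] at hmem
  have hz : (z : G) = 1 := by rw [hmem, one_mul] at h1; exact h1
  exact Prod.ext (Subtype.ext hmem) (Subtype.ext hz)

theorem range_mulHom (A : Subgroup G) : (mulHom A).range = A ⊔ Subgroup.center G := by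
  ext x
  rw [Subgroup.mem_sup_of_normal_right]
  constructor
  · rintro ⟨⟨a, z⟩, rfl⟩
    exact ⟨a, a.2, z, z.2, rfl⟩
  · rintro ⟨a, ha, z, hz, rfl⟩
    exact ⟨(⟨a, ha⟩, ⟨z, hz⟩), rfl⟩

/-- `|A ⊔ Z(G)| = |A| |Z(G)|` when `A` meets the centre trivially -/
theorem card_sup_center (A : Subgroup G) (hAZ : A ⊓ Subgroup.center G = ⊥) :
    Nat.card ↥(A ⊔ Subgroup.center G) = Nat.card A * Nat.card ↥(Subgroup.center G) := by
  rw [← range_mulHom A, ← Nat.card_prod]
  exact (Nat.card_congr (MonoidHom.ofInjective (mulHom_injective A hAZ)).toEquiv).symm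

end Cfsg.Agent.Lib.Helper25.CardSupCenter
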