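import Mathlib

/-!
# Class sizes and nilpotency (helper25)

`cs x` is the size of the conjugacy class of `x`; `Tp G p` is the set of elements whose class
size is a power of `p`.

* `exists_equiv`: two finite groups with the same multiset of class sizes admit a bijection
  preserving class sizes.
* `dvd_card_Tp_of_nilpotent`: in a finite nilpotent group `|H|_p` divides `#Tp H p`.
* `exists_normal_of_dvd_card_Tp`: if `|G|_p` divides `#Tp G p` then `G` has a normal
  Sylow `p`-subgroup.
* `isNilpotent_of_same_class_sizes`: Cossey--Hawkes--Mann.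
-/

set_option autoImplicit false

namespace Cfsg.Agent.Lib.Helper25.ClassSizeNilp

universe u

section Basic

variable {G : Type*} [Group G]

/-- The size of the conjugacy class of `x`. -/
noncomputable def cs (x : G) : ℕ := Nat.card (ConjClasses.mk x).carrier

theorem cs_eq_index (x : G) : cs x = (Subgroup.centralizer {x}).index := by
  have key : (Subgroup.centralizer {x}).index = (MulAction.stabilizer (ConjAct G) x).index := by
    rw [Subgroup.centralizer_eq_comap_stabilizer]
    exact Subgroup.index_comap_of_surjective _ (ConjAct.toConjAct (G := G)).surjective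
  unfold cs
  rw [key, ← ConjAct.orbit_eq_carrier_conjClasses, MulAction.index_stabilizer]
  exact Nat.card_coe_set_eq _

theorem cs_conj (g x : G) : cs (g * x * g⁻¹) = cs x := by
  unfold cs
  have : ConjClasses.mk (g * x * g⁻¹) = ConjClasses.mk x :=
    ConjClasses.mk_eq_mk_iff_isConj.2 (isConj_iff.2 ⟨g, rfl⟩).symm
  rw [this]

theorem cs_eq_one_iff (x : G) [Finite G] : cs x = 1 ↔ x ∈ Subgroup.center G := by
  rw [cs_eq_index, Subgroup.index_eq_one, Subgroup.centralizer_eq_top_iff_subset,
    Set.singleton_subset_iff]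
  rfl

/-- The set of elements whose class size is a power of `p`. -/
def Tp (G : Type*) [Group G] (p : ℕ) : Set G := {x | ∃ n : ℕ, cs x = p ^ n}

theorem mem_Tp {p : ℕ} {x : G} : x ∈ Tp G p ↔ ∃ n : ℕ, cs x = p ^ n := Iff.rfl

end Basic

section Transport

variable {G : Type*} [Group G]

theorem card_cs_eq [Finite G] (k : ℕ) :
    Nat.card {x : G // cs x = k} =
      Nat.card {C : ConjClasses G // Nat.card C.carrier = k} * k := by
  classical
  let e : {x : G // cs x = k} ≃
      Σ C : {C : ConjClasses G // Nat.card C.carrier = k}, C.1.carrier :=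
    { toFun := fun x => ⟨⟨ConjClasses.mk x.1, x.2⟩, ⟨x.1, ConjClasses.mem_carrier_mk⟩⟩
      invFun := fun y => ⟨y.2.1, by
        have h1 := ConjClasses.mem_carrier_iff_mk_eq.1 y.2.2
        unfold cs; rw [h1]; exact y.1.2⟩
      left_inv := fun x => rfl
      right_inv := by
        rintro ⟨⟨C, hC⟩, ⟨x, hx⟩⟩
        obtain rfl := ConjClasses.mem_carrier_iff_mk_eq.1 hx
        rfl }
  haveI : Fintype {C : ConjClasses G // Nat.card C.carrier = k} := Fintype.ofFinite _
  rw [Nat.card_congr e, Nat.card_sigma, Finset.sum_congr rfl (fun C _ => C.2), Finset.sum_const,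
    Finset.card_univ, smul_eq_mul, Nat.card_eq_fintype_card]

theorem exists_equiv {G H : Type*} [Group G] [Finite G] [Group H] [Finite H]
    (h : ∀ k : ℕ, Nat.card {C : ConjClasses G // Nat.card C.carrier = k} =
      Nat.card {C : ConjClasses H // Nat.card C.carrier = k}) :
    ∃ e : G ≃ H, ∀ x, cs (e x) = cs x := by
  have hk : ∀ k : ℕ, Nonempty ({x : G // cs x = k} ≃ {y : H // cs y = k}) := by
    intro k
    rw [← Finite.card_eq, card_cs_eq, card_cs_eq, h]
  let e : G ≃ H :=
    (Equiv.sigmaFiberEquiv (cs (G := G))).symm.trans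
      ((Equiv.sigmaCongrRight (fun k => Classical.choice (hk k))).trans
        (Equiv.sigmaFiberEquiv (cs (G := H))))
  exact ⟨e, fun x => ((Classical.choice (hk (cs x))) ⟨x, rfl⟩).2⟩

end Transport

section Nilpotent

variable {H : Type*} [Group H] [Finite H]

/-- A normal `q`-subgroup is contained in every subgroup of index prime to `q`. -/
theorem le_of_normal_of_not_dvd_index {q : ℕ} [Fact q.Prime] (Q C : Subgroup H) [Q.Normal]
    (hQ : IsPGroup q Q) (hC : ¬ q ∣ C.index) : Q ≤ C := by
  have hne : (MulAction.fixedPoints Q (H ⧸ C)).Nonempty := by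
    apply hQ.nonempty_fixed_point_of_prime_not_dvd_card
    rwa [← Subgroup.index_eq_card]
  obtain ⟨a, ha⟩ := hne
  induction a using QuotientGroup.induction_on with
  | H g =>
  intro y hy
  have hy' : g * y⁻¹ * g⁻¹ ∈ Q := ‹Q.Normal›.conj_mem _ (Q.inv_mem hy) g
  have this : ((g * y⁻¹ * g⁻¹ * g : H) : H ⧸ C) = (g : H ⧸ C) := ha ⟨_, hy'⟩
  have h2 := QuotientGroup.eq.1 this
  have h3 : (g * y⁻¹ * g⁻¹ * g)⁻¹ * g = y := by group
  rwa [h3] at h2

theorem dvd_card_Tp_of_nilpotent [hH : Group.IsNilpotent H] (p : ℕ) [Fact p.Prime] :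
    p ^ (Nat.card H).factorization p ∣ Nat.card (Tp H p) := by
  classical
  have P : Sylow p H := default
  let M : Subgroup H := ⨅ (q : ℕ) (_ : q.Prime) (_ : q ≠ p) (Q : Sylow q H),
    Subgroup.centralizer (Q : Set H)
  have hmemM : ∀ x : H, x ∈ M ↔ ∀ q : ℕ, q.Prime → q ≠ p → ∀ Q : Sylow q H,
      x ∈ Subgroup.centralizer (Q : Set H) := by
    intro x
    simp only [M, Subgroup.mem_iInf]
  have hPM : (P : Subgroup H) ≤ M := by
    intro u hu
    rw [hmemM]
    intro q hq hqp Q
    haveI : Fact q.Prime := ⟨hq⟩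
    rw [Subgroup.mem_centralizer_iff]
    intro y hy
    have hdis : Disjoint (Q : Subgroup H) (P : Subgroup H) :=
      IsPGroup.disjoint_of_ne q p hqp _ _ Q.isPGroup' P.isPGroup'
    exact Subgroup.commute_of_normal_of_disjoint _ _ inferInstance inferInstance hdis y u hy hu
  have hMT : (M : Set H) = Tp H p := by
    ext x
    constructor
    · intro hx
      have hx' := (hmemM x).1 hx
      rw [mem_Tp, cs_eq_index]
      refine ⟨_, Nat.eq_prime_pow_of_unique_prime_dvd
        (Subgroup.index_ne_zero_of_finite) ?_⟩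
      intro q hq hqd
      by_contra hqp
      haveI : Fact q.Prime := ⟨hq⟩
      have Q : Sylow q H := default
      have hQC : (Q : Subgroup H) ≤ Subgroup.centralizer {x} := by
        intro y hy
        rw [Subgroup.mem_centralizer_iff]
        intro z hz
        rw [Set.mem_singleton_iff] at hz
        subst hz
        have := Subgroup.mem_centralizer_iff.1 (hx' q hq hqp Q) y hy
        exact this.symm
      exact Q.not_dvd_index (dvd_trans hqd (Subgroup.index_dvd_of_le hQC))
    · intro hx
      obtain ⟨n, hn⟩ := hx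
      rw [cs_eq_index] at hn
      show x ∈ M
      rw [hmemM]
      intro q hq hqp Q
      haveI : Fact q.Prime := ⟨hq⟩
      have hnd : ¬ q ∣ (Subgroup.centralizer {x}).index := by
        rw [hn]
        intro hd
        exact hqp ((Nat.prime_dvd_prime_iff_eq hq Fact.out).1 (hq.dvd_of_dvd_pow hd))
      have hQC := le_of_normal_of_not_dvd_index (Q : Subgroup H) _ Q.isPGroup' hnd
      rw [Subgroup.mem_centralizer_iff]
      intro y hy
      have := Subgroup.mem_centralizer_iff.1 (hQC hy) x rfl
      exact this.symm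
  have h1 : Nat.card (Tp H p) = Nat.card M := by
    rw [← hMT]; rfl
  rw [h1, ← P.card_eq_multiplicity]
  exact Subgroup.card_dvd_of_le hPM

end Nilpotent

section Quotient

variable {G : Type*} [Group G] [Finite G]

theorem mem_Tp_quot_iff {p : ℕ} [Fact p.Prime] {N : Subgroup G} [N.Normal]
    (hNc : N ≤ Subgroup.center G) (hN : Nat.card N = p) (x : G) :
    (x : G ⧸ N) ∈ Tp (G ⧸ N) p ↔ x ∈ Tp G p := by
  have hp : p.Prime := Fact.out
  set C : Subgroup G := Subgroup.centralizer {x} with hC
  set Cs : Subgroup G :=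
    (Subgroup.centralizer {(x : G ⧸ N)}).comap (QuotientGroup.mk' N) with hCs
  have hidx : Cs.index = (Subgroup.centralizer {(x : G ⧸ N)}).index :=
    Subgroup.index_comap_of_surjective _ (QuotientGroup.mk'_surjective N)
  have hmemCs : ∀ g : G, g ∈ Cs ↔ g * x * g⁻¹ * x⁻¹ ∈ N := by
    intro g
    rw [hCs, Subgroup.mem_comap, Subgroup.mem_centralizer_iff]
    simp only [Set.mem_singleton_iff, forall_eq, QuotientGroup.mk'_apply]
    rw [← QuotientGroup.eq_one_iff]
    simp only [QuotientGroup.mk_mul, QuotientGroup.mk_inv]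
    constructor
    · intro h
      rw [← h]; group
    · intro h
      have : ((g : G ⧸ N) * x * (g : G ⧸ N)⁻¹ * (x : G ⧸ N)⁻¹) * x * g = x * g := by rw [h, one_mul]
      rw [← this]; group
  have hCle : C ≤ Cs := by
    intro g hg
    rw [hmemCs]
    have := Subgroup.mem_centralizer_iff.1 hg x rfl
    have h1 : g * x * g⁻¹ * x⁻¹ = 1 := by
      rw [← this]; group
    rw [h1]; exact N.one_mem
  -- the commutator hom
  have hrel : C.relIndex Cs ∣ p := by
    let φ : Cs →* N := MonoidHom.mk' (fun g => ⟨g.1 * x * g.1⁻¹ * x⁻¹, (hmemCs g.1).1 g.2⟩) (by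
      intro g h
      apply Subtype.ext
      have hc := Subgroup.mem_center_iff.1 (hNc ((hmemCs h.1).1 h.2))
      show (g.1 * h.1) * x * (g.1 * h.1)⁻¹ * x⁻¹ =
        (g.1 * x * g.1⁻¹ * x⁻¹) * (h.1 * x * h.1⁻¹ * x⁻¹)
      have e1 : (g.1 * h.1) * x * (g.1 * h.1)⁻¹ * x⁻¹ =
          g.1 * (h.1 * x * h.1⁻¹ * x⁻¹) * (x * g.1⁻¹ * x⁻¹) := by group
      rw [e1, hc g.1, hc (g.1 * x * g.1⁻¹ * x⁻¹)]
      group)
    have hker : φ.ker = C.subgroupOf Cs := by
      ext g
      rw [MonoidHom.mem_ker, Subgroup.mem_subgroupOf, hC, Subgroup.mem_centralizer_iff]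
      simp only [Set.mem_singleton_iff, forall_eq]
      constructor
      · intro h
        have h1 : g.1 * x * g.1⁻¹ * x⁻¹ = 1 := congrArg Subtype.val h
        have : x * g.1 = (g.1 * x * g.1⁻¹ * x⁻¹) * x * g.1 := by rw [h1, one_mul]
        rw [this]; group
      · intro h
        apply Subtype.ext
        show g.1 * x * g.1⁻¹ * x⁻¹ = 1
        rw [← h]; group
    rw [Subgroup.relIndex, ← hker, Subgroup.index_ker, ← hN]
    exact Subgroup.card_subgroup_dvd_card _
  rw [mem_Tp, mem_Tp, cs_eq_index, cs_eq_index, ← hidx]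
  constructor
  · rintro ⟨n, hn⟩
    rw [← Subgroup.relIndex_mul_index hCle, hn]
    rcases (Nat.dvd_prime hp).1 hrel with h1 | h1
    · exact ⟨n, by rw [h1, one_mul]⟩
    · exact ⟨n + 1, by rw [h1, pow_succ, mul_comm]⟩
  · rintro ⟨n, hn⟩
    have hd : Cs.index ∣ p ^ n := hn ▸ Subgroup.index_dvd_of_le hCle
    obtain ⟨m, -, hm⟩ := (Nat.dvd_prime_pow hp).1 hd
    exact ⟨m, hm⟩

theorem card_preimage_mk (N : Subgroup G) (t : Set (G ⧸ N)) :
    Nat.card ((QuotientGroup.mk : G → G ⧸ N) ⁻¹' t) = Nat.card N * Nat.card t := by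
  rw [Nat.card_congr (QuotientGroup.preimageMkEquivSubgroupProdSet N t), Nat.card_prod]

end Quotient

section Main

theorem exists_normal_of_dvd_card_Tp (p : ℕ) [Fact p.Prime] :
    ∀ (n : ℕ) (G : Type u) [Group G] [Finite G], Nat.card G = n →
      p ^ (Nat.card G).factorization p ∣ Nat.card (Tp G p) →
      ∃ K : Subgroup G, K.Normal ∧ Nat.card K = p ^ (Nat.card G).factorization p := by
  have hp : p.Prime := Fact.out
  intro n
  induction n using Nat.strong_induction_on with
  | _ n ih =>
  intro G _ _ hn hdvd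
  by_cases hpG : p ∣ Nat.card G
  swap
  · refine ⟨⊥, inferInstance, ?_⟩
    rw [Nat.factorization_eq_zero_of_not_dvd hpG]; simp
  have hpos : 0 < (Nat.card G).factorization p :=
    hp.factorization_pos_of_dvd Nat.card_pos.ne' hpG
  have hpT : p ∣ Nat.card (Tp G p) := dvd_trans (dvd_pow_self p hpos.ne') hdvd
  -- Step 1: `p` divides the order of the centre
  have hpZ : p ∣ Nat.card (Subgroup.center G) := by
    have P : Sylow p G := default
    letI act : MulAction (P : Subgroup G) (Tp G p) :=
      { smul := fun g x => ⟨g.1 * x.1 * g.1⁻¹, by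
          obtain ⟨k, hk⟩ := x.2
          exact ⟨k, by rw [cs_conj]; exact hk⟩⟩
        one_smul := fun x => by
          apply Subtype.ext
          show (1 : G) * x.1 * (1 : G)⁻¹ = x.1
          group
        mul_smul := fun g h x => by
          apply Subtype.ext
          show (g.1 * h.1) * x.1 * (g.1 * h.1)⁻¹ = g.1 * (h.1 * x.1 * h.1⁻¹) * g.1⁻¹
          group }
    have hsmul : ∀ (g : (P : Subgroup G)) (x : Tp G p), (g • x).1 = g.1 * x.1 * g.1⁻¹ :=
      fun _ _ => rfl
    have hmod := P.isPGroup'.card_modEq_card_fixedPoints (Tp G p)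
    have hfix : Nat.card (MulAction.fixedPoints (P : Subgroup G) (Tp G p)) =
        Nat.card (Subgroup.center G) := by
      apply Nat.card_congr
      exact
        { toFun := fun x => ⟨x.1.1, by
            have hx := x.2
            obtain ⟨k, hk⟩ := x.1.2
            have hPC : (P : Subgroup G) ≤ Subgroup.centralizer {x.1.1} := by
              intro g hg
              rw [Subgroup.mem_centralizer_iff]
              intro z hz
              rw [Set.mem_singleton_iff] at hz
              subst hz
              have h1 := congrArg Subtype.val (hx ⟨g, hg⟩)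
              rw [hsmul] at h1
              have h2 : g * x.1.1 = (g * x.1.1 * g⁻¹) * g := by group
              rw [h2]
              exact congrArg (· * g) h1.symm
            rw [cs_eq_index] at hk
            have hnd : ¬ p ∣ (Subgroup.centralizer {x.1.1}).index := fun hd =>
              P.not_dvd_index (dvd_trans hd (Subgroup.index_dvd_of_le hPC))
            have hk0 : k = 0 := by
              by_contra hk0
              exact hnd (hk ▸ dvd_pow_self p hk0)
            rw [hk0, pow_zero, ← cs_eq_index] at hk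
            exact (cs_eq_one_iff _).1 hk⟩
          invFun := fun z => ⟨⟨z.1, ⟨0, by rw [pow_zero]; exact (cs_eq_one_iff _).2 z.2⟩⟩, by
            intro g
            apply Subtype.ext
            rw [hsmul]
            show g.1 * z.1 * g.1⁻¹ = z.1
            rw [Subgroup.mem_center_iff.1 z.2 g.1]
            group⟩
          left_inv := fun x => rfl
          right_inv := fun z => rfl }
    rw [← hfix]
    exact (Nat.ModEq.dvd_iff hmod (dvd_refl p)).1 hpT
  -- Step 2: a central subgroup of order `p`
  obtain ⟨z, hz⟩ := exists_prime_orderOf_dvd_card' p hpZ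
  let N : Subgroup G := Subgroup.zpowers (z : G)
  have hNc : N ≤ Subgroup.center G := (Subgroup.zpowers_le).2 z.2
  haveI hNn : N.Normal := ⟨fun a ha g => by
    have := Subgroup.mem_center_iff.1 (hNc ha) g
    rw [this]
    have h1 : a * g * g⁻¹ = a := by group
    rw [h1]; exact ha⟩
  have hNcard : Nat.card N = p := by
    rw [Nat.card_zpowers, Subgroup.orderOf_coe, hz]
  -- Step 3
  have hGN : Nat.card G = Nat.card (G ⧸ N) * p := by
    rw [Subgroup.card_eq_card_quotient_mul_card_subgroup N, hNcard]
  have hTN : Nat.card (Tp G p) = p * Nat.card (Tp (G ⧸ N) p) := by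
    have hset : Tp G p = (QuotientGroup.mk : G → G ⧸ N) ⁻¹' (Tp (G ⧸ N) p) := by
      ext x
      rw [Set.mem_preimage]
      exact (mem_Tp_quot_iff hNc hNcard x).symm
    rw [hset, card_preimage_mk, hNcard]
  have hqpos : 0 < Nat.card (G ⧸ N) := Nat.card_pos
  have hlt : Nat.card (G ⧸ N) < n := by
    rw [← hn, hGN]
    exact lt_mul_of_one_lt_right hqpos hp.one_lt
  have hfac : (Nat.card G).factorization p = (Nat.card (G ⧸ N)).factorization p + 1 := by
    rw [hGN, Nat.factorization_mul hqpos.ne' hp.ne_zero, Finsupp.add_apply,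
      hp.factorization_self]
  have hdvd' : p ^ (Nat.card (G ⧸ N)).factorization p ∣ Nat.card (Tp (G ⧸ N) p) := by
    rw [hfac, pow_succ, hTN, mul_comm] at hdvd
    exact Nat.dvd_of_mul_dvd_mul_left hp.pos hdvd
  obtain ⟨K, hKn, hKc⟩ := ih _ hlt (G ⧸ N) rfl hdvd'
  refine ⟨K.comap (QuotientGroup.mk' N), inferInstance, ?_⟩
  have h1 : Nat.card (K.comap (QuotientGroup.mk' N)) =
      Nat.card ((QuotientGroup.mk : G → G ⧸ N) ⁻¹' (K : Set (G ⧸ N))) := rfl
  rw [h1, card_preimage_mk, hNcard, hfac, pow_succ, mul_comm]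
  congr 1

end Main

/-- **Cossey--Hawkes--Mann.** A finite group with the same multiset of class sizes as a finite
nilpotent group is nilpotent. -/
theorem isNilpotent_of_same_class_sizes {G H : Type*} [Group G] [Finite G] [Group H] [Finite H]
    (hH : Group.IsNilpotent H)
    (h : ∀ k : ℕ, Nat.card {C : ConjClasses G // Nat.card C.carrier = k} =
      Nat.card {C : ConjClasses H // Nat.card C.carrier = k}) :
    Group.IsNilpotent G := by
  obtain ⟨e, he⟩ := exists_equiv h
  have hcard : Nat.card G = Nat.card H := Nat.card_congr e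
  refine ((Group.isNilpotent_of_finite_tfae (G := G)).out 0 3).2 ?_
  intro p hp P
  have hT : Nat.card (Tp G p) = Nat.card (Tp H p) :=
    Nat.card_congr (e.subtypeEquiv (fun x => by simp only [mem_Tp, he]))
  have hd := dvd_card_Tp_of_nilpotent (H := H) p
  rw [← hcard, ← hT] at hd
  obtain ⟨K, hKn, hKc⟩ := exists_normal_of_dvd_card_Tp p _ G rfl hd
  let Q : Sylow p G := Sylow.ofCard K hKc
  have hQn : (Q : Subgroup G).Normal := hKn
  haveI := Sylow.unique_of_normal Q hQn
  rw [Subsingleton.elim P Q]
  exact hQn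

end Cfsg.Agent.Lib.Helper25.ClassSizeNilp
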