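import Cfsg.Agent.Lib.Helper25.Co2MOrdLow
import Cfsg.Agent.Lib.Helper16.Co2MOrdTC
import Cfsg.Agent.Lib.Helper9.Co2MREL

/-!
# S2044 [MOD-ORD] (helper25): the order of `⟨g₀, …, g₄⟩` in the 4600-point model

The lower bound is the Schreier-tree certificate of `Co2MOrdLow`; the upper bound is helper16's
coset enumeration for helper12's relators `relsG`, which hold in the model (helper9's `rels_model`).
-/

set_option autoImplicit false

namespace Cfsg.Agent.Lib.Helper1.Co2M

open Cfsg.Agent.Lib.Helper28.BSGS

/-- `|⟨g₀, …, g₄⟩| = |McL|` -/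
theorem modOrd_card5 :
    Nat.card ↥(Subgroup.closure (Set.range fun i : Fin 5 => gm i.val)) = 898128000 :=
  le_antisymm (card_cl5_le_of_relsG gm rels_model.1).2 modOrd_card5_ge

/-- the same for the group generated by the list of table pairs -/
theorem modOrd_genGroup5 :
    Nat.card ↥(genGroup 4600 13
      [(Tg0, Tg0i), (Tg1, Tg1i), (Tg2, Tg2i), (Tg3, Tg3i), (Tg4, Tg4i)]) = 898128000 := by
  have h := modOrd_card5
  rw [Helper25.closure_gm5] at h
  exact h

end Cfsg.Agent.Lib.Helper1.Co2M
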