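import Cfsg.Agent.Lib.Helper25.Co2MOrdLData
import Cfsg.Agent.Lib.Helper25.Co2MOrdGen

/-! S2044 [MOD-ORD] (helper25): kernel checks of the Schreier-tree certificate for `⟨g₀, g₁⟩ ≅ L₃(2)`. -/

set_option autoImplicit false
set_option Elab.async false

namespace Cfsg.Agent.Lib.Helper1.Co2M.Helper25

open Cfsg.Agent.Lib.Helper28.BSGS Cfsg.Agent.Lib.Helper22.SuzOut Cfsg.Agent.Lib.Helper27.TreeSift
open Cfsg.Agent.Lib.Helper25.Co2Out (itemOK seqOK_of_items)

set_option maxRecDepth 100000 in
theorem knownL_ok : gensOK 4600 13 knownL = true := by decide +kernel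

theorem seqL_ok : seqOK 4600 13 knownL itemsL = true := by
  apply seqOK_of_items
  intro j hj
  have hl : itemsL.length = 0 := rfl
  rw [hl] at hj
  omega

theorem gensL_eq : gensL = knownL ++ itemsL.map (fun it => it.1) := rfl

set_option maxRecDepth 100000 in
theorem chainL_ok : chainOKT 4600 13 gensL 7 [] levelsL = true := by decide +kernel

set_option maxRecDepth 100000 in
theorem sizeL_eq : sizeT 4600 13 levelsL = 168 := by decide +kernel

/-- the lower bound for the order -/
theorem card_ge_L : 168 ≤ Nat.card ↥(genGroup 4600 13 knownL) := by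
  have h := size_le_card 4600 13 knownL itemsL 7 knownL_ok seqL_ok levelsL (by rw [← gensL_eq]; exact chainL_ok)
  rwa [sizeL_eq] at h

end Cfsg.Agent.Lib.Helper1.Co2M.Helper25
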