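import Cfsg.Agent.Lib.Helper25.Co2OutVec

/-!
# The action of the three monomial generators on the 4600 keys

Checked by evaluation.  Generated by a script.
-/

set_option autoImplicit false
set_option Elab.async false
set_option maxRecDepth 100000

namespace Cfsg.Agent.Lib.Helper25.Co2Out

open Cfsg.Agent.Helper4.CO

theorem actN0_true : actNOK C2.g0 tp0 0 4600 = true := by decide +kernel

theorem actN1_true : actNOK C2.g1 tp1 0 4600 = true := by decide +kernel

theorem actN2_true : actNOK C2.g2 tp2 0 4600 = true := by decide +kernel

end Cfsg.Agent.Lib.Helper25.Co2Out
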