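import Cfsg.Agent.Lib.Helper25.Co2OutVec

/-!
# The action of the fourth generator, part 2 on the 4600 keys

Checked by evaluation.  Generated by a script.
-/

set_option autoImplicit false
set_option Elab.async false
set_option maxRecDepth 100000

namespace Cfsg.Agent.Lib.Helper25.Co2Out

open Cfsg.Agent.Helper4.CO

theorem actN3_6 : actNOK C2.g3 tp3 (200 * 6) 200 = true := by decide +kernel

theorem actN3_7 : actNOK C2.g3 tp3 (200 * 7) 200 = true := by decide +kernel

theorem actN3_8 : actNOK C2.g3 tp3 (200 * 8) 200 = true := by decide +kernel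

theorem actN3_9 : actNOK C2.g3 tp3 (200 * 9) 200 = true := by decide +kernel

theorem actN3_10 : actNOK C2.g3 tp3 (200 * 10) 200 = true := by decide +kernel

theorem actN3_11 : actNOK C2.g3 tp3 (200 * 11) 200 = true := by decide +kernel

end Cfsg.Agent.Lib.Helper25.Co2Out
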