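import Cfsg.Agent.Lib.Helper25.Co2OutVec

/-!
# The action of the fourth generator, part 3 on the 4600 keys

Checked by evaluation.  Generated by a script.
-/

set_option autoImplicit false
set_option Elab.async false
set_option maxRecDepth 100000

namespace Cfsg.Agent.Lib.Helper25.Co2Out

open Cfsg.Agent.Helper4.CO

theorem actN3_12 : actNOK C2.g3 tp3 (200 * 12) 200 = true := by decide +kernel

theorem actN3_13 : actNOK C2.g3 tp3 (200 * 13) 200 = true := by decide +kernel

theorem actN3_14 : actNOK C2.g3 tp3 (200 * 14) 200 = true := by decide +kernel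

theorem actN3_15 : actNOK C2.g3 tp3 (200 * 15) 200 = true := by decide +kernel

theorem actN3_16 : actNOK C2.g3 tp3 (200 * 16) 200 = true := by decide +kernel

theorem actN3_17 : actNOK C2.g3 tp3 (200 * 17) 200 = true := by decide +kernel

end Cfsg.Agent.Lib.Helper25.Co2Out
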