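import Cfsg.Agent.Lib.Helper25.Co2OutVec

/-!
# The action of the fourth generator, part 4 on the 4600 keys

Checked by evaluation.  Generated by a script.
-/

set_option autoImplicit false
set_option Elab.async false
set_option maxRecDepth 100000

namespace Cfsg.Agent.Lib.Helper25.Co2Out

open Cfsg.Agent.Helper4.CO

theorem actN3_18 : actNOK C2.g3 tp3 (200 * 18) 200 = true := by decide +kernel

theorem actN3_19 : actNOK C2.g3 tp3 (200 * 19) 200 = true := by decide +kernel

theorem actN3_20 : actNOK C2.g3 tp3 (200 * 20) 200 = true := by decide +kernel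

theorem actN3_21 : actNOK C2.g3 tp3 (200 * 21) 200 = true := by decide +kernel

theorem actN3_22 : actNOK C2.g3 tp3 (200 * 22) 200 = true := by decide +kernel

end Cfsg.Agent.Lib.Helper25.Co2Out
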