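import Cfsg.Agent.Lib.Helper4.Orb.C2.A
import Cfsg.Agent.Lib.Helper21.SuzOP3
import Cfsg.Agent.Lib.Helper25.Co2OutData
import Cfsg.Agent.Lib.Helper25.Co2OutSig

/-!
# The 4600 vectors of inner product `-16` with `(4, 4, 0, …, 0)`

The keys of the table `XT` are those of helper4's orbit certificate `C2.chunksA` (in increasing
order), so they code lattice vectors in the orbit of the start vector; the action of a generator on
the vectors is read off from its action on the keys.
-/

set_option autoImplicit false
set_option Elab.async false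
set_option maxRecDepth 100000

namespace Cfsg.Agent.Lib.Helper25.Co2Out

open Cfsg Cfsg.Spor
open Cfsg.Agent.Helper4.CO Cfsg.Agent.Helper4.LC
open Cfsg.Agent.Lib.Helper28.BSGS Cfsg.Agent.Lib.Helper22.SuzOut

/-- the `i`-th key -/
def key (i : ℕ) : ℕ := look 96 XT i

/-- the `i`-th vector -/
def xl (i : ℕ) : List ℤ := unpack (key i)

/-- random access to the keys of the orbit certificate -/
def keyA (j : ℕ) : ℕ := getK 96 2000 [C2.numA0, C2.numA1, C2.numA2] j

/-- the keys are those of the orbit certificate, in another order -/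
noncomputable def sigOK : Bool :=
  allBelow (fun i => Nat.blt (look 13 SG i) 4600 && Nat.beq (key i) (keyA (look 13 SG i))) 4600

/-- the keys increase -/
noncomputable def incOK : Bool :=
  allBelow (fun i => Nat.blt (key i) (key (i + 1))) 4599

/-- the generator acts on the keys through the table, for the `n` indices from `lo` on -/
noncomputable def actNOK (g : Gen) (t lo n : ℕ) : Bool :=
  allBelow (fun i => Nat.blt (look 13 t (lo + i)) 4600 &&
    Nat.beq (g.actN (key (lo + i))) (key (look 13 t (lo + i)))) n

theorem sigOK_true : sigOK = true := by decide +kernel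

theorem incOK_true : incOK = true := by decide +kernel

theorem flatA : (C2.chunksA.flatMap fun ch => ch.2) =
    flatW 96 2000 [C2.numA0, C2.numA1] 600 C2.numA2 := by
  unfold C2.chunksA
  rw [flat_mkChunks]
  rfl

theorem key_mem (i : Fin 4600) : key i.val ∈ C2.chunksA.flatMap fun ch => ch.2 := by
  have h := allBelow_spec sigOK_true i.val i.isLt
  rw [Bool.and_eq_true] at h
  have h1 : look 13 SG i.val < 4600 := Nat.blt_eq.mp h.1
  have h2 : key i.val = keyA (look 13 SG i.val) := Nat.eq_of_beq_eq_true h.2
  have hlen : (flatW 96 2000 [C2.numA0, C2.numA1] 600 C2.numA2).length = 4600 := by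
    rw [length_flatW]; rfl
  have hget := getD_flatW 96 2000 (by norm_num) 600 C2.numA2 (by norm_num) [C2.numA0, C2.numA1]
    (look 13 SG i.val) h1
  have hk : keyA (look 13 SG i.val) =
      getK 96 2000 ([C2.numA0, C2.numA1] ++ [C2.numA2]) (look 13 SG i.val) := rfl
  rw [flatA, h2, hk, ← hget, List.getD_eq_getElem _ _ (by rw [hlen]; exact h1)]
  exact List.getElem_mem _

theorem key_good (i : Fin 4600) : Good C2.anchors C2.startA (key i.val) := by
  have hm := key_mem i
  rw [← chunks_flat C2.gens C2.startA C2.chunksA C2.chunksA_ok, List.mem_flatMap] at hm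
  obtain ⟨ch, _, hX⟩ := hm
  exact chunkE_spec C2.gensOK C2.startA C2.startA_in (by decide) ch.1 _ hX

theorem xl_spec (i : Fin 4600) : (xl i.val).length = 24 ∧
    Reach C2.anchors C2.startA (xl i.val) ∧ pack (xl i.val) = key i.val := by
  obtain ⟨e, he, hpe, hr⟩ := key_good i
  have h : xl i.val = e := by
    unfold xl
    rw [← hpe, unpack_pack e he (reach_bd C2.startA_in (by decide) e he hr)]
  rw [h]
  exact ⟨he, hr, hpe⟩

theorem key_lt : ∀ j : ℕ, j < 4600 → ∀ i : ℕ, i < j → key i < key j := by
  intro j
  induction j with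
  | zero => intro _ i hi; omega
  | succ j ih =>
    intro hj i hi
    have h1 : key j < key (j + 1) :=
      Nat.blt_eq.mp (allBelow_spec incOK_true j (by omega))
    rcases Nat.lt_succ_iff_lt_or_eq.mp hi with h | h
    · exact lt_trans (ih (by omega) i h) h1
    · rw [h]; exact h1

theorem xl_inj {i j : Fin 4600} (h : xl i.val = xl j.val) : i = j := by
  have h3 : key i.val = key j.val := by
    rw [← (xl_spec i).2.2, ← (xl_spec j).2.2, h]
  apply Fin.ext
  rcases lt_trichotomy i.val j.val with hlt | heq | hgt
  · exact absurd h3 (ne_of_lt (key_lt j.val j.isLt i.val hlt))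
  · exact heq
  · exact absurd h3.symm (ne_of_lt (key_lt i.val i.isLt j.val hgt))

/-- the action on the vectors, from the action on the keys -/
theorem act_spec {g : Gen} (hg : g ∈ C2.gens) {t : ℕ}
    (h : ∀ i : Fin 4600, look 13 t i.val < 4600 ∧ g.actN (key i.val) = key (look 13 t i.val))
    (i : Fin 4600) : g.act (xl i.val) = xl (look 13 t i.val) := by
  obtain ⟨he, hr, hp⟩ := xl_spec i
  obtain ⟨hlt, hact⟩ := h i
  obtain ⟨he', hr', hp'⟩ := xl_spec ⟨look 13 t i.val, hlt⟩
  have hw := (C2.gensOK.2 g hg).2.1
  have hb := reach_bd C2.startA_in (by decide) _ he hr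
  have h1 : pack (g.act (xl i.val)) = pack (xl (look 13 t i.val)) := by
    rw [← Gen.actN_pack g hw _ he hb, hp, hact]
    exact hp'.symm
  have hlen : (g.act (xl i.val)).length = 24 := Gen.act_length C2.gensOK hg _ he
  have hr2 : Reach C2.anchors C2.startA (g.act (xl i.val)) :=
    hr.trans (reach_step C2.gensOK hg _ he)
  rw [← unpack_pack _ hlen (reach_bd C2.startA_in (by decide) _ hlen hr2), h1,
    unpack_pack _ he' (reach_bd C2.startA_in (by decide) _ he' hr')]

/-- the action on the keys, from the checks of the 23 blocks of 200 indices -/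
theorem actN_of_chunks {g : Gen} {t : ℕ} (h : ∀ k < 23, actNOK g t (200 * k) 200 = true)
    (i : Fin 4600) : look 13 t i.val < 4600 ∧ g.actN (key i.val) = key (look 13 t i.val) := by
  have hi := i.isLt
  have hk : i.val / 200 < 23 := by omega
  have h1 := allBelow_spec (h _ hk) (i.val % 200) (Nat.mod_lt _ (by norm_num))
  rw [Nat.div_add_mod, Bool.and_eq_true] at h1
  exact ⟨Nat.blt_eq.mp h1.1, Nat.eq_of_beq_eq_true h1.2⟩

/-- the action on the keys, from the check of all indices at once -/
theorem actN_of_all {g : Gen} {t : ℕ} (h : actNOK g t 0 4600 = true)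
    (i : Fin 4600) : look 13 t i.val < 4600 ∧ g.actN (key i.val) = key (look 13 t i.val) := by
  have h1 := allBelow_spec h i.val i.isLt
  rw [Nat.zero_add, Bool.and_eq_true] at h1
  exact ⟨Nat.blt_eq.mp h1.1, Nat.eq_of_beq_eq_true h1.2⟩

end Cfsg.Agent.Lib.Helper25.Co2Out
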