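import Cfsg.Prelude.Def_Spor_Conway
import Cfsg.Prelude.Def_KGroupFacts
import Cfsg.Agent.Lib.Helper4.Orb.GrpCo2
import Cfsg.Agent.Lib.Helper21.SuzOP3
import Cfsg.Agent.Lib.Helper25.Co2OutVec

/-!
# The Conway group `Co₂` of the list and the group on 4600 points

The stabilizer of the vector `(4, 4, 0, …, 0)` of the rank-24 lattice is simple of order
`42305421312000` (helper4) and acts on the 4600 minimal vectors having inner product `-16`
with it.  An explicit automorphism in this stabilizer induces the permutation of its table.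
-/

set_option autoImplicit false
set_option maxRecDepth 100000

namespace Cfsg.Agent.Lib.Helper25.Co2Out

open Cfsg Cfsg.Spor MulAction
open Cfsg.Agent.Helper4.CO Cfsg.Agent.Helper4.CO.Grp Cfsg.Agent.Helper4.LC
open Cfsg.Agent.Lib.Helper28.BSGS Cfsg.Agent.Lib.Helper22.SuzOut

/-! ### the 4600 vectors -/

/-- the fixed vector -/
def vA : leechLattice := mkL C2.anc0 C2.anc0_in

theorem vA_coe : ((vA : leechLattice) : GolayPt → ℤ) = toV C2.anc0 := rfl

theorem vA_norm : sqNorm (vA : GolayPt → ℤ) = 32 := by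
  rw [vA_coe, sqNorm_toV _ C2.anc0_in.1]; decide

/-- the lattice group -/
abbrev HB : Subgroup ↥Co0 := stabilizer ↥Co0 vA

theorem hB : SimpCard ↥HB 42305421312000 := co2_simpCard vA vA_norm

/-- the start vector of the orbit -/
def vS : leechLattice := mkL C2.startA C2.startA_in

theorem xl_reach (i : Fin 4600) : ∃ g : ↥Co0, FixL g C2.anc0 ∧
    ((g • vS : leechLattice) : GolayPt → ℤ) = toV (xl i.val) := by
  obtain ⟨g, hg, hge⟩ := (xl_spec i).2.1
  exact ⟨g, hg C2.anc0 (by simp [C2.anchors]), hge vS rfl⟩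

theorem xl_mem (i : Fin 4600) : toV (xl i.val) ∈ leechLattice := by
  obtain ⟨g, _, hge⟩ := xl_reach i
  rw [← hge]
  exact (g • vS).2

/-- the 4600 vectors -/
def xs (i : Fin 4600) : leechLattice := ⟨toV (xl i.val), xl_mem i⟩

theorem xs_coe (i : Fin 4600) : ((xs i : leechLattice) : GolayPt → ℤ) = toV (xl i.val) := rfl

/-- the set of the 4600 vectors -/
def X : Set leechLattice := dotSet 32 vA 0 0 (-16, 0, 0)

theorem vS_norm : sqNorm (vS : GolayPt → ℤ) = 32 := by
  show sqNorm (toV C2.startA) = 32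
  rw [sqNorm_toV _ C2.startA_in.1]; decide

theorem vS_dot : dotInt (toV C2.anc0) (vS : GolayPt → ℤ) = -16 := by
  show dotInt (toV C2.anc0) (toV C2.startA) = -16
  rw [dotInt_toV _ _ C2.anc0_in.1 C2.startA_in.1]; decide

theorem xs_mem (i : Fin 4600) : xs i ∈ X := by
  unfold X
  rw [mem_dotSet_zero23]
  obtain ⟨g, hg, hge⟩ := xl_reach i
  refine ⟨?_, ?_⟩
  · rw [xs_coe, ← hge, co0_sqNorm', vS_norm]
  · rw [vA_coe, xs_coe, ← hge, dot_fix g C2.anc0 C2.anc0_in hg, vS_dot]

theorem xs_inj : Function.Injective xs := by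
  intro i j h
  have h1 : toV (xl i.val) = toV (xl j.val) := by
    rw [← xs_coe, ← xs_coe, h]
  exact xl_inj (toV_inj (xl_spec i).1 (xl_spec j).1 h1)

theorem X_ncard : X.ncard = 4600 := card_A vA vA_norm

theorem range_xs : Set.range xs = X := by
  have hfin : X.Finite := Set.finite_of_ncard_ne_zero (by rw [X_ncard]; norm_num)
  apply Set.eq_of_subset_of_ncard_le _ _ hfin
  · rintro _ ⟨i, rfl⟩
    exact xs_mem i
  · rw [X_ncard, ← Set.image_univ, Set.ncard_image_of_injective _ xs_inj, Set.ncard_univ,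
      Nat.card_fin]

/-! ### the action -/

theorem smul_mem_X (g : ↥Co0) (hu : g • vA = vA) {x : leechLattice} (hx : x ∈ X) : g • x ∈ X := by
  unfold X at hx ⊢
  rw [mem_dotSet_zero23] at hx ⊢
  refine ⟨by rw [co0_sqNorm']; exact hx.1, ?_⟩
  have h := co0_dot' g vA x
  rw [hu] at h
  rw [h]
  exact hx.2

theorem stab_u (g : ↥HB) : g.1 • vA = vA := MulAction.mem_stabilizer_iff.mp g.2

theorem exists_idx (g : ↥HB) (i : Fin 4600) : ∃ j, xs j = g.1 • xs i := by
  have h : g.1 • xs i ∈ Set.range xs := by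
    rw [range_xs]
    exact smul_mem_X g.1 (stab_u g) (xs_mem i)
  exact h

/-- the index of the image of the `i`-th vector -/
noncomputable def idx (g : ↥HB) (i : Fin 4600) : Fin 4600 := (exists_idx g i).choose

theorem idx_spec (g : ↥HB) (i : Fin 4600) : xs (idx g i) = g.1 • xs i :=
  (exists_idx g i).choose_spec

theorem idx_eq {g : ↥HB} {i j : Fin 4600} (h : xs j = g.1 • xs i) : idx g i = j :=
  xs_inj (by rw [idx_spec, h])

theorem idx_one (i : Fin 4600) : idx 1 i = i :=
  idx_eq (by rw [Subgroup.coe_one, one_smul])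

theorem idx_mul (g h : ↥HB) (i : Fin 4600) : idx (g * h) i = idx g (idx h i) :=
  idx_eq (by rw [idx_spec, idx_spec, Subgroup.coe_mul, mul_smul])

/-- the action on the indices -/
noncomputable def fP : ↥HB →* Equiv.Perm (Fin 4600) where
  toFun g :=
    { toFun := idx g
      invFun := idx g⁻¹
      left_inv := fun i => by rw [← idx_mul, inv_mul_cancel, idx_one]
      right_inv := fun i => by rw [← idx_mul, mul_inv_cancel, idx_one] }
  map_one' := Equiv.ext fun i => idx_one i
  map_mul' g h := Equiv.ext fun i => idx_mul g h i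

theorem fP_apply (g : ↥HB) (i : Fin 4600) : fP g i = idx g i := rfl

/-! ### the generators -/

theorem gen_elt (gen : Gen) (hgen : gen ∈ C2.gens) (t t' : ℕ)
    (hact : ∀ i : Fin 4600, gen.act (xl i.val) = xl (look 13 t i.val))
    (ht : pairOK 4600 13 t t' = true) : permOf 4600 13 t t' ∈ fP.range := by
  obtain ⟨hgood, _, hfix⟩ := C2.gensOK.2 gen hgen
  obtain ⟨g', hg'⟩ := Gen.elt gen hgood
  have hu : g' • vA = vA := by
    apply Subtype.ext
    rw [(hg' C2.anc0 C2.anc0_in.1).2 vA rfl, hfix C2.anc0 (by simp [C2.anchors])]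
    rfl
  have hmem : g' ∈ HB := MulAction.mem_stabilizer_iff.mpr hu
  refine ⟨⟨g', hmem⟩, ?_⟩
  apply Equiv.ext
  intro i
  rw [fP_apply]
  apply idx_eq
  apply Subtype.ext
  rw [(hg' (xl i.val) (xl_spec i).1).2 (xs i) rfl, hact i, xs_coe, permOf_apply ht i]

end Cfsg.Agent.Lib.Helper25.Co2Out
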