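import Cfsg.Agent.Lib.Helper25.Co2OutData
import Cfsg.Agent.Lib.Helper25.Co2OutSeq

/-! Kernel checks for `Co2Out`: the first sequence of tables. -/

set_option autoImplicit false
set_option Elab.async false

namespace Cfsg.Agent.Lib.Helper25.Co2Out

open Cfsg.Agent.Lib.Helper28.BSGS Cfsg.Agent.Lib.Helper22.SuzOut

set_option maxRecDepth 100000 in
theorem item1_0 : itemOK 4600 13 known1 items1 0 = true := by decide +kernel

set_option maxRecDepth 100000 in
theorem item1_1 : itemOK 4600 13 known1 items1 1 = true := by decide +kernel

set_option maxRecDepth 100000 in
theorem item1_2 : itemOK 4600 13 known1 items1 2 = true := by decide +kernel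

set_option maxRecDepth 100000 in
theorem item1_3 : itemOK 4600 13 known1 items1 3 = true := by decide +kernel

set_option maxRecDepth 100000 in
theorem item1_4 : itemOK 4600 13 known1 items1 4 = true := by decide +kernel

set_option maxRecDepth 100000 in
theorem item1_5 : itemOK 4600 13 known1 items1 5 = true := by decide +kernel

set_option maxRecDepth 100000 in
theorem item1_6 : itemOK 4600 13 known1 items1 6 = true := by decide +kernel

set_option maxRecDepth 100000 in
theorem item1_7 : itemOK 4600 13 known1 items1 7 = true := by decide +kernel

set_option maxRecDepth 100000 in
theorem item1_8 : itemOK 4600 13 known1 items1 8 = true := by decide +kernel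

set_option maxRecDepth 100000 in
theorem item1_9 : itemOK 4600 13 known1 items1 9 = true := by decide +kernel

set_option maxRecDepth 100000 in
theorem item1_10 : itemOK 4600 13 known1 items1 10 = true := by decide +kernel

set_option maxRecDepth 100000 in
theorem item1_11 : itemOK 4600 13 known1 items1 11 = true := by decide +kernel

set_option maxRecDepth 100000 in
theorem item1_12 : itemOK 4600 13 known1 items1 12 = true := by decide +kernel

theorem seq1_ok : seqOK 4600 13 known1 items1 = true := by
  apply seqOK_of_items
  intro j hj
  have hl : items1.length = 13 := rfl
  rw [hl] at hj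
  interval_cases j
  · exact item1_0
  · exact item1_1
  · exact item1_2
  · exact item1_3
  · exact item1_4
  · exact item1_5
  · exact item1_6
  · exact item1_7
  · exact item1_8
  · exact item1_9
  · exact item1_10
  · exact item1_11
  · exact item1_12

end Cfsg.Agent.Lib.Helper25.Co2Out
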