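import Cfsg.Agent.Lib.Helper25.Co2OutData
import Cfsg.Agent.Lib.Helper25.Co2OutSeq

/-! Kernel checks for `Co2Out`: the second sequence of tables. -/

set_option autoImplicit false
set_option Elab.async false

namespace Cfsg.Agent.Lib.Helper25.Co2Out

open Cfsg.Agent.Lib.Helper28.BSGS Cfsg.Agent.Lib.Helper22.SuzOut

set_option maxRecDepth 100000 in
theorem item2_0 : itemOK 4600 13 known2 items2 0 = true := by decide +kernel

set_option maxRecDepth 100000 in
theorem item2_1 : itemOK 4600 13 known2 items2 1 = true := by decide +kernel

set_option maxRecDepth 100000 in
theorem item2_2 : itemOK 4600 13 known2 items2 2 = true := by decide +kernel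

set_option maxRecDepth 100000 in
theorem item2_3 : itemOK 4600 13 known2 items2 3 = true := by decide +kernel

set_option maxRecDepth 100000 in
theorem item2_4 : itemOK 4600 13 known2 items2 4 = true := by decide +kernel

set_option maxRecDepth 100000 in
theorem item2_5 : itemOK 4600 13 known2 items2 5 = true := by decide +kernel

set_option maxRecDepth 100000 in
theorem item2_6 : itemOK 4600 13 known2 items2 6 = true := by decide +kernel

set_option maxRecDepth 100000 in
theorem item2_7 : itemOK 4600 13 known2 items2 7 = true := by decide +kernel

set_option maxRecDepth 100000 in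
theorem item2_8 : itemOK 4600 13 known2 items2 8 = true := by decide +kernel

set_option maxRecDepth 100000 in
theorem item2_9 : itemOK 4600 13 known2 items2 9 = true := by decide +kernel

theorem seq2_ok : seqOK 4600 13 known2 items2 = true := by
  apply seqOK_of_items
  intro j hj
  have hl : items2.length = 10 := rfl
  rw [hl] at hj
  interval_cases j
  · exact item2_0
  · exact item2_1
  · exact item2_2
  · exact item2_3
  · exact item2_4
  · exact item2_5
  · exact item2_6
  · exact item2_7
  · exact item2_8
  · exact item2_9

end Cfsg.Agent.Lib.Helper25.Co2Out
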