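import Cfsg.Agent.Lib.Helper25.Co2OutData
import Cfsg.Agent.Lib.Helper27.TreeDefs

/-! Kernel checks for `Co2Out`: relations and base-image exclusion. -/

set_option autoImplicit false
set_option Elab.async false

namespace Cfsg.Agent.Lib.Helper25.Co2Out

open Cfsg.Agent.Lib.Helper28.BSGS Cfsg.Agent.Lib.Helper22.SuzOut Cfsg.Agent.Lib.Helper27.TreeSift

/-- the action of the element of order 23 on point numbers -/
def fA (x : ℕ) : ℕ := look 13 tp3 x

/-- the action of the element of order 11 on point numbers -/
def fD (x : ℕ) : ℕ := look 13 td x

/-- images of the base points under an element commuting with `a` that maps the first one to `x` -/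
def imgsA (x : ℕ) : List ℕ := [x, fA x, fA^[2] x, fA^[4] x, fA^[8] x, fA^[16] x]

/-- two paths give the same permutation -/
noncomputable def pathEqOK (cs cs' : List ℕ) : Bool :=
  cs.all (fun c => Nat.blt (c / 2) gens2.length) && cs'.all (fun c => Nat.blt (c / 2) gens2.length) &&
  allBelow (fun x => Nat.beq (evalF 13 gens2 cs x) (evalF 13 gens2 cs' x)) 4600

/-- the `m`-th power of a path moves the point `q` -/
noncomputable def powNeOK (cs : List ℕ) (m q : ℕ) : Bool :=
  cs.all (fun c => Nat.blt (c / 2) gens2.length) && !(Nat.beq ((evalF 13 gens2 cs)^[m] q) q)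

/-- base-image exclusion for the centralizer of `a` -/
noncomputable def chkA : Bool :=
  allBelow (fun x => Option.rec (motive := fun _ => Bool) true
    (fun _ => (iterImgs fA 23 3071).contains x) (treeSift 13 gens2 8 levels (imgsA x) [])) 4600

/-- the fixed points of `d` -/
noncomputable def fixD : Bool :=
  allBelow (fun x => !(Nat.beq (fD x) x) || Nat.beq x 1528 || Nat.beq x 3071) 4600

/-- base-image exclusion for the centralizer of `d`, first base image `f` -/
noncomputable def chkD (f : ℕ) : Bool :=
  allBelow (fun y => Option.rec (motive := fun _ => Bool) true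
    (fun ws => (Nat.beq f 3071 && (iterImgs fD 11 1345).contains y) ||
      ([0, 1, 2, 3] : List ℕ).any fun q => !(Nat.beq (evalW 13 ws (fD q)) (fD (evalW 13 ws q))))
    (treeSift 13 gens2 8 levels (f :: iterImgs fD 5 y) [])) 4600

set_option maxRecDepth 100000 in
theorem known2_ok : gensOK 4600 13 known2 = true := by decide +kernel

set_option maxRecDepth 100000 in
theorem bases_A : levels.map (fun lv => lv.1) = imgsA 3071 := by decide +kernel

set_option maxRecDepth 100000 in
theorem bases_D : basesOK fD levels.tail = true := by decide +kernel

set_option maxRecDepth 100000 in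
theorem fD_fix : fD 3071 = 3071 := by decide +kernel

set_option maxRecDepth 100000 in
theorem fixD_ok : fixD = true := by decide +kernel

set_option maxRecDepth 100000 in
theorem chkA_ok : chkA = true := by decide +kernel

set_option maxRecDepth 100000 in
theorem chkD_ok1 : chkD 1528 = true := by decide +kernel

set_option maxRecDepth 100000 in
theorem chkD_ok2 : chkD 3071 = true := by decide +kernel

set_option maxRecDepth 100000 in
theorem rel_a23 : relOK 4600 13 gens2 [0] 23 = true := by decide +kernel

set_option maxRecDepth 100000 in
theorem rel_d11 : relOK 4600 13 gens2 [2] 11 = true := by decide +kernel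

set_option maxRecDepth 100000 in
theorem rel_ay : relOK 4600 13 gens2 [0, 4] 11 = true := by decide +kernel

set_option maxRecDepth 100000 in
theorem rel_winv : relOK 4600 13 gens2 [1, 1, 4, 1, 4, 1, 2] 9 = true := by decide +kernel

set_option maxRecDepth 100000 in
theorem rel_dad : pathEqOK [2, 0, 3] [0, 0] = true := by decide +kernel

set_option maxRecDepth 100000 in
theorem rel_ydy : pathEqOK [4, 2, 5] [3] = true := by decide +kernel

set_option maxRecDepth 100000 in
theorem ne_a : powNeOK [0] 1 0 = true := by decide +kernel

set_option maxRecDepth 100000 in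
theorem ne_w : powNeOK [0, 0, 4, 0, 4, 0, 2] 9 0 = true := by decide +kernel

set_option maxRecDepth 100000 in
theorem ne_ayd : ((List.range 10).all fun i =>
    powNeOK (0 :: 4 :: List.replicate (i + 1) 2) 11 0 &&
    powNeOK (1 :: 4 :: List.replicate (i + 1) 2) 11 0) = true := by decide +kernel

end Cfsg.Agent.Lib.Helper25.Co2Out
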