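import Cfsg.Agent.Lib.Helper25.Co2OutPerm2

/-!
# The group on 4600 points has no outer automorphisms
-/

set_option autoImplicit false
set_option maxRecDepth 100000

namespace Cfsg.Agent.Lib.Helper25.Co2Out

open Cfsg.Agent.Lib.Helper28.BSGS Cfsg.Agent.Lib.Helper22.SuzOut Cfsg.Agent.Lib.Helper27.TreeSift

theorem arith23 : ∀ k : ℕ, 1 ≤ k → k < 23 →
    ∃ i : ℕ, k * 2 ^ i % 23 = 1 ∨ k * 2 ^ i % 23 = 22 := by
  have h : ∀ k : Fin 23, 1 ≤ k.val →
      ∃ i : Fin 11, k.val * 2 ^ i.val % 23 = 1 ∨ k.val * 2 ^ i.val % 23 = 22 := by decide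
  intro k h1 h2
  obtain ⟨i, hi⟩ := h ⟨k, h2⟩ h1
  exact ⟨i.val, hi⟩

theorem fac23 : (42305421312000 : ℕ).factorization 23 = 1 := by
  have h : (42305421312000 : ℕ) = 23 ^ 1 * 1839366144000 := by norm_num
  rw [h, Nat.factorization_mul (by norm_num) (by norm_num), Finsupp.add_apply,
    Nat.Prime.factorization_pow (by norm_num), Finsupp.single_eq_same,
    Nat.factorization_eq_zero_of_not_dvd (by norm_num)]

theorem pa_pow22 : pa ^ 22 = pa⁻¹ := by
  apply eq_inv_of_mul_eq_one_left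
  rw [← pow_succ, pa_pow]

theorem pa_ht : ∃ s : ℕ, (pa ^ 22) ^ s = pa := by
  refine ⟨22, ?_⟩
  rw [← pow_mul, show 22 * 22 = 23 * 21 + 1 by norm_num, pow_add, pow_mul, pa_pow, one_pow,
    one_mul, pow_one]

section

variable (K : Subgroup P4600) (hK : genGroup 4600 13 known1 ≤ K)
  (hN : Nat.card K ≤ 42305421312000)

include hK hN

theorem cent_d_sub (c : K) (hc : c * ⟨pd, pd_mem K hK hN⟩ = ⟨pd, pd_mem K hK hN⟩ * c) :
    c ∈ Subgroup.zpowers (⟨pd, pd_mem K hK hN⟩ : K) := by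
  have h1 : (c : P4600) * pd = pd * (c : P4600) := by
    have := congrArg Subtype.val hc
    simpa using this
  obtain ⟨i, hi⟩ := Subgroup.mem_zpowers_iff.mp (cent_d K hK hN c.1 c.2 h1)
  rw [Subgroup.mem_zpowers_iff]
  refine ⟨i, ?_⟩
  apply Subtype.ext
  rw [Subgroup.coe_zpow]
  exact hi

/-- an automorphism with `a ↦ a'`, `d ↦ d` fixes `y`, if the products `a' y d ^ i` have the wrong order -/
theorem fix_y_sub (a' : K)
    (hne : ∀ i : ℕ, 1 ≤ i → i < 11 → ((a' : P4600) * py * pd ^ i) ^ 11 ≠ 1)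
    (ψ : MulAut K) (h1 : ψ ⟨pa, pa_mem K hK hN⟩ = a')
    (h2 : ψ ⟨pd, pd_mem K hK hN⟩ = ⟨pd, pd_mem K hK hN⟩) :
    ψ ⟨py, py_mem K hK hN⟩ = ⟨py, py_mem K hK hN⟩ := by
  apply OutRigidY.fix_y (n := 11) (m := 11) (by norm_num) (cent_d_sub K hK hN) _ _ _ _ ψ h1 h2
  · apply Subtype.ext
    simp only [Subgroup.coe_pow, Subgroup.coe_one]
    exact pd_pow
  · apply Subtype.ext
    simp only [Subgroup.coe_mul, Subgroup.coe_inv]
    exact py_conj
  · apply Subtype.ext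
    simp only [Subgroup.coe_mul, Subgroup.coe_pow, Subgroup.coe_one]
    exact pay_pow
  · intro i hi1 hi2 he
    apply hne i hi1 hi2
    have := congrArg Subtype.val he
    simpa only [Subgroup.coe_mul, Subgroup.coe_pow, Subgroup.coe_one] using this

theorem perm_main : Nat.card (Cfsg.Out K) = 1 := by
  obtain ⟨_, hcard, _⟩ := tree K hK hN
  haveI : Finite K := Nat.finite_of_card_ne_zero (by rw [hcard]; norm_num)
  haveI : Fact (Nat.Prime 23) := ⟨by norm_num⟩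
  apply OutOneInv.out_card_one_of_rigid_inv_sub K (p := 23) (a := pa) (d := pd) (y := py)
    (r := 2) (t := 22) (pa_mem K hK hN) (pd_mem K hK hN) (py_mem K hK hN) pa_order
    (by rw [hcard]; exact fac23) pd_conj (by norm_num) arith23
    (fun c hc h => cent_a K hK hN c hc h) (le_of_eq (K_eq K hK hN)) _ pa_ht _
  · intro ψ h1 h2
    exact fix_y_sub K hK hN ⟨pa, pa_mem K hK hN⟩ (fun i hi1 hi2 => (ayd_pow_ne i hi1 hi2).1)
      ψ h1 h2
  · intro ψ h1 h2
    have hne : ∀ i : ℕ, 1 ≤ i → i < 11 →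
        (((⟨pa, pa_mem K hK hN⟩ ^ 22 : K) : P4600) * py * pd ^ i) ^ 11 ≠ 1 := by
      intro i hi1 hi2
      rw [Subgroup.coe_pow]
      show (pa ^ 22 * py * pd ^ i) ^ 11 ≠ 1
      rw [pa_pow22]
      exact (ayd_pow_ne i hi1 hi2).2
    have h3 := fix_y_sub K hK hN _ hne ψ h1 h2
    -- the word relation
    have hw : (ψ ((⟨pa, pa_mem K hK hN⟩ : K) * ⟨pa, pa_mem K hK hN⟩ * ⟨py, py_mem K hK hN⟩ *
        ⟨pa, pa_mem K hK hN⟩ * ⟨py, py_mem K hK hN⟩ * ⟨pa, pa_mem K hK hN⟩ *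
        ⟨pd, pd_mem K hK hN⟩)) ^ 9 = 1 := by
      simp only [map_mul, h1, h2, h3]
      apply Subtype.ext
      simp only [Subgroup.coe_mul, Subgroup.coe_pow, Subgroup.coe_one]
      rw [pa_pow22]
      exact winv_pow
    rw [← map_pow] at hw
    have hw2 := (map_eq_one_iff ψ ψ.injective).mp hw
    apply w_pow_ne
    have := congrArg Subtype.val hw2
    simpa only [Subgroup.coe_mul, Subgroup.coe_pow, Subgroup.coe_one] using this

end

end Cfsg.Agent.Lib.Helper25.Co2Out
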