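import Cfsg.Agent.Lib.Helper25.Co2OutBridge
import Cfsg.Agent.Lib.Helper25.Co2OutAct
import Cfsg.Agent.Lib.Helper25.Co2OutAct3a
import Cfsg.Agent.Lib.Helper25.Co2OutAct3b
import Cfsg.Agent.Lib.Helper25.Co2OutAct3c
import Cfsg.Agent.Lib.Helper25.Co2OutAct3d
import Cfsg.Agent.Lib.Helper25.Co2OutPerm3
import Cfsg.Agent.Lib.Helper21.OutPermModel

/-!
# The second Conway group of the list has no outer automorphisms

The stabilizer of `(4, 4, 0, …, 0)` in the automorphism group of the rank-24 lattice is simple of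
order `42305421312000` (helper4) and acts faithfully on 4600 vectors; its image contains the group
generated by the four tables `known1`, and any such group of that order has only inner
automorphisms (`perm_main`).
-/

set_option autoImplicit false
set_option maxRecDepth 100000

namespace Cfsg.Agent.Lib.Helper25.Co2Out

open Cfsg Cfsg.Spor MulAction
open Cfsg.Agent.Helper4.CO Cfsg.Agent.Helper4.CO.Grp Cfsg.Agent.Helper4.LC
open Cfsg.Agent.Lib.Helper28.BSGS Cfsg.Agent.Lib.Helper22.SuzOut
open Cfsg.Agent.Lib.Helper15.OutOne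

theorem mem_known1_0 : (tp0, tq0) ∈ known1 := by
  show (tp0, tq0) ∈ [(tp0, tq0), (tp1, tq1), (tp2, tq2), (tp3, tq3)]
  exact List.mem_cons_self

theorem mem_known1_1 : (tp1, tq1) ∈ known1 := by
  show (tp1, tq1) ∈ [(tp0, tq0), (tp1, tq1), (tp2, tq2), (tp3, tq3)]
  exact List.mem_cons_of_mem _ List.mem_cons_self

theorem mem_known1_2 : (tp2, tq2) ∈ known1 := by
  show (tp2, tq2) ∈ [(tp0, tq0), (tp1, tq1), (tp2, tq2), (tp3, tq3)]
  exact List.mem_cons_of_mem _ (List.mem_cons_of_mem _ List.mem_cons_self)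

theorem mem_known1_3 : (tp3, tq3) ∈ known1 := by
  show (tp3, tq3) ∈ [(tp0, tq0), (tp1, tq1), (tp2, tq2), (tp3, tq3)]
  exact List.mem_cons_of_mem _ (List.mem_cons_of_mem _ (List.mem_cons_of_mem _ List.mem_cons_self))

theorem pair0 : pairOK 4600 13 tp0 tq0 = true := gensOK_spec 4600 13 known1_ok _ mem_known1_0
theorem pair1 : pairOK 4600 13 tp1 tq1 = true := gensOK_spec 4600 13 known1_ok _ mem_known1_1
theorem pair2 : pairOK 4600 13 tp2 tq2 = true := gensOK_spec 4600 13 known1_ok _ mem_known1_2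
theorem pair3 : pairOK 4600 13 tp3 tq3 = true := gensOK_spec 4600 13 known1_ok _ mem_known1_3

theorem mem_gens0 : C2.g0 ∈ C2.gens := by simp [C2.gens]
theorem mem_gens1 : C2.g1 ∈ C2.gens := by simp [C2.gens]
theorem mem_gens2 : C2.g2 ∈ C2.gens := by simp [C2.gens]
theorem mem_gens3 : C2.g3 ∈ C2.gens := by simp [C2.gens]

theorem actN3_all : ∀ k < 23, actNOK C2.g3 tp3 (200 * k) 200 = true := by
  intro k hk
  interval_cases k
  · exact actN3_0
  · exact actN3_1
  · exact actN3_2
  · exact actN3_3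
  · exact actN3_4
  · exact actN3_5
  · exact actN3_6
  · exact actN3_7
  · exact actN3_8
  · exact actN3_9
  · exact actN3_10
  · exact actN3_11
  · exact actN3_12
  · exact actN3_13
  · exact actN3_14
  · exact actN3_15
  · exact actN3_16
  · exact actN3_17
  · exact actN3_18
  · exact actN3_19
  · exact actN3_20
  · exact actN3_21
  · exact actN3_22

theorem p0_mem : permOf 4600 13 tp0 tq0 ∈ fP.range :=
  gen_elt C2.g0 mem_gens0 tp0 tq0 (act_spec mem_gens0 (actN_of_all actN0_true)) pair0

theorem p1_mem : permOf 4600 13 tp1 tq1 ∈ fP.range :=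
  gen_elt C2.g1 mem_gens1 tp1 tq1 (act_spec mem_gens1 (actN_of_all actN1_true)) pair1

theorem p2_mem : permOf 4600 13 tp2 tq2 ∈ fP.range :=
  gen_elt C2.g2 mem_gens2 tp2 tq2 (act_spec mem_gens2 (actN_of_all actN2_true)) pair2

theorem p3_mem : permOf 4600 13 tp3 tq3 ∈ fP.range :=
  gen_elt C2.g3 mem_gens3 tp3 tq3 (act_spec mem_gens3 (actN_of_chunks actN3_all)) pair3

theorem known1_le : genGroup 4600 13 known1 ≤ fP.range := by
  unfold genGroup
  rw [Subgroup.closure_le]
  intro s hs
  simp only [semGens, known1, List.map_cons, List.map_nil, List.mem_cons, List.not_mem_nil,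
    or_false, Set.mem_ofPred_eq] at hs
  rcases hs with rfl | rfl | rfl | rfl
  · exact p0_mem
  · exact p1_mem
  · exact p2_mem
  · exact p3_mem

theorem fP_inj : Function.Injective fP := by
  rw [← MonoidHom.ker_eq_bot_iff]
  have := hB.1
  rcases (MonoidHom.normal_ker fP).eq_bot_or_eq_top with h | h
  · exact h
  · exfalso
    obtain ⟨g, hg⟩ := p3_mem
    have hk : g ∈ fP.ker := by rw [h]; exact Subgroup.mem_top g
    rw [MonoidHom.mem_ker, hg] at hk
    exact pa_ne hk

theorem card_range : Nat.card fP.range = 42305421312000 := by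
  rw [← Nat.card_congr (MonoidHom.ofInjective fP_inj).toEquiv, hB.2]

/-- every automorphism of the lattice group is inner -/
theorem hb_out : Nat.card (Cfsg.Out ↥HB) = 1 := by
  rw [out_card_congr' (MonoidHom.ofInjective fP_inj)]
  exact perm_main fP.range known1_le (le_of_eq card_range)

/-! ### the second Conway group of the list -/

theorem leechU_norm : sqNorm (leechU : GolayPt → ℤ) = 32 := by
  show sqNorm vecU = 32
  decide +kernel

theorem mem_Co2_iff (g : Equiv.Perm leechLattice) :
    g ∈ Spor.Co2 ↔ g ∈ Co0 ∧ g leechU = leechU := by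
  unfold Spor.Co2
  rw [Subgroup.mem_inf, MulAction.mem_stabilizer_iff]
  exact Iff.rfl

/-- the second Conway group of the list is the stabilizer of the vector -/
def co2Equiv : ↥Spor.Co2 ≃* ↥(stabilizer ↥Co0 leechU) where
  toFun g := ⟨⟨g.1, ((mem_Co2_iff g.1).mp g.2).1⟩, by
    obtain ⟨h0, h1⟩ := (mem_Co2_iff g.1).mp g.2
    have hv : (⟨g.1, h0⟩ : ↥Co0) • leechU = leechU := h1
    exact MulAction.mem_stabilizer_iff.mpr hv⟩
  invFun g := ⟨g.1.1, by
    rw [mem_Co2_iff]
    have hu : g.1 • leechU = leechU := MulAction.mem_stabilizer_iff.mp g.2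
    exact ⟨g.1.2, hu⟩⟩
  left_inv g := rfl
  right_inv g := rfl
  map_mul' g h := rfl

theorem co2_iso : Nonempty (↥(stabilizer ↥Co0 leechU) ≃* ↥HB) := by
  obtain ⟨h, hb, _, _⟩ := C2.exists_base leechU leechU_norm
  have e := conjStab1 h leechU
  have h1 : h • leechU = vA := Subtype.ext (by rw [hb]; rfl)
  rw [h1] at e
  exact ⟨e⟩

/-- every automorphism of the second Conway group is inner -/
theorem main : Nat.card (Cfsg.Out ↥Cfsg.Spor.Co2) = 1 := by
  obtain ⟨e⟩ := co2_iso
  rw [out_card_congr' (co2Equiv.trans e)]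
  exact hb_out

end Cfsg.Agent.Lib.Helper25.Co2Out
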