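import Cfsg.Agent.Lib.Helper17.HeOutP1

/-!
# A rigidity criterion for a trivial outer automorphism group, with a class swap to exclude

`G = ⟨a, d, y⟩` finite, `⟨a⟩` a Sylow `p`-subgroup of order `p`, self-centralizing, `d a d⁻¹ = a ^ r`
with `r ≢ 1`, the powers of `r` reach `1` or `t` from every unit, automorphisms fixing `a` and `d`
fix `y`, and no automorphism maps `a` to `a ^ t` and fixes `d`: then every automorphism is inner.
(Variant of `Helper17.out_card_two_of_rigid` / `out_card_one_of_rigid`.)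
-/

set_option autoImplicit false

namespace Cfsg.Agent.Lib.Helper25.OutOneInv

open Cfsg.Agent.Lib.Helper29.HeOut.Helper17

variable {G : Type*} [Group G]

/-- an element `d a ^ i` can be conjugated back to `d` by a power of `a` -/
theorem exists_pow_conj {p : ℕ} [hp : Fact p.Prime] {a d : G} {r : ℕ}
    (ha : orderOf a = p) (hd : d * a * d⁻¹ = a ^ r) (hr1 : r % p ≠ 1) (i : ℤ) :
    ∃ m : ℕ, a ^ m * (d * a ^ i) * (a ^ m)⁻¹ = d := by
  have hp1 : 1 < p := hp.out.one_lt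
  have hconj : ∀ j : ℤ, d * a ^ j * d⁻¹ = a ^ ((r : ℤ) * j) := by
    intro j
    rw [← conj_zpow, hd, ← zpow_natCast, ← zpow_mul]
  have hu : ((r : ZMod p) - 1) ≠ 0 := by
    intro h
    have h' : ((r : ℕ) : ZMod p) = ((1 : ℕ) : ZMod p) := by
      rw [Nat.cast_one]; exact sub_eq_zero.mp h
    rw [ZMod.natCast_eq_natCast_iff'] at h'
    rw [Nat.mod_eq_of_lt hp1] at h'
    exact hr1 h'
  obtain ⟨mz, hmz⟩ : ∃ mz : ZMod p, mz * ((r : ZMod p) - 1) = (r : ZMod p) * (i : ZMod p) :=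
    ⟨(r : ZMod p) * (i : ZMod p) * ((r : ZMod p) - 1)⁻¹, by
      rw [mul_assoc, inv_mul_cancel₀ hu, mul_one]⟩
  have hm : ((mz.val : ℕ) : ZMod p) = mz := ZMod.natCast_zmod_val mz
  have hcast : ((((mz.val : ℕ) : ℤ) + (r : ℤ) * (i - ((mz.val : ℕ) : ℤ)) : ℤ) : ZMod p) = 0 := by
    push_cast
    rw [hm]
    have : mz + (r : ZMod p) * ((i : ZMod p) - mz) =
        (r : ZMod p) * (i : ZMod p) - mz * ((r : ZMod p) - 1) := by ring
    rw [this, hmz, sub_self]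
  have hdvd : (p : ℤ) ∣ ((mz.val : ℕ) : ℤ) + (r : ℤ) * (i - ((mz.val : ℕ) : ℤ)) :=
    (ZMod.intCast_zmod_eq_zero_iff_dvd _ p).mp hcast
  have he : a ^ (((mz.val : ℕ) : ℤ) + (r : ℤ) * (i - ((mz.val : ℕ) : ℤ))) = 1 := by
    apply orderOf_dvd_iff_zpow_eq_one.mp
    rw [ha]; exact hdvd
  refine ⟨mz.val, ?_⟩
  have h3 : d * a ^ (i - ((mz.val : ℕ) : ℤ)) = a ^ ((r : ℤ) * (i - ((mz.val : ℕ) : ℤ))) * d := by
    rw [← hconj]; group
  calc a ^ mz.val * (d * a ^ i) * (a ^ mz.val)⁻¹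
      = a ^ ((mz.val : ℕ) : ℤ) * (d * a ^ (i - ((mz.val : ℕ) : ℤ))) := by
        rw [zpow_sub, zpow_natCast]; group
    _ = a ^ ((mz.val : ℕ) : ℤ) * (a ^ ((r : ℤ) * (i - ((mz.val : ℕ) : ℤ))) * d) := by rw [h3]
    _ = a ^ (((mz.val : ℕ) : ℤ) + (r : ℤ) * (i - ((mz.val : ℕ) : ℤ))) * d := by
        rw [zpow_add, mul_assoc]
    _ = d := by rw [he, one_mul]

/-- an automorphism mapping `a` to a generator `a ^ t` of `⟨a⟩` can be modified by an inner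
automorphism so that it also fixes `d` -/
theorem exists_conj_fix_d {p : ℕ} [hp : Fact p.Prime] {a d : G} {r t : ℕ}
    (ha : orderOf a = p) (hd : d * a * d⁻¹ = a ^ r) (hr1 : r % p ≠ 1)
    (hCa : ∀ c : G, c * a = a * c → c ∈ Subgroup.zpowers a)
    (ht : ∃ s : ℕ, (a ^ t) ^ s = a)
    (ψ : MulAut G) (hψ : ψ a = a ^ t) :
    ∃ m : ℕ, (MulAut.conj (a ^ m) * ψ) a = a ^ t ∧ (MulAut.conj (a ^ m) * ψ) d = d := by
  obtain ⟨s, hs⟩ := ht
  -- `ψ d` and `d` conjugate `a ^ t` in the same way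
  have h1 : ψ d * a ^ t * (ψ d)⁻¹ = (a ^ t) ^ r := by
    have := congrArg ψ hd
    rw [map_mul, map_mul, map_inv, map_pow, hψ] at this
    exact this
  have h1' : d * a ^ t * d⁻¹ = (a ^ t) ^ r := by
    rw [← conj_pow, hd, ← pow_mul, ← pow_mul, mul_comm]
  have h2 : (d⁻¹ * ψ d) * a ^ t = a ^ t * (d⁻¹ * ψ d) := by
    have e1 : ψ d * a ^ t = (a ^ t) ^ r * ψ d := mul_inv_eq_iff_eq_mul.mp h1
    have e3 : d⁻¹ * (a ^ t) ^ r = a ^ t * d⁻¹ := by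
      rw [← h1']; group
    calc d⁻¹ * ψ d * a ^ t = d⁻¹ * (ψ d * a ^ t) := by rw [mul_assoc]
      _ = d⁻¹ * ((a ^ t) ^ r * ψ d) := by rw [e1]
      _ = (d⁻¹ * (a ^ t) ^ r) * ψ d := by rw [mul_assoc]
      _ = a ^ t * d⁻¹ * ψ d := by rw [e3]
      _ = a ^ t * (d⁻¹ * ψ d) := by rw [mul_assoc]
  have h3 : (d⁻¹ * ψ d) * a = a * (d⁻¹ * ψ d) := by
    have hc : Commute (d⁻¹ * ψ d) (a ^ t) := h2
    have := hc.pow_right s
    rw [hs] at this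
    exact this
  obtain ⟨i, hi⟩ := Subgroup.mem_zpowers_iff.mp (hCa _ h3)
  have hψd : ψ d = d * a ^ i := by rw [hi]; group
  obtain ⟨m, hm⟩ := exists_pow_conj ha hd hr1 i
  refine ⟨m, ?_, ?_⟩
  · rw [MulAut.mul_apply, MulAut.conj_apply, hψ]
    have : Commute (a ^ m) (a ^ t) := (Commute.refl a).pow_pow m t
    rw [this.eq, mul_inv_cancel_right]
  · rw [MulAut.mul_apply, MulAut.conj_apply, hψd]
    exact hm

theorem out_card_one_of_rigid_inv [Finite G] {p : ℕ} [Fact p.Prime]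
    {a d y : G} {r t : ℕ} (ha : orderOf a = p) (hfac : (Nat.card G).factorization p = 1)
    (hd : d * a * d⁻¹ = a ^ r) (hr1 : r % p ≠ 1)
    (hr : ∀ k : ℕ, 1 ≤ k → k < p → ∃ i : ℕ, k * r ^ i % p = 1 ∨ k * r ^ i % p = t)
    (hCa : ∀ c : G, c * a = a * c → c ∈ Subgroup.zpowers a)
    (hgen : Subgroup.closure {a, d, y} = ⊤)
    (hy : ∀ ψ : MulAut G, ψ a = a → ψ d = d → ψ y = y)
    (ht : ∃ s : ℕ, (a ^ t) ^ s = a)
    (hno : ∀ ψ : MulAut G, ψ a = a ^ t → ψ d = d → False) :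
    Nat.card (Cfsg.Out G) = 1 := by
  have hfix : ∀ ψ : MulAut G, ψ a = a → ψ ∈ Cfsg.Inn G :=
    fun ψ hψ => inner_of_fix ha hd hr1 hCa hgen hy ψ hψ
  have htop : Cfsg.Inn G = ⊤ := by
    rw [eq_top_iff]
    intro φ _
    obtain ⟨c, hc⟩ := exists_fix_or_pow ha hfac hd hr φ
    rcases hc with hc | hc
    · have hcinn : MulAut.conj c ∈ Cfsg.Inn G := ⟨c, rfl⟩
      have h1 := hfix _ hc
      have h2 : φ = (MulAut.conj c)⁻¹ * (MulAut.conj c * φ) := by group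
      rw [h2]
      exact (Cfsg.Inn G).mul_mem ((Cfsg.Inn G).inv_mem hcinn) h1
    · exfalso
      obtain ⟨m, hm1, hm2⟩ := exists_conj_fix_d ha hd hr1 hCa ht (MulAut.conj c * φ) hc
      exact hno _ hm1 hm2
  show Nat.card (MulAut G ⧸ Cfsg.Inn G) = 1
  rw [← Subgroup.index_eq_card, Subgroup.index_eq_one]
  exact htop

theorem out_card_one_of_rigid_inv_sub {G₀ : Type*} [Group G₀] (K : Subgroup G₀) [Finite K]
    {p : ℕ} [Fact p.Prime] {a d y : G₀} {r t : ℕ} (hak : a ∈ K) (hdk : d ∈ K) (hyk : y ∈ K)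
    (ha : orderOf a = p) (hfac : (Nat.card K).factorization p = 1)
    (hd : d * a * d⁻¹ = a ^ r) (hr1 : r % p ≠ 1)
    (hr : ∀ k : ℕ, 1 ≤ k → k < p → ∃ i : ℕ, k * r ^ i % p = 1 ∨ k * r ^ i % p = t)
    (hCa : ∀ c ∈ K, c * a = a * c → c ∈ Subgroup.zpowers a)
    (hgen : K ≤ Subgroup.closure {a, d, y})
    (hy : ∀ ψ : MulAut K, ψ ⟨a, hak⟩ = ⟨a, hak⟩ → ψ ⟨d, hdk⟩ = ⟨d, hdk⟩ → ψ ⟨y, hyk⟩ = ⟨y, hyk⟩)
    (ht : ∃ s : ℕ, (a ^ t) ^ s = a)
    (hno : ∀ ψ : MulAut K, ψ ⟨a, hak⟩ = ⟨a, hak⟩ ^ t → ψ ⟨d, hdk⟩ = ⟨d, hdk⟩ → False) :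
    Nat.card (Cfsg.Out K) = 1 := by
  have ha' : orderOf (⟨a, hak⟩ : K) = p := by
    rw [Subgroup.orderOf_mk]; exact ha
  have hd' : (⟨d, hdk⟩ : K) * ⟨a, hak⟩ * (⟨d, hdk⟩ : K)⁻¹ = (⟨a, hak⟩ : K) ^ r := by
    apply Subtype.ext
    simp only [Subgroup.coe_mul, Subgroup.coe_inv, Subgroup.coe_pow]
    exact hd
  have hCa' : ∀ c : K, c * ⟨a, hak⟩ = ⟨a, hak⟩ * c → c ∈ Subgroup.zpowers (⟨a, hak⟩ : K) := by
    intro c hc
    have h1 : (c : G₀) * a = a * (c : G₀) := by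
      have := congrArg Subtype.val hc
      simpa using this
    obtain ⟨i, hi⟩ := Subgroup.mem_zpowers_iff.mp (hCa c.1 c.2 h1)
    rw [Subgroup.mem_zpowers_iff]
    refine ⟨i, ?_⟩
    apply Subtype.ext
    rw [Subgroup.coe_zpow]
    exact hi
  have hgen' : Subgroup.closure {(⟨a, hak⟩ : K), ⟨d, hdk⟩, ⟨y, hyk⟩} = ⊤ := by
    rw [eq_top_iff]
    intro x _
    have himg : (Subgroup.closure {(⟨a, hak⟩ : K), ⟨d, hdk⟩, ⟨y, hyk⟩}).map K.subtype =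
        Subgroup.closure {a, d, y} := by
      rw [MonoidHom.map_closure]
      congr 1
      simp [Set.image_insert_eq]
    have hx : (x : G₀) ∈ (Subgroup.closure {(⟨a, hak⟩ : K), ⟨d, hdk⟩, ⟨y, hyk⟩}).map K.subtype := by
      rw [himg]; exact hgen x.2
    obtain ⟨z, hz, hzx⟩ := hx
    have : z = x := Subtype.ext hzx
    rw [← this]; exact hz
  have ht' : ∃ s : ℕ, ((⟨a, hak⟩ : K) ^ t) ^ s = ⟨a, hak⟩ := by
    obtain ⟨s, hs⟩ := ht
    refine ⟨s, ?_⟩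
    apply Subtype.ext
    simp only [Subgroup.coe_pow]
    exact hs
  exact out_card_one_of_rigid_inv ha' hfac hd' hr1 hr hCa' hgen' hy ht' hno

end Cfsg.Agent.Lib.Helper25.OutOneInv
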