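import Cfsg.Agent.Lib.Helper25.Co2OutChk1
import Cfsg.Agent.Lib.Helper25.Co2OutChk2
import Cfsg.Agent.Lib.Helper25.Co2OutChk3
import Cfsg.Agent.Lib.Helper25.Co2OutChk4
import Cfsg.Agent.Lib.Helper20.TreeT1
import Cfsg.Agent.Lib.Helper21.TreeT2
import Cfsg.Agent.Lib.Helper1.TreeT3
import Cfsg.Agent.Lib.Helper25.OutOneInv

/-!
# The group on 4600 points generated by four explicit permutations has no outer automorphisms

`K` is any subgroup of `Perm (Fin 4600)` of order at most `42305421312000` containing the four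
permutations of the tables `known1`.  Sylow-23 anchoring: `a` of order 23, `d` of order 11 with
`d a d⁻¹ = a ^ 2`, `y` an involution inverting `d` with `(a y) ^ 11 = 1`.
-/

set_option autoImplicit false
set_option maxRecDepth 100000

namespace Cfsg.Agent.Lib.Helper25.Co2Out

open Cfsg.Agent.Lib.Helper28.BSGS Cfsg.Agent.Lib.Helper22.SuzOut Cfsg.Agent.Lib.Helper27.TreeSift

/-- permutations of the 4600 points -/
abbrev P4600 := Equiv.Perm (Fin 4600)

/-- the element of order 23 -/
def pa : P4600 := permOf 4600 13 tp3 tq3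
/-- the element of order 11 -/
def pd : P4600 := permOf 4600 13 td tqd
/-- the involution -/
def py : P4600 := permOf 4600 13 ty tqy

theorem gens2_eq : gens2 = known2 ++ items2.map (fun it => it.1) := rfl

theorem seq2 : gensOK 4600 13 gens2 = true ∧ genGroup 4600 13 gens2 = genGroup 4600 13 known2 := by
  rw [gens2_eq]
  exact seq_sound 4600 13 known2 items2 known2_ok seq2_ok

theorem gens2_ok : gensOK 4600 13 gens2 = true := seq2.1

theorem seq1 : gensOK 4600 13 (known1 ++ items1.map (fun it => it.1)) = true ∧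
    genGroup 4600 13 (known1 ++ items1.map (fun it => it.1)) = genGroup 4600 13 known1 :=
  seq_sound 4600 13 known1 items1 known1_ok seq1_ok

theorem genGroup_known2 : genGroup 4600 13 known2 = Subgroup.closure {pa, pd, py} := by
  unfold genGroup
  congr 1
  ext s
  simp only [semGens, known2, List.map_cons, List.map_nil, List.mem_cons, List.not_mem_nil,
    or_false, Set.mem_ofPred_eq, Set.mem_insert_iff, Set.mem_singleton_iff]
  rfl

set_option maxRecDepth 100000 in
theorem mem1_a : (tp3, tq3) ∈ known1 ++ items1.map (fun it => it.1) := by decide +kernel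

set_option maxRecDepth 100000 in
theorem mem1_d : (td, tqd) ∈ known1 ++ items1.map (fun it => it.1) := by decide +kernel

set_option maxRecDepth 100000 in
theorem mem1_y : (ty, tqy) ∈ known1 ++ items1.map (fun it => it.1) := by decide +kernel

theorem known2_le : genGroup 4600 13 known2 ≤ genGroup 4600 13 known1 := by
  rw [← seq1.2, genGroup_known2, Subgroup.closure_le]
  have key : ∀ g : ℕ × ℕ, g ∈ known1 ++ items1.map (fun it => it.1) →
      permOf 4600 13 g.1 g.2 ∈ genGroup 4600 13 (known1 ++ items1.map (fun it => it.1)) :=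
    fun g hg => Subgroup.subset_closure (mem_semGens 4600 13 hg)
  intro s hs
  simp only [Set.mem_insert_iff, Set.mem_singleton_iff] at hs
  rcases hs with rfl | rfl | rfl
  · exact key (tp3, tq3) mem1_a
  · exact key (td, tqd) mem1_d
  · exact key (ty, tqy) mem1_y

/-! ### letters -/

theorem letter0 : letterPerm 4600 13 gens2 0 = pa := rfl
theorem letter1 : letterPerm 4600 13 gens2 1 = pa⁻¹ := rfl
theorem letter2 : letterPerm 4600 13 gens2 2 = pd := rfl
theorem letter3 : letterPerm 4600 13 gens2 3 = pd⁻¹ := rfl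
theorem letter4 : letterPerm 4600 13 gens2 4 = py := rfl
theorem letter5 : letterPerm 4600 13 gens2 5 = py⁻¹ := rfl

theorem pa_val (x : Fin 4600) : (pa x).val = fA x.val :=
  (letterPerm_spec 4600 13 gens2 gens2_ok (c := 0) (by decide) x).1

theorem pd_val (x : Fin 4600) : (pd x).val = fD x.val :=
  (letterPerm_spec 4600 13 gens2 gens2_ok (c := 2) (by decide) x).1

theorem all_lt {cs : List ℕ} (h : cs.all (fun c => Nat.blt (c / 2) gens2.length) = true) :
    ∀ c ∈ cs, c / 2 < gens2.length := by
  intro c hc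
  have := List.all_eq_true.mp h c hc
  exact Nat.blt_eq.mp this

theorem pathPerm_val {cs : List ℕ} (h : ∀ c ∈ cs, c / 2 < gens2.length) (x : Fin 4600) :
    (pathPerm 4600 13 gens2 cs x).val = evalF 13 gens2 cs x.val :=
  (pathPerm_spec 4600 13 gens2 gens2_ok cs h x).1

theorem pathPerm_eq {cs cs' : List ℕ} (h : pathEqOK cs cs' = true) :
    pathPerm 4600 13 gens2 cs = pathPerm 4600 13 gens2 cs' := by
  unfold pathEqOK at h
  rw [Bool.and_eq_true, Bool.and_eq_true] at h
  obtain ⟨⟨h1, h2⟩, h3⟩ := h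
  apply Equiv.ext
  intro x
  apply Fin.ext
  rw [pathPerm_val (all_lt h1), pathPerm_val (all_lt h2)]
  exact Nat.eq_of_beq_eq_true (allBelow_spec h3 x.val x.isLt)

theorem pathPerm_pow_ne {cs : List ℕ} {m q : ℕ} (hq : q < 4600) (h : powNeOK cs m q = true) :
    pathPerm 4600 13 gens2 cs ^ m ≠ 1 := by
  unfold powNeOK at h
  rw [Bool.and_eq_true] at h
  obtain ⟨h1, h2⟩ := h
  intro he
  have h3 := pow_val_iterate 4600 (pathPerm 4600 13 gens2 cs) (evalF 13 gens2 cs)
    (fun x => pathPerm_val (all_lt h1) x) m ⟨q, hq⟩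
  rw [he] at h3
  have h4 : Nat.beq ((evalF 13 gens2 cs)^[m] q) q = true := by
    rw [← h3]
    exact Nat.beq_refl q
  rw [h4] at h2
  exact absurd h2 (by decide)

theorem pathPerm_replicate (c i : ℕ) :
    pathPerm 4600 13 gens2 (List.replicate i c) = letterPerm 4600 13 gens2 c ^ i := by
  induction i with
  | zero => rw [List.replicate_zero, pathPerm_nil, pow_zero]
  | succ i ih => rw [List.replicate_succ, pathPerm_cons, ih, pow_succ']

/-! ### relations -/

theorem path_a : pathPerm 4600 13 gens2 [0] = pa := by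
  rw [pathPerm_cons, pathPerm_nil, letter0, mul_one]

theorem pa_pow : pa ^ 23 = 1 := by
  have := pathPerm_pow_eq_one 4600 13 gens2 gens2_ok [0] 23 rel_a23
  rwa [path_a] at this

theorem pa_ne : pa ≠ 1 := by
  have := pathPerm_pow_ne (by decide) ne_a
  rwa [path_a, pow_one] at this

theorem pa_order : orderOf pa = 23 := by
  haveI : Fact (Nat.Prime 23) := ⟨by norm_num⟩
  exact orderOf_eq_prime pa_pow pa_ne

theorem pd_pow : pd ^ 11 = 1 := by
  have := pathPerm_pow_eq_one 4600 13 gens2 gens2_ok [2] 11 rel_d11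
  rwa [pathPerm_cons, pathPerm_nil, letter2, mul_one] at this

theorem pay_pow : (pa * py) ^ 11 = 1 := by
  have := pathPerm_pow_eq_one 4600 13 gens2 gens2_ok [0, 4] 11 rel_ay
  rwa [pathPerm_cons, pathPerm_cons, pathPerm_nil, letter0, letter4, mul_one] at this

theorem pd_conj : pd * pa * pd⁻¹ = pa ^ 2 := by
  have := pathPerm_eq rel_dad
  rw [pathPerm_cons, pathPerm_cons, pathPerm_cons, pathPerm_nil, pathPerm_cons, pathPerm_cons,
    pathPerm_nil, letter0, letter2, letter3, mul_one, mul_one] at this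
  rw [pow_two, ← this, mul_assoc]

theorem py_conj : py * pd * py⁻¹ = pd⁻¹ := by
  have := pathPerm_eq rel_ydy
  rw [pathPerm_cons, pathPerm_cons, pathPerm_cons, pathPerm_nil, pathPerm_cons,
    pathPerm_nil, letter2, letter3, letter4, letter5, mul_one, mul_one] at this
  rw [← this, mul_assoc]

theorem winv_pow : (pa⁻¹ * pa⁻¹ * py * pa⁻¹ * py * pa⁻¹ * pd) ^ 9 = 1 := by
  have := pathPerm_pow_eq_one 4600 13 gens2 gens2_ok [1, 1, 4, 1, 4, 1, 2] 9 rel_winv
  rw [pathPerm_cons, pathPerm_cons, pathPerm_cons, pathPerm_cons, pathPerm_cons, pathPerm_cons,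
    pathPerm_cons, pathPerm_nil, letter1, letter2, letter4, mul_one] at this
  rw [← this]
  congr 1

theorem w_pow_ne : (pa * pa * py * pa * py * pa * pd) ^ 9 ≠ 1 := by
  have := pathPerm_pow_ne (by decide) ne_w
  rw [pathPerm_cons, pathPerm_cons, pathPerm_cons, pathPerm_cons, pathPerm_cons, pathPerm_cons,
    pathPerm_cons, pathPerm_nil, letter0, letter2, letter4, mul_one] at this
  intro h
  apply this
  rw [← h]
  congr 1

theorem ayd_pow_ne (i : ℕ) (h1 : 1 ≤ i) (h2 : i < 11) :
    (pa * py * pd ^ i) ^ 11 ≠ 1 ∧ (pa⁻¹ * py * pd ^ i) ^ 11 ≠ 1 := by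
  obtain ⟨j, rfl⟩ : ∃ j, i = j + 1 := ⟨i - 1, by omega⟩
  have hj : j ∈ List.range 10 := List.mem_range.mpr (by omega)
  have h := List.all_eq_true.mp ne_ayd j hj
  rw [Bool.and_eq_true] at h
  constructor
  · have := pathPerm_pow_ne (by decide) h.1
    rwa [pathPerm_cons, pathPerm_cons, pathPerm_replicate, letter0, letter4, letter2,
      ← mul_assoc] at this
  · have := pathPerm_pow_ne (by decide) h.2
    rwa [pathPerm_cons, pathPerm_cons, pathPerm_replicate, letter1, letter4, letter2,
      ← mul_assoc] at this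

end Cfsg.Agent.Lib.Helper25.Co2Out
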