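import Mathlib

/-!
# Rigidity of an element inverting `d`

If `C(d) = ⟨d⟩`, `d ^ n = 1`, `y d y⁻¹ = d⁻¹`, `(a y) ^ m = 1` and `(a' y d ^ i) ^ m ≠ 1` for
`0 < i < n`, then an automorphism with `a ↦ a'`, `d ↦ d` fixes `y`.
-/

set_option autoImplicit false

namespace Cfsg.Agent.Lib.Helper25.OutRigidY

variable {G : Type*} [Group G]

theorem fix_y {a a' d y : G} {n m : ℕ} (hn : 0 < n)
    (hCd : ∀ c : G, c * d = d * c → c ∈ Subgroup.zpowers d) (hd : d ^ n = 1)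
    (hyd : y * d * y⁻¹ = d⁻¹) (hay : (a * y) ^ m = 1)
    (hne : ∀ i : ℕ, 1 ≤ i → i < n → (a' * y * d ^ i) ^ m ≠ 1)
    (ψ : MulAut G) (h1 : ψ a = a') (h2 : ψ d = d) : ψ y = y := by
  have hy' : ψ y * d * (ψ y)⁻¹ = d⁻¹ := by
    have := congrArg ψ hyd
    rw [map_mul, map_mul, map_inv, map_inv, h2] at this
    exact this
  have e1 : d * y⁻¹ = y⁻¹ * d⁻¹ := by
    rw [← hyd]; group
  have e2 : ψ y * d = d⁻¹ * ψ y := by
    rw [← hy']; group
  have hc : (y⁻¹ * ψ y) * d = d * (y⁻¹ * ψ y) := by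
    calc y⁻¹ * ψ y * d = y⁻¹ * (ψ y * d) := by rw [mul_assoc]
      _ = y⁻¹ * (d⁻¹ * ψ y) := by rw [e2]
      _ = (y⁻¹ * d⁻¹) * ψ y := by rw [mul_assoc]
      _ = (d * y⁻¹) * ψ y := by rw [e1]
      _ = d * (y⁻¹ * ψ y) := by rw [mul_assoc]
  obtain ⟨k, hk⟩ := Subgroup.mem_zpowers_iff.mp (hCd _ hc)
  have hnz : (0 : ℤ) < n := by exact_mod_cast hn
  have hmod : d ^ k = d ^ (k % (n : ℤ)).toNat := by
    have h3 : ((k % (n : ℤ)).toNat : ℤ) = k % n :=
      Int.toNat_of_nonneg (Int.emod_nonneg _ (ne_of_gt hnz))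
    rw [← zpow_natCast, h3]
    conv_lhs => rw [← Int.emod_add_mul_ediv k n]
    rw [zpow_add, zpow_mul, zpow_natCast, hd, one_zpow, mul_one]
  set i := (k % (n : ℤ)).toNat with hi
  have hin : i < n := by
    have := Int.emod_lt_of_pos k hnz
    have h3 : ((k % (n : ℤ)).toNat : ℤ) = k % n :=
      Int.toNat_of_nonneg (Int.emod_nonneg _ (ne_of_gt hnz))
    omega
  have hψy : ψ y = y * d ^ i := by
    rw [← hmod, hk]; group
  have h4 : (a' * y * d ^ i) ^ m = 1 := by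
    have := congrArg ψ hay
    rw [map_pow, map_mul, h1, hψy, map_one, ← mul_assoc] at this
    exact this
  rcases Nat.eq_zero_or_pos i with h0 | h0
  · rw [hψy, h0, pow_zero, mul_one]
  · exact absurd h4 (hne i h0 hin)

end Cfsg.Agent.Lib.Helper25.OutRigidY
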