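import Cfsg.Agent.Lib.Helper25.Co2OutPerm
import Cfsg.Agent.Lib.Helper25.OutRigidY

/-!
# The group on 4600 points: centralizers, rigidity, and the outer automorphism group
-/

set_option autoImplicit false
set_option maxRecDepth 100000

namespace Cfsg.Agent.Lib.Helper25.Co2Out

open Cfsg.Agent.Lib.Helper28.BSGS Cfsg.Agent.Lib.Helper22.SuzOut Cfsg.Agent.Lib.Helper27.TreeSift

/-! ### generalities -/

theorem comm_iter {g c : P4600} {f : ℕ → ℕ} (hg : ∀ x : Fin 4600, (g x).val = f x.val)
    (hc : c * g = g * c) (e : ℕ) (p : Fin 4600) : (c ((g ^ e) p)).val = f^[e] (c p).val := by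
  have h1 : Commute c (g ^ e) := Commute.pow_right hc e
  have h2 : c ((g ^ e) p) = (g ^ e) (c p) := by
    have := congrArg (fun z : P4600 => z p) h1.eq
    simpa [Equiv.Perm.mul_apply] using this
  rw [h2, pow_val_iterate 4600 g f hg e (c p)]

theorem pow_pt {g : P4600} {f : ℕ → ℕ} (hg : ∀ x : Fin 4600, (g x).val = f x.val)
    {b : ℕ} (hb : b < 4600) (e : ℕ) :
    f^[e] b < 4600 ∧ pt 4600 (f^[e] b) = (g ^ e) (pt 4600 b) := by
  have h : ((g ^ e) (pt 4600 b)).val = f^[e] b := by
    rw [pow_val_iterate 4600 g f hg e (pt 4600 b), pt_val 4600 hb]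
  have hlt : f^[e] b < 4600 := by rw [← h]; exact Fin.isLt _
  exact ⟨hlt, Fin.ext (by rw [pt_val 4600 hlt, h])⟩

theorem mem_iterImgs {f : ℕ → ℕ} : ∀ (k : ℕ) (z x : ℕ), x ∈ iterImgs f k z → ∃ j < k, x = f^[j] z := by
  intro k
  induction k with
  | zero => intro z x hx; simp [iterImgs] at hx
  | succ k ih =>
    intro z x hx
    rw [iterImgs, List.mem_cons] at hx
    rcases hx with rfl | hx
    · exact ⟨0, Nat.succ_pos k, rfl⟩
    · obtain ⟨j, hj, hxj⟩ := ih (f z) x hx
      exact ⟨j + 1, Nat.succ_lt_succ hj, by rw [hxj, Function.iterate_succ_apply]⟩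

theorem forall₂_fst {R : ℕ → ℕ → Prop} {ls : List TLevel} {ys : List ℕ}
    (h : List.Forall₂ R (ls.map (fun lv => lv.1)) ys) :
    List.Forall₂ (fun (lv : TLevel) (y : ℕ) => R lv.1 y) ls ys :=
  List.forall₂_map_left_iff.mp h

/-! ### base images of elements commuting with `a` or `d` -/

theorem himgA (c : P4600) (hc : c * pa = pa * c) :
    List.Forall₂ (fun (lv : TLevel) (y : ℕ) => (c (pt 4600 lv.1)).val = y) levels
      (imgsA (c (pt 4600 3071)).val) := by
  apply forall₂_fst (R := fun b y => (c (pt 4600 b)).val = y)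
  rw [bases_A]
  have key : ∀ e : ℕ, (c (pt 4600 (fA^[e] 3071))).val = fA^[e] (c (pt 4600 3071)).val := by
    intro e
    rw [(pow_pt pa_val (by decide : 3071 < 4600) e).2]
    exact comm_iter pa_val hc e _
  unfold imgsA
  exact List.Forall₂.cons (key 0) (List.Forall₂.cons (key 1) (List.Forall₂.cons (key 2)
    (List.Forall₂.cons (key 4) (List.Forall₂.cons (key 8) (List.Forall₂.cons (key 16)
      List.Forall₂.nil)))))

theorem levels_eq : levels = (3071, sv0) :: levels.tail := rfl

theorem levels_lt : ∀ lv ∈ levels, lv.1 < 4600 :=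
  base_lt_of_chainOKT 4600 13 gens2 8 levels [] chain_ok

theorem himgD (c : P4600) (hc : c * pd = pd * c) :
    List.Forall₂ (fun (lv : TLevel) (y : ℕ) => (c (pt 4600 lv.1)).val = y) levels
      ((c (pt 4600 3071)).val :: iterImgs fD 5 (c (pt 4600 1345)).val) := by
  rw [levels_eq]
  refine List.Forall₂.cons rfl ?_
  have h := himg_of_conj 4600 pd pd c fD fD pd_val pd_val hc levels.tail
    (fun lv hlv => levels_lt lv (List.mem_of_mem_tail hlv)) bases_D (c (pt 4600 1345)).val
    (by
      intro lv hlv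
      have : lv = (1345, sv1) := by
        have h0 : levels.tail.head? = some (1345, sv1) := rfl
        rw [h0] at hlv
        exact (Option.some.inj (Option.mem_def.mp hlv)).symm
      rw [this])
  exact h

/-! ### the group -/

section

variable (K : Subgroup P4600) (hK : genGroup 4600 13 known1 ≤ K)
  (hN : Nat.card K ≤ 42305421312000)

include hK hN

theorem tree : genGroup 4600 13 gens2 = K ∧ Nat.card K = 42305421312000 ∧
    ∀ z ∈ K, Cfsg.Agent.Lib.Helper28.BSGS.Sifts (semTs 4600 13 gens2 8 levels) z := by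
  have h := tree_main 4600 13 gens2 8 gens2_ok levels chain_ok K
    (by rw [seq2.2]; exact known2_le.trans hK) (by rw [size_eq]; exact hN)
  rwa [size_eq] at h

theorem K_eq : K = Subgroup.closure {pa, pd, py} := by
  rw [← (tree K hK hN).1, seq2.2, genGroup_known2]

theorem pa_mem : pa ∈ K := by
  rw [K_eq K hK hN]; exact Subgroup.subset_closure (by simp)

theorem pd_mem : pd ∈ K := by
  rw [K_eq K hK hN]; exact Subgroup.subset_closure (by simp)

theorem py_mem : py ∈ K := by
  rw [K_eq K hK hN]; exact Subgroup.subset_closure (by simp)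

/-- the centralizer of `a` -/
theorem cent_a (c : P4600) (hc : c ∈ K) (hcomm : c * pa = pa * c) :
    c ∈ Subgroup.zpowers pa := by
  obtain ⟨_, _, hsift⟩ := tree K hK hN
  have himg := himgA c hcomm
  obtain ⟨ws, hws, _⟩ := treeSift_sound 4600 13 gens2 8 gens2_ok levels [] chain_ok c
    (hsift c hc) _ himg
  have hx : (c (pt 4600 3071)).val < 4600 := Fin.isLt _
  have h1 := allBelow_spec chkA_ok _ hx
  rw [hws] at h1
  have h2 : (c (pt 4600 3071)).val ∈ iterImgs fA 23 3071 := by
    simpa using h1
  obtain ⟨j, _, hxj⟩ := mem_iterImgs 23 3071 _ h2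
  have hpj : pa ^ j ∈ K := K.pow_mem (pa_mem K hK hN) j
  have hcj : pa ^ j * pa = pa * pa ^ j := ((Commute.refl pa).pow_left j).eq
  have himg' := himgA (pa ^ j) hcj
  have hx' : ((pa ^ j) (pt 4600 3071)).val = (c (pt 4600 3071)).val := by
    rw [pow_val_iterate 4600 pa fA pa_val j, pt_val 4600 (by decide : 3071 < 4600), hxj]
  rw [hx'] at himg'
  have := eq_of_imgs 4600 13 gens2 8 gens2_ok levels [] chain_ok c (pa ^ j) (hsift c hc)
    (hsift _ hpj) _ himg himg'
  rw [this]
  exact Subgroup.pow_mem _ (Subgroup.mem_zpowers pa) j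

/-- the centralizer of `d` -/
theorem cent_d (c : P4600) (hc : c ∈ K) (hcomm : c * pd = pd * c) :
    c ∈ Subgroup.zpowers pd := by
  obtain ⟨_, _, hsift⟩ := tree K hK hN
  have himg := himgD c hcomm
  obtain ⟨ws, hws, hact⟩ := treeSift_sound 4600 13 gens2 8 gens2_ok levels [] chain_ok c
    (hsift c hc) _ himg
  -- the first image is a fixed point of `d`
  have hfixpt : pd (pt 4600 3071) = pt 4600 3071 :=
    Fin.ext (by rw [pd_val, pt_val 4600 (by decide : 3071 < 4600), fD_fix])
  have hf : fD (c (pt 4600 3071)).val = (c (pt 4600 3071)).val := by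
    have h1 : pd (c (pt 4600 3071)) = c (pd (pt 4600 3071)) := by
      have := congrArg (fun z : P4600 => z (pt 4600 3071)) hcomm
      simpa [Equiv.Perm.mul_apply] using this.symm
    rw [hfixpt] at h1
    rw [← pd_val, h1]
  have hflt : (c (pt 4600 3071)).val < 4600 := Fin.isLt _
  have hf' : (c (pt 4600 3071)).val = 1528 ∨ (c (pt 4600 3071)).val = 3071 := by
    have h1 := allBelow_spec fixD_ok _ hflt
    rw [hf] at h1
    simpa using h1
  have hylt : (c (pt 4600 1345)).val < 4600 := Fin.isLt _
  -- no element commuting with `d` acts through a word violating the commutation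
  have hbad : ¬ (([0, 1, 2, 3] : List ℕ).any fun q =>
      !(Nat.beq (evalW 13 ws (fD q)) (fD (evalW 13 ws q)))) = true := by
    intro hb
    rw [List.any_eq_true] at hb
    obtain ⟨q, hq, hne⟩ := hb
    have hq4 : q < 4600 := by
      simp only [List.mem_cons, List.not_mem_nil, or_false] at hq
      omega
    have hci : c⁻¹ * pd = pd * c⁻¹ := by
      have : Commute c pd := hcomm
      exact this.inv_left.eq
    have h1 : c⁻¹ (pd (pt 4600 q)) = pd (c⁻¹ (pt 4600 q)) := by
      have := congrArg (fun z : P4600 => z (pt 4600 q)) hci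
      simpa [Equiv.Perm.mul_apply] using this
    have h2 := congrArg Fin.val h1
    rw [hact, pd_val, pd_val, hact, pt_val 4600 hq4] at h2
    rw [h2] at hne
    simp at hne
  rcases hf' with hf1 | hf1
  · exfalso
    have h1 := allBelow_spec chkD_ok1 _ hylt
    rw [← hf1, hws] at h1
    simp only [Bool.or_eq_true, Bool.and_eq_true] at h1
    rcases h1 with ⟨h2, _⟩ | h2
    · rw [hf1] at h2
      exact absurd h2 (by decide)
    · exact hbad h2
  · have h1 := allBelow_spec chkD_ok2 _ hylt
    rw [← hf1, hws] at h1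
    simp only [Bool.or_eq_true, Bool.and_eq_true] at h1
    rcases h1 with ⟨_, h2⟩ | h2
    · have h3 : (c (pt 4600 1345)).val ∈ iterImgs fD 11 1345 := by simpa using h2
      obtain ⟨j, _, hyj⟩ := mem_iterImgs 11 1345 _ h3
      have hpj : pd ^ j ∈ K := K.pow_mem (pd_mem K hK hN) j
      have hcj : pd ^ j * pd = pd * pd ^ j := ((Commute.refl pd).pow_left j).eq
      have himg' := himgD (pd ^ j) hcj
      have hx' : ((pd ^ j) (pt 4600 3071)).val = (c (pt 4600 3071)).val := by
        rw [pow_val_iterate 4600 pd fD pd_val j, pt_val 4600 (by decide : 3071 < 4600), hf1]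
        exact Function.iterate_fixed fD_fix j
      have hy' : ((pd ^ j) (pt 4600 1345)).val = (c (pt 4600 1345)).val := by
        rw [pow_val_iterate 4600 pd fD pd_val j, pt_val 4600 (by decide : 1345 < 4600), hyj]
      rw [hx', hy'] at himg'
      have := eq_of_imgs 4600 13 gens2 8 gens2_ok levels [] chain_ok c (pd ^ j) (hsift c hc)
        (hsift _ hpj) _ himg himg'
      rw [this]
      exact Subgroup.pow_mem _ (Subgroup.mem_zpowers pd) j
    · exact absurd h2 hbad

end

end Cfsg.Agent.Lib.Helper25.Co2Out
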