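import Mathlib
import Cfsg.Prelude.Def_Blocks
import Cfsg.Prelude.Def_OddOrderLocal
import Cfsg.Agent.Lib.Helper24.Transport
import Cfsg.Agent.Lib.Helper24.CentPairs
import Cfsg.Agent.Lib.Helper24.ConjPairs
import Cfsg.Agent.Lib.Helper12.PiCore
import Cfsg.Agent.Lib.Helper7.FirstMain
import Cfsg.Agent.Lib.Helper7.InducedBlock

/-!
# Transport of induced blocks along conjugation (helper25 library)

* `inducedCentralChar_irrMap`, `isInducedBlock_irrMap`: block induction to `G` is invariant under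
  conjugating the subgroup by an element of `G`.
* `conjNorm D x : N_G(D) ≃* N_G(x D x⁻¹)`.
* `piCore_le_blockKer_conj`: the condition `O_π(N_G(D)) ⊆ Ker B₁`, `B₁` the Brauer
  correspondent of `B` in `N_G(D)`, does not depend on the choice of the defect group `D`.
-/

set_option autoImplicit false

namespace Cfsg.Agent.Lib.Helper25.ConjTransport

open Cfsg.Agent.Lib.Helper2 Cfsg.Agent.Lib.Helper24 Cfsg.Agent.Lib.Helper7
open scoped ComplexConjugate

section General

variable {G : Type*} [Group G] [Fintype G] (X X' : Subgroup G) [Fintype X] [Fintype X']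
  (x : G) (ψ : X ≃* X') (hψ : ∀ n : X, ((ψ n : X') : G) = x * (n : G) * x⁻¹)

include hψ in
theorem inducedCentralChar_irrMap (ξ : Cfsg.IrrCharacter X) (g : G) :
    Cfsg.inducedCentralChar X' ((irrMap ψ ξ : Cfsg.IrrCharacter X') : X' → ℂ) g
      = Cfsg.inducedCentralChar X (ξ : X → ℂ) g := by
  classical
  rw [inducedCentralChar_eq_sum, inducedCentralChar_eq_sum]
  have e1 : ((irrMap ψ ξ : Cfsg.IrrCharacter X') : X' → ℂ) 1 = (ξ : X → ℂ) 1 := by
    rw [irrMap_apply, map_one]
  rw [e1]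
  congr 1
  rw [← Equiv.sum_comp ψ.toEquiv]
  apply Finset.sum_congr rfl
  intro h _
  have e2 : IsConj g ((ψ.toEquiv h : X') : G) ↔ IsConj g (h : G) := by
    show IsConj g ((ψ h : X') : G) ↔ IsConj g (h : G)
    rw [hψ]
    constructor
    · intro hc
      exact hc.trans (isConj_iff.mpr ⟨x, rfl⟩).symm
    · intro hc
      exact hc.trans (isConj_iff.mpr ⟨x, rfl⟩)
  simp only [e2]
  split_ifs
  · exact irrMap_apply_apply ψ ξ h
  · rfl

variable {p : ℕ} {M : Ideal Cfsg.AlgInt}

include hψ in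
theorem isInducedBlock_irrMap (b : Set (Cfsg.IrrCharacter X)) (B : Set (Cfsg.IrrCharacter G))
    (hind : Cfsg.IsInducedBlock M X b B) : Cfsg.IsInducedBlock M X' (irrMap ψ '' b) B := by
  refine ⟨isPBlock_image_irrMap ψ hind.1, hind.2.1, ?_⟩
  rintro _ ⟨ξ, hξ, rfl⟩ χ hχ g
  rw [inducedCentralChar_irrMap X X' x ψ hψ ξ g]
  exact hind.2.2 ξ hξ χ hχ g

omit [Fintype G] [Fintype X] [Fintype X'] in
theorem mem_blockKer_irrMap [Finite X] [Finite X'] (b : Set (Cfsg.IrrCharacter X)) (n : X)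
    (hn : n ∈ Cfsg.blockKer b) : ψ n ∈ Cfsg.blockKer (irrMap ψ '' b) := by
  rintro _ ⟨ξ, hξ, rfl⟩
  rw [irrMap_apply_apply, irrMap_apply, map_one]
  exact hn ξ hξ

end General

section Norm

variable {G : Type*} [Group G]

theorem conj_mem_normalizer_map (D : Subgroup G) (x : G) {n : G}
    (hn : n ∈ Subgroup.normalizer (D : Set G)) :
    x * n * x⁻¹ ∈ Subgroup.normalizer
      ((D.map (MulAut.conj x).toMonoidHom : Subgroup G) : Set G) := by
  rw [Subgroup.mem_normalizer_iff] at hn ⊢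
  intro u
  rw [mem_map_conj_iff, mem_map_conj_iff, hn (x⁻¹ * u * x)]
  have e : x⁻¹ * (x * n * x⁻¹ * u * (x * n * x⁻¹)⁻¹) * x = n * (x⁻¹ * u * x) * n⁻¹ := by group
  rw [e]

theorem map_conj_inv_map_conj (D : Subgroup G) (x : G) :
    (D.map (MulAut.conj x).toMonoidHom).map (MulAut.conj x⁻¹).toMonoidHom = D := by
  ext u
  rw [mem_map_conj_iff, mem_map_conj_iff]
  have e : x⁻¹ * (x⁻¹⁻¹ * u * x⁻¹) * x = u := by group
  rw [e]

/-- conjugation by `x` as an isomorphism `N_G(D) ≃* N_G(x D x⁻¹)` -/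
def conjNorm (D : Subgroup G) (x : G) :
    Subgroup.normalizer (D : Set G) ≃*
      Subgroup.normalizer ((D.map (MulAut.conj x).toMonoidHom : Subgroup G) : Set G) where
  toFun n := ⟨x * n * x⁻¹, conj_mem_normalizer_map D x n.2⟩
  invFun n' := ⟨x⁻¹ * n' * x, by
    have h := conj_mem_normalizer_map (D.map (MulAut.conj x).toMonoidHom) x⁻¹ n'.2
    rw [map_conj_inv_map_conj, inv_inv] at h
    exact h⟩
  left_inv n := Subtype.ext (by
    show x⁻¹ * (x * (n : G) * x⁻¹) * x = n
    group)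
  right_inv n' := Subtype.ext (by
    show x * (x⁻¹ * (n' : G) * x) * x⁻¹ = n'
    group)
  map_mul' a b := Subtype.ext (by
    show x * ((a * b : Subgroup.normalizer (D : Set G)) : G) * x⁻¹
      = (x * (a : G) * x⁻¹) * (x * (b : G) * x⁻¹)
    rw [Subgroup.coe_mul]
    group)

theorem conjNorm_coe (D : Subgroup G) (x : G) (n : Subgroup.normalizer (D : Set G)) :
    ((conjNorm D x n : Subgroup.normalizer
      ((D.map (MulAut.conj x).toMonoidHom : Subgroup G) : Set G)) : G) = x * n * x⁻¹ := rfl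

theorem map_conjNorm_subgroupOf (D : Subgroup G) (x : G) :
    (D.subgroupOf (Subgroup.normalizer (D : Set G))).map (conjNorm D x).toMonoidHom
      = (D.map (MulAut.conj x).toMonoidHom).subgroupOf
          (Subgroup.normalizer ((D.map (MulAut.conj x).toMonoidHom : Subgroup G) : Set G)) := by
  ext u
  rw [Subgroup.mem_subgroupOf, mem_map_conj_iff]
  constructor
  · rintro ⟨n, hn, rfl⟩
    rw [SetLike.mem_coe, Subgroup.mem_subgroupOf] at hn
    show x⁻¹ * (x * (n : G) * x⁻¹) * x ∈ D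
    have e : x⁻¹ * (x * (n : G) * x⁻¹) * x = n := by group
    rw [e]; exact hn
  · intro hu
    refine ⟨(conjNorm D x).symm u, ?_, ?_⟩
    · rw [SetLike.mem_coe, Subgroup.mem_subgroupOf]
      exact hu
    · exact (conjNorm D x).apply_symm_apply u

end Norm

section Main

variable {G : Type*} [Group G] [Fintype G] {p : ℕ} [Fact p.Prime] {M : Ideal Cfsg.AlgInt}

/-- The condition "`O_π(N_G(D))` lies in the kernel of the Brauer correspondent of `B` in
`N_G(D)`" passes from one defect group of `B` to any other. -/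
theorem piCore_le_blockKer_conj (hM : Cfsg.IsPModular p M) (π : Set ℕ)
    (B : Set (Cfsg.IrrCharacter G)) (hB : Cfsg.IsPBlock M B) (D D' : Subgroup G)
    (hD : Cfsg.IsDefectGroup p M B D) (hD' : Cfsg.IsDefectGroup p M B D')
    (B₁ : Set (Cfsg.IrrCharacter (Subgroup.normalizer (D : Set G))))
    (hB₁ : Cfsg.IsInducedBlock M (Subgroup.normalizer (D : Set G)) B₁ B)
    (B₁' : Set (Cfsg.IrrCharacter (Subgroup.normalizer (D' : Set G))))
    (hB₁' : Cfsg.IsInducedBlock M (Subgroup.normalizer (D' : Set G)) B₁' B)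
    (hB₁'D : Cfsg.IsDefectGroup p M B₁' (D'.subgroupOf (Subgroup.normalizer (D' : Set G))))
    (hker : ∀ n : Subgroup.normalizer (D : Set G),
      n ∈ Cfsg.piCore π (Subgroup.normalizer (D : Set G)) → n ∈ Cfsg.blockKer B₁) :
    ∀ n : Subgroup.normalizer (D' : Set G),
      n ∈ Cfsg.piCore π (Subgroup.normalizer (D' : Set G)) → n ∈ Cfsg.blockKer B₁' := by
  classical
  obtain ⟨x, rfl⟩ := isDefectGroup_conj hM B hB hD hD'
  letI : Fintype (Subgroup.normalizer (D : Set G)) := Fintype.ofFinite _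
  letI : Fintype (Subgroup.normalizer
    ((D.map (MulAut.conj x).toMonoidHom : Subgroup G) : Set G)) := Fintype.ofFinite _
  set ψ := conjNorm D x with hψdef
  have hψ : ∀ n : Subgroup.normalizer (D : Set G), ((ψ n : Subgroup.normalizer
      ((D.map (MulAut.conj x).toMonoidHom : Subgroup G) : Set G)) : G) = x * (n : G) * x⁻¹ :=
    fun n => rfl
  have hind := isInducedBlock_irrMap (M := M) _ _ x ψ hψ B₁ B hB₁
  have hDp : IsPGroup p (D.map (MulAut.conj x).toMonoidHom) := by
    have hc := card_of_isDefectGroup hM B hB _ hD'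
    exact IsPGroup.of_card hc
  have heq : irrMap ψ '' B₁ = B₁' :=
    first_main_unique hM _ hDp B _ _ hB₁'D hind hB₁'
  intro n hn
  rw [← heq]
  have h1 : ψ.symm n ∈ Cfsg.piCore π (Subgroup.normalizer (D : Set G)) := by
    have h2 := Cfsg.Agent.Lib.Helper12.piCore_map_equiv π ψ.symm
    rw [← h2]
    exact ⟨n, hn, rfl⟩
  have h3 := mem_blockKer_irrMap _ _ ψ B₁ (ψ.symm n) (hker _ h1)
  rwa [MulEquiv.apply_symm_apply] at h3

end Main

end Cfsg.Agent.Lib.Helper25.ConjTransport
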