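import Mathlib
import Cfsg.Prelude.Def_Blocks
import Cfsg.Agent.S4740
import Cfsg.Agent.Lib.Helper25.ClassMult
import Cfsg.Agent.Lib.Helper25.Codegree

/-!
# A criterion for characters of large `p`-part (helper25 library)

`exists_degree_dvd_of_class_sep`: if `P` is a subgroup of order `p ^ c`, `K` the class of `x`,
and no non-identity element of `P` lies in `K K⁻¹`, then some irreducible character has
degree divisible by `p ^ (c - a)`, where `p ^ a` is the `p`-part of `|C_G(x)|`.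

`exists_defect_zero_of_class_sep`: with `P` a Sylow `p`-subgroup and `p ∤ |C_G(x)|`
this gives a character of `p`-defect zero.
-/

set_option autoImplicit false
set_option linter.style.haveILetI false

namespace Cfsg.Agent.Lib.Helper25

open Cfsg
open Cfsg.Agent.S4740
open scoped ComplexConjugate

/-- If no non-identity element of the `p`-subgroup `P` (of order `p ^ c`) is of the form
`g h⁻¹` with `g, h` conjugate to `x`, then some irreducible character has degree divisible by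
`p ^ (c - a)`, `p ^ a` the `p`-part of `|C_G(x)|`. -/
theorem exists_degree_dvd_of_class_sep {G : Type*} [Group G] [Finite G] (p : ℕ) [Fact p.Prime]
    (x : G) (P : Subgroup G) (c : ℕ) (hP : Nat.card ↥P = p ^ c)
    (hsep : ∀ z ∈ P, z ≠ 1 → ∀ h₁ h₂ : G, h₁ * x * h₁⁻¹ * (h₂ * x⁻¹ * h₂⁻¹) ≠ z)
    (a : ℕ) (ha : (Nat.card ↥(Subgroup.centralizer ({x} : Set G))).factorization p = a) :
    ∃ χ : Cfsg.IrrCharacter G, p ^ (c - a) ∣ Cfsg.charDegree (χ : G → ℂ) := by
  classical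
  by_contra hno
  push Not at hno
  haveI := Fintype.ofFinite G
  haveI : Fintype (IrrCharacter G) := Fintype.ofFinite _
  have hp : p.Prime := Fact.out
  have hGne : (Nat.card G : ℂ) ≠ 0 := card_ne_zero_complex
  -- Step A: vanishing of the class multiplication constants
  have hA : ∀ z ∈ P, z ≠ 1 → ∑ χ : IrrCharacter G,
      (χ : G → ℂ) x * (χ : G → ℂ) x⁻¹ * (χ : G → ℂ) z⁻¹ / (χ : G → ℂ) 1 = 0 := by
    intro z hz hz1
    have h1 := class_mult_count x x⁻¹ z
    have hempty : IsEmpty {h : G × G // h.1 * x * h.1⁻¹ * (h.2 * x⁻¹ * h.2⁻¹) = z} := by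
      constructor
      rintro ⟨⟨h₁, h₂⟩, hh⟩
      exact hsep z hz hz1 h₁ h₂ hh
    rw [Nat.card_of_isEmpty, Nat.cast_zero] at h1
    rcases mul_eq_zero.1 h1.symm with h2 | h2
    · exact absurd h2 hGne
    · exact h2
  -- Step B: the term `z = 1`
  have hB : ∑ χ : IrrCharacter G,
      (χ : G → ℂ) x * (χ : G → ℂ) x⁻¹ * (χ : G → ℂ) (1 : G)⁻¹ / (χ : G → ℂ) 1 =
      (Nat.card (Subgroup.centralizer ({x} : Set G)) : ℂ) := by
    rw [← second_orthogonality_self x]
    apply Finset.sum_congr rfl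
    intro χ _
    have h1ne := irr_one_ne_zero χ.2
    rw [inv_one, mul_div_assoc, div_self h1ne, mul_one,
      char_inv (isCharacter_of_irr χ.2)]
  -- Step C: sum over `P`
  haveI : Fintype P := Fintype.ofFinite _
  have hC : ∑ z : P, ∑ χ : IrrCharacter G,
      (χ : G → ℂ) x * (χ : G → ℂ) x⁻¹ * (χ : G → ℂ) (z : G)⁻¹ / (χ : G → ℂ) 1 =
      (Nat.card (Subgroup.centralizer ({x} : Set G)) : ℂ) := by
    rw [Finset.sum_eq_single (1 : P)]
    · exact hB
    · intro z _ hz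
      apply hA z z.2
      intro h
      apply hz
      exact Subtype.ext h
    · intro h; exact absurd (Finset.mem_univ _) h
  rw [Finset.sum_comm] at hC
  -- multiplicities
  have hm : ∀ χ : IrrCharacter G, ∃ m : ℕ, ∑ z : P, (χ : G → ℂ) (z : G)⁻¹ =
      ((p ^ c : ℕ) : ℂ) * (m : ℂ) := by
    intro χ
    obtain ⟨m, hm⟩ := sum_char_subgroup (isCharacter_of_irr χ.2) P
    refine ⟨m, ?_⟩
    rw [← hP, ← hm]
    apply Fintype.sum_equiv (Equiv.inv P)
    intro z
    rfl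
  choose m hm using hm
  -- arithmetic
  set n := Nat.card G with hn
  set n' := n / p ^ n.factorization p with hn'
  have hn0 : n ≠ 0 := Nat.card_pos.ne'
  have hk : ∀ χ : IrrCharacter G, ∃ k : ℕ,
      n' * p ^ c = charDegree (χ : G → ℂ) * p ^ (a + 1) * k := by
    intro χ
    have hd0 : charDegree (χ : G → ℂ) ≠ 0 := (irr_degree_pos χ.2).ne'
    exact arith_dvd p hp n _ c a hd0 (charDegree_dvd_card χ.2) (hno χ)
  choose k hk using hk
  have hE : (n' : ℂ) * (Nat.card (Subgroup.centralizer ({x} : Set G)) : ℂ) =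
      ((p ^ (a + 1) : ℕ) : ℂ) * ∑ χ : IrrCharacter G,
        (χ : G → ℂ) x * (χ : G → ℂ) x⁻¹ * (m χ : ℂ) * (k χ : ℂ) := by
    rw [← hC, Finset.mul_sum, Finset.mul_sum]
    apply Finset.sum_congr rfl
    intro χ _
    have h1 : ∑ z : P, (χ : G → ℂ) x * (χ : G → ℂ) x⁻¹ * (χ : G → ℂ) (z : G)⁻¹ / (χ : G → ℂ) 1 =
        (χ : G → ℂ) x * (χ : G → ℂ) x⁻¹ * (((p ^ c : ℕ) : ℂ) * (m χ : ℂ)) / (χ : G → ℂ) 1 := by
      rw [← hm χ, Finset.mul_sum, Finset.sum_div]
    rw [h1, char_one_eq_charDegree (isCharacter_of_irr χ.2)]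
    have hd0 : (charDegree (χ : G → ℂ) : ℂ) ≠ 0 := by
      exact_mod_cast (irr_degree_pos χ.2).ne'
    have hkc : (n' : ℂ) * ((p ^ c : ℕ) : ℂ) =
        (charDegree (χ : G → ℂ) : ℂ) * ((p ^ (a + 1) : ℕ) : ℂ) * (k χ : ℂ) := by
      exact_mod_cast hk χ
    field_simp
    linear_combination ((χ : G → ℂ) x * (χ : G → ℂ) x⁻¹ * (m χ : ℂ)) * hkc
  -- integrality
  have hint : IsIntegral ℤ (∑ χ : IrrCharacter G,
        (χ : G → ℂ) x * (χ : G → ℂ) x⁻¹ * (m χ : ℂ) * (k χ : ℂ)) := by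
    apply IsIntegral.sum
    intro χ _
    have h1 := irr_value_isIntegral χ x
    have h1' := irr_value_isIntegral χ x⁻¹
    have hnat : ∀ j : ℕ, IsIntegral ℤ (j : ℂ) := fun j => by
      have := isIntegral_algebraMap (R := ℤ) (A := ℂ) (x := (j : ℤ))
      simpa using this
    exact ((h1.mul h1').mul (hnat _)).mul (hnat _)
  have hpne : ((p ^ (a + 1) : ℕ) : ℂ) ≠ 0 := by
    exact_mod_cast (pow_pos hp.pos _).ne'
  have hrat : (∑ χ : IrrCharacter G,
        (χ : G → ℂ) x * (χ : G → ℂ) x⁻¹ * (m χ : ℂ) * (k χ : ℂ)) =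
      (((n' * Nat.card (Subgroup.centralizer ({x} : Set G)) : ℕ) : ℚ) /
        ((p ^ (a + 1) : ℕ) : ℚ) : ℚ) := by
    push_cast
    rw [eq_div_iff (by exact_mod_cast hpne)]
    push_cast at hE
    rw [mul_comm, ← hE]
  obtain ⟨w, hw⟩ := Cfsg.Agent.Lib.Helper2.exists_int_of_isIntegral_of_rat _ hrat hint
  rw [hw] at hE
  have hE' : ((n' * Nat.card (Subgroup.centralizer ({x} : Set G)) : ℕ) : ℤ) =
      ((p ^ (a + 1) : ℕ) : ℤ) * w := by
    exact_mod_cast hE
  have hdvd : p ^ (a + 1) ∣ n' * Nat.card (Subgroup.centralizer ({x} : Set G)) := by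
    have : ((p ^ (a + 1) : ℕ) : ℤ) ∣ ((n' * Nat.card (Subgroup.centralizer ({x} : Set G)) : ℕ) : ℤ) :=
      ⟨w, hE'⟩
    exact Int.natCast_dvd_natCast.1 this
  have hcop : Nat.Coprime (p ^ (a + 1)) n' :=
    Nat.Coprime.pow_left _ (Nat.coprime_ordCompl hp hn0)
  have hdvd' := hcop.dvd_of_dvd_mul_left hdvd
  have hC0 : Nat.card (Subgroup.centralizer ({x} : Set G)) ≠ 0 := Nat.card_pos.ne'
  have := Nat.pow_succ_factorization_not_dvd hC0 hp
  rw [ha] at this
  exact this hdvd'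

/-- Defect zero criterion: `p ∤ |C_G(x)|` and no non-identity `p`-element is of the form
`g h⁻¹` with `g, h` conjugate to `x`; then some irreducible character has `p`-defect zero. -/
theorem exists_defect_zero_of_class_sep {G : Type*} [Group G] [Finite G] (p : ℕ) [Fact p.Prime]
    (x : G) (hx : ¬ p ∣ Nat.card ↥(Subgroup.centralizer ({x} : Set G)))
    (hsep : ∀ g h : G, IsConj x g → IsConj x h → g * h⁻¹ ≠ 1 →
      ¬ ∃ k : ℕ, orderOf (g * h⁻¹) = p ^ k) :
    ∃ χ : Cfsg.IrrCharacter G,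
      (Cfsg.charDegree (χ : G → ℂ)).factorization p = (Nat.card G).factorization p := by
  have hp : p.Prime := Fact.out
  obtain ⟨P⟩ : Nonempty (Sylow p G) := inferInstance
  have hPcard : Nat.card (P : Subgroup G) = p ^ (Nat.card G).factorization p :=
    Sylow.card_eq_multiplicity P
  have ha : (Nat.card ↥(Subgroup.centralizer ({x} : Set G))).factorization p = 0 :=
    Nat.factorization_eq_zero_of_not_dvd hx
  obtain ⟨χ, hχ⟩ := exists_degree_dvd_of_class_sep p x (P : Subgroup G) _ hPcard (by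
    intro z hz hz1 h₁ h₂ hh
    have h3 : h₂ * x⁻¹ * h₂⁻¹ = (h₂ * x * h₂⁻¹)⁻¹ := by group
    rw [h3] at hh
    apply hsep (h₁ * x * h₁⁻¹) (h₂ * x * h₂⁻¹) (isConj_iff.2 ⟨h₁, rfl⟩) (isConj_iff.2 ⟨h₂, rfl⟩)
    · rw [hh]; exact hz1
    · rw [hh]
      obtain ⟨k, _, hk⟩ := (Nat.dvd_prime_pow hp).1
        (hPcard ▸ (Subgroup.orderOf_coe (⟨z, hz⟩ : (P : Subgroup G)) ▸ orderOf_dvd_natCard (⟨z, hz⟩ : (P : Subgroup G))))
      exact ⟨k, hk⟩) 0 ha
  refine ⟨χ, ?_⟩
  rw [Nat.sub_zero] at hχ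
  have hd0 : charDegree (χ : G → ℂ) ≠ 0 := (irr_degree_pos χ.2).ne'
  have hG0 : Nat.card G ≠ 0 := Nat.card_pos.ne'
  apply le_antisymm
  · exact (Nat.factorization_le_iff_dvd hd0 hG0).2 (charDegree_dvd_card χ.2) p
  · exact (hp.pow_dvd_iff_le_factorization hd0).1 hχ

end Cfsg.Agent.Lib.Helper25
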