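import Cfsg.Agent.Lib.Helper25.DefectZero
import Cfsg.Agent.Lib.Helper25.InvertSylow

/-!
# Defect zero characters or involutions inverting Sylow subgroups (helper25 library)

If centralizers of non-identity `p`-elements have odd order then, for every involution `t`,
either `G` has an irreducible character of `p`-defect zero or a conjugate of `t` inverts a Sylow
`p`-subgroup.
-/

set_option autoImplicit false

namespace Cfsg.Agent.Lib.Helper25

open scoped Pointwise

variable {G : Type*} [Group G]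

/-- If `g` inverts the Sylow subgroup `P₀` then a conjugate of `g` inverts any given Sylow
subgroup `P`. -/
theorem exists_conj_inverting [Finite G] (p : ℕ) [Fact p.Prime] (g : G) (P₀ : Sylow p G)
    (h : ∀ x ∈ P₀, g * x * g⁻¹ = x⁻¹) (P : Sylow p G) :
    ∃ c : G, ∀ x ∈ P, (c * g * c⁻¹) * x * (c * g * c⁻¹)⁻¹ = x⁻¹ := by
  obtain ⟨c, hc⟩ := MulAction.exists_smul_eq G P₀ P
  refine ⟨c, ?_⟩
  intro x hx
  have hx2 : x ∈ ((c • P₀ : Sylow p G) : Subgroup G) := by rw [hc]; exact hx
  rw [Sylow.coe_subgroup_smul, Subgroup.mem_pointwise_smul_iff_inv_smul_mem, MulAut.smul_def,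
    MulAut.conj_inv_apply] at hx2
  have h1 := h _ hx2
  calc (c * g * c⁻¹) * x * (c * g * c⁻¹)⁻¹ = c * (g * (c⁻¹ * x * c) * g⁻¹) * c⁻¹ := by group
    _ = c * (c⁻¹ * x * c)⁻¹ * c⁻¹ := by rw [h1]
    _ = x⁻¹ := by group

/-- A subgroup inverted elementwise by some element is commutative. -/
theorem isMulCommutative_of_inverted (H : Subgroup G) (g : G)
    (h : ∀ x ∈ H, g * x * g⁻¹ = x⁻¹) : IsMulCommutative H := by
  refine ⟨⟨?_⟩⟩
  intro a b
  apply Subtype.ext
  have ha := h a a.2
  have hb := h b b.2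
  have hab := h (a * b) (H.mul_mem a.2 b.2)
  change (a : G) * b = b * a
  have h1 : ((a : G) * b)⁻¹ = (a : G)⁻¹ * (b : G)⁻¹ := by
    rw [← hab, ← ha, ← hb]; group
  have h2 : ((a : G) * b)⁻¹ = ((b : G) * a)⁻¹ := by rw [h1]; group
  exact inv_injective h2

/-- If centralizers of non-identity `p`-elements have odd order, then the centralizer of an
involution has order prime to `p`. -/
theorem not_dvd_card_centralizer_invol [Finite G] (p : ℕ) [Fact p.Prime]
    (hC : ∀ y : G, y ≠ 1 → (∃ k : ℕ, orderOf y = p ^ k) →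
      Odd (Nat.card (Subgroup.centralizer ({y} : Set G))))
    (t : G) (ht2 : t * t = 1) (ht1 : t ≠ 1) :
    ¬ p ∣ Nat.card (Subgroup.centralizer ({t} : Set G)) := by
  have hp : p.Prime := Fact.out
  intro hdvd
  obtain ⟨⟨c, hcC⟩, hc⟩ := exists_prime_orderOf_dvd_card' p hdvd
  have hc' : orderOf c = p := by rw [← hc, ← Subgroup.orderOf_coe]
  have hc1 : c ≠ 1 := by
    intro h
    rw [h, orderOf_one] at hc'
    exact hp.one_lt.ne hc'
  have hodd := hC c hc1 ⟨1, by rw [hc', pow_one]⟩
  have htmem : t ∈ Subgroup.centralizer ({c} : Set G) := by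
    rw [mem_centralizer_singleton]
    exact (mem_centralizer_singleton.1 hcC).symm
  have h2 : orderOf t = 2 := by
    apply orderOf_eq_prime
    · rw [pow_two]; exact ht2
    · exact ht1
  have h3 : orderOf (⟨t, htmem⟩ : Subgroup.centralizer ({c} : Set G)) = 2 := by
    rw [← h2, ← Subgroup.orderOf_coe]
  have h4 : 2 ∣ Nat.card (Subgroup.centralizer ({c} : Set G)) := by
    rw [← h3]; exact orderOf_dvd_natCard _
  rw [Nat.odd_iff] at hodd
  omega

/-- **Main lemma.**  If centralizers of non-identity `p`-elements have odd order then for every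
involution `t` either `G` has a character of `p`-defect zero, or a conjugate of `t` inverts a
Sylow `p`-subgroup of `G`. -/
theorem defect_zero_or_exists_inverting [Finite G] (p : ℕ) [Fact p.Prime]
    (hC : ∀ y : G, y ≠ 1 → (∃ k : ℕ, orderOf y = p ^ k) →
      Odd (Nat.card (Subgroup.centralizer ({y} : Set G))))
    (t : G) (ht2 : t * t = 1) (ht1 : t ≠ 1) :
    (∃ χ : Cfsg.IrrCharacter G,
      (Cfsg.charDegree (χ : G → ℂ)).factorization p = (Nat.card G).factorization p) ∨
    ∃ g : G, IsConj t g ∧ ∃ P : Sylow p G, ∀ x ∈ P, g * x * g⁻¹ = x⁻¹ := by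
  by_cases hsep : ∀ g h : G, IsConj t g → IsConj t h → g * h⁻¹ ≠ 1 →
      ¬ ∃ k : ℕ, orderOf (g * h⁻¹) = p ^ k
  · left
    exact exists_defect_zero_of_class_sep p t (not_dvd_card_centralizer_invol p hC t ht2 ht1) hsep
  · right
    push Not at hsep
    obtain ⟨g, h, hg, hh, hne, hpow⟩ := hsep
    have hg2 : g * g = 1 := by
      obtain ⟨c, hc⟩ := isConj_iff.1 hg
      rw [← hc]
      calc c * t * c⁻¹ * (c * t * c⁻¹) = c * (t * t) * c⁻¹ := by group
        _ = 1 := by rw [ht2]; group
    have hh2 : h * h = 1 := by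
      obtain ⟨c, hc⟩ := isConj_iff.1 hh
      rw [← hc]
      calc c * t * c⁻¹ * (c * t * c⁻¹) = c * (t * t) * c⁻¹ := by group
        _ = 1 := by rw [ht2]; group
    have hg1 : g ≠ 1 := by
      intro h1
      rw [h1] at hg
      exact ht1 (isConj_one_left.1 hg)
    have hginv : g⁻¹ = g := inv_eq_of_mul_eq_one_right hg2
    have hhinv : h⁻¹ = h := inv_eq_of_mul_eq_one_right hh2
    have hgu : g * (g * h⁻¹) * g⁻¹ = (g * h⁻¹)⁻¹ := by
      rw [mul_inv_rev, inv_inv, ← mul_assoc, hg2, one_mul, hhinv]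
    obtain ⟨P, hP⟩ := exists_sylow_inverted p hC g hg2 hg1 (g * h⁻¹) hne hpow hgu
    exact ⟨g, hg, P, hP⟩

end Cfsg.Agent.Lib.Helper25
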