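import Mathlib
import Cfsg.Prelude.Def_ChevAutomorphisms

/-!
# S2159 farm-out pieces FO-B, FO-B2 (helper25, for helper27): diagonal automorphisms commute
-/

set_option autoImplicit false

namespace Cfsg.Agent.Lib.Helper25.S2159

open Cfsg.Lie

/-- two `charDiag` matrices commute -/
theorem charDiag_mul_comm {F : Type*} [Field F] (D : ChevalleyDatum) (χ ψ : ℕ → Fˣ) :
    D.charDiag F χ * D.charDiag F ψ = D.charDiag F ψ * D.charDiag F χ := by
  unfold ChevalleyDatum.charDiag
  rw [Matrix.diagonal_mul_diagonal, Matrix.diagonal_mul_diagonal]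
  congr 1
  funext i
  exact mul_comm _ _

/-- FO-B: diagonal automorphisms commute. -/
theorem isDiagonalAut_mul_comm {F : Type*} [Field F] (D : ChevalleyDatum)
    {a b : MulAut ↥(D.group F)} (ha : D.IsDiagonalAut a) (hb : D.IsDiagonalAut b) :
    a * b = b * a := by
  obtain ⟨χ, -, hχ⟩ := ha
  obtain ⟨ψ, -, hψ⟩ := hb
  apply MulEquiv.ext
  intro g
  apply Subtype.ext
  apply Units.ext
  rw [MulAut.mul_apply, MulAut.mul_apply, hχ, hψ, hψ, hχ]
  have e1 := charDiag_mul_comm D χ ψ
  have e2 := charDiag_mul_comm D (fun r => (ψ r)⁻¹) (fun r => (χ r)⁻¹)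
  calc D.charDiag F χ * (D.charDiag F ψ * ((g : GL D.Idx F) : Matrix D.Idx D.Idx F) *
          D.charDiag F (fun r => (ψ r)⁻¹)) * D.charDiag F (fun r => (χ r)⁻¹)
      = (D.charDiag F χ * D.charDiag F ψ) * ((g : GL D.Idx F) : Matrix D.Idx D.Idx F) *
          (D.charDiag F (fun r => (ψ r)⁻¹) * D.charDiag F (fun r => (χ r)⁻¹)) := by
        simp only [Matrix.mul_assoc]
    _ = (D.charDiag F ψ * D.charDiag F χ) * ((g : GL D.Idx F) : Matrix D.Idx D.Idx F) *
          (D.charDiag F (fun r => (χ r)⁻¹) * D.charDiag F (fun r => (ψ r)⁻¹)) := by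
        rw [e1, e2]
    _ = D.charDiag F ψ * (D.charDiag F χ * ((g : GL D.Idx F) : Matrix D.Idx D.Idx F) *
          D.charDiag F (fun r => (χ r)⁻¹)) * D.charDiag F (fun r => (ψ r)⁻¹) := by
        simp only [Matrix.mul_assoc]

/-- the subgroup generated by the diagonal automorphisms is commutative -/
theorem closure_diagonal_comm {F : Type*} [Field F] (D : ChevalleyDatum)
    (x y : MulAut ↥(D.group F))
    (hx : x ∈ Subgroup.closure {φ : MulAut ↥(D.group F) | D.IsDiagonalAut φ})
    (hy : y ∈ Subgroup.closure {φ : MulAut ↥(D.group F) | D.IsDiagonalAut φ}) :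
    x * y = y * x :=
  Subgroup.closure_induction₂ (p := fun x y _ _ => x * y = y * x)
    (fun a b ha hb => isDiagonalAut_mul_comm D ha hb)
    (fun a _ => by rw [one_mul, mul_one]) (fun a _ => by rw [one_mul, mul_one])
    (fun a b c _ _ _ h1 h2 => by rw [mul_assoc, h2, ← mul_assoc, h1, mul_assoc])
    (fun a b c _ _ _ h1 h2 => by rw [← mul_assoc, h1, mul_assoc, h2, ← mul_assoc])
    (fun a b _ _ h => by
      have : a⁻¹ * (a * b) * a⁻¹ = a⁻¹ * (b * a) * a⁻¹ := by rw [h]
      simpa [mul_assoc] using this.symm)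
    (fun a b _ _ h => by
      have : b⁻¹ * (a * b) * b⁻¹ = b⁻¹ * (b * a) * b⁻¹ := by rw [h]
      simpa [mul_assoc] using this.symm)
    hx hy

/-- FO-B2: consequently the image in any quotient of the subgroup generated by the diagonal
automorphisms is commutative. -/
theorem isMulCommutative_map_closure_diagonal {F : Type*} [Field F] (D : ChevalleyDatum)
    {Q : Type*} [Group Q] (q : MulAut ↥(D.group F) →* Q) :
    IsMulCommutative ↥((Subgroup.closure {φ : MulAut ↥(D.group F) | D.IsDiagonalAut φ}).map q) := by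
  refine ⟨⟨?_⟩⟩
  rintro ⟨_, ⟨x, hx, rfl⟩⟩ ⟨_, ⟨y, hy, rfl⟩⟩
  apply Subtype.ext
  change q x * q y = q y * q x
  rw [← map_mul, ← map_mul, closure_diagonal_comm D x y hx hy]

end Cfsg.Agent.Lib.Helper25.S2159
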