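import Mathlib
import Cfsg.Prelude.Def_Blocks
import Cfsg.Agent.Lib.Helper2.Integrality
import Cfsg.Agent.Lib.Helper24.BlockOrtho
import Cfsg.Agent.Lib.Helper24.BlockBasic
import Cfsg.Agent.Lib.Helper24.Principal
import Cfsg.Agent.Lib.Helper25.CharBasic
import Cfsg.Agent.Lib.Helper25.EvenDegree

/-!
# Frobenius–Schur indicators and blocks (helper25 library)

* `sq_eq_one_of_two_power_order`, `not_two_dvd_orderOf_sq`: in a group with Klein four Sylow
  `2`-subgroups every square has odd order.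
* `sum_fs_mul_conj_eq_zero`: if all squares are `p`-regular, the Frobenius–Schur weighted
  column sum over a `p`-block vanishes at every `p`-singular element.
* `barIrr_mem_principalBlock`: the principal block is closed under complex conjugation.
* `charDegree_dvd_index_of_unit`: if `χ(g) = ±1` then `χ(1)` divides the class size of `g`.
-/

set_option autoImplicit false

namespace Cfsg.Agent.Lib.Helper25.FSBlock

open Cfsg.Agent.Lib.Helper24 Cfsg.Agent.Lib.Helper25
open scoped ComplexConjugate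

section Squares

variable {G : Type*} [Group G] [Finite G]

/-- With Klein four Sylow `2`-subgroups, every `2`-element squares to `1`. -/
theorem sq_eq_one_of_two_power_order (P : Sylow 2 G) (hV : IsKleinFour (P : Subgroup G))
    (y : G) (k : ℕ) (hy : orderOf y = 2 ^ k) : y * y = 1 := by
  haveI : Fact (Nat.Prime 2) := ⟨Nat.prime_two⟩
  have hpg : IsPGroup 2 (Subgroup.zpowers y) := by
    apply IsPGroup.of_card (n := k)
    rw [Nat.card_zpowers, hy]
  obtain ⟨Q, hQ⟩ := hpg.exists_le_sylow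
  obtain ⟨g, hg⟩ := MulAction.exists_smul_eq G Q P
  have hyQ : y ∈ (Q : Subgroup G) := hQ (Subgroup.mem_zpowers y)
  have hmem : g * y * g⁻¹ ∈ (P : Subgroup G) := by
    rw [← hg, Sylow.coe_subgroup_smul]
    have := Subgroup.smul_mem_pointwise_smul y (MulAut.conj g) (Q : Subgroup G) hyQ
    rwa [MulAut.smul_def, MulAut.conj_apply] at this
  haveI := hV
  have h := IsKleinFour.mul_self (⟨g * y * g⁻¹, hmem⟩ : (P : Subgroup G))
  have h' : g * y * g⁻¹ * (g * y * g⁻¹) = 1 := congrArg Subtype.val h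
  have h2 : g * (y * y) * g⁻¹ = 1 := by
    rw [← h']; group
  have h3 : y * y = g⁻¹ * (g * (y * y) * g⁻¹) * g := by group
  rw [h3, h2]; group

/-- With Klein four Sylow `2`-subgroups, every square has odd order. -/
theorem not_two_dvd_orderOf_sq (P : Sylow 2 G) (hV : IsKleinFour (P : Subgroup G)) (s : G) :
    ¬ 2 ∣ orderOf (s * s) := by
  intro h2
  have ho : orderOf s ≠ 0 := (orderOf_pos s).ne'
  set m := ordCompl[2] (orderOf s) with hm
  have hmdvd : m ∣ orderOf s := Nat.ordCompl_dvd _ _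
  have hm0 : m ≠ 0 := fun h => ho (Nat.eq_zero_of_zero_dvd (h ▸ hmdvd))
  have hord : orderOf (s ^ m) = 2 ^ (orderOf s).factorization 2 := by
    rw [orderOf_pow_of_dvd hm0 hmdvd]
    have := Nat.ordProj_mul_ordCompl_eq_self (orderOf s) 2
    rw [← hm] at this
    exact Nat.div_eq_of_eq_mul_left (Nat.pos_of_ne_zero hm0) this.symm
  have h1 := sq_eq_one_of_two_power_order P hV (s ^ m) _ hord
  have h3 : (s * s) ^ m = 1 := by
    rw [← pow_two, ← pow_mul, mul_comm, pow_mul, pow_two, h1]
  have h4 : orderOf (s * s) ∣ m := orderOf_dvd_of_pow_eq_one h3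
  exact Nat.not_dvd_ordCompl Nat.prime_two ho (h2.trans h4)

end Squares

section Blocks

variable {G : Type*} [Group G] [Fintype G] {p : ℕ} {M : Ideal Cfsg.AlgInt}

/-- If all squares are `p`-regular, the Frobenius–Schur weighted column sum over a `p`-block
vanishes at `p`-singular elements. -/
theorem sum_fs_mul_conj_eq_zero (hM : Cfsg.IsPModular p M) (B : Set (Cfsg.IrrCharacter G))
    (hB : Cfsg.IsPBlock M B) (y : G) (hy : p ∣ orderOf y)
    (hsq : ∀ s : G, ¬ p ∣ orderOf (s * s)) :
    ∑ᶠ χ ∈ B, ((Nat.card G : ℂ)⁻¹ * ∑ s : G, (χ : G → ℂ) (s * s)) * conj ((χ : G → ℂ) y)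
      = 0 := by
  classical
  haveI : Fintype (Cfsg.IrrCharacter G) := Fintype.ofFinite _
  rw [finsum_mem_eq_sum_ite]
  have h1 : ∀ χ : Cfsg.IrrCharacter G,
      (if χ ∈ B then ((Nat.card G : ℂ)⁻¹ * ∑ s : G, (χ : G → ℂ) (s * s)) * conj ((χ : G → ℂ) y)
        else 0)
      = (Nat.card G : ℂ)⁻¹ * ∑ s : G,
          (if χ ∈ B then (χ : G → ℂ) (s * s) * conj ((χ : G → ℂ) y) else 0) := by
    intro χ
    by_cases h : χ ∈ B
    · simp only [if_pos h]
      rw [mul_assoc, Finset.sum_mul]
    · simp only [if_neg h]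
      simp
  simp_rw [h1]
  rw [← Finset.mul_sum, Finset.sum_comm]
  have h2 : ∀ s : G, ∑ χ : Cfsg.IrrCharacter G,
      (if χ ∈ B then (χ : G → ℂ) (s * s) * conj ((χ : G → ℂ) y) else 0) = 0 := by
    intro s
    rw [← finsum_mem_eq_sum_ite]
    exact weak_block_orthogonality hM B hB (s * s) y (hsq s) hy
  simp only [h2, Finset.sum_const_zero, mul_zero]

end Blocks

section Conj

variable {G : Type*} [Group G] [Fintype G] {M : Ideal Cfsg.AlgInt}

theorem centralizer_singleton_inv (g : G) :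
    Subgroup.centralizer ({g⁻¹} : Set G) = Subgroup.centralizer ({g} : Set G) := by
  ext x
  simp only [Subgroup.mem_centralizer_iff, Set.mem_singleton_iff, forall_eq]
  constructor
  · intro h
    calc g * x = g * (x * g⁻¹) * g := by group
      _ = g * (g⁻¹ * x) * g := by rw [h]
      _ = x * g := by group
  · intro h
    calc g⁻¹ * x = g⁻¹ * (x * g) * g⁻¹ := by group
      _ = g⁻¹ * (g * x) * g⁻¹ := by rw [h]
      _ = x * g⁻¹ := by group

theorem charDegree_barIrr (χ : Cfsg.IrrCharacter G) :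
    Cfsg.charDegree (barIrr χ : G → ℂ) = Cfsg.charDegree (χ : G → ℂ) := by
  unfold Cfsg.charDegree
  rw [barIrr_apply, Complex.conj_re]

theorem centralChar_barIrr (χ : Cfsg.IrrCharacter G) (g : G) :
    Cfsg.centralChar (barIrr χ : G → ℂ) g = Cfsg.centralChar (χ : G → ℂ) g⁻¹ := by
  unfold Cfsg.centralChar
  have hc := isCharacter_of_irr χ.2
  rw [barIrr_apply, barIrr_apply, ← char_inv hc g, ← char_inv hc 1, inv_one,
    centralizer_singleton_inv]

/-- The principal block is closed under complex conjugation. -/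
theorem barIrr_mem_principalBlock (χ : Cfsg.IrrCharacter G)
    (h : χ ∈ Cfsg.principalBlock M G) : barIrr χ ∈ Cfsg.principalBlock M G := by
  intro g
  have h1 := h g⁻¹
  rw [centralChar_barIrr]
  have h2 : Cfsg.centralChar (fun _ : G => (1 : ℂ)) g
      = Cfsg.centralChar (fun _ : G => (1 : ℂ)) g⁻¹ := by
    unfold Cfsg.centralChar
    rw [centralizer_singleton_inv]
  rw [h2]
  exact h1

end Conj

section Degree

variable {G : Type*} [Group G] [Fintype G]

/-- If `χ(g) = ±1` then `χ(1)` divides the size of the conjugacy class of `g`. -/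
theorem charDegree_dvd_index_of_unit (χ : Cfsg.IrrCharacter G) (g : G) (ε : ℤ)
    (hε : ε = 1 ∨ ε = -1) (hval : (χ : G → ℂ) g = ε) :
    Cfsg.charDegree (χ : G → ℂ) ∣ (Subgroup.centralizer ({g} : Set G)).index := by
  have hint := centralChar_isIntegral χ g
  have hdeg : (χ : G → ℂ) 1 = (Cfsg.charDegree (χ : G → ℂ) : ℂ) :=
    char_one_eq_charDegree (isCharacter_of_irr χ.2)
  have hne : (χ : G → ℂ) 1 ≠ 0 := irr_one_ne_zero χ.2
  unfold Cfsg.centralChar at hint
  rw [hval, hdeg] at hint
  rw [hdeg] at hne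
  obtain ⟨z, hz⟩ := Cfsg.Agent.Lib.Helper2.exists_int_of_isIntegral_of_rat
    ((((Subgroup.centralizer ({g} : Set G)).index : ℚ) * (ε : ℚ))
      / (Cfsg.charDegree (χ : G → ℂ) : ℚ)) (by push_cast; rfl) hint
  have h2 : ((Subgroup.centralizer ({g} : Set G)).index : ℂ) * (ε : ℂ)
      = (z : ℂ) * (Cfsg.charDegree (χ : G → ℂ) : ℂ) := by
    rw [← hz]; field_simp
  have h3 : ((Subgroup.centralizer ({g} : Set G)).index : ℤ) * ε
      = z * (Cfsg.charDegree (χ : G → ℂ) : ℤ) := by exact_mod_cast h2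
  have h4 : ((Cfsg.charDegree (χ : G → ℂ) : ℕ) : ℤ)
      ∣ ((Subgroup.centralizer ({g} : Set G)).index : ℤ) := by
    rcases hε with h | h
    · rw [h, mul_one] at h3
      exact ⟨z, by rw [h3]; ring⟩
    · rw [h] at h3
      exact ⟨-z, by linear_combination -h3⟩
  exact_mod_cast h4

end Degree

end Cfsg.Agent.Lib.Helper25.FSBlock
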