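import Mathlib
import Cfsg.Prelude.Def_Characters
import Cfsg.Agent.Lib.Helper2.FrobeniusSchur

/-!
Orthogonality of matrix coefficients of two matrix representations `A`, `B` whose characters
satisfy `∑ g, tr (A g) * tr (B g) = 0`: then `∑ g, A g j k * B g l i = 0`.
-/

set_option autoImplicit false
set_option linter.unusedSectionVars false

namespace Cfsg.Agent.Lib.Helper25

open Cfsg.Agent.Lib.Helper2
open Module

section AvgOp2

variable {G : Type*} [Group G] [Fintype G] {n : Type*} [Fintype n] [DecidableEq n]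

/-- The averaging operator `M ↦ |G|⁻¹ ∑ g, A g * M * (B g)ᵀ` on matrices. -/
noncomputable def avgOp2 (A B : G → Matrix n n ℂ) : Matrix n n ℂ →ₗ[ℂ] Matrix n n ℂ :=
  (Nat.card G : ℂ)⁻¹ • ∑ g : G, sandwich (A g) (B g).transpose

theorem avgOp2_apply (A B : G → Matrix n n ℂ) (M : Matrix n n ℂ) :
    avgOp2 A B M = (Nat.card G : ℂ)⁻¹ • ∑ g : G, A g * M * (B g).transpose := by
  simp only [avgOp2, LinearMap.smul_apply, LinearMap.sum_apply, sandwich_apply]

theorem avgOp2_invariant (A B : G → Matrix n n ℂ) (hA : ∀ g h : G, A (g * h) = A g * A h)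
    (hB : ∀ g h : G, B (g * h) = B g * B h) (h : G)
    (M : Matrix n n ℂ) : A h * avgOp2 A B M * (B h).transpose = avgOp2 A B M := by
  rw [avgOp2_apply, Matrix.mul_smul, Matrix.smul_mul, Finset.mul_sum, Finset.sum_mul]
  congr 1
  rw [← Equiv.sum_comp (Equiv.mulLeft h) (fun g => A g * M * (B g).transpose)]
  apply Finset.sum_congr rfl
  intro g _
  simp only [Equiv.coe_mulLeft, hA, hB, Matrix.transpose_mul]
  simp only [Matrix.mul_assoc]

theorem avgOp2_fix (A B : G → Matrix n n ℂ) (M : Matrix n n ℂ)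
    (hM : ∀ h : G, A h * M * (B h).transpose = M) : avgOp2 A B M = M := by
  rw [avgOp2_apply]
  simp only [hM, Finset.sum_const, Finset.card_univ]
  have hcne : (Nat.card G : ℂ) ≠ 0 := by
    have : 0 < Nat.card G := Nat.card_pos
    exact_mod_cast this.ne'
  rw [← Nat.cast_smul_eq_nsmul ℂ, smul_smul, ← Nat.card_eq_fintype_card,
    inv_mul_cancel₀ hcne, one_smul]

theorem avgOp2_idem (A B : G → Matrix n n ℂ) (hA : ∀ g h : G, A (g * h) = A g * A h)
    (hB : ∀ g h : G, B (g * h) = B g * B h) : IsIdempotentElem (avgOp2 A B) := by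
  show avgOp2 A B * avgOp2 A B = avgOp2 A B
  ext M : 1
  rw [Module.End.mul_apply]
  exact avgOp2_fix A B _ (fun h => avgOp2_invariant A B hA hB h M)

theorem trace_avgOp2 (A B : G → Matrix n n ℂ) :
    LinearMap.trace ℂ _ (avgOp2 A B)
      = (Nat.card G : ℂ)⁻¹ * ∑ g : G, (A g).trace * (B g).trace := by
  simp only [avgOp2, map_smul, map_sum, trace_sandwich, Matrix.trace_transpose, smul_eq_mul]

theorem avgOp2_eq_zero (A B : G → Matrix n n ℂ) (hA : ∀ g h : G, A (g * h) = A g * A h)
    (hB : ∀ g h : G, B (g * h) = B g * B h)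
    (htr : ∑ g : G, (A g).trace * (B g).trace = 0) : avgOp2 A B = 0 := by
  apply (LinearMap.IsIdempotentElem.trace_eq_zero_iff (avgOp2_idem A B hA hB)).1
  rw [trace_avgOp2, htr, mul_zero]

/-- Orthogonality of matrix coefficients. -/
theorem sum_matcoeff_eq_zero (A B : G → Matrix n n ℂ) (hA : ∀ g h : G, A (g * h) = A g * A h)
    (hB : ∀ g h : G, B (g * h) = B g * B h)
    (htr : ∑ g : G, (A g).trace * (B g).trace = 0) (j k l i : n) :
    ∑ g : G, A g j k * B g l i = 0 := by
  have h0 := avgOp2_eq_zero A B hA hB htr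
  have h1 : avgOp2 A B (Matrix.single k i (1 : ℂ)) j l = 0 := by
    rw [h0]; rfl
  rw [avgOp2_apply, Matrix.smul_apply, Matrix.sum_apply] at h1
  simp only [mul_single_mul_apply, Matrix.transpose_apply, smul_eq_mul] at h1
  have hcne : (Nat.card G : ℂ)⁻¹ ≠ 0 := by
    have : 0 < Nat.card G := Nat.card_pos
    exact inv_ne_zero (by exact_mod_cast this.ne')
  rcases mul_eq_zero.1 h1 with h | h
  · exact absurd h hcne
  · exact h

/-- `∑ g, tr (C * A g * B g) = 0`. -/
theorem sum_trace_mul_eq_zero (A B : G → Matrix n n ℂ) (hA : ∀ g h : G, A (g * h) = A g * A h)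
    (hB : ∀ g h : G, B (g * h) = B g * B h)
    (htr : ∑ g : G, (A g).trace * (B g).trace = 0) (C : Matrix n n ℂ) :
    ∑ g : G, (C * A g * B g).trace = 0 := by
  have h1 : ∀ g : G, (C * A g * B g).trace =
      ∑ i, ∑ j, ∑ k, C i j * (A g j k * B g k i) := by
    intro g
    rw [Matrix.trace]
    apply Finset.sum_congr rfl
    intro i _
    rw [Matrix.diag_apply, Matrix.mul_apply]
    simp only [Matrix.mul_apply, Finset.sum_mul]
    rw [Finset.sum_comm]
    apply Finset.sum_congr rfl
    intro j _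
    apply Finset.sum_congr rfl
    intro k _
    ring
  simp_rw [h1]
  rw [Finset.sum_comm]
  apply Finset.sum_eq_zero
  intro i _
  rw [Finset.sum_comm]
  apply Finset.sum_eq_zero
  intro j _
  rw [Finset.sum_comm]
  apply Finset.sum_eq_zero
  intro k _
  rw [← Finset.mul_sum, sum_matcoeff_eq_zero A B hA hB htr j k k i, mul_zero]

end AvgOp2

end Cfsg.Agent.Lib.Helper25
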