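import Mathlib
import Cfsg.Prelude.Def_Blocks
import Cfsg.Agent.Lib.Helper25.MatCoeff
import Cfsg.Agent.Lib.Helper25.MinNormal

/-!
The Frobenius–Schur sum of a character induced from the stabilizer `I` of a real-valued
irreducible character `φ` of a normal subgroup `N`, for a character `ψ` of `I` extending `φ`:
`|G|⁻¹ ∑ g, ψ^G (g²) = |I|⁻¹ ∑ i, ψ (i²)`.
-/

set_option autoImplicit false
set_option linter.style.haveILetI false
set_option linter.unusedSectionVars false

namespace Cfsg.Agent.Lib.Helper25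

open Cfsg Representation
open Cfsg.Agent.Lib.Helper2 Cfsg.Agent.Lib.Helper11
open scoped ComplexConjugate

variable {G : Type*} [Group G] [Fintype G]

/-- The sum of an induced function over squares. -/
theorem sum_indFun_sq (H : Subgroup G) (θ : H → ℂ) :
    ∑ g : G, indFun H θ (g * g) =
      (Nat.card H : ℂ)⁻¹ * ((Nat.card G : ℂ) * ∑ g : G, extendByZero H θ (g * g)) := by
  simp only [indFun_apply]
  rw [← Finset.mul_sum, Finset.sum_comm]
  congr 1
  have h1 : ∀ x : G, ∑ g : G, extendByZero H θ (x⁻¹ * (g * g) * x) =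
      ∑ g : G, extendByZero H θ (g * g) := by
    intro x
    apply Fintype.sum_equiv (MulAut.conj x⁻¹).toEquiv
    intro g
    simp only [MulEquiv.toEquiv_eq_coe, EquivLike.coe_coe, MulAut.conj_apply, inv_inv]
    congr 1
    group
  simp only [h1, Finset.sum_const, Finset.card_univ, nsmul_eq_mul, Nat.card_eq_fintype_card]

/-- Splitting the sum of `ψ°(g²)` along `I`, given vanishing of the coset sums outside `I`. -/
theorem sum_extendByZero_sq_eq (N I : Subgroup G) [Fintype I] [Fintype N] (hNI : N ≤ I)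
    (ψ : I → ℂ)
    (hvan : ∀ y : G, y ∉ I → ∑ m : N, extendByZero I ψ ((y * m) * (y * m)) = 0) :
    ∑ g : G, extendByZero I ψ (g * g) = ∑ i : I, ψ (i * i) := by
  classical
  set F : G → ℂ := fun g => extendByZero I ψ (g * g) with hF
  have hsplit : ∀ g : G, F g = (if g ∈ I then F g else 0) + (if g ∈ I then 0 else F g) := by
    intro g
    by_cases h : g ∈ I
    · rw [if_pos h, if_pos h, add_zero]
    · rw [if_neg h, if_neg h, zero_add]
  have h1 : ∑ g : G, (if g ∈ I then F g else 0) = ∑ i : I, ψ (i * i) := by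
    rw [← Finset.sum_filter, Finset.sum_subtype (p := fun g => g ∈ I) _ (by simp)]
    apply Finset.sum_congr rfl
    intro i _
    show extendByZero I ψ ((i : G) * (i : G)) = _
    have : (i : G) * (i : G) = ((i * i : I) : G) := rfl
    rw [this, extendByZero_coe]
  have h2 : ∑ g : G, (if g ∈ I then 0 else F g) = 0 := by
    set F' : G → ℂ := fun g => if g ∈ I then 0 else F g with hF'
    have hshift : ∀ m : N, ∑ g : G, F' (g * m) = ∑ g : G, F' g := by
      intro m
      exact Fintype.sum_equiv (Equiv.mulRight (m : G)) _ _ (fun g => rfl)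
    have hF'm : ∀ (g : G) (m : N), F' (g * m) = if g ∈ I then 0 else F (g * m) := by
      intro g m
      have hiff : g * (m : G) ∈ I ↔ g ∈ I := by
        constructor
        · intro h
          have := I.mul_mem h (I.inv_mem (hNI m.2))
          rwa [mul_inv_cancel_right] at this
        · intro h
          exact I.mul_mem h (hNI m.2)
      show (if g * (m : G) ∈ I then 0 else F (g * m)) = _
      by_cases h : g ∈ I
      · rw [if_pos h, if_pos (hiff.2 h)]
      · rw [if_neg h, if_neg (fun h' => h (hiff.1 h'))]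
    have h3 : (Fintype.card N : ℂ) * ∑ g : G, F' g = 0 := by
      have : (Fintype.card N : ℂ) * ∑ g : G, F' g = ∑ m : N, ∑ g : G, F' (g * m) := by
        simp only [hshift, Finset.sum_const, Finset.card_univ, nsmul_eq_mul]
      rw [this, Finset.sum_comm]
      apply Finset.sum_eq_zero
      intro g _
      simp only [hF'm]
      by_cases h : g ∈ I
      · simp only [if_pos h, Finset.sum_const_zero]
      · simp only [if_neg h]
        exact hvan g h
    have hne : (Fintype.card N : ℂ) ≠ 0 := by
      have : 0 < Fintype.card N := Fintype.card_pos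
      exact_mod_cast this.ne'
    rcases mul_eq_zero.1 h3 with h | h
    · exact absurd h hne
    · exact h
  calc ∑ g : G, F g = ∑ g : G, ((if g ∈ I then F g else 0) + (if g ∈ I then 0 else F g)) :=
        Finset.sum_congr rfl (fun g _ => hsplit g)
    _ = _ := by rw [Finset.sum_add_distrib, h1, h2, add_zero]

/-- The coset sums outside the stabilizer vanish. -/
theorem sum_coset_sq_eq_zero (N I : Subgroup G) [hNn : N.Normal] [Fintype I] [Fintype N]
    (hNI : N ≤ I) (φ : IrrCharacter N)
    (hI : ∀ g : G, g ∈ I ↔ ∀ n n' : N, (n' : G) = g * (n : G) * g⁻¹ →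
      (φ : N → ℂ) n' = (φ : N → ℂ) n)
    (ψ : IrrCharacter I)
    (hext : ∀ n : N, (ψ : I → ℂ) (Subgroup.inclusion hNI n) = (φ : N → ℂ) n)
    (hreal : ∀ n : N, conj ((φ : N → ℂ) n) = (φ : N → ℂ) n) (y : G) (hy : y ∉ I) :
    ∑ m : N, extendByZero I (ψ : I → ℂ) ((y * m) * (y * m)) = 0 := by
  classical
  have hprod : ∀ m : N, (y * (m : G)) * (y * m) = (y * y) * ((y⁻¹ * m * y) * m) := by
    intro m; group
  by_cases hyy : y * y ∈ I
  · obtain ⟨n, ρ, hirr, hρ⟩ := ψ.2
    let b := Pi.basisFun ℂ (Fin n)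
    let σ : N → N := fun m => ⟨y⁻¹ * m * y, by
      have := hNn.conj_mem m m.2 y⁻¹
      rwa [inv_inv] at this⟩
    have hσmul : ∀ m m' : N, σ (m * m') = σ m * σ m' := by
      intro m m'
      apply Subtype.ext
      show y⁻¹ * ((m : G) * m') * y = (y⁻¹ * m * y) * (y⁻¹ * m' * y)
      group
    let A : N → Matrix (Fin n) (Fin n) ℂ := fun m =>
      LinearMap.toMatrix b b (ρ (Subgroup.inclusion hNI (σ m)))
    let B : N → Matrix (Fin n) (Fin n) ℂ := fun m =>
      LinearMap.toMatrix b b (ρ (Subgroup.inclusion hNI m))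
    let C : Matrix (Fin n) (Fin n) ℂ := LinearMap.toMatrix b b (ρ ⟨y * y, hyy⟩)
    have hA : ∀ g h : N, A (g * h) = A g * A h := by
      intro g h
      simp only [A]
      rw [hσmul, map_mul, map_mul]
      exact LinearMap.toMatrix_mul b _ _
    have hB : ∀ g h : N, B (g * h) = B g * B h := by
      intro g h
      simp only [B]
      rw [map_mul, map_mul]
      exact LinearMap.toMatrix_mul b _ _
    have htrace : ∀ i : I, (LinearMap.toMatrix b b (ρ i)).trace = (ψ : I → ℂ) i := by
      intro i
      rw [← hρ]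
      exact (LinearMap.trace_eq_matrix_trace ℂ b (ρ i)).symm
    have hconjne : conjFn N y⁻¹ (φ : N → ℂ) ≠ (φ : N → ℂ) := by
      intro h
      apply hy
      have := (stab_iff_conjFn N I _ hI y⁻¹).2 h
      have h2 := I.inv_mem this
      rwa [inv_inv] at h2
    have hconjirr : IsIrrCharacter N (conjFn N y⁻¹ (φ : N → ℂ)) :=
      isIrrCharacter_conjFun N y⁻¹ φ.2
    have hσφ : ∀ m : N, (φ : N → ℂ) (σ m) = conjFn N y⁻¹ (φ : N → ℂ) m := by
      intro m
      rw [conjFn_apply]
      refine congrArg (φ : N → ℂ) (Subtype.ext ?_)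
      show y⁻¹ * (m : G) * y = y⁻¹ * m * y⁻¹⁻¹
      rw [inv_inv]
    have htr : ∑ m : N, (A m).trace * (B m).trace = 0 := by
      have h1 := irr_classInner hconjirr φ.2
      rw [if_neg hconjne] at h1
      unfold classInner at h1
      have hne : (Nat.card N : ℂ)⁻¹ ≠ 0 := by
        have : 0 < Nat.card N := Nat.card_pos
        exact inv_ne_zero (by exact_mod_cast this.ne')
      rcases mul_eq_zero.1 h1 with h | h
      · exact absurd h hne
      · rw [← h]
        apply Finset.sum_congr rfl
        intro m _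
        simp only [A, B]
        rw [htrace, htrace, hext, hext, hσφ, hreal]
    have hmain := sum_trace_mul_eq_zero A B hA hB htr C
    rw [← hmain]
    apply Finset.sum_congr rfl
    intro m _
    have hmem : (y * (m : G)) * (y * m) =
        ((⟨y * y, hyy⟩ * Subgroup.inclusion hNI (σ m) * Subgroup.inclusion hNI m : I) : G) := by
      rw [hprod m]
      show _ = y * y * (y⁻¹ * (m : G) * y) * m
      group
    have hρmul : ρ (⟨y * y, hyy⟩ * Subgroup.inclusion hNI (σ m) * Subgroup.inclusion hNI m) =
        ρ ⟨y * y, hyy⟩ * ρ (Subgroup.inclusion hNI (σ m)) * ρ (Subgroup.inclusion hNI m) := by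
      rw [map_mul, map_mul]
    rw [hmem, extendByZero_coe, ← htrace, hρmul, LinearMap.toMatrix_mul, LinearMap.toMatrix_mul]
  · apply Finset.sum_eq_zero
    intro m _
    apply extendByZero_of_not_mem
    intro h
    apply hyy
    rw [hprod m] at h
    have h2 : (y⁻¹ * (m : G) * y) * m ∈ I := by
      apply I.mul_mem _ (hNI m.2)
      apply hNI
      have := hNn.conj_mem m m.2 y⁻¹
      rwa [inv_inv] at this
    have := I.mul_mem h (I.inv_mem h2)
    rwa [mul_inv_cancel_right] at this

/-- The Frobenius–Schur sum of the induced character equals that of `ψ`. -/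
theorem fs_induced_eq (N I : Subgroup G) [hNn : N.Normal] [Fintype I]
    (hNI : N ≤ I) (φ : IrrCharacter N)
    (hI : ∀ g : G, g ∈ I ↔ ∀ n n' : N, (n' : G) = g * (n : G) * g⁻¹ →
      (φ : N → ℂ) n' = (φ : N → ℂ) n)
    (ψ : IrrCharacter I)
    (hext : ∀ n : N, (ψ : I → ℂ) (Subgroup.inclusion hNI n) = (φ : N → ℂ) n)
    (hreal : ∀ n : N, conj ((φ : N → ℂ) n) = (φ : N → ℂ) n) :
    (Nat.card G : ℂ)⁻¹ * ∑ g : G, indFun I (ψ : I → ℂ) (g * g) =
      (Nat.card I : ℂ)⁻¹ * ∑ i : I, (ψ : I → ℂ) (i * i) := by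
  classical
  haveI : Fintype N := Fintype.ofFinite N
  rw [sum_indFun_sq, sum_extendByZero_sq_eq N I hNI (ψ : I → ℂ)
    (fun y hy => sum_coset_sq_eq_zero N I hNI φ hI ψ hext hreal y hy)]
  have hne : (Nat.card G : ℂ) ≠ 0 := by
    have : 0 < Nat.card G := Nat.card_pos
    exact_mod_cast this.ne'
  field_simp

end Cfsg.Agent.Lib.Helper25
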