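import Mathlib
import Cfsg.Prelude.Def_Blocks
import Cfsg.Prelude.Def_OddOrderLocal
import Cfsg.Agent.Lib.Helper7.ExtFirstMain
import Cfsg.Agent.Lib.Helper12.PiCore
import Cfsg.Agent.Lib.Helper25.BlockKer
import Cfsg.Agent.Lib.Helper25.ConjTransport
import Cfsg.Agent.S0912

/-!
# Kernels of blocks of local subgroups (helper25 library)

Brauer, *Some applications of the theory of blocks of characters of finite groups IV*: if
`O_{π'}(N_G(D))` lies in the kernel of the Brauer correspondent of the block `B` with defect group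
`D`, then `O_{π'}(G₀)` lies in the kernel of every block `B₀` of a subgroup `G₀ ⊇ C_G(D₀)`
(`D₀` a defect group of `B₀`) with `B₀^G = B`.
-/

set_option autoImplicit false

namespace Cfsg.Agent.Lib.Helper25.KernelDescent

open Cfsg.Agent.Lib.Helper2 Cfsg.Agent.Lib.Helper24 Cfsg.Agent.Lib.Helper7
open Cfsg.Agent.Lib.Helper12 Cfsg.Agent.Lib.Helper25.BlockKer
open Cfsg.Agent.Lib.Helper25.ConjTransport
open scoped ComplexConjugate

section Aux

variable {G : Type*} [Group G] [Finite G] {p : ℕ} [Fact p.Prime]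

/-- An element of a normal `p'`-subgroup of `G₀` normalizing the `p`-subgroup `D₀ ≤ G₀`
centralizes it. -/
theorem mem_centralizer_of_mem_normal_pprime (G₀ : Subgroup G) (K : Subgroup G₀) [K.Normal]
    (hK : ¬ p ∣ Nat.card K) (D₀ : Subgroup G) (hD₀p : IsPGroup p D₀) (hD₀ : D₀ ≤ G₀) (g : G₀)
    (hgK : g ∈ K) (hgN : (g : G) ∈ Subgroup.normalizer (D₀ : Set G)) :
    (g : G) ∈ Subgroup.centralizer (D₀ : Set G) := by
  rw [Subgroup.mem_centralizer_iff]
  intro u hu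
  have hu' : u ∈ D₀ := hu
  set u₀ : G₀ := ⟨u, hD₀ hu'⟩ with hu₀
  -- the commutator
  have hc1 : (g : G) * u * (g : G)⁻¹ * u⁻¹ ∈ D₀ := by
    have h1 : (g : G) * u * (g : G)⁻¹ ∈ D₀ := (Subgroup.mem_normalizer_iff.mp hgN u).mp hu'
    exact D₀.mul_mem h1 (D₀.inv_mem hu')
  have hc2 : g * u₀ * g⁻¹ * u₀⁻¹ ∈ K := by
    have h1 : u₀ * g⁻¹ * u₀⁻¹ ∈ K := Subgroup.Normal.conj_mem inferInstance _ (K.inv_mem hgK) u₀
    have h2 := K.mul_mem hgK h1
    have e : g * (u₀ * g⁻¹ * u₀⁻¹) = g * u₀ * g⁻¹ * u₀⁻¹ := by group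
    rwa [e] at h2
  have hcoe : ((g * u₀ * g⁻¹ * u₀⁻¹ : G₀) : G) = (g : G) * u * (g : G)⁻¹ * u⁻¹ := rfl
  obtain ⟨k, hk⟩ := (IsPGroup.iff_orderOf.mp hD₀p) ⟨_, hc1⟩
  rw [Subgroup.orderOf_mk] at hk
  have hdvd : orderOf ((g : G) * u * (g : G)⁻¹ * u⁻¹) ∣ Nat.card K := by
    have h1 := orderOf_dvd_natCard (⟨_, hc2⟩ : K)
    rw [Subgroup.orderOf_mk, ← Subgroup.orderOf_coe, hcoe] at h1
    exact h1
  have hk0 : k = 0 := by
    by_contra hne
    apply hK
    rw [hk] at hdvd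
    exact (dvd_pow_self p hne).trans hdvd
  rw [hk0, pow_zero, orderOf_eq_one_iff] at hk
  calc u * (g : G) = ((g : G) * u * (g : G)⁻¹ * u⁻¹)⁻¹ * ((g : G) * u) := by group
    _ = (g : G) * u := by rw [hk, inv_one, one_mul]

/-- Elements of `O_π(G₀) ∩ C_G(D₀)` lie in `O_π(N_G(D₀))`, provided `C_G(D₀) ≤ G₀`. -/
theorem exists_mem_piCore_normalizer (π : Set ℕ) (G₀ D₀ : Subgroup G)
    (hC : Subgroup.centralizer (D₀ : Set G) ≤ G₀) (g : G₀) (hg : g ∈ Cfsg.piCore π G₀)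
    (hgC : (g : G) ∈ Subgroup.centralizer (D₀ : Set G)) :
    ∃ n : Subgroup.normalizer (D₀ : Set G),
      n ∈ Cfsg.piCore π (Subgroup.normalizer (D₀ : Set G)) ∧ (n : G) = (g : G) := by
  set C : Subgroup G := Subgroup.centralizer (D₀ : Set G) with hCdef
  set N : Subgroup G := Subgroup.normalizer (D₀ : Set G) with hNdef
  set W : Subgroup G := (Cfsg.piCore π G₀).map G₀.subtype ⊓ C with hW
  have hCN : C ≤ N := Subgroup.centralizer_le_normalizer _
  -- `W` is a normal `π`-subgroup of `C`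
  have hWn : (W.subgroupOf C).Normal := by
    constructor
    intro w hw c
    rw [Subgroup.mem_subgroupOf] at hw ⊢
    rw [hW, Subgroup.mem_inf] at hw ⊢
    obtain ⟨⟨k, hk, hkw⟩, -⟩ := hw
    refine ⟨?_, ?_⟩
    · refine ⟨(⟨(c : G), hC c.2⟩ : G₀) * k * (⟨(c : G), hC c.2⟩ : G₀)⁻¹,
        Subgroup.Normal.conj_mem inferInstance k hk _, ?_⟩
      show (c : G) * (G₀.subtype k) * (c : G)⁻¹ = ((c * w * c⁻¹ : C) : G)
      rw [hkw]
      rfl
    · exact (c * w * c⁻¹).2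
  have hWpi : IsPiNat π (Nat.card (W.subgroupOf C)) := by
    have e1 : Nat.card (W.subgroupOf C) = Nat.card W :=
      Nat.card_congr (Subgroup.subgroupOfEquivOfLe (inf_le_right : W ≤ C)).toEquiv
    have e2 : Nat.card W ∣ Nat.card ((Cfsg.piCore π G₀).map G₀.subtype) :=
      Subgroup.card_dvd_of_le inf_le_left
    have e3 : Nat.card ((Cfsg.piCore π G₀).map G₀.subtype) = Nat.card (Cfsg.piCore π G₀) :=
      Subgroup.card_map_of_injective (Subgroup.subtype_injective _)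
    rw [e1]
    exact (piCore_isPiNat π).of_dvd (e3 ▸ e2)
  have h1 : W.subgroupOf C ≤ Cfsg.piCore π C := le_piCore hWn hWpi
  have hgW : (g : G) ∈ W := by
    rw [hW, Subgroup.mem_inf]
    exact ⟨⟨g, hg, rfl⟩, hgC⟩
  have h2 : (⟨(g : G), hgC⟩ : C) ∈ Cfsg.piCore π C := h1 (Subgroup.mem_subgroupOf.mpr hgW)
  have hCn : (C.subgroupOf N).Normal := by
    apply Subgroup.normal_subgroupOf_of_le_normalizer
    intro n hn
    rw [Subgroup.mem_normalizer_iff]
    intro c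
    constructor
    · intro hc
      exact conj_mem_centralizer_of_mem_normalizer D₀ hn hc
    · intro hc
      have hn' : n⁻¹ ∈ Subgroup.normalizer (D₀ : Set G) := Subgroup.inv_mem _ hn
      have := conj_mem_centralizer_of_mem_normalizer D₀ hn' hc
      have e : n⁻¹ * (n * c * n⁻¹) * n⁻¹⁻¹ = c := by group
      rwa [e] at this
  have h3 := piCore_map_le_of_normal π hCN hCn
  have h4 : (g : G) ∈ (Cfsg.piCore π C).map C.subtype := ⟨⟨(g : G), hgC⟩, h2, rfl⟩
  obtain ⟨n, hn, hng⟩ := h3 h4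
  exact ⟨n, hn, hng⟩

end Aux

section Main

variable {G : Type*} [Group G] [Fintype G] {p : ℕ} [Fact p.Prime] {M : Ideal Cfsg.AlgInt}

/-- **Descent of kernels.**  Let `B` be a block of `G` with defect group `D` and Brauer
correspondent `B₁` in `N_G(D)`, and suppose `O_π(N_G(D)) ⊆ Ker B₁` for a set `π` of primes not
containing `p`.  If `B₀` is a block of `G₀ ≤ G` with defect group `D₀`, `C_G(D₀) ≤ G₀` and
`B₀^G = B`, then `O_π(G₀) ⊆ Ker B₀`. -/
theorem piCore_le_blockKer (hM : Cfsg.IsPModular p M) (π : Set ℕ) (hpπ : p ∉ π)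
    (B : Set (Cfsg.IrrCharacter G)) (hB : Cfsg.IsPBlock M B) (D : Subgroup G)
    (hBD : Cfsg.IsDefectGroup p M B D)
    (B₁ : Set (Cfsg.IrrCharacter (Subgroup.normalizer (D : Set G))))
    (hB₁ : Cfsg.IsInducedBlock M (Subgroup.normalizer (D : Set G)) B₁ B)
    (hker : ∀ n : Subgroup.normalizer (D : Set G),
      n ∈ Cfsg.piCore π (Subgroup.normalizer (D : Set G)) → n ∈ Cfsg.blockKer B₁) :
    ∀ (m : ℕ) (G₀ : Subgroup G) (B₀ : Set (Cfsg.IrrCharacter G₀)) (D₀ : Subgroup G),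
      Nat.card G - Nat.card D₀ = m → D₀ ≤ G₀ →
      Cfsg.IsDefectGroup p M B₀ (D₀.subgroupOf G₀) → Cfsg.IsInducedBlock M G₀ B₀ B →
      Subgroup.centralizer (D₀ : Set G) ≤ G₀ →
      ∀ x : G₀, x ∈ Cfsg.piCore π G₀ → x ∈ Cfsg.blockKer B₀ := by
  classical
  intro m
  induction m using Nat.strong_induction_on with
  | _ m ih =>
  intro G₀ B₀ D₀ hm hD₀G₀ hdef hind hC x hx
  letI : Fintype G₀ := Fintype.ofFinite _
  have hB₀ := hind.1
  have hp : p.Prime := Fact.out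
  -- `D₀` is a `p`-group
  have hP'p : IsPGroup p (D₀.subgroupOf G₀) :=
    IsPGroup.of_card (card_of_isDefectGroup hM B₀ hB₀ _ hdef)
  have hD₀p : IsPGroup p D₀ :=
    hP'p.of_equiv (Subgroup.subgroupOfEquivOfLe hD₀G₀)
  -- the subgroups `H₀ = D₀ C_G(D₀)` and `N = N_G(D₀)`
  obtain ⟨H₀, hH₀def⟩ : ∃ H₀ : Subgroup G, H₀ = D₀ ⊔ Subgroup.centralizer (D₀ : Set G) :=
    ⟨_, rfl⟩
  obtain ⟨N, hNdef⟩ : ∃ N : Subgroup G, N = Subgroup.normalizer (D₀ : Set G) := ⟨_, rfl⟩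
  have hD₀H₀ : D₀ ≤ H₀ := by rw [hH₀def]; exact le_sup_left
  have hCH₀ : Subgroup.centralizer (D₀ : Set G) ≤ H₀ := by rw [hH₀def]; exact le_sup_right
  have hH₀G₀ : H₀ ≤ G₀ := by rw [hH₀def]; exact sup_le hD₀G₀ hC
  have hH₀N : H₀ ≤ Subgroup.normalizer (D₀ : Set G) := by
    rw [hH₀def]
    exact sup_le Subgroup.le_normalizer (Subgroup.centralizer_le_normalizer _)
  letI : Fintype H₀ := Fintype.ofFinite _
  letI : Fintype (H₀.subgroupOf G₀) := Fintype.ofFinite _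
  -- a root of `B₀`
  have hP'H' : D₀.subgroupOf G₀ ≤ H₀.subgroupOf G₀ := by
    intro u hu
    rw [Subgroup.mem_subgroupOf] at hu ⊢
    exact hD₀H₀ hu
  have hCH' : Subgroup.centralizer ((D₀.subgroupOf G₀ : Subgroup G₀) : Set G₀)
      ≤ H₀.subgroupOf G₀ := by
    intro u hu
    rw [Subgroup.mem_subgroupOf]
    exact hCH₀ ((mem_centralizer_subgroupOf_iff G₀ D₀ hD₀G₀ u).mp hu)
  have hH'N' : H₀.subgroupOf G₀
      ≤ Subgroup.normalizer ((D₀.subgroupOf G₀ : Subgroup G₀) : Set G₀) := by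
    intro u hu
    rw [Subgroup.mem_subgroupOf] at hu
    have h1 := hH₀N hu
    rw [Subgroup.mem_normalizer_iff] at h1 ⊢
    intro v
    rw [Subgroup.mem_subgroupOf, Subgroup.mem_subgroupOf]
    exact h1 v
  obtain ⟨b', hb'def, hb'ind⟩ := exists_isInducedBlock_defect_of_le hM (H₀.subgroupOf G₀)
    (D₀.subgroupOf G₀) hP'H' hCH' hH'N' B₀ hB₀ hdef
  -- reduce to the kernel of the root
  have hKp : ¬ p ∣ Nat.card (Cfsg.piCore π G₀) := by
    intro hdvd
    exact hpπ (piCore_isPiNat (G := G₀) π p hp hdvd)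
  refine normal_le_blockKer_of_induced (H₀.subgroupOf G₀) hM (Cfsg.piCore π G₀) hKp b' B₀ hb'ind
    ?_ x hx
  intro y hy ξ' hξ'
  -- transport the root to a block of `H₀ ≤ G`
  set φ := Subgroup.subgroupOfEquivOfLe hH₀G₀ with hφ
  obtain ⟨b, hbdef⟩ : ∃ b : Set (Cfsg.IrrCharacter H₀), b = irrMap φ '' b' := ⟨_, rfl⟩
  have hbind : Cfsg.IsInducedBlock M H₀ b B := by
    refine ⟨?_, hB, ?_⟩
    · rw [hbdef]; exact isPBlock_image_irrMap φ hb'ind.1
    · rw [hbdef]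
      rintro _ ⟨ξ₁, hξ₁, rfl⟩ χ hχ g
      obtain ⟨χ₁, hχ₁⟩ := isPBlock_nonempty hM hB₀
      have h1 := inducedCentralChar_trans hM H₀ G₀ hH₀G₀ ξ₁ χ₁
        (fun n => hb'ind.2.2 ξ₁ hξ₁ χ₁ hχ₁ n) g
      have h2 := hind.2.2 χ₁ hχ₁ χ hχ g
      have h3 := memLocalIdeal_add hM h1 h2
      rwa [sub_add_sub_cancel] at h3
  obtain ⟨ξ, hξdef⟩ : ∃ ξ : Cfsg.IrrCharacter H₀, ξ = irrMap φ ξ' := ⟨_, rfl⟩
  have hξb : ξ ∈ b := by rw [hbdef, hξdef]; exact ⟨ξ', hξ', rfl⟩
  -- a block of `N_G(D₀)` covering it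
  letI : Fintype (Subgroup.normalizer (D₀ : Set G)) := Fintype.ofFinite _
  letI : Fintype (H₀.subgroupOf (Subgroup.normalizer (D₀ : Set G))) := Fintype.ofFinite _
  have hnorm : Subgroup.normalizer (D₀ : Set G) ≤ Subgroup.normalizer (H₀ : Set G) := by
    rw [hH₀def]; exact normalizer_le_normalizer_sup_centralizer D₀
  obtain ⟨χ₀, hχ₀ne, hBNind⟩ := exists_cover_block hM H₀ D₀ (Subgroup.normalizer (D₀ : Set G))
    hD₀p Subgroup.le_normalizer hCH₀ hH₀N le_rfl hnorm B b hbind ξ hξb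
  have hBN : Cfsg.IsPBlock M (Cfsg.blockOf M (χ₀ : Subgroup.normalizer (D₀ : Set G) → ℂ)) :=
    ⟨χ₀, rfl⟩
  -- the key claim: `O_π(N_G(D₀))` lies in the kernel of this block
  have hclaim : ∀ n : Subgroup.normalizer (D₀ : Set G),
      n ∈ Cfsg.piCore π (Subgroup.normalizer (D₀ : Set G)) →
      n ∈ Cfsg.blockKer (Cfsg.blockOf M (χ₀ : Subgroup.normalizer (D₀ : Set G) → ℂ)) := by
    obtain ⟨DN, hDN⟩ := exists_isDefectGroup hM _ hBN
    have hcore := Cfsg.Agent.S0912.result p M hM _ hBN DN hDN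
    haveI : (D₀.subgroupOf (Subgroup.normalizer (D₀ : Set G))).Normal :=
      Subgroup.normal_subgroupOf_of_le_normalizer le_rfl
    have hQ : IsPGroup p (D₀.subgroupOf (Subgroup.normalizer (D₀ : Set G))) :=
      hD₀p.comap_of_injective _ (Subgroup.subtype_injective _)
    have h1 : D₀.subgroupOf (Subgroup.normalizer (D₀ : Set G)) ≤ DN :=
      (Cfsg.Agent.Lib.Helper13.le_pCore _ inferInstance hQ).trans hcore
    have ecard : Nat.card (D₀.subgroupOf (Subgroup.normalizer (D₀ : Set G))) = Nat.card D₀ :=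
      Nat.card_congr (Subgroup.subgroupOfEquivOfLe Subgroup.le_normalizer).toEquiv
    by_cases hc : Nat.card DN ≤ Nat.card (D₀.subgroupOf (Subgroup.normalizer (D₀ : Set G)))
    · -- `D₀` is a defect group of `B`
      have h3 : D₀.subgroupOf (Subgroup.normalizer (D₀ : Set G)) = DN :=
        Subgroup.eq_of_le_of_card_ge h1 hc
      have hdefN : Cfsg.IsDefectGroup p M
          (Cfsg.blockOf M (χ₀ : Subgroup.normalizer (D₀ : Set G) → ℂ))
          (D₀.subgroupOf (Subgroup.normalizer (D₀ : Set G))) := by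
        rw [h3]; exact hDN
      obtain ⟨B', hB', hB'D, hB'ind⟩ := first_main_induced hM D₀ hD₀p _ hBN hdefN
      have hBB' : B' = B :=
        isInducedBlock_unique (Subgroup.normalizer (D₀ : Set G)) hM _ B' B hB'ind hBNind
      rw [hBB'] at hB'D
      exact piCore_le_blockKer_conj hM π B hB D D₀ hBD hB'D B₁ hB₁ _ hBNind hdefN hker
    · -- a larger defect group: induction
      push Not at hc
      obtain ⟨D₁, hD₁def⟩ : ∃ D₁ : Subgroup G,
          D₁ = DN.map (Subgroup.normalizer (D₀ : Set G)).subtype := ⟨_, rfl⟩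
      have hD₁N : D₁ ≤ Subgroup.normalizer (D₀ : Set G) := by
        rw [hD₁def]; exact Subgroup.map_subtype_le _
      have hD₁sub : D₁.subgroupOf (Subgroup.normalizer (D₀ : Set G)) = DN := by
        rw [hD₁def]
        exact Subgroup.comap_map_eq_self_of_injective (Subgroup.subtype_injective _) DN
      have hD₀D₁ : D₀ ≤ D₁ := by
        intro u hu
        rw [hD₁def]
        refine ⟨⟨u, Subgroup.le_normalizer hu⟩, h1 ?_, rfl⟩
        rw [Subgroup.mem_subgroupOf]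
        exact hu
      have hcard₁ : Nat.card D₁ = Nat.card DN := by
        rw [hD₁def]
        exact Subgroup.card_map_of_injective (Subgroup.subtype_injective _)
      have hlt : Nat.card G - Nat.card D₁ < m := by
        have h5 : Nat.card D₁ ≤ Nat.card G := Subgroup.card_le_card_group D₁
        rw [ecard] at hc
        omega
      refine ih _ hlt (Subgroup.normalizer (D₀ : Set G)) _ D₁ rfl hD₁N ?_ hBNind ?_
      · rw [hD₁sub]; exact hDN
      · exact (Subgroup.centralizer_le hD₀D₁).trans (Subgroup.centralizer_le_normalizer _)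
  -- the element `y` lies in `O_π(G₀) ∩ C_G(D₀)`
  have hyH₀ : ((y : G₀) : G) ∈ H₀ := Subgroup.mem_subgroupOf.mp y.2
  have hyC : ((y : G₀) : G) ∈ Subgroup.centralizer (D₀ : Set G) :=
    mem_centralizer_of_mem_normal_pprime G₀ (Cfsg.piCore π G₀) hKp D₀ hD₀p hD₀G₀ (y : G₀) hy
      (hH₀N hyH₀)
  obtain ⟨n, hnpi, hny⟩ := exists_mem_piCore_normalizer π G₀ D₀ hC (y : G₀) hy hyC
  have hχ₀n : (χ₀ : Subgroup.normalizer (D₀ : Set G) → ℂ) n
      = (χ₀ : Subgroup.normalizer (D₀ : Set G) → ℂ) 1 :=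
    hclaim n hnpi χ₀ (mem_blockOf_self hM χ₀)
  -- pass to the constituent
  set φN := Subgroup.subgroupOfEquivOfLe hH₀N with hφN
  have hnH : n ∈ H₀.subgroupOf (Subgroup.normalizer (D₀ : Set G)) := by
    rw [Subgroup.mem_subgroupOf, hny]; exact hyH₀
  have h6 := constituent_ker (H₀.subgroupOf (Subgroup.normalizer (D₀ : Set G))) χ₀
    (irrMap φN.symm ξ) hχ₀ne ⟨n, hnH⟩ hχ₀n
  rw [irrMap_apply, irrMap_apply, MulEquiv.symm_symm, map_one] at h6
  have e1 : φN ⟨n, hnH⟩ = φ y := by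
    apply Subtype.ext
    show (n : G) = ((y : G₀) : G)
    exact hny
  rw [e1, hξdef, irrMap_apply_apply, irrMap_apply, map_one] at h6
  exact h6

end Main

end Cfsg.Agent.Lib.Helper25.KernelDescent
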