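import Mathlib
import Cfsg.Prelude.Def_Blocks
import Cfsg.Prelude.Def_OddOrderLocal
import Cfsg.Agent.Lib.Helper25.KernelDescent

/-!
# Kernels of blocks of local subgroups, going up (helper25 library)

Brauer, *Some applications of the theory of blocks of characters of finite groups IV*: if
`(D₀, b)` is a `B`-subpair (`b` a block of `D₀ C_G(D₀)` with `b^G = B`) such that
`C_G(D₀)` has a normal Hall `π`-subgroup (`p ∉ π`) lying in the kernel of `b`, then
`O_π(N_G(D))` lies in the kernel of the Brauer correspondent of `B` in `N_G(D)`.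
-/

set_option autoImplicit false

namespace Cfsg.Agent.Lib.Helper25.KernelAscent

open Cfsg.Agent.Lib.Helper2 Cfsg.Agent.Lib.Helper24 Cfsg.Agent.Lib.Helper7
open Cfsg.Agent.Lib.Helper12 Cfsg.Agent.Lib.Helper25.BlockKer
open Cfsg.Agent.Lib.Helper25.ConjTransport Cfsg.Agent.Lib.Helper25.KernelDescent
open scoped ComplexConjugate

section Aux

variable {G : Type*} [Group G] [Finite G]

/-- The order of an element of `O_π(X)` is a `π`-number. -/
theorem orderOf_isPiNat_of_mem_piCore (π : Set ℕ) {X : Type*} [Group X] [Finite X] (x : X)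
    (hx : x ∈ Cfsg.piCore π X) : IsPiNat π (orderOf x) := by
  have h1 : orderOf (⟨x, hx⟩ : Cfsg.piCore π X) ∣ Nat.card (Cfsg.piCore π X) :=
    orderOf_dvd_natCard _
  rw [Subgroup.orderOf_mk] at h1
  exact (piCore_isPiNat (G := X) π).of_dvd h1

/-- Elements of `O_π(G₀) ∩ C_G(D₁)` lie in `O_π(C_G(D₁))`, provided `C_G(D₁) ≤ G₀`. -/
theorem mem_piCore_centralizer (π : Set ℕ) (G₀ D₁ : Subgroup G)
    (hC : Subgroup.centralizer (D₁ : Set G) ≤ G₀) (g : G₀) (hg : g ∈ Cfsg.piCore π G₀)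
    (hgC : (g : G) ∈ Subgroup.centralizer (D₁ : Set G)) :
    (⟨(g : G), hgC⟩ : Subgroup.centralizer (D₁ : Set G))
      ∈ Cfsg.piCore π (Subgroup.centralizer (D₁ : Set G)) := by
  set C : Subgroup G := Subgroup.centralizer (D₁ : Set G) with hCdef
  set W : Subgroup G := (Cfsg.piCore π G₀).map G₀.subtype ⊓ C with hW
  have hWn : (W.subgroupOf C).Normal := by
    constructor
    intro w hw c
    rw [Subgroup.mem_subgroupOf] at hw ⊢
    rw [hW, Subgroup.mem_inf] at hw ⊢
    obtain ⟨⟨k, hk, hkw⟩, -⟩ := hw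
    refine ⟨?_, ?_⟩
    · refine ⟨(⟨(c : G), hC c.2⟩ : G₀) * k * (⟨(c : G), hC c.2⟩ : G₀)⁻¹,
        Subgroup.Normal.conj_mem inferInstance k hk _, ?_⟩
      show (c : G) * (G₀.subtype k) * (c : G)⁻¹ = ((c * w * c⁻¹ : C) : G)
      rw [hkw]
      rfl
    · exact (c * w * c⁻¹).2
  have hWpi : IsPiNat π (Nat.card (W.subgroupOf C)) := by
    have e1 : Nat.card (W.subgroupOf C) = Nat.card W :=
      Nat.card_congr (Subgroup.subgroupOfEquivOfLe (inf_le_right : W ≤ C)).toEquiv
    have e2 : Nat.card W ∣ Nat.card ((Cfsg.piCore π G₀).map G₀.subtype) :=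
      Subgroup.card_dvd_of_le inf_le_left
    have e3 : Nat.card ((Cfsg.piCore π G₀).map G₀.subtype) = Nat.card (Cfsg.piCore π G₀) :=
      Subgroup.card_map_of_injective (Subgroup.subtype_injective _)
    rw [e1]
    exact (piCore_isPiNat π).of_dvd (e3 ▸ e2)
  have h1 : W.subgroupOf C ≤ Cfsg.piCore π C := le_piCore hWn hWpi
  have hgW : (g : G) ∈ W := by
    rw [hW, Subgroup.mem_inf]
    exact ⟨⟨g, hg, rfl⟩, hgC⟩
  exact h1 (Subgroup.mem_subgroupOf.mpr hgW)

end Aux

section Main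

variable {G : Type*} [Group G] [Fintype G] {p : ℕ} [Fact p.Prime] {M : Ideal Cfsg.AlgInt}

/-- **Ascent of kernels.**  Let `B` be a block of `G` with defect group `D` and Brauer
correspondent `B₁` in `N_G(D)`.  Let `D₀` be a `p`-subgroup, `H₀ = D₀ C_G(D₀)` and `b` a block
of `H₀` with `b^G = B`.  If `O_π(C_G(D₀))` (`p ∉ π`) contains all `π`-elements of `C_G(D₀)`
and lies in the kernel of `b`, then `O_π(N_G(D)) ⊆ Ker B₁`. -/
theorem piCore_le_blockKer_of_subpair (hM : Cfsg.IsPModular p M) (π : Set ℕ) (hpπ : p ∉ π)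
    (B : Set (Cfsg.IrrCharacter G)) (hB : Cfsg.IsPBlock M B) (D : Subgroup G)
    (hBD : Cfsg.IsDefectGroup p M B D)
    (B₁ : Set (Cfsg.IrrCharacter (Subgroup.normalizer (D : Set G))))
    (hB₁ : Cfsg.IsInducedBlock M (Subgroup.normalizer (D : Set G)) B₁ B)
    (hB₁D : Cfsg.IsDefectGroup p M B₁ (D.subgroupOf (Subgroup.normalizer (D : Set G)))) :
    ∀ (m : ℕ) (D₀ H₀ : Subgroup G) (b : Set (Cfsg.IrrCharacter H₀)),
      Nat.card G - Nat.card D₀ = m → IsPGroup p D₀ →
      H₀ = D₀ ⊔ Subgroup.centralizer (D₀ : Set G) → Cfsg.IsInducedBlock M H₀ b B →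
      (∀ x : Subgroup.centralizer (D₀ : Set G),
        (∀ q : ℕ, q.Prime → q ∣ orderOf x → q ∈ π) →
        x ∈ Cfsg.piCore π (Subgroup.centralizer (D₀ : Set G))) →
      (∀ x : Subgroup.centralizer (D₀ : Set G),
        x ∈ Cfsg.piCore π (Subgroup.centralizer (D₀ : Set G)) →
        ∀ θ ∈ b, ∀ h : H₀, (h : G) = (x : G) → (θ : H₀ → ℂ) h = (θ : H₀ → ℂ) 1) →
      ∀ n : Subgroup.normalizer (D : Set G),
        n ∈ Cfsg.piCore π (Subgroup.normalizer (D : Set G)) → n ∈ Cfsg.blockKer B₁ := by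
  classical
  intro m
  induction m using Nat.strong_induction_on with
  | _ m ih =>
  intro D₀ H₀ b hm hD₀p hH₀def hbind hcompl hkerb
  have hp : p.Prime := Fact.out
  have hD₀H₀ : D₀ ≤ H₀ := by rw [hH₀def]; exact le_sup_left
  have hCH₀ : Subgroup.centralizer (D₀ : Set G) ≤ H₀ := by rw [hH₀def]; exact le_sup_right
  have hH₀N : H₀ ≤ Subgroup.normalizer (D₀ : Set G) := by
    rw [hH₀def]
    exact sup_le Subgroup.le_normalizer (Subgroup.centralizer_le_normalizer _)
  have hnorm : Subgroup.normalizer (D₀ : Set G) ≤ Subgroup.normalizer (H₀ : Set G) := by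
    rw [hH₀def]; exact normalizer_le_normalizer_sup_centralizer D₀
  letI : Fintype H₀ := Fintype.ofFinite _
  letI : Fintype (Subgroup.normalizer (D₀ : Set G)) := Fintype.ofFinite _
  letI : Fintype (H₀.subgroupOf (Subgroup.normalizer (D₀ : Set G))) := Fintype.ofFinite _
  obtain ⟨ξ, hξb⟩ := isPBlock_nonempty hM hbind.1
  obtain ⟨χ₀, hχ₀ne, hBNind⟩ := exists_cover_block hM H₀ D₀ (Subgroup.normalizer (D₀ : Set G))
    hD₀p Subgroup.le_normalizer hCH₀ hH₀N le_rfl hnorm B b hbind ξ hξb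
  have hBN : Cfsg.IsPBlock M (Cfsg.blockOf M (χ₀ : Subgroup.normalizer (D₀ : Set G) → ℂ)) :=
    ⟨χ₀, rfl⟩
  set φ := Subgroup.subgroupOfEquivOfLe hH₀N with hφ
  haveI : (H₀.subgroupOf (Subgroup.normalizer (D₀ : Set G))).Normal :=
    Subgroup.normal_subgroupOf_of_le_normalizer hnorm
  haveI : (D₀.subgroupOf (Subgroup.normalizer (D₀ : Set G))).Normal :=
    Subgroup.normal_subgroupOf_of_le_normalizer le_rfl
  have hQ : IsPGroup p (D₀.subgroupOf (Subgroup.normalizer (D₀ : Set G))) :=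
    hD₀p.comap_of_injective _ (Subgroup.subtype_injective _)
  have hCN : Subgroup.centralizer
      ((D₀.subgroupOf (Subgroup.normalizer (D₀ : Set G)) :
        Subgroup (Subgroup.normalizer (D₀ : Set G))) : Set (Subgroup.normalizer (D₀ : Set G)))
      ≤ H₀.subgroupOf (Subgroup.normalizer (D₀ : Set G)) := by
    intro x hx
    rw [Subgroup.mem_subgroupOf]
    exact hCH₀ ((mem_centralizer_subgroupOf_iff (Subgroup.normalizer (D₀ : Set G)) D₀
      Subgroup.le_normalizer x).mp hx)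
  have hbt : Cfsg.IsPBlock M (irrMap φ.symm '' b) := isPBlock_image_irrMap φ.symm hbind.1
  have hind₀ : Cfsg.IsInducedBlock M (H₀.subgroupOf (Subgroup.normalizer (D₀ : Set G)))
      (irrMap φ.symm '' b) (Cfsg.blockOf M (χ₀ : Subgroup.normalizer (D₀ : Set G) → ℂ)) :=
    isInducedBlock_of_covering (H₀.subgroupOf (Subgroup.normalizer (D₀ : Set G))) hM
      (D₀.subgroupOf (Subgroup.normalizer (D₀ : Set G))) hQ hCN
      (Cfsg.blockOf M (χ₀ : Subgroup.normalizer (D₀ : Set G) → ℂ)) hBN (irrMap φ.symm '' b) hbt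
      ⟨χ₀, mem_blockOf_self hM χ₀, irrMap φ.symm ξ, ⟨ξ, hξb, rfl⟩, hχ₀ne⟩
  -- `O_π(N_G(D₀))` lies in the kernel of the covering block
  have hKp : ¬ p ∣ Nat.card (Cfsg.piCore π (Subgroup.normalizer (D₀ : Set G))) := by
    intro hdvd
    exact hpπ (piCore_isPiNat (G := Subgroup.normalizer (D₀ : Set G)) π p hp hdvd)
  have hkerN : ∀ n : Subgroup.normalizer (D₀ : Set G),
      n ∈ Cfsg.piCore π (Subgroup.normalizer (D₀ : Set G)) →
      n ∈ Cfsg.blockKer (Cfsg.blockOf M (χ₀ : Subgroup.normalizer (D₀ : Set G) → ℂ)) := by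
    refine normal_le_blockKer_of_induced (H₀.subgroupOf (Subgroup.normalizer (D₀ : Set G))) hM
      (Cfsg.piCore π (Subgroup.normalizer (D₀ : Set G))) hKp (irrMap φ.symm '' b) _ hind₀ ?_
    intro y hy
    rintro _ ⟨θ, hθ, rfl⟩
    rw [irrMap_apply, irrMap_apply, MulEquiv.symm_symm, map_one]
    have hyC : (((y : Subgroup.normalizer (D₀ : Set G)) : G))
        ∈ Subgroup.centralizer (D₀ : Set G) :=
      mem_centralizer_of_mem_normal_pprime (Subgroup.normalizer (D₀ : Set G))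
        (Cfsg.piCore π (Subgroup.normalizer (D₀ : Set G))) hKp D₀ hD₀p Subgroup.le_normalizer
        (y : Subgroup.normalizer (D₀ : Set G)) hy (y : Subgroup.normalizer (D₀ : Set G)).2
    have hyord : ∀ q : ℕ, q.Prime →
        q ∣ orderOf (⟨((y : Subgroup.normalizer (D₀ : Set G)) : G), hyC⟩ :
          Subgroup.centralizer (D₀ : Set G)) → q ∈ π := by
      intro q hq hdvd
      rw [Subgroup.orderOf_mk, Subgroup.orderOf_coe] at hdvd
      exact orderOf_isPiNat_of_mem_piCore π _ hy q hq hdvd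
    exact hkerb ⟨_, hyC⟩ (hcompl _ hyord) θ hθ (φ y) rfl
  -- a defect group of the covering block
  obtain ⟨DN, hDN⟩ := exists_isDefectGroup hM _ hBN
  have hcore := Cfsg.Agent.S0912.result p M hM _ hBN DN hDN
  have h1 : D₀.subgroupOf (Subgroup.normalizer (D₀ : Set G)) ≤ DN :=
    (Cfsg.Agent.Lib.Helper13.le_pCore _ inferInstance hQ).trans hcore
  have ecard : Nat.card (D₀.subgroupOf (Subgroup.normalizer (D₀ : Set G))) = Nat.card D₀ :=
    Nat.card_congr (Subgroup.subgroupOfEquivOfLe Subgroup.le_normalizer).toEquiv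
  by_cases hc : Nat.card DN ≤ Nat.card (D₀.subgroupOf (Subgroup.normalizer (D₀ : Set G)))
  · -- `D₀` is a defect group of `B`
    have h3 : D₀.subgroupOf (Subgroup.normalizer (D₀ : Set G)) = DN :=
      Subgroup.eq_of_le_of_card_ge h1 hc
    have hdefN : Cfsg.IsDefectGroup p M
        (Cfsg.blockOf M (χ₀ : Subgroup.normalizer (D₀ : Set G) → ℂ))
        (D₀.subgroupOf (Subgroup.normalizer (D₀ : Set G))) := by
      rw [h3]; exact hDN
    obtain ⟨B', hB', hB'D, hB'ind⟩ := first_main_induced hM D₀ hD₀p _ hBN hdefN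
    have hBB' : B' = B :=
      isInducedBlock_unique (Subgroup.normalizer (D₀ : Set G)) hM _ B' B hB'ind hBNind
    rw [hBB'] at hB'D
    exact piCore_le_blockKer_conj hM π B hB D₀ D hB'D hBD _ hBNind B₁ hB₁ hB₁D hkerN
  · -- a larger defect group: induction
    push Not at hc
    obtain ⟨D₁, hD₁def⟩ : ∃ D₁ : Subgroup G,
        D₁ = DN.map (Subgroup.normalizer (D₀ : Set G)).subtype := ⟨_, rfl⟩
    have hD₁N : D₁ ≤ Subgroup.normalizer (D₀ : Set G) := by
      rw [hD₁def]; exact Subgroup.map_subtype_le _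
    have hD₁sub : D₁.subgroupOf (Subgroup.normalizer (D₀ : Set G)) = DN := by
      rw [hD₁def]
      exact Subgroup.comap_map_eq_self_of_injective (Subgroup.subtype_injective _) DN
    have hD₀D₁ : D₀ ≤ D₁ := by
      intro u hu
      rw [hD₁def]
      refine ⟨⟨u, Subgroup.le_normalizer hu⟩, h1 ?_, rfl⟩
      rw [Subgroup.mem_subgroupOf]
      exact hu
    have hcard₁ : Nat.card D₁ = Nat.card DN := by
      rw [hD₁def]
      exact Subgroup.card_map_of_injective (Subgroup.subtype_injective _)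
    have hlt : Nat.card G - Nat.card D₁ < m := by
      have h5 : Nat.card D₁ ≤ Nat.card G := Subgroup.card_le_card_group D₁
      rw [ecard] at hc
      omega
    have hDNp : IsPGroup p DN := IsPGroup.of_card (card_of_isDefectGroup hM _ hBN DN hDN)
    have hD₁p : IsPGroup p D₁ := by
      rw [hD₁def]; exact hDNp.map _
    obtain ⟨H₁, hH₁def⟩ : ∃ H₁ : Subgroup G,
        H₁ = D₁ ⊔ Subgroup.centralizer (D₁ : Set G) := ⟨_, rfl⟩
    have hC₁C₀ : Subgroup.centralizer (D₁ : Set G) ≤ Subgroup.centralizer (D₀ : Set G) :=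
      Subgroup.centralizer_le hD₀D₁
    have hC₁N : Subgroup.centralizer (D₁ : Set G) ≤ Subgroup.normalizer (D₀ : Set G) :=
      hC₁C₀.trans (Subgroup.centralizer_le_normalizer _)
    have hD₁H₁ : D₁ ≤ H₁ := by rw [hH₁def]; exact le_sup_left
    have hC₁H₁ : Subgroup.centralizer (D₁ : Set G) ≤ H₁ := by rw [hH₁def]; exact le_sup_right
    have hH₁N : H₁ ≤ Subgroup.normalizer (D₀ : Set G) := by
      rw [hH₁def]; exact sup_le hD₁N hC₁N
    have hH₁N₁ : H₁ ≤ Subgroup.normalizer (D₁ : Set G) := by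
      rw [hH₁def]
      exact sup_le Subgroup.le_normalizer (Subgroup.centralizer_le_normalizer _)
    letI : Fintype H₁ := Fintype.ofFinite _
    letI : Fintype (H₁.subgroupOf (Subgroup.normalizer (D₀ : Set G))) := Fintype.ofFinite _
    -- a root of the covering block
    have hP'H' : D₁.subgroupOf (Subgroup.normalizer (D₀ : Set G))
        ≤ H₁.subgroupOf (Subgroup.normalizer (D₀ : Set G)) := by
      intro u hu
      rw [Subgroup.mem_subgroupOf] at hu ⊢
      exact hD₁H₁ hu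
    have hCH' : Subgroup.centralizer
        ((D₁.subgroupOf (Subgroup.normalizer (D₀ : Set G)) :
          Subgroup (Subgroup.normalizer (D₀ : Set G))) : Set (Subgroup.normalizer (D₀ : Set G)))
        ≤ H₁.subgroupOf (Subgroup.normalizer (D₀ : Set G)) := by
      intro u hu
      rw [Subgroup.mem_subgroupOf]
      exact hC₁H₁ ((mem_centralizer_subgroupOf_iff (Subgroup.normalizer (D₀ : Set G)) D₁
        hD₁N u).mp hu)
    have hH'N' : H₁.subgroupOf (Subgroup.normalizer (D₀ : Set G))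
        ≤ Subgroup.normalizer
          ((D₁.subgroupOf (Subgroup.normalizer (D₀ : Set G)) :
            Subgroup (Subgroup.normalizer (D₀ : Set G))) :
            Set (Subgroup.normalizer (D₀ : Set G))) := by
      intro u hu
      rw [Subgroup.mem_subgroupOf] at hu
      have h1 := hH₁N₁ hu
      rw [Subgroup.mem_normalizer_iff] at h1 ⊢
      intro v
      rw [Subgroup.mem_subgroupOf, Subgroup.mem_subgroupOf]
      exact h1 v
    obtain ⟨b₁', hb₁'def, hb₁'ind⟩ := exists_isInducedBlock_defect_of_le hM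
      (H₁.subgroupOf (Subgroup.normalizer (D₀ : Set G)))
      (D₁.subgroupOf (Subgroup.normalizer (D₀ : Set G))) hP'H' hCH' hH'N'
      (Cfsg.blockOf M (χ₀ : Subgroup.normalizer (D₀ : Set G) → ℂ)) hBN
      (by rw [hD₁sub]; exact hDN)
    set φ₁ := Subgroup.subgroupOfEquivOfLe hH₁N with hφ₁
    obtain ⟨b₁, hb₁def⟩ : ∃ b₁ : Set (Cfsg.IrrCharacter H₁), b₁ = irrMap φ₁ '' b₁' := ⟨_, rfl⟩
    have hb₁ind : Cfsg.IsInducedBlock M H₁ b₁ B := by
      refine ⟨?_, hB, ?_⟩
      · rw [hb₁def]; exact isPBlock_image_irrMap φ₁ hb₁'ind.1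
      · rw [hb₁def]
        rintro _ ⟨ξ₁, hξ₁, rfl⟩ χ hχ g
        have h1 := inducedCentralChar_trans hM H₁ (Subgroup.normalizer (D₀ : Set G)) hH₁N ξ₁ χ₀
          (fun n => hb₁'ind.2.2 ξ₁ hξ₁ χ₀ (mem_blockOf_self hM χ₀) n) g
        have h2 := hBNind.2.2 χ₀ (mem_blockOf_self hM χ₀) χ hχ g
        have h3 := memLocalIdeal_add hM h1 h2
        rwa [sub_add_sub_cancel] at h3
    refine ih _ hlt D₁ H₁ b₁ rfl hD₁p hH₁def hb₁ind ?_ ?_
    · -- the Hall property passes to `C_G(D₁)`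
      intro x hx
      have hxC₀ : (x : G) ∈ Subgroup.centralizer (D₀ : Set G) := hC₁C₀ x.2
      have hx0 := hcompl ⟨(x : G), hxC₀⟩ (by
        intro q hq hdvd
        rw [Subgroup.orderOf_mk, Subgroup.orderOf_coe] at hdvd
        exact hx q hq hdvd)
      exact mem_piCore_centralizer π (Subgroup.centralizer (D₀ : Set G)) D₁ hC₁C₀
        ⟨(x : G), hxC₀⟩ hx0 x.2
    · -- the kernel condition passes to the root
      intro x hx θ hθ h hhx
      have hxC₀ : (x : G) ∈ Subgroup.centralizer (D₀ : Set G) := hC₁C₀ x.2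
      have hx0 := hcompl ⟨(x : G), hxC₀⟩ (by
        intro q hq hdvd
        rw [Subgroup.orderOf_mk, Subgroup.orderOf_coe] at hdvd
        exact orderOf_isPiNat_of_mem_piCore π x hx q hq hdvd)
      obtain ⟨n, hnpi, hnx⟩ := exists_mem_piCore_normalizer π
        (Subgroup.centralizer (D₀ : Set G)) D₀ le_rfl ⟨(x : G), hxC₀⟩ hx0 hxC₀
      have hnker := hkerN n hnpi
      have hnH₁ : n ∈ H₁.subgroupOf (Subgroup.normalizer (D₀ : Set G)) := by
        rw [Subgroup.mem_subgroupOf, hnx]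
        exact hC₁H₁ x.2
      have h6 := blockKer_restrict (H₁.subgroupOf (Subgroup.normalizer (D₀ : Set G))) hM b₁'
        (Cfsg.blockOf M (χ₀ : Subgroup.normalizer (D₀ : Set G) → ℂ)) hb₁'ind ⟨n, hnH₁⟩ hnker
      rw [hb₁def] at hθ
      obtain ⟨θ', hθ', rfl⟩ := hθ
      have h7 := h6 θ' hθ'
      rw [irrMap_apply, irrMap_apply, map_one]
      have e : φ₁.symm h = ⟨n, hnH₁⟩ := by
        apply φ₁.injective
        rw [MulEquiv.apply_symm_apply]
        apply Subtype.ext
        show (h : G) = (n : G)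
        rw [hhx, hnx]
      rw [e]
      exact h7

end Main

end Cfsg.Agent.Lib.Helper25.KernelAscent
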