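import Mathlib

/-!
# Landau's theorem (helper25 library)

The order of a finite group is bounded by a function of its number of conjugacy classes.
-/

set_option autoImplicit false

namespace Cfsg.Agent.Lib.Helper25

/-- the bound for solutions of `∑ 1/nᵢ = A/D` with `k` terms -/
def landauF : ℕ → ℕ → ℕ
  | 0, _ => 0
  | (k + 1), D => max ((k + 1) * D) (landauF k ((k + 1) * D * D))

theorem landauF_mono (k : ℕ) : ∀ D D' : ℕ, D ≤ D' → landauF k D ≤ landauF k D' := by
  induction k with
  | zero => intro D D' _; simp [landauF]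
  | succ k ih =>
    intro D D' h
    simp only [landauF]
    apply max_le_max
    · exact Nat.mul_le_mul_left _ h
    · apply ih
      exact Nat.mul_le_mul (Nat.mul_le_mul_left _ h) h

/-- unit fractions summing to `A/D`: all denominators are bounded -/
theorem egyptian_bound {ι : Type*} [DecidableEq ι] (n : ι → ℕ) :
    ∀ (k D : ℕ), 0 < D → ∀ s : Finset ι, s.card = k → (∀ i ∈ s, 0 < n i) →
      ∀ A : ℕ, 0 < A → ∑ i ∈ s, (1 : ℚ) / n i = (A : ℚ) / D → ∀ i ∈ s, n i ≤ landauF k D := by
  intro k
  induction k with
  | zero =>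
    intro D _ s hs _ _ _ _ i hi
    rw [Finset.card_eq_zero] at hs
    rw [hs] at hi
    exact absurd hi (Finset.notMem_empty i)
  | succ k ih =>
    intro D hD s hs hpos A hA hsum i hi
    have hne : s.Nonempty := by
      rw [← Finset.card_pos, hs]; exact Nat.succ_pos k
    obtain ⟨j, hj, hmin⟩ := Finset.exists_min_image s n hne
    have hnj : (0 : ℚ) < n j := by exact_mod_cast hpos j hj
    have hDq : (0 : ℚ) < D := by exact_mod_cast hD
    have hAq : (0 : ℚ) < A := by exact_mod_cast hA
    -- the smallest denominator is bounded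
    have hle : ∑ i ∈ s, (1 : ℚ) / n i ≤ ∑ _i ∈ s, (1 : ℚ) / n j := by
      apply Finset.sum_le_sum
      intro i hi
      have hni : (0 : ℚ) < n i := by exact_mod_cast hpos i hi
      have : (n j : ℚ) ≤ n i := by exact_mod_cast hmin i hi
      exact one_div_le_one_div_of_le hnj this
    rw [Finset.sum_const, hs, hsum, nsmul_eq_mul] at hle
    have h1 : (A : ℚ) * n j ≤ ((k + 1 : ℕ) : ℚ) * D := by
      rw [div_le_iff₀ hDq] at hle
      have h2 : ((k + 1 : ℕ) : ℚ) * (1 / n j) * D = ((k + 1 : ℕ) : ℚ) * D / n j := by ring
      rw [h2, le_div_iff₀ hnj] at hle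
      exact hle
    have h1' : A * n j ≤ (k + 1) * D := by exact_mod_cast h1
    have hjle : n j ≤ (k + 1) * D := by
      calc n j ≤ A * n j := Nat.le_mul_of_pos_left _ hA
        _ ≤ (k + 1) * D := h1'
    by_cases hij : i = j
    · rw [hij]
      simp only [landauF]
      exact le_trans hjle (le_max_left _ _)
    · have hi' : i ∈ s.erase j := Finset.mem_erase.mpr ⟨hij, hi⟩
      have hcard : (s.erase j).card = k := by
        rw [Finset.card_erase_of_mem hj, hs]; rfl
      have hsum' : ∑ i ∈ s.erase j, (1 : ℚ) / n i = (A : ℚ) / D - 1 / n j := by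
        rw [← hsum, ← Finset.add_sum_erase s _ hj]; ring
      have hpos' : (0 : ℚ) < ∑ i ∈ s.erase j, (1 : ℚ) / n i := by
        apply Finset.sum_pos'
        · intro i hi
          have : (0 : ℚ) < n i := by exact_mod_cast hpos i (Finset.mem_of_mem_erase hi)
          positivity
        · refine ⟨i, hi', ?_⟩
          have : (0 : ℚ) < n i := by exact_mod_cast hpos i hi
          positivity
      rw [hsum'] at hpos'
      have h3 : (D : ℚ) < A * n j := by
        have h4 : (1 : ℚ) / n j < A / D := by linarith
        rw [div_lt_div_iff₀ hnj hDq] at h4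
        linarith
      have h3' : D < A * n j := by exact_mod_cast h3
      have hA' : 0 < A * n j - D := Nat.sub_pos_of_lt h3'
      have hD' : 0 < D * n j := Nat.mul_pos hD (hpos j hj)
      have hsum'' : ∑ i ∈ s.erase j, (1 : ℚ) / n i
          = ((A * n j - D : ℕ) : ℚ) / ((D * n j : ℕ) : ℚ) := by
        rw [hsum', Nat.cast_sub h3'.le]
        push_cast
        field_simp
      have h5 := ih (D * n j) hD' (s.erase j) hcard
        (fun i hi => hpos i (Finset.mem_of_mem_erase hi)) (A * n j - D) hA' hsum'' i hi'
      simp only [landauF]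
      refine le_trans h5 (le_trans (landauF_mono k _ _ ?_) (le_max_right _ _))
      calc D * n j ≤ D * ((k + 1) * D) := Nat.mul_le_mul_left _ hjle
        _ = (k + 1) * D * D := by ring

/-- **Landau's theorem**: the order of a finite group is bounded in terms of its class
number -/
theorem card_le_landauF (G : Type*) [Group G] [Finite G] :
    Nat.card G ≤ landauF (Nat.card (ConjClasses G)) 1 := by
  classical
  haveI : Fintype G := Fintype.ofFinite G
  haveI : Fintype (ConjClasses G) := Fintype.ofFinite _
  have hG0 : 0 < Nat.card G := Nat.card_pos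
  -- the centralizer orders
  set n : ConjClasses G → ℕ := fun c =>
    Nat.card (MulAction.stabilizer (ConjAct G) (Quotient.out c : G)) with hn
  have hkey : ∀ c : ConjClasses G, c.carrier.ncard * n c = Nat.card G := by
    intro c
    have h1 := MulAction.card_orbit_mul_card_stabilizer_eq_card_group (ConjAct G)
      (Quotient.out c : G)
    have h2 : MulAction.orbit (ConjAct G) (Quotient.out c : G) = c.carrier := by
      rw [ConjAct.orbit_eq_carrier_conjClasses]
      congr 1
      exact Quotient.out_eq c
    rw [ConjAct.card] at h1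
    rw [Nat.card_eq_fintype_card, ← h1]
    simp only [hn]
    rw [Nat.card_eq_fintype_card]
    congr 1
    rw [← Nat.card_eq_fintype_card, ← h2]
    exact Nat.card_coe_set_eq _
  have hnpos : ∀ c, 0 < n c := fun c => Nat.card_pos
  have hsum : ∑ c : ConjClasses G, (1 : ℚ) / n c = ((1 : ℕ) : ℚ) / ((1 : ℕ) : ℚ) := by
    have h1 := Group.sum_card_conj_classes_eq_card G
    rw [finsum_eq_sum_of_fintype] at h1
    have h2 : ∀ c : ConjClasses G, (1 : ℚ) / n c = (c.carrier.ncard : ℚ) / (Nat.card G : ℚ) := by
      intro c
      have hc := hkey c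
      have hn0 : (n c : ℚ) ≠ 0 := by exact_mod_cast (hnpos c).ne'
      have hG : (Nat.card G : ℚ) ≠ 0 := by exact_mod_cast hG0.ne'
      rw [div_eq_div_iff hn0 hG, one_mul, ← hc]
      push_cast
      ring
    rw [Finset.sum_congr rfl (fun c _ => h2 c), ← Finset.sum_div, ← Nat.cast_sum, h1]
    have hG : (Nat.card G : ℚ) ≠ 0 := by exact_mod_cast hG0.ne'
    rw [div_self hG]
    simp
  have hb := egyptian_bound n (Nat.card (ConjClasses G)) 1 Nat.one_pos Finset.univ
    (by rw [Finset.card_univ, Nat.card_eq_fintype_card]) (fun c _ => hnpos c) 1 Nat.one_pos hsum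
    (ConjClasses.mk (1 : G)) (Finset.mem_univ _)
  have hone : (ConjClasses.mk (1 : G)).carrier.ncard = 1 := by
    have : (ConjClasses.mk (1 : G)).carrier = {1} := by
      ext x
      rw [ConjClasses.mem_carrier_iff_mk_eq, ConjClasses.mk_eq_mk_iff_isConj, Set.mem_singleton_iff]
      constructor
      · intro h
        exact isConj_one_right.mp h.symm
      · rintro rfl
        exact IsConj.refl _
    rw [this, Set.ncard_singleton]
  have h1 := hkey (ConjClasses.mk (1 : G))
  rw [hone, one_mul] at h1
  rw [← h1]
  exact hb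

end Cfsg.Agent.Lib.Helper25
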