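import Mathlib
import Cfsg.Prelude.Def_Classical
import Cfsg.Prelude.Def_Characters
import Cfsg.Agent.Lib.Helper25.Linear
import Cfsg.Agent.Lib.Helper15.DihOrthMinus

/-!
# The degenerate case `m = 0` of the Steinberg character of `PΩ⁻_{2m+2}(q)`

The isometry group of an anisotropic binary form is dihedral, so its commutator subgroup consists
of rotations and is abelian; hence `PΩ⁻_2(F)` is trivial.
-/

set_option autoImplicit false

namespace Cfsg.Agent.Lib.Helper25.OMinusDeg

/-- the sign homomorphism of a dihedral group -/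
def dsgn (n : ℕ) : DihedralGroup n →* ℤˣ where
  toFun x := match x with
    | .r _ => 1
    | .sr _ => -1
  map_one' := rfl
  map_mul' := by
    rintro (a | a) (b | b) <;> rfl

theorem comm_of_mem_commutator {n : ℕ} {x y : DihedralGroup n}
    (hx : x ∈ commutator (DihedralGroup n)) (hy : y ∈ commutator (DihedralGroup n)) :
    x * y = y * x := by
  have h1 : dsgn n x = 1 := Abelianization.commutator_subset_ker (dsgn n) hx
  have h2 : dsgn n y = 1 := Abelianization.commutator_subset_ker (dsgn n) hy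
  rcases x with i | i
  · rcases y with j | j
    · rw [DihedralGroup.r_mul_r, DihedralGroup.r_mul_r, add_comm]
    · have h3 : (-1 : ℤˣ) = 1 := h2
      exact absurd h3 (by decide)
  · have h3 : (-1 : ℤˣ) = 1 := h1
    exact absurd h3 (by decide)

theorem comm_of_equiv {H : Type*} [Group H] {n : ℕ} (e : H ≃* DihedralGroup n) {u v : H}
    (hu : u ∈ commutator H) (hv : v ∈ commutator H) : u * v = v * u := by
  have hmap : ∀ w : H, w ∈ commutator H → e w ∈ commutator (DihedralGroup n) := by
    intro w hw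
    have h1 : e w ∈ (commutator H).map e.toMonoidHom := Subgroup.mem_map_of_mem _ hw
    rw [commutator_def, Subgroup.map_commutator] at h1
    rw [commutator_def]
    exact Subgroup.commutator_mono le_top le_top h1
  apply e.injective
  rw [map_mul, map_mul]
  exact comm_of_mem_commutator (hmap u hu) (hmap v hv)

variable {F : Type*} [Field F] [Fintype F]

theorem subsingleton_POmega (a b : F)
    (hab : ∀ z₁ z₂ : F, z₁ ^ 2 + a * z₁ * z₂ + b * z₂ ^ 2 = 0 → z₁ = 0 ∧ z₂ = 0) :
    Subsingleton (Cfsg.POmega F (Cfsg.quadFormMinus 0 F a b)) := by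
  obtain ⟨e⟩ := Cfsg.Agent.Lib.Helper15.minus2_dihedral a b hab
  constructor
  intro x y
  induction x using QuotientGroup.induction_on with
  | H u =>
  induction y using QuotientGroup.induction_on with
  | H v =>
  rw [QuotientGroup.eq, Subgroup.mem_center_iff]
  intro c
  have key : ∀ s t : Cfsg.Omega F (Cfsg.quadFormMinus 0 F a b), s * t = t * s := by
    intro s t
    apply Subtype.ext
    exact comm_of_equiv e s.2 t.2
  exact key c _

theorem steinberg_minus_zero {F : Type*} [Field F] [Fintype F] (p : ℕ) [Fact p.Prime] [CharP F p]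
    (a b : F) (hab : ∀ z₁ z₂ : F, z₁ ^ 2 + a * z₁ * z₂ + b * z₂ ^ 2 = 0 → z₁ = 0 ∧ z₂ = 0) :
    ∃ χ : Cfsg.POmega F (Cfsg.quadFormMinus 0 F a b) → ℂ,
      Cfsg.IsIrrCharacter (Cfsg.POmega F (Cfsg.quadFormMinus 0 F a b)) χ ∧
      ∀ P : Sylow p (Cfsg.POmega F (Cfsg.quadFormMinus 0 F a b)), χ 1 = Nat.card P ∧
        ∀ x : Cfsg.POmega F (Cfsg.quadFormMinus 0 F a b), x ∈ P → x ≠ 1 → χ x = 0 := by
  haveI := subsingleton_POmega a b hab
  refine ⟨fun _ => 1, Cfsg.Agent.Lib.Helper25.isIrrCharacter_one, fun P => ⟨?_, ?_⟩⟩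
  · have : Nat.card (P : Subgroup (Cfsg.POmega F (Cfsg.quadFormMinus 0 F a b))) = 1 := by
      rw [Nat.card_eq_one_iff_unique]
      exact ⟨inferInstance, ⟨1⟩⟩
    rw [this]; simp
  · intro x _ hx
    exact absurd (Subsingleton.elim x 1) hx

end Cfsg.Agent.Lib.Helper25.OMinusDeg
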