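import Mathlib

/-!
# O'Nan–Scott core, product form (helper25 library)

Let `T` be a finite non-abelian simple group, `ι` a finite index set and `R` a proper subgroup of
`ι → T` that is invariant under a family of "monomial maps" acting transitively on the
coordinates and maximal among the proper invariant subgroups.  Then either `R` is a product of
proper subgroups of the factors, or `R` is a product of (twisted) diagonals over the blocks of a
partition into blocks of one size `k ≥ 2`.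
-/

set_option autoImplicit false

namespace Cfsg.Agent.Lib.Helper25.ONanScott

open scoped commutatorElement

/-- A map of `ι → T` that is monomial with respect to the coordinates: the `σ i` coordinate of the
image of `f` is `β i (f i)`. -/
structure MonoMap (ι : Type*) (T : Type*) [Group T] where
  θ : (ι → T) → (ι → T)
  σ : ι → ι
  β : ι → T → T
  σ_surj : Function.Surjective σ
  β_inj : ∀ i, Function.Injective (β i)
  β_one : ∀ i, β i 1 = 1
  θ_apply : ∀ f i, θ f (σ i) = β i (f i)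

section Core

variable {ι : Type*} [Fintype ι] [DecidableEq ι] {T : Type*} [Group T] [Finite T]

/-- the projection of `R` to the coordinate `i`. -/
def proj (R : Subgroup (ι → T)) (i : ι) : Subgroup T :=
  R.map (Pi.evalMonoidHom (fun _ => T) i)

theorem mem_proj {R : Subgroup (ι → T)} {i : ι} {t : T} :
    t ∈ proj R i ↔ ∃ f ∈ R, f i = t := by
  unfold proj
  rw [Subgroup.mem_map]
  rfl

theorem commutator_eq_top [IsSimpleGroup T] (hnab : ∃ a b : T, a * b ≠ b * a) :
    commutator T = ⊤ := by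
  rcases (inferInstance : (commutator T).Normal).eq_bot_or_eq_top with h | h
  · exfalso
    obtain ⟨a, b, hab⟩ := hnab
    apply hab
    have h1 : ⁅a, b⁆ ∈ commutator T := Subgroup.commutator_mem_commutator (Subgroup.mem_top a)
      (Subgroup.mem_top b)
    rw [h, Subgroup.mem_bot, commutatorElement_eq_one_iff_commute] at h1
    exact h1.eq
  · exact h

theorem nontrivial_of_nab (hnab : ∃ a b : T, a * b ≠ b * a) : ∃ t : T, t ≠ 1 := by
  obtain ⟨a, b, hab⟩ := hnab
  by_contra hcon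
  push Not at hcon
  apply hab
  rw [hcon a, hcon b]

variable {Γ : Type*} (Θ : Γ → MonoMap ι T) (R : Subgroup (ι → T))

theorem proj_step (hRinv : ∀ γ, ∀ f ∈ R, (Θ γ).θ f ∈ R) (γ : Γ) (i : ι) (t : T)
    (ht : t ∈ proj R i) : (Θ γ).β i t ∈ proj R ((Θ γ).σ i) := by
  obtain ⟨f, hf, rfl⟩ := mem_proj.mp ht
  exact mem_proj.mpr ⟨(Θ γ).θ f, hRinv γ f hf, (Θ γ).θ_apply f i⟩

theorem proj_top_of (hRinv : ∀ γ, ∀ f ∈ R, (Θ γ).θ f ∈ R) (htrans : ∀ i j, ∃ γ, (Θ γ).σ i = j)
    {i : ι} (hi : proj R i = ⊤) (j : ι) : proj R j = ⊤ := by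
  obtain ⟨γ, hγ⟩ := htrans i j
  rw [eq_top_iff]
  intro s _
  obtain ⟨t, rfl⟩ := (Finite.injective_iff_surjective.mp ((Θ γ).β_inj i)) s
  rw [← hγ]
  exact proj_step Θ R hRinv γ i t (by rw [hi]; trivial)

/-- Case 1: some projection is proper. -/
theorem case_one (hRinv : ∀ γ, ∀ f ∈ R, (Θ γ).θ f ∈ R) (htrans : ∀ i j, ∃ γ, (Θ γ).σ i = j)
    (hmax : ∀ X : Subgroup (ι → T), R ≤ X → (∀ γ, ∀ f ∈ X, (Θ γ).θ f ∈ X) → X = R ∨ X = ⊤)
    (h : ∃ i, proj R i ≠ ⊤) :
    ∃ K : ι → Subgroup T, (∀ i, K i ≠ ⊤) ∧ ∀ f, f ∈ R ↔ ∀ i, f i ∈ K i := by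
  have hall : ∀ j, proj R j ≠ ⊤ := by
    intro j hj
    obtain ⟨i, hi⟩ := h
    exact hi (proj_top_of Θ R hRinv htrans hj i)
  let X : Subgroup (ι → T) := Subgroup.pi Set.univ (proj R)
  have hRX : R ≤ X := by
    intro f hf
    rw [Subgroup.mem_pi]
    intro i _
    exact mem_proj.mpr ⟨f, hf, rfl⟩
  have hXinv : ∀ γ, ∀ f ∈ X, (Θ γ).θ f ∈ X := by
    intro γ f hf
    rw [Subgroup.mem_pi] at hf ⊢
    intro j _
    obtain ⟨i, rfl⟩ := (Θ γ).σ_surj j
    rw [(Θ γ).θ_apply f i]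
    exact proj_step Θ R hRinv γ i (f i) (hf i trivial)
  have hXtop : X ≠ ⊤ := by
    intro hX
    obtain ⟨i, hi⟩ := h
    apply hi
    rw [eq_top_iff]
    intro t _
    have h1 : Pi.mulSingle i t ∈ X := by rw [hX]; trivial
    rw [Subgroup.mem_pi] at h1
    have := h1 i trivial
    rwa [Pi.mulSingle_eq_same] at this
  have hXR : X = R := by
    rcases hmax X hRX hXinv with h1 | h1
    · exact h1
    · exact absurd h1 hXtop
  refine ⟨proj R, hall, ?_⟩
  intro f
  constructor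
  · intro hf i
    exact mem_proj.mpr ⟨f, hf, rfl⟩
  · intro hf
    have h1 : f ∈ X := by
      rw [Subgroup.mem_pi]
      intro i _
      exact hf i
    rw [hXR] at h1
    exact h1

/-! ### Case 2: all projections are onto -/

/-- the relation: vanishing at `i` forces vanishing at `j` on `R`. -/
def rel (i j : ι) : Prop := ∀ f ∈ R, f i = 1 → f j = 1

/-- the subgroup of values at `i` of the elements of `R` vanishing at `j`. -/
def Zsub (j i : ι) : Subgroup T where
  carrier := {t | ∃ f ∈ R, f j = 1 ∧ f i = t}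
  one_mem' := ⟨1, R.one_mem, rfl, rfl⟩
  mul_mem' := by
    rintro s t ⟨f, hf, hfj, rfl⟩ ⟨g, hg, hgj, rfl⟩
    exact ⟨f * g, R.mul_mem hf hg, by simp [hfj, hgj], rfl⟩
  inv_mem' := by
    rintro s ⟨f, hf, hfj, rfl⟩
    exact ⟨f⁻¹, R.inv_mem hf, by simp [hfj], rfl⟩

theorem mem_Zsub {j i : ι} {t : T} : t ∈ Zsub R j i ↔ ∃ f ∈ R, f j = 1 ∧ f i = t := Iff.rfl

theorem Zsub_normal (hsurj : ∀ i t, ∃ f ∈ R, f i = t) (j i : ι) : (Zsub R j i).Normal := by
  constructor
  intro t ht s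
  obtain ⟨f, hf, hfj, rfl⟩ := (mem_Zsub R).mp ht
  obtain ⟨g, hg, rfl⟩ := hsurj i s
  refine (mem_Zsub R).mpr ⟨g * f * g⁻¹, R.mul_mem (R.mul_mem hg hf) (R.inv_mem hg), ?_, ?_⟩
  · simp [hfj]
  · simp

theorem rel_symm [IsSimpleGroup T] (hnab : ∃ a b : T, a * b ≠ b * a)
    (hsurj : ∀ i t, ∃ f ∈ R, f i = t) {i j : ι} (h : rel R i j) : rel R j i := by
  intro f hf hfj
  by_contra hfi
  have hZ : Zsub R j i = ⊤ := by
    rcases (Zsub_normal R hsurj j i).eq_bot_or_eq_top with h1 | h1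
    · exfalso
      apply hfi
      have h2 : f i ∈ Zsub R j i := (mem_Zsub R).mpr ⟨f, hf, hfj, rfl⟩
      rwa [h1, Subgroup.mem_bot] at h2
    · exact h1
  obtain ⟨t, ht⟩ := nontrivial_of_nab hnab
  obtain ⟨g, hg, hgj⟩ := hsurj j t
  have h3 : g i ∈ Zsub R j i := by rw [hZ]; trivial
  obtain ⟨f', hf', hf'j, hf'i⟩ := (mem_Zsub R).mp h3
  have h1 : (g * f'⁻¹) j = 1 := h (g * f'⁻¹) (R.mul_mem hg (R.inv_mem hf')) (by simp [hf'i])
  apply ht
  rw [← hgj]
  simpa [hf'j] using h1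

theorem rel_eq {i j : ι} (h : rel R i j) {f g : ι → T} (hf : f ∈ R) (hg : g ∈ R)
    (hfg : f i = g i) : f j = g j := by
  have h1 := h (f * g⁻¹) (R.mul_mem hf (R.inv_mem hg)) (by simp [hfg])
  simpa [mul_inv_eq_one] using h1

theorem rel_pull (hRinv : ∀ γ, ∀ f ∈ R, (Θ γ).θ f ∈ R) (γ : Γ) {i j : ι}
    (h : rel R ((Θ γ).σ i) ((Θ γ).σ j)) : rel R i j := by
  intro r hr hri
  have h1 := h ((Θ γ).θ r) (hRinv γ r hr) (by rw [(Θ γ).θ_apply, hri, (Θ γ).β_one])
  rw [(Θ γ).θ_apply] at h1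
  exact (Θ γ).β_inj j (h1.trans ((Θ γ).β_one j).symm)

/-- the equivalence relation on the coordinates -/
def relSetoid [IsSimpleGroup T] (hnab : ∃ a b : T, a * b ≠ b * a)
    (hsurj : ∀ i t, ∃ f ∈ R, f i = t) : Setoid ι where
  r := rel R
  iseqv := ⟨fun _ _ _ h => h, fun h => rel_symm R hnab hsurj h,
    fun h1 h2 f hf hfi => h2 f hf (h1 f hf hfi)⟩

/-- a choice of representatives -/
theorem exists_rep [IsSimpleGroup T] (hnab : ∃ a b : T, a * b ≠ b * a)
    (hsurj : ∀ i t, ∃ f ∈ R, f i = t) :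
    ∃ c : ι → ι, (∀ i, rel R i (c i)) ∧ ∀ i j, c i = c j ↔ rel R i j := by
  let s := relSetoid R hnab hsurj
  refine ⟨fun i => (Quotient.mk s i).out, ?_, ?_⟩
  · intro i
    have h1 : (Quotient.mk s i).out ≈ i := Quotient.mk_out i
    exact Setoid.symm h1
  intro i j
  constructor
  · intro h
    have h : (Quotient.mk s i).out = (Quotient.mk s j).out := h
    have h1 : (Quotient.mk s i).out ≈ i := Quotient.mk_out i
    have h2 : (Quotient.mk s j).out ≈ j := Quotient.mk_out j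
    have h3 : i ≈ (Quotient.mk s i).out := Setoid.symm h1
    have h4 : i ≈ j := by
      refine Setoid.trans h3 ?_
      show (Quotient.mk s i).out ≈ j
      rw [h]
      exact h2
    exact h4
  · intro h
    have : Quotient.mk s i = Quotient.mk s j := Quotient.sound h
    show (Quotient.mk s i).out = (Quotient.mk s j).out
    rw [this]

/-- the twisting maps, as functions -/
noncomputable def delFun (hsurj : ∀ i t, ∃ f ∈ R, f i = t) (c : ι → ι) (i : ι) (t : T) : T :=
  (Classical.choose (hsurj i t)) (c i)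

theorem delFun_spec (hsurj : ∀ i t, ∃ f ∈ R, f i = t) {c : ι → ι} (hc : ∀ i, rel R i (c i))
    {f : ι → T} (hf : f ∈ R) (i : ι) : delFun R hsurj c i (f i) = f (c i) := by
  obtain ⟨hg, hgi⟩ := Classical.choose_spec (hsurj i (f i))
  exact rel_eq R (hc i) hg hf hgi

theorem delFun_mul (hsurj : ∀ i t, ∃ f ∈ R, f i = t) {c : ι → ι} (hc : ∀ i, rel R i (c i))
    (i : ι) (s t : T) :
    delFun R hsurj c i (s * t) = delFun R hsurj c i s * delFun R hsurj c i t := by
  obtain ⟨f, hf, rfl⟩ := hsurj i s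
  obtain ⟨g, hg, rfl⟩ := hsurj i t
  have h1 : f i * g i = (f * g) i := rfl
  rw [h1, delFun_spec R hsurj hc (R.mul_mem hf hg), delFun_spec R hsurj hc hf,
    delFun_spec R hsurj hc hg]
  rfl

theorem delFun_inj (hsurj : ∀ i t, ∃ f ∈ R, f i = t) {c : ι → ι} (hc : ∀ i, rel R i (c i))
    (hc' : ∀ i, rel R (c i) i) (i : ι) : Function.Injective (delFun R hsurj c i) := by
  have h := (injective_iff_map_eq_one (MonoidHom.mk' (delFun R hsurj c i)
    (delFun_mul R hsurj hc i))).mpr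
  apply h
  intro t ht
  obtain ⟨f, hf, rfl⟩ := hsurj i t
  have h2 : delFun R hsurj c i (f i) = 1 := ht
  rw [delFun_spec R hsurj hc hf] at h2
  exact hc' i f hf h2

/-- the twisting automorphisms -/
noncomputable def del (hsurj : ∀ i t, ∃ f ∈ R, f i = t) {c : ι → ι} (hc : ∀ i, rel R i (c i))
    (hc' : ∀ i, rel R (c i) i) (i : ι) : T ≃* T :=
  MulEquiv.ofBijective (MonoidHom.mk' (delFun R hsurj c i) (delFun_mul R hsurj hc i))
    ⟨delFun_inj R hsurj hc hc' i, Finite.injective_iff_surjective.mp (delFun_inj R hsurj hc hc' i)⟩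

theorem del_spec (hsurj : ∀ i t, ∃ f ∈ R, f i = t) {c : ι → ι} (hc : ∀ i, rel R i (c i))
    (hc' : ∀ i, rel R (c i) i) {f : ι → T} (hf : f ∈ R) (i : ι) :
    del R hsurj hc hc' i (f i) = f (c i) :=
  delFun_spec R hsurj hc hf i

/-- the subgroup of compatible functions -/
def Rhat (δ : ι → T ≃* T) (c : ι → ι) : Subgroup (ι → T) where
  carrier := {f | ∀ i j, c i = c j → δ i (f i) = δ j (f j)}
  one_mem' := by
    intro i j _
    simp
  mul_mem' := by
    intro f g hf hg i j h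
    simp only [Pi.mul_apply, map_mul, hf i j h, hg i j h]
  inv_mem' := by
    intro f hf i j h
    simp only [Pi.inv_apply, map_inv, hf i j h]

theorem mem_Rhat {δ : ι → T ≃* T} {c : ι → ι} {f : ι → T} :
    f ∈ Rhat δ c ↔ ∀ i j, c i = c j → δ i (f i) = δ j (f j) := Iff.rfl

theorem Rhat_inv (hRinv : ∀ γ, ∀ f ∈ R, (Θ γ).θ f ∈ R) (hsurj : ∀ i t, ∃ f ∈ R, f i = t)
    {δ : ι → T ≃* T} {c : ι → ι} (hc_iff : ∀ i j, c i = c j ↔ rel R i j)
    (hδ : ∀ f ∈ R, ∀ i, δ i (f i) = f (c i)) (γ : Γ) (f : ι → T) (hf : f ∈ Rhat δ c) :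
    (Θ γ).θ f ∈ Rhat δ c := by
  have hRle : R ≤ Rhat δ c := by
    intro r hr i j hij
    rw [hδ r hr i, hδ r hr j, hij]
  intro i' j' hij'
  obtain ⟨i, rfl⟩ := (Θ γ).σ_surj i'
  obtain ⟨j, rfl⟩ := (Θ γ).σ_surj j'
  rw [(Θ γ).θ_apply, (Θ γ).θ_apply]
  have hrel : rel R i j := rel_pull Θ R hRinv γ ((hc_iff _ _).mp hij')
  have hcij : c i = c j := (hc_iff i j).mpr hrel
  obtain ⟨r, hr, hri⟩ := hsurj i (f i)
  have h1 : δ j (r j) = δ j (f j) := by
    rw [← hf i j hcij, ← hri, hδ r hr i, hδ r hr j, hcij]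
  have hrj : r j = f j := (δ j).injective h1
  have h2 := hRle (hRinv γ r hr) ((Θ γ).σ i) ((Θ γ).σ j) hij'
  rw [(Θ γ).θ_apply, (Θ γ).θ_apply, hri, hrj] at h2
  exact h2

theorem Rhat_ne_top [IsSimpleGroup T] (hnab : ∃ a b : T, a * b ≠ b * a) {δ : ι → T ≃* T}
    {c : ι → ι} {i j : ι} (hij : i ≠ j) (hc : c i = c j) : Rhat δ c ≠ ⊤ := by
  intro h
  obtain ⟨t, ht⟩ := nontrivial_of_nab hnab
  have h1 : Pi.mulSingle i t ∈ Rhat δ c := by rw [h]; trivial
  have h2 := h1 i j hc
  rw [Pi.mulSingle_eq_same, Pi.mulSingle_eq_of_ne' hij, map_one] at h2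
  apply ht
  exact (δ i).injective (h2.trans (map_one (δ i)).symm)

/-- elements of `R` supported off a finite set, with prescribed value at `j`. -/
theorem exists_supported [IsSimpleGroup T] (hnab : ∃ a b : T, a * b ≠ b * a)
    (hsurj : ∀ i t, ∃ f ∈ R, f i = t) (hsing : ∀ i j, rel R i j → i = j) (j : ι) (S : Finset ι) :
    j ∉ S → ∀ t : T, ∃ f ∈ R, f j = t ∧ ∀ i ∈ S, f i = 1 := by
  induction S using Finset.induction_on with
  | empty =>
    intro _ t
    obtain ⟨f, hf, hft⟩ := hsurj j t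
    exact ⟨f, hf, hft, by simp⟩
  | insert i S hiS ih =>
    intro hjS
    have hji : j ≠ i := by
      intro h
      apply hjS
      rw [h]
      exact Finset.mem_insert_self i S
    have hjS' : j ∉ S := fun h => hjS (Finset.mem_insert_of_mem h)
    have ih' := ih hjS'
    have hZ : Zsub R i j = ⊤ := by
      rcases (Zsub_normal R hsurj i j).eq_bot_or_eq_top with h1 | h1
      · exfalso
        apply hji
        have hr : rel R i j := by
          intro f hf hfi
          have h2 : f j ∈ Zsub R i j := (mem_Zsub R).mpr ⟨f, hf, hfi, rfl⟩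
          rwa [h1, Subgroup.mem_bot] at h2
        exact (hsing i j hr).symm
      · exact h1
    let W : Subgroup T :=
      { carrier := {t | ∃ f ∈ R, f j = t ∧ ∀ l ∈ insert i S, f l = 1}
        one_mem' := ⟨1, R.one_mem, rfl, fun _ _ => rfl⟩
        mul_mem' := by
          rintro s t ⟨f, hf, rfl, hfS⟩ ⟨g, hg, rfl, hgS⟩
          refine ⟨f * g, R.mul_mem hf hg, rfl, ?_⟩
          intro l hl
          simp [hfS l hl, hgS l hl]
        inv_mem' := by
          rintro s ⟨f, hf, rfl, hfS⟩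
          refine ⟨f⁻¹, R.inv_mem hf, rfl, ?_⟩
          intro l hl
          simp [hfS l hl] }
    have hW : W = ⊤ := by
      rw [eq_top_iff, ← commutator_eq_top hnab, commutator_def, Subgroup.commutator_le]
      intro a _ b _
      obtain ⟨fa, hfa, hfaj, hfaS⟩ := ih' a
      have hb : b ∈ Zsub R i j := by rw [hZ]; trivial
      obtain ⟨fb, hfb, hfbi, hfbj⟩ := (mem_Zsub R).mp hb
      refine ⟨fa * fb * fa⁻¹ * fb⁻¹, ?_, ?_, ?_⟩
      · exact R.mul_mem (R.mul_mem (R.mul_mem hfa hfb) (R.inv_mem hfa)) (R.inv_mem hfb)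
      · simp [commutatorElement_def, hfaj, hfbj]
      · intro l hl
        rcases Finset.mem_insert.mp hl with rfl | hl
        · simp [hfbi]
        · simp [hfaS l hl]
    intro t
    have ht : t ∈ W := by rw [hW]; trivial
    exact ht

theorem eq_top_of_sing [IsSimpleGroup T] (hnab : ∃ a b : T, a * b ≠ b * a)
    (hsurj : ∀ i t, ∃ f ∈ R, f i = t) (hsing : ∀ i j, rel R i j → i = j) : R = ⊤ := by
  rw [eq_top_iff]
  intro x _
  apply Subgroup.pi_mem_of_mulSingle_mem
  intro j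
  obtain ⟨f, hf, hfj, hfS⟩ := exists_supported R hnab hsurj hsing j (Finset.univ.erase j)
    (Finset.notMem_erase j _) (x j)
  have : f = Pi.mulSingle j (x j) := by
    funext l
    by_cases hl : l = j
    · subst hl
      rw [Pi.mulSingle_eq_same, hfj]
    · rw [Pi.mulSingle_eq_of_ne hl]
      exact hfS l (Finset.mem_erase.mpr ⟨hl, Finset.mem_univ l⟩)
  rw [← this]
  exact hf

theorem card_class_le (hRinv : ∀ γ, ∀ f ∈ R, (Θ γ).θ f ∈ R)
    (htrans : ∀ i j, ∃ γ, (Θ γ).σ i = j) {c : ι → ι} (hc_iff : ∀ i j, c i = c j ↔ rel R i j)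
    (j j' : ι) : Nat.card {i // c i = c j'} ≤ Nat.card {i // c i = c j} := by
  obtain ⟨γ, hγ⟩ := htrans j j'
  have hbij : Function.Bijective (Θ γ).σ :=
    ⟨Finite.injective_iff_surjective.mpr (Θ γ).σ_surj, (Θ γ).σ_surj⟩
  let τ := (Equiv.ofBijective _ hbij).symm
  have hτ : ∀ l, (Θ γ).σ (τ l) = l := fun l => Equiv.ofBijective_apply_symm_apply _ hbij l
  have key : ∀ x : {i // c i = c j'}, c (τ x.1) = c j := by
    intro x
    have h1 : rel R j' x.1 := (hc_iff _ _).mp x.2.symm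
    have h2 : rel R ((Θ γ).σ j) ((Θ γ).σ (τ x.1)) := by
      rw [hγ, hτ]
      exact h1
    exact ((hc_iff _ _).mpr (rel_pull Θ R hRinv γ h2)).symm
  apply Nat.card_le_card_of_injective (fun x : {i // c i = c j'} =>
    (⟨τ x.1, key x⟩ : {i // c i = c j}))
  intro x y hxy
  have h1 : τ x.1 = τ y.1 := congrArg Subtype.val hxy
  exact Subtype.ext (τ.injective h1)

/-- **O'Nan–Scott core, product form.** -/
theorem core [IsSimpleGroup T] (hnab : ∃ a b : T, a * b ≠ b * a)
    (htrans : ∀ i j, ∃ γ, (Θ γ).σ i = j)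
    (hRinv : ∀ γ, ∀ f ∈ R, (Θ γ).θ f ∈ R) (hRtop : R ≠ ⊤)
    (hmax : ∀ X : Subgroup (ι → T), R ≤ X → (∀ γ, ∀ f ∈ X, (Θ γ).θ f ∈ X) → X = R ∨ X = ⊤) :
    (∃ K : ι → Subgroup T, (∀ i, K i ≠ ⊤) ∧ ∀ f, f ∈ R ↔ ∀ i, f i ∈ K i) ∨
    (∃ (δ : ι → T ≃* T) (k : ℕ) (c : ι → ι), 2 ≤ k ∧
      (∀ j, Nat.card {i // c i = j} = k ∨ Nat.card {i // c i = j} = 0) ∧
      ∀ f, f ∈ R ↔ ∀ i j, c i = c j → δ i (f i) = δ j (f j)) := by
  by_cases h : ∃ i, proj R i ≠ ⊤
  · left
    exact case_one Θ R hRinv htrans hmax h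
  · right
    push Not at h
    have hsurj : ∀ i t, ∃ f ∈ R, f i = t := by
      intro i t
      have h1 : t ∈ proj R i := by rw [h i]; trivial
      exact mem_proj.mp h1
    obtain ⟨c, hc, hc_iff⟩ := exists_rep R hnab hsurj
    have hc' : ∀ i, rel R (c i) i := fun i => rel_symm R hnab hsurj (hc i)
    have hcc : ∀ i, c (c i) = c i := fun i => (hc_iff (c i) i).mpr (hc' i)
    let δ : ι → T ≃* T := del R hsurj hc hc'
    have hδ : ∀ f ∈ R, ∀ i, δ i (f i) = f (c i) := fun f hf i => del_spec R hsurj hc hc' hf i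
    have hRle : R ≤ Rhat δ c := by
      intro r hr i j hij
      rw [hδ r hr i, hδ r hr j, hij]
    by_cases hsing : ∀ i j, rel R i j → i = j
    · exact absurd (eq_top_of_sing R hnab hsurj hsing) hRtop
    · push Not at hsing
      obtain ⟨i0, j0, hr0, hne0⟩ := hsing
      have hRhat : Rhat δ c = R := by
        rcases hmax (Rhat δ c) hRle (Rhat_inv Θ R hRinv hsurj hc_iff hδ) with h1 | h1
        · exact h1
        · exact absurd h1 (Rhat_ne_top hnab hne0 ((hc_iff _ _).mpr hr0))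
      have hsize : ∀ j, Nat.card {i // c i = c j} = Nat.card {i // c i = c i0} := fun j =>
        le_antisymm (card_class_le Θ R hRinv htrans hc_iff i0 j)
          (card_class_le Θ R hRinv htrans hc_iff j i0)
      refine ⟨δ, Nat.card {i // c i = c i0}, c, ?_, ?_, ?_⟩
      · have hnt : Nontrivial {i // c i = c i0} := by
          refine ⟨⟨⟨i0, rfl⟩, ⟨j0, ((hc_iff _ _).mpr hr0).symm⟩, ?_⟩⟩
          intro heq
          exact hne0 (congrArg Subtype.val heq)
        exact Finite.one_lt_card_iff_nontrivial.mpr hnt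
      · intro j
        by_cases hj : c j = j
        · left
          have h1 : Nat.card {i // c i = j} = Nat.card {i // c i = c j} := by rw [hj]
          rw [h1, hsize j]
        · right
          rw [Nat.card_eq_zero]
          left
          constructor
          rintro ⟨i, hi⟩
          apply hj
          rw [← hi, hcc]
      · intro f
        rw [← hRhat]
        exact mem_Rhat

end Core

end Cfsg.Agent.Lib.Helper25.ONanScott
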