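import Mathlib
import Cfsg.Agent.Lib.Helper25.ONanScottCore

/-!
# O'Nan–Scott core, internal decomposition of a non-abelian minimal normal subgroup
(helper25 library)

For a non-abelian minimal normal subgroup `N` of a finite group `H` we study the set of minimal
`N`-normal subgroups `T ≤ N`: they are simple, non-abelian, commute pairwise, are independent, have
join `N`, are permuted by conjugation, transitively so by any `K` with `N ⊔ K = ⊤`.
-/

set_option autoImplicit false

namespace Cfsg.Agent.Lib.Helper25.ONanScott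

section Internal

variable {H : Type*} [Group H]

/-- `X` is normalized by `A` (elementwise form). -/
def NormBy (A X : Subgroup H) : Prop := ∀ a ∈ A, ∀ x ∈ X, a * x * a⁻¹ ∈ X

/-- `T` is a minimal nontrivial subgroup of `N` normalized by `N`. -/
def MinN (N T : Subgroup H) : Prop :=
  T ≠ ⊥ ∧ T ≤ N ∧ NormBy N T ∧ ∀ X : Subgroup H, X ≠ ⊥ → X ≤ T → NormBy N X → X = T

/-- conjugate of a subgroup. -/
def cj (h : H) (T : Subgroup H) : Subgroup H := T.map (MulAut.conj h).toMonoidHom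

theorem mem_cj {h : H} {T : Subgroup H} {x : H} : x ∈ cj h T ↔ h⁻¹ * x * h ∈ T := by
  unfold cj
  rw [Subgroup.mem_map_equiv, MulAut.conj_symm_apply]

theorem conj_mem_cj {h : H} {T : Subgroup H} {x : H} (hx : x ∈ T) : h * x * h⁻¹ ∈ cj h T := by
  rw [mem_cj]
  have : h⁻¹ * (h * x * h⁻¹) * h = x := by group
  rw [this]
  exact hx

theorem cj_cj (g h : H) (T : Subgroup H) : cj g (cj h T) = cj (g * h) T := by
  ext x
  rw [mem_cj, mem_cj, mem_cj]
  have : h⁻¹ * (g⁻¹ * x * g) * h = (g * h)⁻¹ * x * (g * h) := by group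
  rw [this]

theorem cj_one (T : Subgroup H) : cj 1 T = T := by
  ext x
  rw [mem_cj]
  simp

theorem cj_inv_cj (h : H) (T : Subgroup H) : cj h⁻¹ (cj h T) = T := by
  rw [cj_cj, inv_mul_cancel, cj_one]

theorem cj_cj_inv (h : H) (T : Subgroup H) : cj h (cj h⁻¹ T) = T := by
  rw [cj_cj, mul_inv_cancel, cj_one]

theorem cj_ne_bot {h : H} {T : Subgroup H} (hT : T ≠ ⊥) : cj h T ≠ ⊥ := by
  intro hb
  apply hT
  unfold cj at hb
  exact (Subgroup.map_eq_bot_iff_of_injective T (MulAut.conj h).injective).mp hb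

theorem cj_mono {h : H} {S T : Subgroup H} (hST : S ≤ T) : cj h S ≤ cj h T :=
  Subgroup.map_mono hST

theorem cj_injective (h : H) {S T : Subgroup H} (hST : cj h S = cj h T) : S = T := by
  have := congrArg (cj h⁻¹) hST
  rwa [cj_inv_cj, cj_inv_cj] at this

theorem cj_iSup {ι : Sort*} (h : H) (X : ι → Subgroup H) : cj h (⨆ i, X i) = ⨆ i, cj h (X i) := by
  unfold cj
  rw [Subgroup.map_iSup]

theorem normBy_inf {A X Y : Subgroup H} (hX : NormBy A X) (hY : NormBy A Y) : NormBy A (X ⊓ Y) :=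
  fun a ha x hx => ⟨hX a ha x hx.1, hY a ha x hx.2⟩

theorem normBy_iff_cj_le {A X : Subgroup H} : NormBy A X ↔ ∀ a ∈ A, cj a X ≤ X := by
  constructor
  · intro h a ha x hx
    rw [mem_cj] at hx
    have h1 := h a ha _ hx
    have : a * (a⁻¹ * x * a) * a⁻¹ = x := by group
    rwa [this] at h1
  · intro h a ha x hx
    exact h a ha (conj_mem_cj hx)

theorem normBy_iSup {ι : Sort*} {A : Subgroup H} {X : ι → Subgroup H} (hX : ∀ i, NormBy A (X i)) :
    NormBy A (⨆ i, X i) := by
  rw [normBy_iff_cj_le]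
  intro a ha
  rw [cj_iSup]
  exact iSup_mono fun i => (normBy_iff_cj_le.mp (hX i)) a ha

theorem normBy_le_normalizer {A X : Subgroup H} (h : NormBy A X) :
    A ≤ Subgroup.normalizer (X : Set H) :=
  Subgroup.le_normalizer_iff.mpr h

theorem normBy_of_le_normalizer {A X : Subgroup H} (h : A ≤ Subgroup.normalizer (X : Set H)) :
    NormBy A X :=
  Subgroup.le_normalizer_iff.mp h

theorem normBy_of_le_centralizer {A X : Subgroup H} (h : A ≤ Subgroup.centralizer (X : Set H)) :
    NormBy A X := by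
  intro a ha x hx
  have h1 := (Subgroup.mem_centralizer_iff.mp (h ha)) x hx
  have : a * x * a⁻¹ = x := by rw [← h1, mul_inv_cancel_right]
  rw [this]
  exact hx

section MinN

variable {N : Subgroup H}

theorem MinN.inf_eq_bot {T T' : Subgroup H} (hT : MinN N T) (hT' : MinN N T') (hne : T ≠ T') :
    T ⊓ T' = ⊥ := by
  by_contra h
  have h1 := hT.2.2.2 (T ⊓ T') h inf_le_left (normBy_inf hT.2.2.1 hT'.2.2.1)
  have h2 := hT'.2.2.2 (T ⊓ T') h inf_le_right (normBy_inf hT.2.2.1 hT'.2.2.1)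
  exact hne (h1.symm.trans h2)

theorem MinN.commute {T T' : Subgroup H} (hT : MinN N T) (hT' : MinN N T') (hne : T ≠ T')
    {t t' : H} (ht : t ∈ T) (ht' : t' ∈ T') : t * t' = t' * t := by
  have h1 : t * t' * t⁻¹ * t'⁻¹ ∈ T ⊓ T' := by
    constructor
    · have h2 : t' * t⁻¹ * t'⁻¹ ∈ T := hT.2.2.1 t' (hT'.2.1 ht') t⁻¹ (T.inv_mem ht)
      have h3 : t * t' * t⁻¹ * t'⁻¹ = t * (t' * t⁻¹ * t'⁻¹) := by group
      rw [h3]
      exact T.mul_mem ht h2
    · have h2 : t * t' * t⁻¹ ∈ T' := hT'.2.2.1 t (hT.2.1 ht) t' ht'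
      exact T'.mul_mem h2 (T'.inv_mem ht')
  rw [hT.inf_eq_bot hT' hne, Subgroup.mem_bot] at h1
  have h4 : t * t' = (t * t' * t⁻¹ * t'⁻¹) * (t' * t) := by group
  rw [h4, h1, one_mul]

theorem MinN.le_centralizer {T T' : Subgroup H} (hT : MinN N T) (hT' : MinN N T') (hne : T ≠ T') :
    T ≤ Subgroup.centralizer (T' : Set H) := by
  intro t ht
  rw [Subgroup.mem_centralizer_iff]
  intro t' ht'
  exact (hT.commute hT' hne ht ht').symm

theorem MinN.conj [hN : N.Normal] (h : H) {T : Subgroup H} (hT : MinN N T) : MinN N (cj h T) := by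
  refine ⟨cj_ne_bot hT.1, ?_, ?_, ?_⟩
  · intro x hx
    rw [mem_cj] at hx
    have h1 := hN.conj_mem _ (hT.2.1 hx) h
    have : h * (h⁻¹ * x * h) * h⁻¹ = x := by group
    rwa [this] at h1
  · intro n hn x hx
    rw [mem_cj] at hx ⊢
    have h1 : h⁻¹ * n * h ∈ N := by
      have := hN.conj_mem n hn h⁻¹
      rwa [inv_inv] at this
    have h2 := hT.2.2.1 _ h1 _ hx
    have : h⁻¹ * (n * x * n⁻¹) * h = h⁻¹ * n * h * (h⁻¹ * x * h) * (h⁻¹ * n * h)⁻¹ := by group
    rw [this]
    exact h2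
  · intro X hX hXle hXn
    have h1 : cj h⁻¹ X ≤ T := by
      have := cj_mono (h := h⁻¹) hXle
      rwa [cj_inv_cj] at this
    have h2 : NormBy N (cj h⁻¹ X) := by
      intro n hn x hx
      rw [mem_cj] at hx ⊢
      simp only [inv_inv] at hx ⊢
      have h3 : h * n * h⁻¹ ∈ N := hN.conj_mem n hn h
      have h4 := hXn _ h3 _ hx
      have : h * (n * x * n⁻¹) * h⁻¹ = h * n * h⁻¹ * (h * x * h⁻¹) * (h * n * h⁻¹)⁻¹ := by group
      rw [this]
      exact h4
    have h3 := hT.2.2.2 _ (cj_ne_bot hX) h1 h2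
    rw [← h3, cj_cj_inv]

end MinN

section Structure

variable [Finite H] {N : Subgroup H}

theorem exists_minN (hNb : N ≠ ⊥) : ∃ T, MinN N T := by
  let S : Set (Subgroup H) := {X | X ≠ ⊥ ∧ X ≤ N ∧ NormBy N X}
  have hne : S.Nonempty :=
    ⟨N, hNb, le_rfl, fun n hn x hx => N.mul_mem (N.mul_mem hn hx) (N.inv_mem hn)⟩
  obtain ⟨T, hT, hmin⟩ := wellFounded_lt.has_min S hne
  refine ⟨T, hT.1, hT.2.1, hT.2.2, ?_⟩
  intro X hX hXT hXn
  by_contra hne'
  exact hmin X ⟨hX, hXT.trans hT.2.1, hXn⟩ (lt_of_le_of_ne hXT hne')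

/-- the type of minimal `N`-normal subgroups -/
abbrev MinSub (N : Subgroup H) := {T : Subgroup H // MinN N T}

theorem normal_of_cj_le {J : Subgroup H} (h : ∀ g : H, cj g J ≤ J) : J.Normal :=
  ⟨fun _ hx g => h g (conj_mem_cj hx)⟩

variable [hN : N.Normal]

theorem MinN.nonabelian (hminH : ∀ M : Subgroup H, M.Normal → M ≤ N → M = ⊥ ∨ M = N)
    (hnab : ∃ x ∈ N, ∃ y ∈ N, x * y ≠ y * x) {T : Subgroup H} (hT : MinN N T) :
    ∃ a ∈ T, ∃ b ∈ T, a * b ≠ b * a := by
  by_contra hab
  push Not at hab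
  let J : Subgroup H := ⨆ h : H, cj h T
  have hJn : J.Normal := normal_of_cj_le (fun g => by
    rw [cj_iSup]
    exact iSup_le fun h => by
      rw [cj_cj]
      exact le_iSup (fun h => cj h T) (g * h))
  have hJN : J ≤ N := iSup_le fun h => (hT.conj h).2.1
  have hJb : J ≠ ⊥ := by
    intro hb
    apply hT.1
    rw [eq_bot_iff, ← hb]
    have := le_iSup (fun h => cj h T) 1
    rwa [cj_one] at this
  have hJeq : J = N := (hminH J hJn hJN).resolve_left hJb
  have hpair : ∀ h h' : H, cj h T ≤ Subgroup.centralizer (cj h' T : Set H) := by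
    intro h h'
    by_cases heq : cj h T = cj h' T
    · rw [← heq]
      intro x hx
      rw [Subgroup.mem_centralizer_iff]
      intro y hy
      rw [SetLike.mem_coe, mem_cj] at hy
      rw [mem_cj] at hx
      have h0 := hab _ hy _ hx
      have h1 : y * x = h * ((h⁻¹ * y * h) * (h⁻¹ * x * h)) * h⁻¹ := by group
      have h2 : x * y = h * ((h⁻¹ * x * h) * (h⁻¹ * y * h)) * h⁻¹ := by group
      rw [h1, h2, h0]
    · exact (hT.conj h).le_centralizer (hT.conj h') heq
  have hJc : J ≤ Subgroup.centralizer (J : Set H) := by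
    have h1 : ∀ h', J ≤ Subgroup.centralizer (cj h' T : Set H) := fun h' =>
      iSup_le fun h => hpair h h'
    have h2 : ∀ h', cj h' T ≤ Subgroup.centralizer (J : Set H) := fun h' =>
      Subgroup.le_centralizer_iff.mp (h1 h')
    exact iSup_le h2
  obtain ⟨x, hx, y, hy, hxy⟩ := hnab
  apply hxy
  rw [← hJeq] at hx hy
  exact (Subgroup.mem_centralizer_iff.mp (hJc hy)) x hx

theorem iSup_minSub (hminH : ∀ M : Subgroup H, M.Normal → M ≤ N → M = ⊥ ∨ M = N) (hNb : N ≠ ⊥) :
    (⨆ T : MinSub N, T.1) = N := by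
  have hJn : (⨆ T : MinSub N, T.1).Normal := normal_of_cj_le (fun g => by
    rw [cj_iSup]
    exact iSup_le fun T => le_iSup (fun T : MinSub N => T.1) ⟨cj g T.1, T.2.conj g⟩)
  have hJN : (⨆ T : MinSub N, T.1) ≤ N := iSup_le fun T => T.2.2.1
  have hJb : (⨆ T : MinSub N, T.1) ≠ ⊥ := by
    obtain ⟨T, hT⟩ := exists_minN hNb
    intro hb
    apply hT.1
    rw [eq_bot_iff, ← hb]
    exact le_iSup (fun T : MinSub N => T.1) ⟨T, hT⟩
  exact (hminH _ hJn hJN).resolve_left hJb

theorem indep_minSub (hminH : ∀ M : Subgroup H, M.Normal → M ≤ N → M = ⊥ ∨ M = N)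
    (hnab : ∃ x ∈ N, ∃ y ∈ N, x * y ≠ y * x) : iSupIndep (fun T : MinSub N => T.1) := by
  intro T
  rw [disjoint_iff]
  by_contra hne
  have hDn : NormBy N (⨆ (T' : MinSub N) (_ : T' ≠ T), T'.1) :=
    normBy_iSup fun T' => normBy_iSup fun _ => T'.2.2.2.1
  have h1 := T.2.2.2.2 _ hne inf_le_left (normBy_inf T.2.2.2.1 hDn)
  have hTD : T.1 ≤ ⨆ (T' : MinSub N) (_ : T' ≠ T), T'.1 := by
    rw [← h1]
    exact inf_le_right
  have hTc : (⨆ (T' : MinSub N) (_ : T' ≠ T), T'.1) ≤ Subgroup.centralizer (T.1 : Set H) :=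
    iSup_le fun T' => iSup_le fun hne' =>
      T'.2.le_centralizer T.2 (fun h => hne' (Subtype.ext h))
  obtain ⟨a, ha, b, hb, hab⟩ := T.2.nonabelian hminH hnab
  apply hab
  exact (Subgroup.mem_centralizer_iff.mp (hTc (hTD hb))) a ha

theorem exists_cj_eq (hminH : ∀ M : Subgroup H, M.Normal → M ≤ N → M = ⊥ ∨ M = N)
    (hnab : ∃ x ∈ N, ∃ y ∈ N, x * y ≠ y * x) {K : Subgroup H} (hsup : N ⊔ K = ⊤)
    (T T' : MinSub N) : ∃ k ∈ K, cj k T.1 = T'.1 := by
  by_contra hcon
  push Not at hcon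
  let J : Subgroup H := ⨆ k : K, cj (k : H) T.1
  have hJN' : NormBy N J := normBy_iSup fun k => (T.2.conj (k : H)).2.2.1
  have hJK : NormBy K J := by
    rw [normBy_iff_cj_le]
    intro a ha
    rw [cj_iSup]
    exact iSup_le fun k => by
      rw [cj_cj]
      exact le_iSup (fun k : K => cj (k : H) T.1) (⟨a, ha⟩ * k)
  have hJn : J.Normal := by
    rw [← Subgroup.normalizer_eq_top_iff, eq_top_iff, ← hsup]
    exact sup_le (normBy_le_normalizer hJN') (normBy_le_normalizer hJK)
  have hJN : J ≤ N := iSup_le fun k => (T.2.conj (k : H)).2.1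
  have hJb : J ≠ ⊥ := by
    intro hb
    apply T.2.1
    rw [eq_bot_iff, ← hb]
    have := le_iSup (fun k : K => cj (k : H) T.1) 1
    simpa [cj_one] using this
  have hJeq : J = N := (hminH J hJn hJN).resolve_left hJb
  have h1 : J ≤ Subgroup.centralizer (T'.1 : Set H) :=
    iSup_le fun k => (T.2.conj (k : H)).le_centralizer T'.2 (hcon k k.2)
  obtain ⟨a, ha, b, hb, hab⟩ := T'.2.nonabelian hminH hnab
  apply hab
  have hbJ : b ∈ J := by
    rw [hJeq]
    exact T'.2.2.1 hb
  exact (Subgroup.mem_centralizer_iff.mp (h1 hbJ)) a ha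

theorem isSimple_minSub (hminH : ∀ M : Subgroup H, M.Normal → M ≤ N → M = ⊥ ∨ M = N)
    (hNb : N ≠ ⊥) (T : MinSub N) : IsSimpleGroup T.1 := by
  rw [Subgroup.isSimpleGroup_iff]
  refine ⟨T.2.1, ?_⟩
  intro X hXT hXn
  by_cases hX : X = ⊥
  · left
    exact hX
  · right
    apply T.2.2.2.2 X hX hXT
    apply normBy_of_le_normalizer
    rw [← iSup_minSub hminH hNb]
    apply iSup_le
    intro T'
    by_cases heq : T' = T
    · subst heq
      rw [Subgroup.le_normalizer_iff]
      intro t ht x hx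
      have := hXn.conj_mem ⟨x, hXT hx⟩ (Subgroup.mem_subgroupOf.mpr hx) ⟨t, ht⟩
      exact Subgroup.mem_subgroupOf.mp this
    · apply normBy_le_normalizer
      apply normBy_of_le_centralizer
      exact (T'.2.le_centralizer T.2 (fun h => heq (Subtype.ext h))).trans
        (Subgroup.centralizer_le (SetLike.coe_subset_coe.mpr hXT))

end Structure

section Construction

variable [Finite H] {N : Subgroup H} [hN : N.Normal]

/-- **Internal structure theorem.** A non-abelian minimal normal subgroup `N` of a finite group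
`H` is identified with a power `T0 ^ m` of a simple non-abelian group in such a way that every
element of a subgroup `K` with `N ⊔ K = ⊤` acts by conjugation as a monomial map, transitively on
the coordinates. -/
theorem internal (hminH : ∀ M : Subgroup H, M.Normal → M ≤ N → M = ⊥ ∨ M = N) (hNb : N ≠ ⊥)
    (hnab : ∃ x ∈ N, ∃ y ∈ N, x * y ≠ y * x) {K : Subgroup H} (hsup : N ⊔ K = ⊤) :
    ∃ (T0 : Subgroup H) (m : ℕ) (e0 : N ≃* (Fin m → T0)) (Θ : K → MonoMap (Fin m) T0),
      IsSimpleGroup T0 ∧ (∃ a b : T0, a * b ≠ b * a) ∧ 0 < m ∧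
      (∀ i j, ∃ k, (Θ k).σ i = j) ∧
      ∀ (k : K) (n : N), (Θ k).θ (e0 n) = e0 (MulAut.conjNormal (k : H) n) := by
  classical
  obtain ⟨T0', hT0'⟩ := exists_minN hNb
  let T0 : MinSub N := ⟨T0', hT0'⟩
  haveI : Nonempty (MinSub N) := ⟨T0⟩
  let m := Nat.card (MinSub N)
  let ε : MinSub N ≃ Fin m := Finite.equivFin _
  let Tf : Fin m → Subgroup H := fun i => (ε.symm i).1
  have hTf : ∀ i, MinN N (Tf i) := fun i => (ε.symm i).2
  have hTf_inj : Function.Injective Tf := fun i j h => ε.symm.injective (Subtype.ext h)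
  have hh : ∀ i, ∃ g : H, cj g T0.1 = Tf i := fun i => by
    obtain ⟨k, _, hk⟩ := exists_cj_eq hminH hnab hsup T0 (ε.symm i)
    exact ⟨k, hk⟩
  choose g hg using hh
  let ψ : (i : Fin m) → (T0.1 →* H) := fun i =>
    ((MulAut.conj (g i)).toMonoidHom).comp T0.1.subtype
  have hψ_range : ∀ i, (ψ i).range = Tf i := by
    intro i
    rw [MonoidHom.range_comp, Subgroup.range_subtype]
    exact hg i
  have hψ_inj : ∀ i, Function.Injective (ψ i) := fun i =>
    (MulAut.conj (g i)).injective.comp Subtype.val_injective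
  have hψ_mem : ∀ i t, ψ i t ∈ Tf i := fun i t => by
    rw [← hψ_range]
    exact ⟨t, rfl⟩
  have hcomm : Pairwise fun i j => ∀ x y, Commute (ψ i x) (ψ j y) := by
    intro i j hij x y
    exact (hTf i).commute (hTf j) (fun h => hij (hTf_inj h)) (hψ_mem i x) (hψ_mem j y)
  let Ψ : (Fin m → T0.1) →* H := MonoidHom.noncommPiCoprod ψ hcomm
  have hΨ_single : ∀ i t, Ψ (Pi.mulSingle i t) = ψ i t := fun i t =>
    MonoidHom.noncommPiCoprod_mulSingle (N := fun _ => T0.1) ψ i t
  have hfun : (fun i => (ψ i).range) = fun i => Tf i := funext hψ_range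
  have hΨ_inj : Function.Injective Ψ := by
    apply MonoidHom.injective_noncommPiCoprod_of_iSupIndep _ _ hψ_inj
    have h1 : iSupIndep (fun i => Tf i) := (indep_minSub hminH hnab).comp ε.symm.injective
    rw [hfun]
    exact h1
  have hΨ_range : Ψ.range = N := by
    have h1 : Ψ.range = ⨆ i, (ψ i).range := MonoidHom.noncommPiCoprod_range _
    have h2 : (⨆ i, (ψ i).range) = ⨆ i, Tf i := by
      rw [hfun]
    have h3 : (⨆ i, Tf i) = ⨆ T : MinSub N, T.1 :=
      ε.symm.surjective.iSup_comp (fun T : MinSub N => T.1)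
    exact h1.trans (h2.trans (h3.trans (iSup_minSub hminH hNb)))
  let e0 : N ≃* (Fin m → T0.1) :=
    ((MonoidHom.ofInjective hΨ_inj).trans (MulEquiv.subgroupCongr hΨ_range)).symm
  have he0_symm : ∀ f, ((e0.symm f : N) : H) = Ψ f := fun f => rfl
  have he0 : ∀ (n : N) f, (n : H) = Ψ f → e0 n = f := by
    intro n f h
    have h1 : n = e0.symm f := Subtype.ext (h.trans (he0_symm f).symm)
    rw [h1, MulEquiv.apply_symm_apply]
  -- the permutation
  let σ : K → Fin m → Fin m := fun k i => ε ⟨cj (k : H) (Tf i), (hTf i).conj (k : H)⟩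
  have hσ : ∀ k i, Tf (σ k i) = cj (k : H) (Tf i) := by
    intro k i
    show (ε.symm (ε ⟨cj (k : H) (Tf i), (hTf i).conj (k : H)⟩)).1 = _
    rw [Equiv.symm_apply_apply]
  have hσ_inj : ∀ k, Function.Injective (σ k) := by
    intro k i j hij
    have h1 : cj (k : H) (Tf i) = cj (k : H) (Tf j) := by rw [← hσ, ← hσ, hij]
    exact hTf_inj (cj_injective _ h1)
  -- the maps
  let θ : K → (Fin m → T0.1) ≃* (Fin m → T0.1) := fun k =>
    (e0.symm.trans (MulAut.conjNormal (k : H))).trans e0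
  have hθ_def : ∀ k f, θ k f = e0 (MulAut.conjNormal (k : H) (e0.symm f)) := fun k f => rfl
  have hθ_single : ∀ k j t, ∃ t', θ k (Pi.mulSingle j t) = Pi.mulSingle (σ k j) t' := by
    intro k j t
    have h1 : ((MulAut.conjNormal (k : H) (e0.symm (Pi.mulSingle j t)) : N) : H) ∈
        (ψ (σ k j)).range := by
      rw [hψ_range, hσ, MulAut.conjNormal_apply, he0_symm, hΨ_single]
      exact conj_mem_cj (hψ_mem j t)
    obtain ⟨t', ht'⟩ := h1
    refine ⟨t', ?_⟩
    rw [hθ_def]
    apply he0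
    rw [hΨ_single, ht']
  let β : K → Fin m → T0.1 → T0.1 := fun k i t => θ k (Pi.mulSingle i t) (σ k i)
  have hθ_single' : ∀ k j t, θ k (Pi.mulSingle j t) = Pi.mulSingle (σ k j) (β k j t) := by
    intro k j t
    obtain ⟨t', ht'⟩ := hθ_single k j t
    have h1 : β k j t = t' := by
      show θ k (Pi.mulSingle j t) (σ k j) = t'
      rw [ht', Pi.mulSingle_eq_same]
    rw [h1, ht']
  have hβ_one : ∀ k i, β k i 1 = 1 := by
    intro k i
    show θ k (Pi.mulSingle i 1) (σ k i) = 1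
    rw [Pi.mulSingle_one, map_one]
    rfl
  have hβ_inj : ∀ k i, Function.Injective (β k i) := by
    intro k i t t' htt'
    have h1 : θ k (Pi.mulSingle i t) = θ k (Pi.mulSingle i t') := by
      rw [hθ_single', hθ_single', htt']
    exact Pi.mulSingle_injective i ((θ k).injective h1)
  have hθ_apply : ∀ k f i, θ k f (σ k i) = β k i (f i) := by
    intro k f i
    let A : (Fin m → T0.1) →* T0.1 :=
      (Pi.evalMonoidHom (fun _ => T0.1) (σ k i)).comp (θ k).toMonoidHom
    let B : (Fin m → T0.1) →* T0.1 :=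
      A.comp ((MonoidHom.mulSingle (fun _ => T0.1) i).comp (Pi.evalMonoidHom (fun _ => T0.1) i))
    have hAB : A = B := by
      apply MonoidHom.pi_ext
      intro j t
      show θ k (Pi.mulSingle j t) (σ k i) =
        θ k (Pi.mulSingle i ((Pi.mulSingle j t : Fin m → T0.1) i)) (σ k i)
      by_cases hji : j = i
      · subst hji
        rw [Pi.mulSingle_eq_same]
      · have hij : i ≠ j := fun h => hji h.symm
        rw [Pi.mulSingle_eq_of_ne hij, Pi.mulSingle_one, map_one, hθ_single',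
          Pi.mulSingle_eq_of_ne (fun h => hij (hσ_inj k h))]
        rfl
    have h1 : A f = B f := by rw [hAB]
    exact h1
  let Θ : K → MonoMap (Fin m) T0.1 := fun k =>
    { θ := fun f => θ k f
      σ := σ k
      β := β k
      σ_surj := Finite.injective_iff_surjective.mp (hσ_inj k)
      β_inj := hβ_inj k
      β_one := hβ_one k
      θ_apply := hθ_apply k }
  refine ⟨T0.1, m, e0, Θ, isSimple_minSub hminH hNb T0, ?_, Nat.card_pos, ?_, ?_⟩
  · obtain ⟨a, ha, b, hb, hab⟩ := T0.2.nonabelian hminH hnab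
    refine ⟨⟨a, ha⟩, ⟨b, hb⟩, ?_⟩
    intro h
    exact hab (congrArg Subtype.val h)
  · intro i j
    obtain ⟨k, hk, hkT⟩ := exists_cj_eq hminH hnab hsup (ε.symm i) (ε.symm j)
    refine ⟨⟨k, hk⟩, ?_⟩
    apply hTf_inj
    rw [hσ]
    exact hkT
  · intro k n
    show θ k (e0 n) = _
    rw [hθ_def, MulEquiv.symm_apply_apply]

end Construction

end Internal

end Cfsg.Agent.Lib.Helper25.ONanScott
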