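import Mathlib
import Cfsg.Agent.Lib.Helper25.ONanScottInternal

/-!
# O'Nan–Scott core, assembled (helper25 library)
-/

set_option autoImplicit false

namespace Cfsg.Agent.Lib.Helper25.ONanScott

/-- A fresh carrier type in `Type` with no algebraic instances. -/
structure Carrier0 (n : ℕ) : Type where
  val : Fin n

/-- the obvious equivalence -/
def Carrier0.equivFin (n : ℕ) : Carrier0 n ≃ Fin n where
  toFun x := x.val
  invFun i := ⟨i⟩
  left_inv _ := rfl
  right_inv _ := rfl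

/-- every finite group has a copy in `Type`. -/
theorem exists_type0_copy (G : Type*) [Group G] [Finite G] :
    ∃ (T : Type) (_ : Group T), Nonempty (G ≃* T) := by
  let n := Nat.card G
  let e₀ : Carrier0 n ≃ G := (Carrier0.equivFin n).trans (Finite.equivFin G).symm
  letI grp : Group (Carrier0 n) := e₀.group
  exact ⟨Carrier0 n, grp, ⟨e₀.mulEquiv.symm⟩⟩

/-- **O'Nan–Scott core**, abstract form: `N` a non-abelian minimal normal subgroup of the finite
group `H`, `K` a subgroup with `N ⊔ K = ⊤`, `N ≰ K`, such that `K ⊓ N` is maximal among the proper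
`K`-invariant subgroups of `N`. -/
theorem main {H : Type*} [Group H] [Finite H] (N : Subgroup H) [N.Normal] (hNb : N ≠ ⊥)
    (hminH : ∀ M : Subgroup H, M.Normal → M ≤ N → M = ⊥ ∨ M = N)
    (hnab : ∃ x ∈ N, ∃ y ∈ N, x * y ≠ y * x) (K : Subgroup H) (hsup : N ⊔ K = ⊤)
    (hNK : ¬ N ≤ K)
    (hmaxK : ∀ X : Subgroup H, X ≤ N → K ⊓ N ≤ X → K ≤ Subgroup.normalizer (X : Set H) →
      X = K ⊓ N ∨ X = N) :
    ∃ (T : Type) (_ : Group T) (m : ℕ) (e : N ≃* (Fin m → T)), IsSimpleGroup T ∧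
      ¬ IsMulCommutative T ∧ 0 < m ∧
      ((∃ Ks : Fin m → Subgroup T, (∀ i, Ks i ≠ ⊤) ∧
          ∀ n : N, (n : H) ∈ K ↔ ∀ i, e n i ∈ Ks i) ∨
       (∃ (k : ℕ) (c : Fin m → Fin m), 2 ≤ k ∧
          (∀ j : Fin m, Nat.card {i : Fin m // c i = j} = k ∨
            Nat.card {i : Fin m // c i = j} = 0) ∧
          ∀ n : N, (n : H) ∈ K ↔ ∀ i j : Fin m, c i = c j → e n i = e n j)) := by
  classical
  obtain ⟨T0, m, e0, Θ, hsimple, hnabT, hm, htrans, hΘ⟩ := internal hminH hNb hnab hsup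
  let R : Subgroup (Fin m → T0) := (K.subgroupOf N).map e0.toMonoidHom
  have hmemR : ∀ n : N, e0 n ∈ R ↔ (n : H) ∈ K := by
    intro n
    show e0.toMonoidHom n ∈ (K.subgroupOf N).map e0.toMonoidHom ↔ _
    rw [Subgroup.mem_map_iff_mem e0.injective, Subgroup.mem_subgroupOf]
  have hmemR' : ∀ f, f ∈ R ↔ ((e0.symm f : N) : H) ∈ K := by
    intro f
    rw [← hmemR, MulEquiv.apply_symm_apply]
  have hRinv : ∀ k, ∀ f ∈ R, (Θ k).θ f ∈ R := by
    intro k f hf
    have h1 : f = e0 (e0.symm f) := (MulEquiv.apply_symm_apply e0 f).symm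
    rw [h1, hΘ, hmemR, MulAut.conjNormal_apply]
    exact K.mul_mem (K.mul_mem k.2 ((hmemR' f).mp hf)) (K.inv_mem k.2)
  have hRtop : R ≠ ⊤ := by
    intro h
    apply hNK
    intro n hn
    have h1 : e0 ⟨n, hn⟩ ∈ R := by rw [h]; trivial
    exact (hmemR ⟨n, hn⟩).mp h1
  have hmax : ∀ X : Subgroup (Fin m → T0), R ≤ X → (∀ k, ∀ f ∈ X, (Θ k).θ f ∈ X) →
      X = R ∨ X = ⊤ := by
    intro X hRX hXinv
    let X' : Subgroup H := (X.comap e0.toMonoidHom).map N.subtype
    have hmemX' : ∀ h : H, h ∈ X' ↔ ∃ hn : h ∈ N, e0 ⟨h, hn⟩ ∈ X := by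
      intro h
      constructor
      · rintro ⟨n, hn, rfl⟩
        exact ⟨n.2, hn⟩
      · rintro ⟨hn, hX⟩
        exact ⟨⟨h, hn⟩, hX, rfl⟩
    have h1 : X' ≤ N := by
      intro h hh
      obtain ⟨hn, _⟩ := (hmemX' h).mp hh
      exact hn
    have h2 : K ⊓ N ≤ X' := by
      intro h hh
      rw [hmemX']
      exact ⟨hh.2, hRX ((hmemR ⟨h, hh.2⟩).mpr hh.1)⟩
    have h3 : K ≤ Subgroup.normalizer (X' : Set H) := by
      rw [Subgroup.le_normalizer_iff]
      intro k hk x hx
      obtain ⟨hn, hX⟩ := (hmemX' x).mp hx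
      have h4 := hXinv ⟨k, hk⟩ _ hX
      rw [hΘ] at h4
      rw [hmemX']
      have h5 : k * x * k⁻¹ ∈ N := (inferInstance : N.Normal).conj_mem x hn k
      refine ⟨h5, ?_⟩
      have h6 : (⟨k * x * k⁻¹, h5⟩ : N) = MulAut.conjNormal k ⟨x, hn⟩ :=
        Subtype.ext (MulAut.conjNormal_apply k ⟨x, hn⟩).symm
      rw [h6]
      exact h4
    rcases hmaxK X' h1 h2 h3 with h4 | h4
    · left
      apply le_antisymm _ hRX
      intro f hf
      rw [hmemR']
      have h5 : ((e0.symm f : N) : H) ∈ X' := by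
        rw [hmemX']
        refine ⟨(e0.symm f).2, ?_⟩
        have : (⟨((e0.symm f : N) : H), (e0.symm f).2⟩ : N) = e0.symm f := rfl
        rw [this, MulEquiv.apply_symm_apply]
        exact hf
      rw [h4] at h5
      exact h5.1
    · right
      rw [eq_top_iff]
      intro f _
      have h5 : ((e0.symm f : N) : H) ∈ X' := by
        rw [h4]
        exact (e0.symm f).2
      obtain ⟨hn, hX⟩ := (hmemX' _).mp h5
      have : (⟨((e0.symm f : N) : H), hn⟩ : N) = e0.symm f := rfl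
      rw [this, MulEquiv.apply_symm_apply] at hX
      exact hX
  obtain ⟨T, grp, ⟨e₁⟩⟩ := exists_type0_copy T0
  have hTs : IsSimpleGroup T := MulEquiv.isSimpleGroup e₁.symm
  have hTn : ¬ IsMulCommutative T := by
    intro hc
    obtain ⟨a, b, hab⟩ := hnabT
    apply hab
    apply e₁.injective
    rw [map_mul, map_mul]
    exact hc.is_comm.comm _ _
  rcases core Θ R hnabT htrans hRinv hRtop hmax with ⟨Ks, hKs, hR⟩ | ⟨δ, k, c, hk, hcard, hR⟩
  · refine ⟨T, grp, m, e0.trans (MulEquiv.piCongrRight fun _ => e₁), hTs, hTn, hm, Or.inl ?_⟩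
    refine ⟨fun i => (Ks i).map e₁.toMonoidHom, ?_, ?_⟩
    · intro i h
      have h : (Ks i).map e₁.toMonoidHom = ⊤ := h
      apply hKs i
      rw [eq_top_iff]
      intro t _
      have h1 : e₁ t ∈ (Ks i).map e₁.toMonoidHom := by rw [h]; trivial
      exact (Subgroup.mem_map_iff_mem e₁.injective).mp h1
    · intro n
      rw [← hmemR, hR]
      constructor
      · intro h i
        exact (Subgroup.mem_map_iff_mem e₁.injective).mpr (h i)
      · intro h i
        exact (Subgroup.mem_map_iff_mem e₁.injective).mp (h i)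
  · refine ⟨T, grp, m, e0.trans (MulEquiv.piCongrRight fun i => (δ i).trans e₁), hTs, hTn, hm,
      Or.inr ?_⟩
    refine ⟨k, c, hk, hcard, ?_⟩
    intro n
    rw [← hmemR, hR]
    constructor
    · intro h i j hij
      show e₁ (δ i (e0 n i)) = e₁ (δ j (e0 n j))
      rw [h i j hij]
    · intro h i j hij
      exact e₁.injective (h i j hij)

end Cfsg.Agent.Lib.Helper25.ONanScott
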