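import Mathlib
import Cfsg.Prelude.Def_Classical
import Cfsg.Prelude.Def_Characters
import Cfsg.Agent.Lib.Helper25.Linear

/-!
# The degenerate case `m = 1` of the Steinberg character of `PΩ⁺_{2m}(q)`

The isometry group of `x y` on `F²` consists of the diagonal matrices `diag(a, a⁻¹)` and the
antidiagonal ones; its commutator subgroup is diagonal, hence abelian, so `PΩ⁺_2(F)` is trivial.
-/

set_option autoImplicit false

namespace Cfsg.Agent.Lib.Helper25.OPlusDeg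

open Matrix

variable {F : Type*} [Field F]

local notation "ι1" => (Fin 1 ⊕ Fin 1)

theorem mem_iso_iff (g : GL ι1 F) :
    g ∈ Cfsg.isometryGroup F (Cfsg.quadFormPlus 1 F) ↔
      ∀ u, Cfsg.quadFormPlus 1 F ((g : Matrix ι1 ι1 F) *ᵥ u) = Cfsg.quadFormPlus 1 F u :=
  ⟨fun h u => h u u, fun h u _ => h u⟩

theorem quadFormPlus_one_apply (v : ι1 → F) :
    Cfsg.quadFormPlus 1 F v = v (Sum.inl 0) * v (Sum.inr 0) := by
  simp [Cfsg.quadFormPlus]

theorem mulVec_inl (M : Matrix ι1 ι1 F) (u : ι1 → F) :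
    (M *ᵥ u) (Sum.inl 0) = M (Sum.inl 0) (Sum.inl 0) * u (Sum.inl 0)
      + M (Sum.inl 0) (Sum.inr 0) * u (Sum.inr 0) := by
  simp [Matrix.mulVec, dotProduct, Fintype.sum_sum_type]

theorem mulVec_inr (M : Matrix ι1 ι1 F) (u : ι1 → F) :
    (M *ᵥ u) (Sum.inr 0) = M (Sum.inr 0) (Sum.inl 0) * u (Sum.inl 0)
      + M (Sum.inr 0) (Sum.inr 0) * u (Sum.inr 0) := by
  simp [Matrix.mulVec, dotProduct, Fintype.sum_sum_type]

/-- the shape of an isometry: `a c = 0`, `b d = 0`, `a d + b c = 1` -/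
theorem shape {g : GL ι1 F} (hg : g ∈ Cfsg.isometryGroup F (Cfsg.quadFormPlus 1 F)) :
    (g : Matrix ι1 ι1 F) (Sum.inl 0) (Sum.inl 0) * (g : Matrix ι1 ι1 F) (Sum.inr 0) (Sum.inl 0) = 0 ∧
    (g : Matrix ι1 ι1 F) (Sum.inl 0) (Sum.inr 0) * (g : Matrix ι1 ι1 F) (Sum.inr 0) (Sum.inr 0) = 0 ∧
    (g : Matrix ι1 ι1 F) (Sum.inl 0) (Sum.inl 0) * (g : Matrix ι1 ι1 F) (Sum.inr 0) (Sum.inr 0)
      + (g : Matrix ι1 ι1 F) (Sum.inl 0) (Sum.inr 0) * (g : Matrix ι1 ι1 F) (Sum.inr 0) (Sum.inl 0) = 1 := by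
  rw [mem_iso_iff] at hg
  have h1 := hg (Sum.elim (fun _ => 1) (fun _ => 0))
  have h2 := hg (Sum.elim (fun _ => 0) (fun _ => 1))
  have h3 := hg (Sum.elim (fun _ => 1) (fun _ => 1))
  simp only [quadFormPlus_one_apply, mulVec_inl, mulVec_inr, Sum.elim_inl, Sum.elim_inr, mul_one,
    mul_zero, add_zero, zero_add] at h1 h2 h3
  refine ⟨h1, h2, ?_⟩
  have : ((g : Matrix ι1 ι1 F) (Sum.inl 0) (Sum.inl 0) + (g : Matrix ι1 ι1 F) (Sum.inl 0) (Sum.inr 0)) *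
      ((g : Matrix ι1 ι1 F) (Sum.inr 0) (Sum.inl 0) + (g : Matrix ι1 ι1 F) (Sum.inr 0) (Sum.inr 0)) = 1 := h3
  linear_combination this - h1 - h2

/-- an isometry is diagonal or antidiagonal -/
def IsDiag (g : GL ι1 F) : Prop :=
  (g : Matrix ι1 ι1 F) (Sum.inl 0) (Sum.inr 0) = 0 ∧ (g : Matrix ι1 ι1 F) (Sum.inr 0) (Sum.inl 0) = 0

def IsAnti (g : GL ι1 F) : Prop :=
  (g : Matrix ι1 ι1 F) (Sum.inl 0) (Sum.inl 0) = 0 ∧ (g : Matrix ι1 ι1 F) (Sum.inr 0) (Sum.inr 0) = 0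

theorem diag_or_anti {g : GL ι1 F} (hg : g ∈ Cfsg.isometryGroup F (Cfsg.quadFormPlus 1 F)) :
    (IsDiag g ∧ (g : Matrix ι1 ι1 F) (Sum.inl 0) (Sum.inl 0) ≠ 0) ∨
    (IsAnti g ∧ (g : Matrix ι1 ι1 F) (Sum.inl 0) (Sum.inr 0) ≠ 0) := by
  obtain ⟨h1, h2, h3⟩ := shape hg
  rcases mul_eq_zero.mp h1 with ha | hc
  · right
    rw [ha, zero_mul, zero_add] at h3
    have hb : (g : Matrix ι1 ι1 F) (Sum.inl 0) (Sum.inr 0) ≠ 0 := by
      intro h; rw [h, zero_mul] at h3; exact zero_ne_one h3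
    rcases mul_eq_zero.mp h2 with hb' | hd
    · exact absurd hb' hb
    · exact ⟨⟨ha, hd⟩, hb⟩
  · left
    rw [hc, mul_zero, add_zero] at h3
    have ha : (g : Matrix ι1 ι1 F) (Sum.inl 0) (Sum.inl 0) ≠ 0 := by
      intro h; rw [h, zero_mul] at h3; exact zero_ne_one h3
    have hd : (g : Matrix ι1 ι1 F) (Sum.inr 0) (Sum.inr 0) ≠ 0 := by
      intro h; rw [h, mul_zero] at h3; exact zero_ne_one h3
    rcases mul_eq_zero.mp h2 with hb | hd'
    · exact ⟨⟨hb, hc⟩, ha⟩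
    · exact absurd hd' hd

theorem mul_apply' (M N : Matrix ι1 ι1 F) (i j : ι1) :
    (M * N) i j = M i (Sum.inl 0) * N (Sum.inl 0) j + M i (Sum.inr 0) * N (Sum.inr 0) j := by
  simp [Matrix.mul_apply, Fintype.sum_sum_type]

/-- `1` on diagonal isometries, `-1` on antidiagonal ones -/
noncomputable def sgn (g : GL ι1 F) : ℤˣ :=
  letI := Classical.propDecidable
  if (g : Matrix ι1 ι1 F) (Sum.inl 0) (Sum.inr 0) = 0 then 1 else -1

theorem sgn_of_diag {g : GL ι1 F} (h : IsDiag g) : sgn g = 1 := by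
  unfold sgn; rw [if_pos h.1]

theorem sgn_of_anti {g : GL ι1 F} (h : (g : Matrix ι1 ι1 F) (Sum.inl 0) (Sum.inr 0) ≠ 0) :
    sgn g = -1 := by
  unfold sgn; rw [if_neg h]

theorem sgn_mul {g h : GL ι1 F} (hg : g ∈ Cfsg.isometryGroup F (Cfsg.quadFormPlus 1 F))
    (hh : h ∈ Cfsg.isometryGroup F (Cfsg.quadFormPlus 1 F)) : sgn (g * h) = sgn g * sgn h := by
  have e : ((g * h : GL ι1 F) : Matrix ι1 ι1 F) (Sum.inl 0) (Sum.inr 0)
      = (g : Matrix ι1 ι1 F) (Sum.inl 0) (Sum.inl 0) * (h : Matrix ι1 ι1 F) (Sum.inl 0) (Sum.inr 0)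
        + (g : Matrix ι1 ι1 F) (Sum.inl 0) (Sum.inr 0) * (h : Matrix ι1 ι1 F) (Sum.inr 0) (Sum.inr 0) := by
    rw [Units.val_mul, mul_apply']
  obtain ⟨sh1, sh2, sh3⟩ := shape hh
  rcases diag_or_anti hg with ⟨hgd, hga⟩ | ⟨hga, hgb⟩ <;>
    rcases diag_or_anti hh with ⟨hhd, hha⟩ | ⟨hha, hhb⟩
  · rw [sgn_of_diag hgd, sgn_of_diag hhd, mul_one]
    unfold sgn; rw [if_pos]; rw [e, hgd.1, hhd.1]; ring
  · rw [sgn_of_diag hgd, sgn_of_anti hhb, one_mul]
    apply sgn_of_anti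
    rw [e, hgd.1, zero_mul, add_zero]
    exact mul_ne_zero hga hhb
  · rw [sgn_of_anti hgb, sgn_of_diag hhd, mul_one]
    apply sgn_of_anti
    rw [e, hga.1, zero_mul, zero_add]
    have hd : (h : Matrix ι1 ι1 F) (Sum.inr 0) (Sum.inr 0) ≠ 0 := by
      intro h0; rw [h0, mul_zero, hhd.1, zero_mul, add_zero] at sh3; exact zero_ne_one sh3
    exact mul_ne_zero hgb hd
  · rw [sgn_of_anti hgb, sgn_of_anti hhb]
    have : sgn (g * h) = 1 := by
      unfold sgn; rw [if_pos]; rw [e, hga.1, hha.2]; ring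
    rw [this]; decide

/-- the sign homomorphism on the isometry group -/
noncomputable def sgnHom : Cfsg.isometryGroup F (Cfsg.quadFormPlus 1 F) →* ℤˣ where
  toFun g := sgn (g : GL ι1 F)
  map_one' := by
    apply sgn_of_diag
    constructor <;> simp
  map_mul' g h := sgn_mul g.2 h.2

theorem isDiag_of_mem_Omega {g : Cfsg.isometryGroup F (Cfsg.quadFormPlus 1 F)}
    (hg : g ∈ Cfsg.Omega F (Cfsg.quadFormPlus 1 F)) : IsDiag (g : GL ι1 F) := by
  have h1 : g ∈ (sgnHom (F := F)).ker := Abelianization.commutator_subset_ker sgnHom hg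
  have h2 : sgn (g : GL ι1 F) = 1 := h1
  rcases diag_or_anti g.2 with ⟨hd, _⟩ | ⟨_, hb⟩
  · exact hd
  · rw [sgn_of_anti hb] at h2
    exact absurd h2 (by decide)

theorem commute_of_isDiag {g h : GL ι1 F} (hg : IsDiag g) (hh : IsDiag h) : g * h = h * g := by
  apply Units.ext
  rw [Units.val_mul, Units.val_mul]
  ext i j
  rw [mul_apply', mul_apply']
  rcases i with i | i <;> rcases j with j | j <;>
    (have hi : i = 0 := Subsingleton.elim _ _
     have hj : j = 0 := Subsingleton.elim _ _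
     subst hi; subst hj
     simp only [hg.1, hg.2, hh.1, hh.2]; ring)

instance subsingleton_POmega : Subsingleton (Cfsg.POmega F (Cfsg.quadFormPlus 1 F)) := by
  constructor
  intro x y
  induction x using QuotientGroup.induction_on with
  | H a =>
  induction y using QuotientGroup.induction_on with
  | H b =>
  rw [QuotientGroup.eq, Subgroup.mem_center_iff]
  intro c
  have key : ∀ u v : Cfsg.Omega F (Cfsg.quadFormPlus 1 F), u * v = v * u := by
    intro u v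
    apply Subtype.ext
    apply Subtype.ext
    exact commute_of_isDiag (isDiag_of_mem_Omega u.2) (isDiag_of_mem_Omega v.2)
  exact key c _

theorem steinberg_plus_one {F : Type*} [Field F] [Fintype F] (p : ℕ) [Fact p.Prime] [CharP F p] :
    ∃ χ : Cfsg.POmega F (Cfsg.quadFormPlus 1 F) → ℂ,
      Cfsg.IsIrrCharacter (Cfsg.POmega F (Cfsg.quadFormPlus 1 F)) χ ∧
      ∀ P : Sylow p (Cfsg.POmega F (Cfsg.quadFormPlus 1 F)), χ 1 = Nat.card P ∧
        ∀ x : Cfsg.POmega F (Cfsg.quadFormPlus 1 F), x ∈ P → x ≠ 1 → χ x = 0 := by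
  refine ⟨fun _ => 1, Cfsg.Agent.Lib.Helper25.isIrrCharacter_one, fun P => ⟨?_, ?_⟩⟩
  · have : Nat.card (P : Subgroup (Cfsg.POmega F (Cfsg.quadFormPlus 1 F))) = 1 := by
      rw [Nat.card_eq_one_iff_unique]
      exact ⟨inferInstance, ⟨1⟩⟩
    rw [this]; simp
  · intro x _ hx
    exact absurd (Subsingleton.elim x 1) hx

end Cfsg.Agent.Lib.Helper25.OPlusDeg
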