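import Mathlib
import Cfsg.Prelude.Def_Characters
import Cfsg.Agent.Lib.Helper11.IndLinear
import Cfsg.Agent.Lib.Helper11.Clifford2

/-!
# A Steinberg-like character for subgroups of the generalized dihedral group of order 18

If a finite non-commutative group `Ω` embeds into `{(a, b) ∈ S₃ × S₃ | sign a = sign b}`, then
`Ω ⧸ Z(Ω)` has an irreducible character of degree `2 = |P|` (`P` a Sylow `2`-subgroup)
vanishing on the non-trivial elements of `P`.
-/

set_option autoImplicit false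

namespace Cfsg.Agent.Lib.Helper25.OPlusDeg

open Equiv Equiv.Perm Cfsg

abbrev S3 := Equiv.Perm (Fin 3)

theorem s3_comm : ∀ a b : S3, sign a = 1 → sign b = 1 → a * b = b * a := by decide

theorem s3_inv : ∀ a b : S3, sign a = -1 → sign b = 1 → a * b * a⁻¹ = b⁻¹ := by decide

theorem s3_cube : ∀ a : S3, sign a = 1 → a ^ 3 = 1 := by decide

section
variable {Ω : Type*} [Group Ω]
  (Ψ : Ω →* S3 × S3) (hΨ : Function.Injective Ψ)
  (hs : ∀ x, sign (Ψ x).1 = sign (Ψ x).2)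

/-- the sign of the first component -/
def sg : Ω →* ℤˣ := (sign : S3 →* ℤˣ).comp ((MonoidHom.fst S3 S3).comp Ψ)

theorem sg_apply (x : Ω) : sg Ψ x = sign (Ψ x).1 := rfl

include hΨ hs

theorem comm_of_mem {x y : Ω} (hx : x ∈ (sg Ψ).ker) (hy : y ∈ (sg Ψ).ker) : x * y = y * x := by
  have hx1 : sign (Ψ x).1 = 1 := hx
  have hy1 : sign (Ψ y).1 = 1 := hy
  apply hΨ
  rw [map_mul, map_mul]
  apply Prod.ext
  · exact s3_comm _ _ hx1 hy1
  · exact s3_comm _ _ (by rw [← hs]; exact hx1) (by rw [← hs]; exact hy1)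

theorem inv_of_not_mem {x y : Ω} (hx : x ∉ (sg Ψ).ker) (hy : y ∈ (sg Ψ).ker) :
    x * y * x⁻¹ = y⁻¹ := by
  have hx1 : sign (Ψ x).1 = -1 := by
    rcases Int.units_eq_one_or (sign (Ψ x).1) with h | h
    · exact absurd h hx
    · exact h
  have hy1 : sign (Ψ y).1 = 1 := hy
  apply hΨ
  rw [map_mul, map_mul, map_inv, map_inv]
  apply Prod.ext
  · exact s3_inv _ _ hx1 hy1
  · exact s3_inv _ _ (by rw [← hs]; exact hx1) (by rw [← hs]; exact hy1)

theorem cube_of_mem {y : Ω} (hy : y ∈ (sg Ψ).ker) : y ^ 3 = 1 := by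
  have hy1 : sign (Ψ y).1 = 1 := hy
  apply hΨ
  rw [map_pow, map_one]
  apply Prod.ext
  · exact s3_cube _ hy1
  · exact s3_cube _ (by rw [← hs]; exact hy1)

theorem eq_one_of_sq_of_mem {y : Ω} (hy : y ∈ (sg Ψ).ker) (h2 : y ^ 2 = 1) : y = 1 := by
  have h3 := cube_of_mem Ψ hΨ hs hy
  have : y ^ 3 = y ^ 2 * y := pow_succ y 2
  rw [this, h2, one_mul] at h3
  exact h3

variable (hna : ∃ x y : Ω, x * y ≠ y * x)
include hna

theorem exists_not_mem : ∃ w : Ω, w ∉ (sg Ψ).ker := by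
  by_contra h
  push Not at h
  obtain ⟨x, y, hxy⟩ := hna
  exact hxy (comm_of_mem Ψ hΨ hs (h x) (h y))

theorem exists_mem_ne_one : ∃ a : Ω, a ∈ (sg Ψ).ker ∧ a ≠ 1 := by
  by_contra h
  push Not at h
  obtain ⟨x, y, hxy⟩ := hna
  apply hxy
  by_cases hx : x ∈ (sg Ψ).ker
  · rw [h x hx]; simp
  by_cases hy : y ∈ (sg Ψ).ker
  · rw [h y hy]; simp
  have hx1 : sg Ψ x = -1 := by
    rcases Int.units_eq_one_or (sg Ψ x) with h' | h'
    · exact absurd h' hx
    · exact h'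
  have hy1 : sg Ψ y = -1 := by
    rcases Int.units_eq_one_or (sg Ψ y) with h' | h'
    · exact absurd h' hy
    · exact h'
  have hxy1 : x * y ∈ (sg Ψ).ker := by
    rw [MonoidHom.mem_ker, map_mul, hx1, hy1]; decide
  have := h _ hxy1
  have hy' : y = x⁻¹ := by
    rw [eq_inv_iff_mul_eq_one, ← this]
    have hyx : y * x ∈ (sg Ψ).ker := by
      rw [MonoidHom.mem_ker, map_mul, hx1, hy1]; decide
    rw [h _ hyx, this]
  rw [hy']; simp

theorem center_eq_bot : Subgroup.center Ω = ⊥ := by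
  rw [eq_bot_iff]
  intro z hz
  rw [Subgroup.mem_bot]
  rw [Subgroup.mem_center_iff] at hz
  obtain ⟨w, hw⟩ := exists_not_mem Ψ hΨ hs hna
  obtain ⟨a, ha, ha1⟩ := exists_mem_ne_one Ψ hΨ hs hna
  by_cases hzA : z ∈ (sg Ψ).ker
  · have h1 := inv_of_not_mem Ψ hΨ hs hw hzA
    have h2 : w * z * w⁻¹ = z := by rw [hz w]; simp
    rw [h2] at h1
    apply eq_one_of_sq_of_mem Ψ hΨ hs hzA
    rw [pow_two]
    nth_rewrite 1 [h1]
    simp
  · exfalso
    have h1 := inv_of_not_mem Ψ hΨ hs hzA ha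
    have h2 : z * a * z⁻¹ = a := by rw [← hz a]; simp
    rw [h2] at h1
    apply ha1
    apply eq_one_of_sq_of_mem Ψ hΨ hs ha
    rw [pow_two]
    nth_rewrite 1 [h1]
    simp

end

section char

open Cfsg.Agent.Lib.Helper2 Cfsg.Agent.Lib.Helper11

/-- the induced character on `Ω` itself -/
theorem exists_char_aux {Ω : Type*} [Group Ω] [Fintype Ω]
    (Ψ : Ω →* S3 × S3) (hΨ : Function.Injective Ψ)
    (hs : ∀ x, sign (Ψ x).1 = sign (Ψ x).2) (hna : ∃ x y : Ω, x * y ≠ y * x) :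
    ∃ χ : Ω → ℂ, IsIrrCharacter Ω χ ∧ χ 1 = 2 ∧ ∀ x : Ω, x ∉ (sg Ψ).ker → χ x = 0 := by
  classical
  set A0 : Subgroup Ω := (sg Ψ).ker with hA0
  obtain ⟨a, ha, ha1⟩ := exists_mem_ne_one Ψ hΨ hs hna
  obtain ⟨w, hw⟩ := exists_not_mem Ψ hΨ hs hna
  -- a linear character of `A0` nontrivial at `a`
  have hcomm : ∀ x y : A0, x * y = y * x := by
    intro x y
    apply Subtype.ext
    exact comm_of_mem Ψ hΨ hs x.2 y.2
  obtain ⟨φ, hφ⟩ : ∃ φ : A0 →* ℂˣ, φ ⟨a, ha⟩ ≠ 1 := by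
    let _ : CommGroup A0 := { (inferInstance : Group A0) with mul_comm := hcomm }
    have : NeZero (Monoid.exponent A0) := ⟨Monoid.exponent_ne_zero_of_finite⟩
    apply CommGroup.exists_apply_ne_one_of_hasEnoughRootsOfUnity A0 ℂ
    intro h
    exact ha1 (congrArg Subtype.val h)
  set μ : A0 → ℂ := fun k => ((φ k : ℂˣ) : ℂ) with hμ
  have hμirr : IsIrrCharacter A0 μ := isIrrCharacter_of_monoidHom φ
  have hμchar : IsCharacter A0 μ := IsIrrCharacter.isCharacter hμirr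
  have hμ1 : μ 1 = 1 := by simp [hμ]
  have hidx : A0.index = 2 := by
    have hle : A0.index ≤ 2 := by
      rw [hA0, Subgroup.index_ker]
      have : Nat.card ((sg Ψ).range) ≤ Nat.card ℤˣ := Nat.card_le_card_of_injective _ Subtype.val_injective
      have h2 : Nat.card ℤˣ = 2 := by rw [Nat.card_eq_fintype_card]; rfl
      omega
    have hne1 : A0.index ≠ 1 := by
      intro h1
      rw [Subgroup.index_eq_one] at h1
      exact hw (by rw [← hA0, h1]; trivial)
    have hne0 : A0.index ≠ 0 := Subgroup.index_ne_zero_of_finite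
    omega
  refine ⟨indFun A0 μ, ?_, ?_, ?_⟩
  · apply isIrrCharacter_indFun_linear A0 hμchar hμ1
    intro x hx
    have hx' : x⁻¹ ∉ A0 := fun h => hx (by simpa using inv_mem h)
    have hconj : x⁻¹ * a * x = a⁻¹ := by
      have := inv_of_not_mem Ψ hΨ hs hx' ha
      simpa using this
    refine ⟨⟨a, ha⟩, by rw [hconj]; exact inv_mem ha, ?_⟩
    have e : (⟨x⁻¹ * a * x, by rw [hconj]; exact inv_mem ha⟩ : A0) = (⟨a, ha⟩ : A0)⁻¹ := by
      apply Subtype.ext
      exact hconj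
    rw [e]
    simp only [hμ, map_inv]
    intro h
    -- `φ a = (φ a)⁻¹` and `(φ a)^3 = 1` force `φ a = 1`
    have h1 : φ ⟨a, ha⟩ = (φ ⟨a, ha⟩)⁻¹ := Units.ext h
    have h2 : φ ⟨a, ha⟩ ^ 2 = 1 := by
      rw [pow_two]
      nth_rewrite 1 [h1]
      simp
    have h3 : φ ⟨a, ha⟩ ^ 3 = 1 := by
      rw [← map_pow]
      have : (⟨a, ha⟩ : A0) ^ 3 = 1 := by
        apply Subtype.ext
        exact cube_of_mem Ψ hΨ hs ha
      rw [this, map_one]
    apply hφ
    have : φ ⟨a, ha⟩ ^ 3 = φ ⟨a, ha⟩ ^ 2 * φ ⟨a, ha⟩ := pow_succ _ 2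
    rw [this, h2, one_mul] at h3
    exact h3
  · rw [indFun_apply_one, hidx, hμ1]; norm_num
  · intro x hx
    rw [indFun_apply]
    have : ∀ y : Ω, extendByZero A0 μ (y⁻¹ * x * y) = 0 := by
      intro y
      apply extendByZero_of_not_mem
      intro h
      apply hx
      have hn : A0.Normal := by rw [hA0]; infer_instance
      have := hn.conj_mem _ h y
      simpa [mul_assoc] using this
    simp only [this, Finset.sum_const_zero, mul_zero]

/-- **Main abstract lemma.** -/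
theorem exists_steinberg_of_hom {Ω : Type*} [Group Ω] [Finite Ω]
    (Ψ : Ω →* S3 × S3) (hΨ : Function.Injective Ψ)
    (hs : ∀ x, sign (Ψ x).1 = sign (Ψ x).2) (hna : ∃ x y : Ω, x * y ≠ y * x) :
    ∃ χ : (Ω ⧸ Subgroup.center Ω) → ℂ, IsIrrCharacter (Ω ⧸ Subgroup.center Ω) χ ∧
      ∀ P : Sylow 2 (Ω ⧸ Subgroup.center Ω), χ 1 = Nat.card P ∧
        ∀ x : Ω ⧸ Subgroup.center Ω, x ∈ P → x ≠ 1 → χ x = 0 := by
  classical
  haveI : Fintype Ω := Fintype.ofFinite Ω
  obtain ⟨χ, hirr, h1, h0⟩ := exists_char_aux Ψ hΨ hs hna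
  have hZ := center_eq_bot Ψ hΨ hs hna
  let ε : (Ω ⧸ Subgroup.center Ω) ≃* Ω :=
    (QuotientGroup.quotientMulEquivOfEq hZ).trans QuotientGroup.quotientBot
  refine ⟨χ ∘ ε, isIrrCharacter_comp_equiv ε hirr, fun P => ?_⟩
  -- the order of `Ω`
  set A0 : Subgroup Ω := (sg Ψ).ker with hA0
  obtain ⟨w, hw⟩ := exists_not_mem Ψ hΨ hs hna
  have hidx : A0.index = 2 := by
    have hle : A0.index ≤ 2 := by
      rw [hA0, Subgroup.index_ker]
      have : Nat.card ((sg Ψ).range) ≤ Nat.card ℤˣ := Nat.card_le_card_of_injective _ Subtype.val_injective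
      have h2 : Nat.card ℤˣ = 2 := by rw [Nat.card_eq_fintype_card]; rfl
      omega
    have hne1 : A0.index ≠ 1 := by
      intro h1
      rw [Subgroup.index_eq_one] at h1
      exact hw (by rw [← hA0, h1]; trivial)
    have hne0 : A0.index ≠ 0 := Subgroup.index_ne_zero_of_finite
    omega
  have hA0p : IsPGroup 3 A0 := by
    intro y
    refine ⟨1, ?_⟩
    apply Subtype.ext
    rw [pow_one]
    exact cube_of_mem Ψ hΨ hs y.2
  obtain ⟨k, hk⟩ := hA0p.exists_card_eq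
  have hcardΩ : Nat.card Ω = 2 * 3 ^ k := by
    rw [← Subgroup.index_mul_card A0, hidx, hk]
  have hcardG : Nat.card (Ω ⧸ Subgroup.center Ω) = 2 * 3 ^ k := by
    rw [Nat.card_congr ε.toEquiv, hcardΩ]
  -- the order of `P`
  have hP : Nat.card P = 2 := by
    obtain ⟨m, hm⟩ := P.2.exists_card_eq
    have hnd : ¬ 2 ∣ (P : Subgroup (Ω ⧸ Subgroup.center Ω)).index := P.not_dvd_index
    have hmul := Subgroup.index_mul_card (P : Subgroup (Ω ⧸ Subgroup.center Ω))
    rw [hcardG] at hmul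
    have hm' : Nat.card (P : Subgroup (Ω ⧸ Subgroup.center Ω)) = 2 ^ m := hm
    rw [hm'] at hmul
    have h3odd : ¬ 2 ∣ 3 ^ k := by
      intro h
      have := Nat.Prime.dvd_of_dvd_pow Nat.prime_two h
      omega
    rcases m with _ | _ | m
    · exfalso
      apply hnd
      rw [pow_zero, mul_one] at hmul
      rw [hmul]; exact dvd_mul_right 2 _
    · rw [hm']; norm_num
    · exfalso
      apply h3odd
      have h4 : 4 ∣ 2 * 3 ^ k := by
        rw [← hmul]
        apply Dvd.dvd.mul_left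
        rw [pow_succ, pow_succ]
        exact ⟨2 ^ m, by ring⟩
      obtain ⟨c, hc⟩ := h4
      exact ⟨c, by omega⟩
  constructor
  · change χ (ε 1) = _
    rw [map_one, h1, hP]; norm_num
  · intro x hxP hx1
    change χ (ε x) = 0
    apply h0
    intro hmem
    apply hx1
    have hx2 : x ^ 2 = 1 := by
      have := pow_card_eq_one' (G := (P : Subgroup (Ω ⧸ Subgroup.center Ω))) (x := ⟨x, hxP⟩)
      rw [hP] at this
      exact congrArg Subtype.val this
    have : ε x = 1 := by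
      apply eq_one_of_sq_of_mem Ψ hΨ hs hmem
      rw [← map_pow, hx2, map_one]
    exact ε.injective (by rw [this, map_one])

end char

end Cfsg.Agent.Lib.Helper25.OPlusDeg
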