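import Mathlib
import Cfsg.Agent.Lib.Helper25.OPlusDegB1

/-!
# From the `S₃ ≀ C₂` structure to the embedding of the commutator subgroup

`W` has commuting subgroups `A ≅ B ≅ S₃` with `A ⊓ B = ⊥`, `A ⊔ B` of index `2`, and `g` with
`g A g⁻¹ = B`.  Then the commutator subgroup of `W` embeds in
`{(a, b) ∈ S₃ × S₃ | sign a = sign b}` and is not commutative.
-/

set_option autoImplicit false

namespace Cfsg.Agent.Lib.Helper25.OPlusDeg

open Equiv Equiv.Perm

theorem s3_center : ∀ q : S3, (∀ r : S3, q * r = r * q) → q = 1 := by decide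

theorem s3_sign_iff : ∀ a : S3, sign a = -1 ↔ orderOf a = 2 := by
  intro a
  have h : ∀ a : S3, sign a = -1 ↔ (a ^ 2 = 1 ∧ a ≠ 1) := by decide
  rw [h]
  constructor
  · rintro ⟨h2, h1⟩
    exact orderOf_eq_prime h2 h1
  · intro ho
    refine ⟨by rw [← ho]; exact pow_orderOf_eq_one a, ?_⟩
    intro h1
    rw [h1, orderOf_one] at ho
    omega

/-- an injective endomorphism of `S₃` preserves the sign -/
theorem sign_of_injective (α : S3 →* S3) (hα : Function.Injective α) (a : S3) :
    sign (α a) = sign a := by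
  have key : sign (α a) = -1 ↔ sign a = -1 := by
    rw [s3_sign_iff, s3_sign_iff, orderOf_injective α hα]
  rcases Int.units_eq_one_or (sign a) with h | h
  · rcases Int.units_eq_one_or (sign (α a)) with h' | h'
    · rw [h, h']
    · rw [key.mp h'] at h; exact absurd h (by decide)
  · rw [h, key.mpr h]

section
variable {W : Type*} [Group W] (A B : Subgroup W)
  (hAB : A ⊓ B = ⊥) (hc : ∀ a ∈ A, ∀ b ∈ B, a * b = b * a)

/-- the multiplication map `A × B → W` -/
def phi : A × B →* W :=
  MonoidHom.noncommCoprod A.subtype B.subtype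
    (fun a b => (show Commute (A.subtype a) (B.subtype b) from hc a a.2 b b.2))

theorem phi_apply (p : A × B) : phi A B hc p = (p.1 : W) * (p.2 : W) := rfl

include hAB in
theorem phi_injective : Function.Injective (phi A B hc) := by
  rw [injective_iff_map_eq_one]
  intro p hp
  rw [phi_apply] at hp
  have h1 : (p.1 : W) = (p.2 : W)⁻¹ := eq_inv_of_mul_eq_one_left hp
  have h2 : (p.1 : W) ∈ A ⊓ B := ⟨p.1.2, by rw [h1]; exact B.inv_mem p.2.2⟩
  rw [hAB, Subgroup.mem_bot] at h2
  have h3 : (p.2 : W) = 1 := by rw [h2, one_mul] at hp; exact hp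
  exact Prod.ext (Subtype.ext h2) (Subtype.ext h3)

theorem phi_range : (phi A B hc).range = A ⊔ B := by
  unfold phi
  rw [MonoidHom.noncommCoprod_range, Subgroup.range_subtype, Subgroup.range_subtype]

variable (eA : A ≃* S3) (eB : B ≃* S3)

/-- `A ⊔ B ≅ S₃ × S₃` -/
noncomputable def Theta : ↥(A ⊔ B) ≃* S3 × S3 :=
  (MulEquiv.subgroupCongr (phi_range A B hc).symm).trans
    ((MonoidHom.ofInjective (phi_injective A B hAB hc)).symm.trans (eA.prodCongr eB))

theorem Theta_symm_apply (p : S3 × S3) :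
    ((Theta A B hAB hc eA eB).symm p : W) = (eA.symm p.1 : W) * (eB.symm p.2 : W) := by
  unfold Theta
  rw [MulEquiv.symm_trans_apply, MulEquiv.symm_trans_apply]
  simp only [MulEquiv.symm_symm]
  rfl

theorem Theta_mul (a : A) (b : B) (h : (a : W) * (b : W) ∈ A ⊔ B) :
    Theta A B hAB hc eA eB ⟨(a : W) * (b : W), h⟩ = (eA a, eB b) := by
  apply (Theta A B hAB hc eA eB).symm.injective
  rw [MulEquiv.symm_apply_apply]
  apply Subtype.ext
  rw [Theta_symm_apply]
  simp

theorem Theta_left (a : A) (h : (a : W) ∈ A ⊔ B) :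
    Theta A B hAB hc eA eB ⟨(a : W), h⟩ = (eA a, 1) := by
  have := Theta_mul A B hAB hc eA eB a 1 (by simpa using h)
  simpa using this

theorem Theta_right (b : B) (h : (b : W) ∈ A ⊔ B) :
    Theta A B hAB hc eA eB ⟨(b : W), h⟩ = (1, eB b) := by
  have := Theta_mul A B hAB hc eA eB 1 b (by simpa using h)
  simpa using this

include hc in
theorem exists_eq_mul (n : ↥(A ⊔ B)) : ∃ (a : A) (b : B), (n : W) = (a : W) * (b : W) := by
  have h : (n : W) ∈ (phi A B hc).range := by rw [phi_range]; exact n.2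
  obtain ⟨p, hp⟩ := h
  exact ⟨p.1, p.2, hp.symm⟩

end

end Cfsg.Agent.Lib.Helper25.OPlusDeg
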