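import Mathlib
import Cfsg.Agent.Lib.Helper25.OPlusDegB2

/-!
# The commutator subgroup of a group of shape `S₃ ≀ C₂`
-/

set_option autoImplicit false

namespace Cfsg.Agent.Lib.Helper25.OPlusDeg

open Equiv Equiv.Perm
open scoped commutatorElement

/-- the data of a group of shape `S₃ ≀ C₂` -/
structure Wr (W : Type*) [Group W] where
  A : Subgroup W
  B : Subgroup W
  eA : A ≃* S3
  eB : B ≃* S3
  hAB : A ⊓ B = ⊥
  hc : ∀ a ∈ A, ∀ b ∈ B, a * b = b * a
  hidx : (A ⊔ B).index = 2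
  g : W
  hg : A.map (MulAut.conj g).toMonoidHom = B

namespace Wr

variable {W : Type*} [Group W] (D : Wr W)

/-- the base group -/
def N : Subgroup W := D.A ⊔ D.B

instance normalN : D.N.Normal := Subgroup.normal_of_index_eq_two D.hidx

theorem hidxN : D.N.index = 2 := D.hidx

noncomputable def Th : ↥D.N ≃* S3 × S3 := Theta D.A D.B D.hAB D.hc D.eA D.eB

theorem A_le : D.A ≤ D.N := le_sup_left
theorem B_le : D.B ≤ D.N := le_sup_right

theorem Th_mul (a : D.A) (b : D.B) (h : (a : W) * (b : W) ∈ D.N) :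
    D.Th ⟨(a : W) * (b : W), h⟩ = (D.eA a, D.eB b) := Theta_mul _ _ _ _ _ _ a b h

theorem Th_left (a : D.A) : D.Th ⟨(a : W), D.A_le a.2⟩ = (D.eA a, 1) :=
  Theta_left _ _ _ _ _ _ a _

theorem Th_right (b : D.B) : D.Th ⟨(b : W), D.B_le b.2⟩ = (1, D.eB b) :=
  Theta_right _ _ _ _ _ _ b _

theorem exists_mul (n : W) (hn : n ∈ D.N) : ∃ (a : D.A) (b : D.B), n = (a : W) * (b : W) :=
  exists_eq_mul D.A D.B D.hc ⟨n, hn⟩

/-- conjugation by `g` maps `A` into `B` -/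
theorem conj_mem_B {a : W} (ha : a ∈ D.A) : D.g * a * D.g⁻¹ ∈ D.B := by
  rw [← D.hg]
  exact ⟨a, ha, rfl⟩

theorem exists_conj_eq {b : W} (hb : b ∈ D.B) : ∃ a ∈ D.A, D.g * a * D.g⁻¹ = b := by
  rw [← D.hg] at hb
  obtain ⟨a, ha, h⟩ := hb
  exact ⟨a, ha, h⟩

/-- conjugation by `g` maps `B` into `A` -/
theorem conj_mem_A {b : W} (hb : b ∈ D.B) : D.g * b * D.g⁻¹ ∈ D.A := by
  have hn : D.g * b * D.g⁻¹ ∈ D.N := D.normalN.conj_mem b (D.B_le hb) D.g
  -- it commutes with all of `B`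
  have hcomm : ∀ b' ∈ D.B, (D.g * b * D.g⁻¹) * b' = b' * (D.g * b * D.g⁻¹) := by
    intro b' hb'
    obtain ⟨a', ha', rfl⟩ := D.exists_conj_eq hb'
    have := D.hc a' ha' b hb
    calc D.g * b * D.g⁻¹ * (D.g * a' * D.g⁻¹) = D.g * (b * a') * D.g⁻¹ := by group
      _ = D.g * (a' * b) * D.g⁻¹ := by rw [this]
      _ = D.g * a' * D.g⁻¹ * (D.g * b * D.g⁻¹) := by group
  obtain ⟨a₁, b₁, h1⟩ := D.exists_mul _ hn
  -- the `B`-component is central in `S₃`
  have hb1 : D.eB b₁ = 1 := by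
    apply s3_center
    intro r
    have hr := hcomm (D.eB.symm r : W) (D.eB.symm r).2
    have e1 : D.Th (⟨D.g * b * D.g⁻¹, hn⟩ * ⟨(D.eB.symm r : W), D.B_le (D.eB.symm r).2⟩)
        = D.Th (⟨(D.eB.symm r : W), D.B_le (D.eB.symm r).2⟩ * ⟨D.g * b * D.g⁻¹, hn⟩) := by
      congr 1
      exact Subtype.ext hr
    rw [map_mul, map_mul, D.Th_right] at e1
    have e2 : D.Th ⟨D.g * b * D.g⁻¹, hn⟩ = (D.eA a₁, D.eB b₁) := by
      have := D.Th_mul a₁ b₁ (by rw [← h1]; exact hn)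
      rw [← this]
      congr 1
      exact Subtype.ext h1
    rw [e2] at e1
    have := congrArg Prod.snd e1
    simpa using this
  have hb1' : b₁ = 1 := by
    have := D.eB.injective (hb1.trans (map_one D.eB).symm)
    exact this
  rw [h1, hb1']
  simpa using a₁.2

/-- `g ∉ N` -/
theorem g_not_mem : D.g ∉ D.N := by
  intro hgN
  obtain ⟨a₀, b₀, h0⟩ := D.exists_mul _ hgN
  -- every `a ∈ A` is trivial
  have htriv : ∀ a ∈ D.A, a = 1 := by
    intro a ha
    have h1 : D.g * a * D.g⁻¹ ∈ D.B := D.conj_mem_B ha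
    have h2 : D.g * a * D.g⁻¹ ∈ D.A := by
      have hcomm : (b₀ : W) * a = a * b₀ := (D.hc a ha b₀ b₀.2).symm
      have : D.g * a * D.g⁻¹ = (a₀ : W) * a * (a₀ : W)⁻¹ := by
        rw [h0]
        calc (a₀ : W) * b₀ * a * ((a₀ : W) * b₀)⁻¹
            = (a₀ : W) * ((b₀ : W) * a) * (b₀ : W)⁻¹ * (a₀ : W)⁻¹ := by group
          _ = (a₀ : W) * (a * (b₀ : W)) * (b₀ : W)⁻¹ * (a₀ : W)⁻¹ := by rw [hcomm]
          _ = (a₀ : W) * a * (a₀ : W)⁻¹ := by group
      rw [this]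
      exact D.A.mul_mem (D.A.mul_mem a₀.2 ha) (D.A.inv_mem a₀.2)
    have h3 : D.g * a * D.g⁻¹ ∈ D.A ⊓ D.B := ⟨h2, h1⟩
    rw [D.hAB, Subgroup.mem_bot] at h3
    have : a = D.g⁻¹ * (D.g * a * D.g⁻¹) * D.g := by group
    rw [this, h3]; group
  have h01 : (D.eA.symm (swap 0 1) : W) = 1 := htriv _ (D.eA.symm (swap 0 1)).2
  have h02 : D.eA.symm (swap 0 1) = 1 := Subtype.ext h01
  have h03 : (swap 0 1 : S3) = 1 := by
    have := congrArg D.eA h02
    simpa using this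
  exact absurd h03 (by decide)

/-- the product of the two signs -/
def sp : S3 × S3 →* ℤˣ :=
  ((sign : S3 →* ℤˣ).comp (MonoidHom.fst S3 S3)) * ((sign : S3 →* ℤˣ).comp (MonoidHom.snd S3 S3))

theorem sp_apply (p : S3 × S3) : sp p = sign p.1 * sign p.2 := rfl

/-- the sign character on `N` -/
noncomputable def s' : ↥D.N →* ℤˣ := sp.comp D.Th.toMonoidHom

theorem s'_mul (a : D.A) (b : D.B) (h : (a : W) * (b : W) ∈ D.N) :
    D.s' ⟨(a : W) * (b : W), h⟩ = sign (D.eA a) * sign (D.eB b) := by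
  change sp (D.Th _) = _
  rw [D.Th_mul, sp_apply]

/-- conjugation by `g` as a homomorphism `A → B` -/
def cAB : D.A →* D.B :=
  ((MulAut.conj D.g).toMonoidHom.comp D.A.subtype).codRestrict D.B (fun a => D.conj_mem_B a.2)

def cBA : D.B →* D.A :=
  ((MulAut.conj D.g).toMonoidHom.comp D.B.subtype).codRestrict D.A (fun b => D.conj_mem_A b.2)

theorem cAB_coe (a : D.A) : (D.cAB a : W) = D.g * a * D.g⁻¹ := rfl
theorem cBA_coe (b : D.B) : (D.cBA b : W) = D.g * b * D.g⁻¹ := rfl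

theorem cAB_injective : Function.Injective D.cAB := by
  intro a a' h
  have := congrArg Subtype.val h
  rw [cAB_coe, cAB_coe] at this
  apply Subtype.ext
  have h2 : D.g⁻¹ * (D.g * a * D.g⁻¹) * D.g = D.g⁻¹ * (D.g * a' * D.g⁻¹) * D.g := by rw [this]
  simpa [mul_assoc] using h2

theorem cBA_injective : Function.Injective D.cBA := by
  intro a a' h
  have := congrArg Subtype.val h
  rw [cBA_coe, cBA_coe] at this
  apply Subtype.ext
  have h2 : D.g⁻¹ * (D.g * a * D.g⁻¹) * D.g = D.g⁻¹ * (D.g * a' * D.g⁻¹) * D.g := by rw [this]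
  simpa [mul_assoc] using h2

theorem sign_cAB (a : D.A) : sign (D.eB (D.cAB a)) = sign (D.eA a) := by
  have := sign_of_injective ((D.eB.toMonoidHom.comp D.cAB).comp D.eA.symm.toMonoidHom)
    (by
      show Function.Injective (⇑D.eB ∘ ⇑D.cAB ∘ ⇑D.eA.symm)
      exact D.eB.injective.comp (D.cAB_injective.comp D.eA.symm.injective)) (D.eA a)
  simpa using this

theorem sign_cBA (b : D.B) : sign (D.eA (D.cBA b)) = sign (D.eB b) := by
  have := sign_of_injective ((D.eA.toMonoidHom.comp D.cBA).comp D.eB.symm.toMonoidHom)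
    (by
      show Function.Injective (⇑D.eA ∘ ⇑D.cBA ∘ ⇑D.eB.symm)
      exact D.eA.injective.comp (D.cBA_injective.comp D.eB.symm.injective)) (D.eB b)
  simpa using this

/-- invariance of `s'` under conjugation by `g` -/
theorem s'_conj_g (n : W) (hn : n ∈ D.N) :
    D.s' ⟨D.g * n * D.g⁻¹, D.normalN.conj_mem n hn D.g⟩ = D.s' ⟨n, hn⟩ := by
  obtain ⟨a, b, rfl⟩ := D.exists_mul n hn
  have e : D.g * ((a : W) * (b : W)) * D.g⁻¹ = (D.cBA b : W) * (D.cAB a : W) := by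
    rw [cAB_coe, cBA_coe]
    have h1 := D.hc _ (D.cBA b).2 _ (D.cAB a).2
    rw [cAB_coe, cBA_coe] at h1
    rw [h1]; group
  have h2 : (D.cBA b : W) * (D.cAB a : W) ∈ D.N := by
    rw [← e]; exact D.normalN.conj_mem _ hn D.g
  have e' : (⟨D.g * ((a : W) * (b : W)) * D.g⁻¹, D.normalN.conj_mem _ hn D.g⟩ : D.N)
      = ⟨(D.cBA b : W) * (D.cAB a : W), h2⟩ := Subtype.ext e
  rw [e', D.s'_mul, D.s'_mul, D.sign_cAB, D.sign_cBA, mul_comm]

/-- invariance of `s'` under conjugation by elements of `N` -/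
theorem s'_conj_N (x : W) (hx : x ∈ D.N) (n : W) (hn : n ∈ D.N) :
    D.s' ⟨x * n * x⁻¹, D.normalN.conj_mem n hn x⟩ = D.s' ⟨n, hn⟩ := by
  have e : (⟨x * n * x⁻¹, D.normalN.conj_mem n hn x⟩ : D.N)
      = ⟨x, hx⟩ * ⟨n, hn⟩ * ⟨x, hx⟩⁻¹ := rfl
  rw [e, map_mul, map_mul, map_inv, mul_comm, ← mul_assoc, inv_mul_cancel, one_mul]

/-- invariance of `s'` under conjugation -/
theorem s'_conj (x : W) (n : W) (hn : n ∈ D.N) :
    D.s' ⟨x * n * x⁻¹, D.normalN.conj_mem n hn x⟩ = D.s' ⟨n, hn⟩ := by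
  by_cases hx : x ∈ D.N
  · exact D.s'_conj_N x hx n hn
  · have hm : x * D.g⁻¹ ∈ D.N := by
      rw [Subgroup.mul_mem_iff_of_index_two D.hidxN]
      constructor
      · intro h; exact absurd h hx
      · intro h; exact absurd (by simpa using D.N.inv_mem h) D.g_not_mem
    have h1 := D.s'_conj_g n hn
    have h2 := D.s'_conj_N (x * D.g⁻¹) hm (D.g * n * D.g⁻¹) (D.normalN.conj_mem n hn D.g)
    rw [← h1, ← h2]
    congr 1
    apply Subtype.ext
    show x * n * x⁻¹ = x * D.g⁻¹ * (D.g * n * D.g⁻¹) * (x * D.g⁻¹)⁻¹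
    group

/-- membership in the kernel of `s'` -/
def InK (w : W) : Prop := ∃ h : w ∈ D.N, D.s' ⟨w, h⟩ = 1

/-- the kernel of `s'` as a subgroup of `W` -/
noncomputable def K : Subgroup W := (D.s'.ker).map D.N.subtype

theorem mem_K {w : W} : w ∈ D.K ↔ D.InK w := by
  unfold K InK
  constructor
  · rintro ⟨n, hn, rfl⟩
    exact ⟨n.2, hn⟩
  · rintro ⟨h, hs⟩
    exact ⟨⟨w, h⟩, hs, rfl⟩

theorem commutator_mem_K_of_right (x y : W) (hy : y ∈ D.N) : ⁅x, y⁆ ∈ D.K := by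
  rw [mem_K]
  have h1 : x * y * x⁻¹ ∈ D.N := D.normalN.conj_mem y hy x
  have h2 : y⁻¹ ∈ D.N := D.N.inv_mem hy
  refine ⟨by rw [commutatorElement_def]; exact D.N.mul_mem h1 h2, ?_⟩
  have e : (⟨⁅x, y⁆, by rw [commutatorElement_def]; exact D.N.mul_mem h1 h2⟩ : D.N)
      = ⟨x * y * x⁻¹, h1⟩ * ⟨y, hy⟩⁻¹ := by
    apply Subtype.ext
    show ⁅x, y⁆ = x * y * x⁻¹ * y⁻¹
    exact commutatorElement_def x y
  rw [e, map_mul, map_inv, D.s'_conj x y hy, mul_inv_cancel]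

theorem commutator_mem_K (x y : W) : ⁅x, y⁆ ∈ D.K := by
  by_cases hy : y ∈ D.N
  · exact D.commutator_mem_K_of_right x y hy
  by_cases hx : x ∈ D.N
  · have := D.commutator_mem_K_of_right y x hx
    have e : ⁅x, y⁆ = ⁅y, x⁆⁻¹ := (commutatorElement_inv y x).symm
    rw [e]
    exact D.K.inv_mem this
  · -- both outside `N`
    have hm : y * x⁻¹ ∈ D.N := by
      rw [Subgroup.mul_mem_iff_of_index_two D.hidxN]
      constructor
      · intro h; exact absurd h hy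
      · intro h; exact absurd (by simpa using D.N.inv_mem h) hx
    have := D.commutator_mem_K_of_right x (y * x⁻¹) hm
    have e : ⁅x, y⁆ = ⁅x, y * x⁻¹⁆ := by
      rw [commutatorElement_def, commutatorElement_def]; group
    rw [e]; exact this

theorem commutator_le_K : commutator W ≤ D.K := by
  rw [commutator_def, Subgroup.commutator_le]
  intro x _ y _
  exact D.commutator_mem_K x y

theorem K_le_N : D.K ≤ D.N := by
  intro w hw
  rw [mem_K] at hw
  exact hw.1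

/-- the embedding of the commutator subgroup -/
noncomputable def Psi : ↥(commutator W) →* S3 × S3 :=
  D.Th.toMonoidHom.comp (Subgroup.inclusion (D.commutator_le_K.trans D.K_le_N))

theorem Psi_injective : Function.Injective D.Psi := by
  unfold Psi
  exact D.Th.injective.comp (Subgroup.inclusion_injective _)

theorem Psi_sign (x : ↥(commutator W)) : sign (D.Psi x).1 = sign (D.Psi x).2 := by
  have hx := D.commutator_le_K x.2
  rw [mem_K] at hx
  obtain ⟨h, hs⟩ := hx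
  have : sign (D.Psi x).1 * sign (D.Psi x).2 = 1 := hs
  have h2 : sign (D.Psi x).1 = (sign (D.Psi x).2)⁻¹ := eq_inv_of_mul_eq_one_left this
  rw [h2, Int.units_inv_eq_self]

theorem Psi_eq (x : ↥(commutator W)) (h : (x : W) ∈ D.N) : D.Psi x = D.Th ⟨(x : W), h⟩ := rfl

theorem s3_noncomm : (⁅(swap 0 1 : S3), swap 1 2⁆ * (swap 0 1 : S3)⁻¹)
    ≠ (swap 0 1 : S3)⁻¹ * ⁅(swap 0 1 : S3), swap 1 2⁆ := by decide

include D in
theorem not_comm : ∃ x y : ↥(commutator W), x * y ≠ y * x := by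
  set α1 : D.A := D.eA.symm (swap 0 1) with hα1
  set α2 : D.A := D.eA.symm (swap 1 2) with hα2
  have hm1 : ⁅(α1 : W), (α2 : W)⁆ ∈ commutator W := by
    rw [commutator_def]
    exact Subgroup.commutator_mem_commutator (Subgroup.mem_top _) (Subgroup.mem_top _)
  have hm2 : ⁅D.g, (α1 : W)⁆ ∈ commutator W := by
    rw [commutator_def]
    exact Subgroup.commutator_mem_commutator (Subgroup.mem_top _) (Subgroup.mem_top _)
  refine ⟨⟨_, hm1⟩, ⟨_, hm2⟩, ?_⟩
  intro h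
  have h1 : D.Psi ⟨_, hm1⟩ = (⁅(swap 0 1 : S3), swap 1 2⁆, 1) := by
    have e : ⁅(α1 : W), (α2 : W)⁆ = ((⁅α1, α2⁆ : D.A) : W) := by
      rw [commutatorElement_def, commutatorElement_def]; rfl
    have hN : ⁅(α1 : W), (α2 : W)⁆ ∈ D.N := by rw [e]; exact D.A_le (⁅α1, α2⁆ : D.A).2
    rw [D.Psi_eq _ hN]
    have e2 : (⟨⁅(α1 : W), (α2 : W)⁆, hN⟩ : D.N) = ⟨((⁅α1, α2⁆ : D.A) : W), D.A_le (⁅α1, α2⁆ : D.A).2⟩ :=
      Subtype.ext e
    rw [e2, D.Th_left]
    simp [hα1, hα2, commutatorElement_def]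
  have h2 : (D.Psi ⟨_, hm2⟩).1 = (swap 0 1 : S3)⁻¹ := by
    have e : ⁅D.g, (α1 : W)⁆ = ((α1⁻¹ : D.A) : W) * (D.cAB α1 : W) := by
      rw [commutatorElement_def]
      have := D.hc _ (α1⁻¹ : D.A).2 _ (D.cAB α1).2
      rw [this, cAB_coe]; rfl
    have hN : ⁅D.g, (α1 : W)⁆ ∈ D.N := by
      rw [e]; exact D.N.mul_mem (D.A_le (α1⁻¹ : D.A).2) (D.B_le (D.cAB α1).2)
    rw [D.Psi_eq _ hN]
    have e2 : (⟨⁅D.g, (α1 : W)⁆, hN⟩ : D.N)
        = ⟨((α1⁻¹ : D.A) : W) * (D.cAB α1 : W), by rw [← e]; exact hN⟩ := Subtype.ext e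
    rw [e2, D.Th_mul]
    simp [hα1]
  have h3 := congrArg (fun x => (D.Psi x).1) h
  simp only [map_mul, Prod.fst_mul] at h3
  rw [h1, h2] at h3
  exact s3_noncomm h3

end Wr

/-- **The abstract theorem for groups of shape `S₃ ≀ C₂`.** -/
theorem exists_steinberg_of_wr {W : Type*} [Group W] [Finite W] (D : Wr W) :
    ∃ χ : (↥(commutator W) ⧸ Subgroup.center ↥(commutator W)) → ℂ,
      Cfsg.IsIrrCharacter (↥(commutator W) ⧸ Subgroup.center ↥(commutator W)) χ ∧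
      ∀ P : Sylow 2 (↥(commutator W) ⧸ Subgroup.center ↥(commutator W)), χ 1 = Nat.card P ∧
        ∀ x : ↥(commutator W) ⧸ Subgroup.center ↥(commutator W), x ∈ P → x ≠ 1 → χ x = 0 :=
  exists_steinberg_of_hom D.Psi D.Psi_injective D.Psi_sign D.not_comm

end Cfsg.Agent.Lib.Helper25.OPlusDeg
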