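import Mathlib
import Cfsg.Prelude.Def_Classical
import Cfsg.Agent.Lib.Helper25.OPlusDegB3
import Cfsg.Agent.Lib.Helper15.O4Plus

/-!
# The degenerate case `(m, q) = (2, 2)` of the Steinberg character of `PΩ⁺_{2m}(q)`

`O⁺_4(2) ≅ S₃ ≀ C₂` (helper15, `o4plus_isS3Wr2`), transported to an arbitrary field with two
elements, and the abstract theorem `exists_steinberg_of_wr`.
-/

set_option autoImplicit false

namespace Cfsg.Agent.Lib.Helper25.OPlusDeg

open Matrix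

section transfer
variable {F K : Type*} [Field F] [Field K] (e : F ≃+* K) {ι : Type} [Fintype ι] [DecidableEq ι]

/-- the isomorphism of general linear groups induced by a field isomorphism -/
def glEquiv : GL ι F ≃* GL ι K := Units.mapEquiv (e.mapMatrix (m := ι)).toMulEquiv

theorem glEquiv_coe (g : GL ι F) :
    ((glEquiv e g : GL ι K) : Matrix ι ι K) = (g : Matrix ι ι F).map e := rfl

theorem map_mulVec_comp (M : Matrix ι ι F) (u : ι → F) :
    (M.map e) *ᵥ (fun i => e (u i)) = fun i => e ((M *ᵥ u) i) := by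
  funext i
  exact (RingHom.map_mulVec e.toRingHom M u i).symm

theorem quadFormPlus_map (m : ℕ) (v : Fin m ⊕ Fin m → F) :
    Cfsg.quadFormPlus m K (fun i => e (v i)) = e (Cfsg.quadFormPlus m F v) := by
  unfold Cfsg.quadFormPlus
  rw [map_sum]
  apply Finset.sum_congr rfl
  intro i _
  rw [map_mul]

theorem mem_iso_plus {L : Type*} [Field L] (m : ℕ) (g : GL (Fin m ⊕ Fin m) L) :
    g ∈ Cfsg.isometryGroup L (Cfsg.quadFormPlus m L) ↔
      ∀ u, Cfsg.quadFormPlus m L ((g : Matrix _ _ L) *ᵥ u) = Cfsg.quadFormPlus m L u :=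
  ⟨fun h u => h u u, fun h u _ => h u⟩

theorem mem_iso_iff_map (m : ℕ) (g : GL (Fin m ⊕ Fin m) F) :
    g ∈ Cfsg.isometryGroup F (Cfsg.quadFormPlus m F) ↔
      glEquiv e g ∈ Cfsg.isometryGroup K (Cfsg.quadFormPlus m K) := by
  rw [mem_iso_plus, mem_iso_plus]
  constructor
  · intro hg u'
    obtain ⟨u, rfl⟩ : ∃ u : Fin m ⊕ Fin m → F, u' = fun i => e (u i) :=
      ⟨fun i => e.symm (u' i), by funext i; simp⟩
    have h1 : ((glEquiv e g : GL (Fin m ⊕ Fin m) K) : Matrix (Fin m ⊕ Fin m) (Fin m ⊕ Fin m) K)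
          *ᵥ (fun i => e (u i))
        = fun i => e (((g : Matrix (Fin m ⊕ Fin m) (Fin m ⊕ Fin m) F) *ᵥ u) i) :=
      map_mulVec_comp e (g : Matrix (Fin m ⊕ Fin m) (Fin m ⊕ Fin m) F) u
    rw [h1, quadFormPlus_map, quadFormPlus_map, hg]
  · intro hg u
    have h := hg (fun i => e (u i))
    have h1 : ((glEquiv e g : GL (Fin m ⊕ Fin m) K) : Matrix (Fin m ⊕ Fin m) (Fin m ⊕ Fin m) K)
          *ᵥ (fun i => e (u i))
        = fun i => e (((g : Matrix (Fin m ⊕ Fin m) (Fin m ⊕ Fin m) F) *ᵥ u) i) :=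
      map_mulVec_comp e (g : Matrix (Fin m ⊕ Fin m) (Fin m ⊕ Fin m) F) u
    rw [h1, quadFormPlus_map, quadFormPlus_map] at h
    exact e.injective h

/-- the induced isomorphism of isometry groups -/
def isoEquiv (m : ℕ) : Cfsg.isometryGroup F (Cfsg.quadFormPlus m F) ≃*
    Cfsg.isometryGroup K (Cfsg.quadFormPlus m K) where
  toFun g := ⟨glEquiv e (g : GL (Fin m ⊕ Fin m) F),
    (mem_iso_iff_map e m (g : GL (Fin m ⊕ Fin m) F)).mp g.2⟩
  invFun h := ⟨(glEquiv (ι := Fin m ⊕ Fin m) e).symm (h : GL (Fin m ⊕ Fin m) K),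
    (mem_iso_iff_map e m ((glEquiv (ι := Fin m ⊕ Fin m) e).symm (h : GL (Fin m ⊕ Fin m) K))).mpr (by
      rw [MulEquiv.apply_symm_apply]; exact h.2)⟩
  left_inv g := by
    apply Subtype.ext
    exact (glEquiv (ι := Fin m ⊕ Fin m) e).symm_apply_apply (g : GL (Fin m ⊕ Fin m) F)
  right_inv h := by
    apply Subtype.ext
    exact (glEquiv (ι := Fin m ⊕ Fin m) e).apply_symm_apply (h : GL (Fin m ⊕ Fin m) K)
  map_mul' a b := by
    apply Subtype.ext
    exact map_mul (glEquiv (ι := Fin m ⊕ Fin m) e) (a : GL (Fin m ⊕ Fin m) F) (b : GL (Fin m ⊕ Fin m) F)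

end transfer

theorem steinberg_plus_two_two {F : Type*} [Field F] [Fintype F] (hF : Fintype.card F = 2) :
    ∃ χ : Cfsg.POmega F (Cfsg.quadFormPlus 2 F) → ℂ,
      Cfsg.IsIrrCharacter (Cfsg.POmega F (Cfsg.quadFormPlus 2 F)) χ ∧
      ∀ P : Sylow 2 (Cfsg.POmega F (Cfsg.quadFormPlus 2 F)), χ 1 = Nat.card P ∧
        ∀ x : Cfsg.POmega F (Cfsg.quadFormPlus 2 F), x ∈ P → x ≠ 1 → χ x = 0 := by
  classical
  let e0 : ZMod 2 ≃+* F := ZMod.ringEquivOfPrime F Nat.prime_two hF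
  have hwr : Cfsg.Agent.Lib.Helper15.IsS3Wr2 (Cfsg.isometryGroup F (Cfsg.quadFormPlus 2 F)) :=
    Cfsg.Agent.Lib.Helper15.IsS3Wr2.of_equiv (isoEquiv e0 2) Cfsg.Agent.Lib.Helper15.o4plus_isS3Wr2
  obtain ⟨A, B, ⟨eA⟩, ⟨eB⟩, hAB, hc, hidx, g, hg⟩ := hwr
  exact exists_steinberg_of_wr ⟨A, B, eA, eB, hAB, hc, hidx, g, hg⟩

end Cfsg.Agent.Lib.Helper25.OPlusDeg
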