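import Mathlib
import Cfsg.Agent.Lib.Helper25.OTKone
import Cfsg.Agent.Lib.Helper12.OTExitBU3
import Cfsg.Agent.Lib.Helper3.SpTL1c

/-!
# S5681 / S5709, EXIT, T3 pieces EICH-K, EICH-conj and the Eichler halves of GLUE-C  (helper25)

Exact statements of `notes/S5681T3Skel_helper12.lean.txt` (v2): `exists_eichK`, `eich_conj_zL`, `inZM_eich`, `bad_eich`
(with helper12's `eich J e z = 1 + E_{e,z} - E_{z,e} - (f(z,z)/2) E_{e,e}`), on top of `OTKone`.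
`InZM` / `Bad` are restated here verbatim (they live in the skeleton, not in a library file).
-/

set_option autoImplicit false
set_option linter.unusedSectionVars false
set_option linter.unusedVariables false

namespace Cfsg.Agent.Lib.Helper25.OTGlueC

open Matrix Module
open Cfsg.Agent.Lib.Helper16.Tens Cfsg.Agent.Lib.Helper10.TensFund
open Cfsg.Agent.Lib.Helper3.SpT (bf E adj uni Over)
open Cfsg.Agent.Lib.Helper13.TensSO (OrthG IsoG)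
open Cfsg.Agent.Lib.Helper28.OT Cfsg.Agent.Lib.Helper28.OTX
open Cfsg.Agent.Lib.Helper8.OTRel (TO zL gTO gK gZ gZ_val gZ_mul)
open Cfsg.Agent.Lib.Helper12.OTExitBU (eich Wd)
open Cfsg.Agent.Lib.Helper25.OTKone
open Cfsg.Agent.Lib.Helper9.OTX1 (rhoW_mem_IsoG)
open scoped Kronecker

variable {F : Type*} [Field F] {a b : ℕ}
variable {J1 : Matrix (Fin a) (Fin a) F} {J2 : Matrix (Fin b) (Fin b) F}
variable {Q : QuadraticForm F (Fin a × Fin b → F)}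
variable {M : Subgroup (GL (Fin a × Fin b) F)}
variable {k1 k2 : Fin b → F}

local notation "K" => Cfsg.Geo.kroneckerSubgroup a b F

/-- helper12's `eich` is `1 + SgN` (helper28) -/
theorem eich_eq {n : ℕ} (J : Matrix (Fin n) (Fin n) F) (e z : Fin n → F) : eich J e z = 1 + SgN J e z := by
  unfold eich SgN
  abel

/-- `(K₁, C, K₂)` are the `Z_L`-coordinates of an element of `M` (verbatim from the T3 skeleton) -/
def InZM (J1 : Matrix (Fin a) (Fin a) F) {J2 : Matrix (Fin b) (Fin b) F} (hJ2 : OrthG J2)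
    (M : Subgroup (GL (Fin a × Fin b) F)) {k1 k2 : Fin b → F} (h : Ts2 J2 k1 k2)
    (K1 C K2 : Matrix (Fin a) (Fin a) F) : Prop :=
  adj J1 K1 = -K1 ∧ adj J1 K2 = -K2 ∧ gZ J1 J2 hJ2 K1 C K2 k1 k2 h.h11 h.h12 h.h22 ∈ M

/-- the bad element (verbatim from the T3 skeleton) -/
structure Bad (J1 : Matrix (Fin a) (Fin a) F) {J2 : Matrix (Fin b) (Fin b) F} (hJ2 : OrthG J2)
    (M : Subgroup (GL (Fin a × Fin b) F)) {k1 k2 : Fin b → F} (h : Ts2 J2 k1 k2)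
    (K1 C K2 : Matrix (Fin a) (Fin a) F) : Prop where
  sk1 : adj J1 K1 = -K1
  sk2 : adj J1 K2 = -K2
  ex : ∃ g ∈ M, ∃ n ∈ Cfsg.Geo.kroneckerSubgroup a b F, n ∈ IsoG (J1 ⊗ₖ J2) ∧
    g * n⁻¹ = gZ J1 J2 hJ2 K1 C K2 k1 k2 h.h11 h.h12 h.h22

/-- EICH-K : `ρ_{e,z} ⊗ 1 ∈ N0 ⊓ Ω` -/
theorem exists_eichK (hS : SetupO J1 J2 Q) (ha : 3 ≤ a) (e z : Fin a → F) (he : bf J1 e e = 0) (hz : bf J1 e z = 0) :
    ∃ n : GL (Fin a × Fin b) F, n ∈ K ∧ n ∈ Cfsg.Geo.omegaGL (⇑Q) ∧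
      (n : Matrix (Fin a × Fin b) (Fin a × Fin b) F) = eich J1 e z ⊗ₖ (1 : Matrix (Fin b) (Fin b) F) ∧
      ((n⁻¹ : GL (Fin a × Fin b) F) : Matrix (Fin a × Fin b) (Fin a × Fin b) F) =
        eich J1 e (-z) ⊗ₖ (1 : Matrix (Fin b) (Fin b) F) := by
  refine ⟨Kone (b := b) (rhoW hS.h1 hS.two e z he hz), Kone_mem_kron _, Kone_rhoW_mem_Om hS e z he hz, ?_, ?_⟩
  · rw [Kone_val, rhoW_val, eich_eq]
  · rw [Kone_inv_val, rhoW_inv_val, eich_eq]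

/-- EICH-conj : conjugation of `z(K₁,C,K₂)` by `ρ ⊗ 1` -/
theorem eich_conj_zL (hJ1 : OrthG J1) (h2 : (2 : F) ≠ 0) (e z : Fin a → F) (he : bf J1 e e = 0) (hz : bf J1 e z = 0)
    (K1 C K2 : Matrix (Fin a) (Fin a) F) (k1 k2 : Fin b → F) :
    (eich J1 e z ⊗ₖ (1 : Matrix (Fin b) (Fin b) F)) * zL J1 J2 K1 C K2 k1 k2 *
        (eich J1 e (-z) ⊗ₖ (1 : Matrix (Fin b) (Fin b) F)) =
      zL J1 J2 (eich J1 e z * K1 * eich J1 e (-z)) (eich J1 e z * C * eich J1 e (-z))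
        (eich J1 e z * K2 * eich J1 e (-z)) k1 k2 := by
  have key := conj_Kone_zL (J2 := J2) hJ1 (rhoW hJ1 h2 e z he hz) (rhoW_mem_IsoG hJ1 h2 e z he hz) K1 C K2 k1 k2
  rw [cj_rhoW, cj_rhoW, cj_rhoW, rhoW_val, rhoW_inv_val] at key
  rw [eich_eq, eich_eq]
  exact key

section glue
variable (hS : SetupO J1 J2 Q) (hb : 5 ≤ b) (hM : Over Q M) (h : Ts2 J2 k1 k2)
include hS hb hM h

/-- conjugation by `ρ_{e,z} ⊗ 1`, with `InZM` unfolded (plug-compatible with any copy of the definition) -/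
theorem inZM_eich_raw (e z : Fin a → F) (he : bf J1 e e = 0) (hz : bf J1 e z = 0)
    {K1 C K2 : Matrix (Fin a) (Fin a) F} (h1 : adj J1 K1 = -K1) (h2 : adj J1 K2 = -K2)
    (h3 : gZ J1 J2 hS.h2 K1 C K2 k1 k2 h.h11 h.h12 h.h22 ∈ M) :
    adj J1 (eich J1 e z * K1 * eich J1 e (-z)) = -(eich J1 e z * K1 * eich J1 e (-z)) ∧
    adj J1 (eich J1 e z * K2 * eich J1 e (-z)) = -(eich J1 e z * K2 * eich J1 e (-z)) ∧
    gZ J1 J2 hS.h2 (eich J1 e z * K1 * eich J1 e (-z)) (eich J1 e z * C * eich J1 e (-z))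
      (eich J1 e z * K2 * eich J1 e (-z)) k1 k2 h.h11 h.h12 h.h22 ∈ M := by
  rw [eich_eq, eich_eq]
  exact ⟨siegel_skew hS.h1 hS.two e z he hz h1, siegel_skew hS.h1 hS.two e z he hz h2,
    gZ_siegel_mem hS hM e z he hz K1 C K2 k1 k2 h.h11 h.h12 h.h22 h3⟩

/-- conjugation by `ρ_{e,z} ⊗ 1` -/
theorem inZM_eich (ha : 3 ≤ a) (e z : Fin a → F) (he : bf J1 e e = 0) (hz : bf J1 e z = 0)
    {K1 C K2 : Matrix (Fin a) (Fin a) F} (hX : InZM J1 hS.h2 M h K1 C K2) :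
    InZM J1 hS.h2 M h (eich J1 e z * K1 * eich J1 e (-z)) (eich J1 e z * C * eich J1 e (-z))
      (eich J1 e z * K2 * eich J1 e (-z)) :=
  inZM_eich_raw hS hb hM h e z he hz hX.1 hX.2.1 hX.2.2

omit hb h in
/-- COMM (private copy; helper18's `comm_mem` is the reference) -/
theorem comm_mem' (g n h' : GL (Fin a × Fin b) F) (hg : g ∈ M)
    (hnK : n ∈ K) (hnI : n ∈ IsoG (J1 ⊗ₖ J2)) (hK : h' ∈ K) (hO : h' ∈ Cfsg.Geo.omegaGL (⇑Q)) :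
    (g * n⁻¹) * h' * (g * n⁻¹)⁻¹ * h'⁻¹ ∈ M := by
  have hn' : n⁻¹ ∈ Cfsg.isometryGroup F (⇑Q) :=
    Cfsg.Agent.Lib.Helper16.OTRootC.mem_iso_of_IsoG hS _ (Subgroup.inv_mem _ hnI)
  have hx : n⁻¹ * h' * n ∈ M := by
    apply hM.kron_mem
    · exact Subgroup.mul_mem _ (Subgroup.mul_mem _ (Subgroup.inv_mem _ hnK) hK) hnK
    · have := Cfsg.Agent.Lib.Helper3.SpT.conj_mem_Om (Q := Q) n⁻¹ h' hn' hO
      rwa [inv_inv] at this
  have hh' : h' ∈ M := hM.kron_mem _ hK hO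
  have e : (g * n⁻¹) * h' * (g * n⁻¹)⁻¹ * h'⁻¹ = g * (n⁻¹ * h' * n) * g⁻¹ * h'⁻¹ := by
    rw [_root_.mul_inv_rev, inv_inv]
    simp only [mul_assoc]
  rw [e]
  exact M.mul_mem (M.mul_mem (M.mul_mem hg hx) (M.inv_mem hg)) (M.inv_mem hh')

omit hS hb hM h in
theorem gZ_zero (hJ2 : OrthG J2) (k1 k2 : Fin b → F) (h11 : bf J2 k1 k1 = 0) (h12 : bf J2 k1 k2 = 0)
    (h22 : bf J2 k2 k2 = 0) : gZ J1 J2 hJ2 0 0 0 k1 k2 h11 h12 h22 = 1 := by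
  apply Units.ext
  rw [gZ_val, Units.val_one]
  unfold zL TO adj
  simp

omit hS hb hM h in
theorem gZ_inv (hJ2 : OrthG J2) (K1 C K2 : Matrix (Fin a) (Fin a) F) (k1 k2 : Fin b → F)
    (h11 : bf J2 k1 k1 = 0) (h12 : bf J2 k1 k2 = 0) (h22 : bf J2 k2 k2 = 0) :
    (gZ J1 J2 hJ2 K1 C K2 k1 k2 h11 h12 h22)⁻¹ = gZ J1 J2 hJ2 (-K1) (-C) (-K2) k1 k2 h11 h12 h22 := by
  apply inv_eq_of_mul_eq_one_right
  rw [gZ_mul, add_neg_cancel, add_neg_cancel, add_neg_cancel, gZ_zero]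

/-- `bad_eich` with `Bad` / `InZM` unfolded (plug-compatible with any copy of the definitions) -/
theorem bad_eich_raw (e z : Fin a → F) (he : bf J1 e e = 0) (hz : bf J1 e z = 0)
    {K1 C K2 : Matrix (Fin a) (Fin a) F} (hk1 : adj J1 K1 = -K1) (hk2 : adj J1 K2 = -K2)
    (hex : ∃ g ∈ M, ∃ n ∈ Cfsg.Geo.kroneckerSubgroup a b F, n ∈ IsoG (J1 ⊗ₖ J2) ∧
      g * n⁻¹ = gZ J1 J2 hS.h2 K1 C K2 k1 k2 h.h11 h.h12 h.h22) :
    adj J1 (K1 - eich J1 e z * K1 * eich J1 e (-z)) = -(K1 - eich J1 e z * K1 * eich J1 e (-z)) ∧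
    adj J1 (K2 - eich J1 e z * K2 * eich J1 e (-z)) = -(K2 - eich J1 e z * K2 * eich J1 e (-z)) ∧
    gZ J1 J2 hS.h2 (K1 - eich J1 e z * K1 * eich J1 e (-z)) (C - eich J1 e z * C * eich J1 e (-z))
      (K2 - eich J1 e z * K2 * eich J1 e (-z)) k1 k2 h.h11 h.h12 h.h22 ∈ M := by
  obtain ⟨g, hg, n, hnK, hnI, hζ⟩ := hex
  have hρI := rhoW_mem_IsoG hS.h1 hS.two e z he hz
  have hc := comm_mem' hS hM g n (Kone (b := b) (rhoW hS.h1 hS.two e z he hz)) hg hnK hnI (Kone_mem_kron _)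
    (Kone_rhoW_mem_Om hS e z he hz)
  rw [hζ] at hc
  have e1 : gZ J1 J2 hS.h2 K1 C K2 k1 k2 h.h11 h.h12 h.h22 * Kone (b := b) (rhoW hS.h1 hS.two e z he hz) *
      (gZ J1 J2 hS.h2 K1 C K2 k1 k2 h.h11 h.h12 h.h22)⁻¹ * (Kone (b := b) (rhoW hS.h1 hS.two e z he hz))⁻¹ =
      gZ J1 J2 hS.h2 K1 C K2 k1 k2 h.h11 h.h12 h.h22 *
        (Kone (b := b) (rhoW hS.h1 hS.two e z he hz) * gZ J1 J2 hS.h2 (-K1) (-C) (-K2) k1 k2 h.h11 h.h12 h.h22 *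
          (Kone (b := b) (rhoW hS.h1 hS.two e z he hz))⁻¹) := by
    rw [gZ_inv]
    simp only [mul_assoc]
  rw [e1, conj_Kone_gZ hS.h1 hS.h2 _ hρI, gZ_mul, cj_neg, cj_neg, cj_neg, cj_rhoW, cj_rhoW, cj_rhoW,
    ← sub_eq_add_neg, ← sub_eq_add_neg, ← sub_eq_add_neg] at hc
  rw [eich_eq, eich_eq]
  refine ⟨?_, ?_, hc⟩
  · rw [Cfsg.Agent.Lib.Helper8.OTRel.adj_sub', siegel_skew hS.h1 hS.two e z he hz hk1, hk1]
    abel
  · rw [Cfsg.Agent.Lib.Helper8.OTRel.adj_sub', siegel_skew hS.h1 hS.two e z he hz hk2, hk2]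
    abel

theorem bad_eich (ha : 3 ≤ a) (e z : Fin a → F) (he : bf J1 e e = 0) (hz : bf J1 e z = 0)
    {K1 C K2 : Matrix (Fin a) (Fin a) F} (hX : Bad J1 hS.h2 M h K1 C K2) :
    InZM J1 hS.h2 M h (K1 - eich J1 e z * K1 * eich J1 e (-z)) (C - eich J1 e z * C * eich J1 e (-z))
      (K2 - eich J1 e z * K2 * eich J1 e (-z)) :=
  bad_eich_raw hS hb hM h e z he hz hX.sk1 hX.sk2 hX.ex

end glue

end Cfsg.Agent.Lib.Helper25.OTGlueC
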