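import Mathlib
import Cfsg.Agent.Lib.Helper28.OTDefs
import Cfsg.Agent.Lib.Helper10.KronQuad
import Cfsg.Agent.Lib.Helper18.TensOmegaBridge
import Cfsg.Agent.Lib.Helper1.S5666BGEO

/-!
# S5681 / S5709, piece STRICT (helper25): `Ω(Q)` is not contained in the Kronecker subgroup

A Siegel element `ρ = 1 + E_{x,y} - E_{y,x}` (`x = u₁ ⊗ k`, `y = u₂ ⊗ k`, `k` singular, `u₁` anisotropic, `u₂ ⟂ u₁`) is the
commutator `[B, ρ_{-1/2}]` of two isometries (`B = -1` on the hyperbolic plane `⟨x, x'⟩`, `x' = d⁻¹ u₁ ⊗ l`), hence lies in `Ω`;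
it is quadratic, so if it were in `N0` it would be `1 ⊗ B'` or `A' ⊗ 1` (`Helper10.KronQuad.kron_quad`), and evaluating on `x'`
gives a contradiction.
-/

set_option autoImplicit false
set_option linter.unusedSectionVars false
set_option linter.unusedVariables false

namespace Cfsg.Agent.Lib.Helper25.OTStrict

open Matrix Module
open Cfsg.Agent.Lib.Helper16.Tens
open Cfsg.Agent.Lib.Helper3.SpT (bf E uni mat_ext_mulVec E_mulVec bf_add_left bf_add_right bf_smul_left bf_smul_right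
  bf_sub_left bf_sub_right bf_neg_left bf_neg_right bf_kron_pur)
open Cfsg.Agent.Lib.Helper13.TensSO (OrthG IsoG)
open Cfsg.Agent.Lib.Helper28.OT
open scoped Kronecker commutatorElement

section abstract

variable {F : Type*} [Field F] {κ : Type} [Fintype κ] [DecidableEq κ]

/-- the Siegel nilpotent `v ↦ f(v,y) x - f(v,x) y` -/
def TS (J : Matrix κ κ F) (x y : κ → F) : Matrix κ κ F := E J x y - E J y x

theorem TS_mulVec (J : Matrix κ κ F) (x y v : κ → F) :
    TS J x y *ᵥ v = bf J v y • x - bf J v x • y := by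
  unfold TS
  rw [Matrix.sub_mulVec, E_mulVec, E_mulVec]

theorem TS_sq (J : Matrix κ κ F) (hs : ∀ x y, bf J x y = bf J y x) (x y : κ → F)
    (hxx : bf J x x = 0) (hxy : bf J x y = 0) (hyy : bf J y y = 0) :
    TS J x y * TS J x y = 0 := by
  apply mat_ext_mulVec
  intro v
  have hyx : bf J y x = 0 := by rw [hs, hxy]
  rw [← Matrix.mulVec_mulVec, TS_mulVec J x y v, Matrix.mulVec_sub, Matrix.mulVec_smul, Matrix.mulVec_smul,
    TS_mulVec, TS_mulVec, hxx, hxy, hyy, hyx]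
  simp

/-- the involution `-1` on the hyperbolic plane `⟨x, x'⟩`, `1` on its orthogonal complement -/
def BM (J : Matrix κ κ F) (x x' : κ → F) : Matrix κ κ F := 1 - (2 : F) • (E J x x' + E J x' x)

theorem BM_mulVec (J : Matrix κ κ F) (x x' v : κ → F) :
    BM J x x' *ᵥ v = v - (2 : F) • (bf J v x' • x + bf J v x • x') := by
  unfold BM
  rw [Matrix.sub_mulVec, Matrix.one_mulVec, Matrix.smul_mulVec, Matrix.add_mulVec, E_mulVec, E_mulVec]

theorem bf_BM_left (J : Matrix κ κ F) (hs : ∀ x y, bf J x y = bf J y x) (x x' v w : κ → F) :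
    bf J (BM J x x' *ᵥ v) w = bf J v w - 2 * (bf J v x' * bf J x w + bf J v x * bf J x' w) := by
  rw [BM_mulVec, bf_sub_left, bf_smul_left, bf_add_left, bf_smul_left, bf_smul_left]

theorem BM_sq (J : Matrix κ κ F) (hs : ∀ x y, bf J x y = bf J y x) (x x' : κ → F)
    (hxx : bf J x x = 0) (hx'x' : bf J x' x' = 0) (hxx' : bf J x x' = 1) :
    BM J x x' * BM J x x' = 1 := by
  apply mat_ext_mulVec
  intro v
  have hx'x : bf J x' x = 1 := by rw [hs, hxx']
  rw [← Matrix.mulVec_mulVec, Matrix.one_mulVec]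
  have h1 : bf J (BM J x x' *ᵥ v) x' = - bf J v x' := by
    rw [bf_BM_left J hs, hxx', hx'x']; ring
  have h2 : bf J (BM J x x' *ᵥ v) x = - bf J v x := by
    rw [bf_BM_left J hs, hxx, hx'x]; ring
  rw [BM_mulVec J x x' (BM J x x' *ᵥ v), h1, h2, BM_mulVec]
  module

/-- `B` as an element of `GL` -/
def BG (J : Matrix κ κ F) (hs : ∀ x y, bf J x y = bf J y x) (x x' : κ → F)
    (hxx : bf J x x = 0) (hx'x' : bf J x' x' = 0) (hxx' : bf J x x' = 1) : GL κ F where
  val := BM J x x'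
  inv := BM J x x'
  val_inv := BM_sq J hs x x' hxx hx'x' hxx'
  inv_val := BM_sq J hs x x' hxx hx'x' hxx'

theorem BM_pres (J : Matrix κ κ F) (hs : ∀ x y, bf J x y = bf J y x) (x x' : κ → F)
    (hxx : bf J x x = 0) (hx'x' : bf J x' x' = 0) (hxx' : bf J x x' = 1) (v w : κ → F) :
    bf J (BM J x x' *ᵥ v) (BM J x x' *ᵥ w) = bf J v w := by
  have hx'x : bf J x' x = 1 := by rw [hs, hxx']
  rw [bf_BM_left J hs, hs x (BM J x x' *ᵥ w), hs x' (BM J x x' *ᵥ w), hs v (BM J x x' *ᵥ w),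
    bf_BM_left J hs, bf_BM_left J hs, bf_BM_left J hs, hxx, hx'x', hxx', hx'x, hs w v, hs x v, hs x' v]
  ring

theorem TS_pres (J : Matrix κ κ F) (hs : ∀ x y, bf J x y = bf J y x) (x y : κ → F)
    (hxx : bf J x x = 0) (hxy : bf J x y = 0) (hyy : bf J y y = 0) (c : F) (v w : κ → F) :
    bf J ((1 + c • TS J x y) *ᵥ v) ((1 + c • TS J x y) *ᵥ w) = bf J v w := by
  have hyx : bf J y x = 0 := by rw [hs, hxy]
  rw [Matrix.add_mulVec, Matrix.add_mulVec, Matrix.one_mulVec, Matrix.one_mulVec, Matrix.smul_mulVec,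
    Matrix.smul_mulVec, TS_mulVec, TS_mulVec]
  simp only [bf_add_left, bf_add_right, bf_smul_left, bf_smul_right, bf_sub_left, bf_sub_right, hxx, hxy, hyy, hyx]
  rw [hs x w, hs y w]
  ring

/-- `B T B = -T` -/
theorem BM_TS_BM (J : Matrix κ κ F) (hs : ∀ x y, bf J x y = bf J y x) (x y x' : κ → F)
    (hxx : bf J x x = 0) (hxy : bf J x y = 0)
    (hx'x' : bf J x' x' = 0) (hxx' : bf J x x' = 1) (hyx' : bf J y x' = 0) :
    BM J x x' * TS J x y * BM J x x' = - TS J x y := by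
  apply mat_ext_mulVec
  intro v
  have hx'x : bf J x' x = 1 := by rw [hs, hxx']
  have hyx : bf J y x = 0 := by rw [hs, hxy]
  have hx'y : bf J x' y = 0 := by rw [hs, hyx']
  rw [← Matrix.mulVec_mulVec, ← Matrix.mulVec_mulVec, TS_mulVec J x y (BM J x x' *ᵥ v), bf_BM_left J hs,
    bf_BM_left J hs, hxy, hx'y, hxx, hx'x, Matrix.mulVec_sub, Matrix.mulVec_smul, Matrix.mulVec_smul, BM_mulVec,
    BM_mulVec, hxx', hxx, hyx', hyx, Matrix.neg_mulVec, TS_mulVec]
  module

end abstract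

section main

variable {F : Type*} [Field F] [Fintype F] {a b : ℕ}
variable {J1 : Matrix (Fin a) (Fin a) F} {J2 : Matrix (Fin b) (Fin b) F}
variable {Q : QuadraticForm F (Fin a × Fin b → F)}

theorem bfK_symm (hS : SetupO J1 J2 Q) (x y : Fin a × Fin b → F) :
    bf (J1 ⊗ₖ J2) x y = bf (J1 ⊗ₖ J2) y x := by
  rw [← hS.polar, ← hS.polar, QuadraticMap.polar_comm]

theorem two_Q (hS : SetupO J1 J2 Q) (v : Fin a × Fin b → F) : 2 * Q v = bf (J1 ⊗ₖ J2) v v := by
  rw [← hS.polar, QuadraticMap.polar_self]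
  simp [two_smul, two_mul]

/-- a `GL` element preserving the tensor form is an isometry of `Q` -/
theorem mem_iso_of_pres (hS : SetupO J1 J2 Q) (g : GL (Fin a × Fin b) F)
    (hg : ∀ v w, bf (J1 ⊗ₖ J2) ((g : Matrix (Fin a × Fin b) (Fin a × Fin b) F) *ᵥ v)
      ((g : Matrix (Fin a × Fin b) (Fin a × Fin b) F) *ᵥ w) = bf (J1 ⊗ₖ J2) v w) :
    g ∈ Cfsg.isometryGroup F (⇑Q) := by
  rw [Cfsg.Agent.Lib.Helper18.TensOmegaBridge.mem_isometryGroup_iff]
  intro u
  have h1 := two_Q hS ((g : Matrix (Fin a × Fin b) (Fin a × Fin b) F) *ᵥ u)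
  rw [hg, ← two_Q hS u] at h1
  exact mul_left_cancel₀ hS.two h1

/-- equal non-zero pure tensors have proportional factors -/
theorem pur_prop {u u' : Fin a → F} {w w' : Fin b → F} (h : pur u w = pur u' w') (hne : pur u' w' ≠ 0) :
    (∃ l : F, u' = l • u) ∧ (∃ m : F, w' = m • w) := by
  have hu' : u' ≠ 0 := by
    rintro rfl
    exact hne (pur_zero_left w')
  have hw' : w' ≠ 0 := by
    rintro rfl
    exact hne (pur_zero_right u')
  obtain ⟨i0, hi0⟩ : ∃ i, u' i ≠ 0 := by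
    by_contra hall; push Not at hall; exact hu' (funext hall)
  obtain ⟨j0, hj0⟩ : ∃ j, w' j ≠ 0 := by
    by_contra hall; push Not at hall; exact hw' (funext hall)
  constructor
  · refine ⟨w j0 / w' j0, ?_⟩
    funext i
    have := congrFun h (i, j0)
    simp only [pur_apply] at this
    rw [Pi.smul_apply, smul_eq_mul]
    field_simp
    linear_combination -this
  · refine ⟨u i0 / u' i0, ?_⟩
    funext j
    have := congrFun h (i0, j)
    simp only [pur_apply] at this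
    rw [Pi.smul_apply, smul_eq_mul]
    field_simp
    linear_combination -this

/-- an anisotropic vector of `U` -/
theorem exists_aniso (hJ1 : OrthG J1) (h2 : (2 : F) ≠ 0) (ha : 1 ≤ a) : ∃ u : Fin a → F, bf J1 u u ≠ 0 := by
  by_contra hcon
  push Not at hcon
  have hall : ∀ x y : Fin a → F, bf J1 x y = 0 := by
    intro x y
    have h := hcon (x + y)
    rw [bf_add_left, bf_add_right, bf_add_right, hcon x, hcon y, hJ1.symm y x] at h
    have h' : 2 * bf J1 x y = 0 := by linear_combination h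
    exact (mul_eq_zero.mp h').resolve_left h2
  have h0 : (Pi.single (⟨0, by omega⟩ : Fin a) (1 : F) : Fin a → F) = 0 := hJ1.nondeg _ (fun y => hall _ y)
  have := congrFun h0 ⟨0, by omega⟩
  simp at this

/-- a non-zero vector of `U` orthogonal to a given one -/
theorem exists_perp (ha : 2 ≤ a) (u1 : Fin a → F) : ∃ u2 : Fin a → F, u2 ≠ 0 ∧ bf J1 u2 u1 = 0 := by
  set i0 : Fin a := ⟨0, by omega⟩ with hi0
  set i1 : Fin a := ⟨1, by omega⟩ with hi1
  have hne : i0 ≠ i1 := by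
    intro h
    have := congrArg Fin.val h
    simp [hi0, hi1] at this
  set e0 : Fin a → F := Pi.single i0 1 with he0
  set e1 : Fin a → F := Pi.single i1 1 with he1
  by_cases h0 : bf J1 e0 u1 = 0
  · refine ⟨e0, ?_, h0⟩
    intro h
    have := congrFun h i0
    simp [he0] at this
  · refine ⟨e1 - (bf J1 e1 u1 / bf J1 e0 u1) • e0, ?_, ?_⟩
    · intro h
      have := congrFun h i1
      simp [he0, he1, hne.symm] at this
    · rw [bf_sub_left, bf_smul_left]
      field_simp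
      ring

/-- **STRICT**: `Ω` is not contained in `N0`. -/
theorem strict (hS : SetupO J1 J2 Q) (ha : 3 ≤ a) (hb : 5 ≤ b) :
    ¬ Cfsg.Geo.omegaGL (⇑Q) ≤ Cfsg.Geo.kroneckerSubgroup a b F := by
  intro hle
  have h2 := hS.two
  -- the vectors
  obtain ⟨u1, hu1⟩ := exists_aniso hS.h1 h2 (by omega)
  obtain ⟨u2, hu2, hu21⟩ := exists_perp (J1 := J1) (by omega) u1
  have hJ2' : Cfsg.Agent.Lib.Helper27.SpOB.SymG J2 := ⟨hS.h2.symm, hS.h2.nondeg⟩
  obtain ⟨k, hk0, hk⟩ := Cfsg.Agent.Lib.Helper1.S5666BGEO.exists_singular hJ2' (by omega)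
  obtain ⟨l, hl, hkl⟩ := Cfsg.Agent.Lib.Helper1.S5666BGEO.exists_partner' h2 hJ2' k hk0 hk
  set d : F := bf J1 u1 u1 with hd
  set x : Fin a × Fin b → F := pur u1 k with hx
  set y : Fin a × Fin b → F := pur u2 k with hy
  set x' : Fin a × Fin b → F := pur (d⁻¹ • u1) l with hx'
  set J : Matrix (Fin a × Fin b) (Fin a × Fin b) F := J1 ⊗ₖ J2 with hJ
  have hs : ∀ v w, bf J v w = bf J w v := bfK_symm hS
  have hxx : bf J x x = 0 := by rw [hx, hJ, bf_kron_pur, hk, mul_zero]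
  have hxy : bf J x y = 0 := by rw [hx, hy, hJ, bf_kron_pur, hk, mul_zero]
  have hyy : bf J y y = 0 := by rw [hy, hJ, bf_kron_pur, hk, mul_zero]
  have hx'x' : bf J x' x' = 0 := by rw [hx', hJ, bf_kron_pur, hl, mul_zero]
  have hxx' : bf J x x' = 1 := by
    rw [hx, hx', hJ, bf_kron_pur, bf_smul_right, hkl, mul_one, ← hd, inv_mul_cancel₀ hu1]
  have hyx' : bf J y x' = 0 := by
    rw [hy, hx', hJ, bf_kron_pur, bf_smul_right, hu21, mul_zero, zero_mul]
  have hy0 : y ≠ 0 := by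
    intro h
    rcases pur_eq_zero h with h | h
    · exact hu2 h
    · exact hk0 h
  -- the group elements
  have hsq : ∀ c : F, (c • TS J x y) * (c • TS J x y) = 0 := by
    intro c
    rw [Matrix.smul_mul, Matrix.mul_smul, TS_sq J hs x y hxx hxy hyy]
    simp
  set Bg : GL (Fin a × Fin b) F := BG J hs x x' hxx hx'x' hxx' with hBg
  set r : GL (Fin a × Fin b) F := uni ((-(2 : F)⁻¹) • TS J x y) (hsq _) with hr
  set ρ : GL (Fin a × Fin b) F := uni ((1 : F) • TS J x y) (hsq _) with hρ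
  have hBiso : Bg ∈ Cfsg.isometryGroup F (⇑Q) := by
    apply mem_iso_of_pres hS
    intro v w
    exact BM_pres J hs x x' hxx hx'x' hxx' v w
  have hriso : r ∈ Cfsg.isometryGroup F (⇑Q) := by
    apply mem_iso_of_pres hS
    intro v w
    exact TS_pres J hs x y hxx hxy hyy _ v w
  have hcomm : ⁅Bg, r⁆ = ρ := by
    apply Units.ext
    rw [commutatorElement_def]
    have hB : ((Bg : GL (Fin a × Fin b) F) : Matrix (Fin a × Fin b) (Fin a × Fin b) F) = BM J x x' := rfl
    have hBi : ((Bg⁻¹ : GL (Fin a × Fin b) F) : Matrix (Fin a × Fin b) (Fin a × Fin b) F) = BM J x x' := rfl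
    have hrv : ((r : GL (Fin a × Fin b) F) : Matrix (Fin a × Fin b) (Fin a × Fin b) F) =
        1 + (-(2 : F)⁻¹) • TS J x y := rfl
    have hri : ((r⁻¹ : GL (Fin a × Fin b) F) : Matrix (Fin a × Fin b) (Fin a × Fin b) F) =
        1 - (-(2 : F)⁻¹) • TS J x y := rfl
    have hρv : ((ρ : GL (Fin a × Fin b) F) : Matrix (Fin a × Fin b) (Fin a × Fin b) F) =
        1 + (1 : F) • TS J x y := rfl
    rw [Units.val_mul, Units.val_mul, Units.val_mul, hB, hBi, hrv, hri, hρv]
    have hBB := BM_sq J hs x x' hxx hx'x' hxx'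
    have hBTB := BM_TS_BM J hs x y x' hxx hxy hx'x' hxx' hyx'
    have hTT := TS_sq J hs x y hxx hxy hyy
    have e1 : BM J x x' * (1 + (-(2 : F)⁻¹) • TS J x y) * BM J x x' = 1 + (2 : F)⁻¹ • TS J x y := by
      rw [mul_add, mul_one, add_mul, hBB, Matrix.mul_smul, Matrix.smul_mul, hBTB]
      simp
    have h22 : (2 : F)⁻¹ + (2 : F)⁻¹ = 1 := by
      rw [← two_mul, mul_inv_cancel₀ h2]
    rw [e1, neg_smul, sub_neg_eq_add]
    calc (1 + (2 : F)⁻¹ • TS J x y) * (1 + (2 : F)⁻¹ • TS J x y)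
        = 1 + ((2 : F)⁻¹ + (2 : F)⁻¹) • TS J x y + ((2 : F)⁻¹ * (2 : F)⁻¹) • (TS J x y * TS J x y) := by
          simp only [add_mul, mul_add, one_mul, mul_one, Matrix.smul_mul, Matrix.mul_smul, smul_smul, add_smul]
          abel
      _ = 1 + (1 : F) • TS J x y := by rw [hTT, h22, smul_zero, add_zero]
  have hρΩ : ρ ∈ Cfsg.Geo.omegaGL (⇑Q) := by
    rw [Cfsg.Agent.Lib.Helper18.TensOmegaBridge.omegaGL_eq_commutator, ← hcomm]
    exact Subgroup.commutator_mem_commutator hBiso hriso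
  have hρK := hle hρΩ
  have hρv : ((ρ : GL (Fin a × Fin b) F) : Matrix (Fin a × Fin b) (Fin a × Fin b) F) =
      1 + (1 : F) • TS J x y := rfl
  have hquad : ((ρ : Matrix (Fin a × Fin b) (Fin a × Fin b) F) - 1) *
      ((ρ : Matrix (Fin a × Fin b) (Fin a × Fin b) F) - 1) = 0 := by
    rw [hρv, add_sub_cancel_left]
    exact hsq 1
  -- the value on `x'`
  have hval : (ρ : Matrix (Fin a × Fin b) (Fin a × Fin b) F) *ᵥ x' = x' - y := by
    have hx'y : bf J x' y = 0 := by rw [hs, hyx']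
    have hx'x : bf J x' x = 1 := by rw [hs, hxx']
    rw [hρv, Matrix.add_mulVec, Matrix.one_mulVec, one_smul, TS_mulVec, hx'y, hx'x]
    simp [sub_eq_add_neg]
  rcases Cfsg.Agent.Lib.Helper10.KronQuad.kron_quad h2 ρ hρK hquad with ⟨B', hB'⟩ | ⟨A', hA'⟩
  · -- `ρ = 1 ⊗ B'`
    rw [hB', hx', kron_mulVec_pur, Matrix.one_mulVec] at hval
    have h3 : pur (d⁻¹ • u1) (B' *ᵥ l - l) = pur (-u2) k := by
      have : pur (d⁻¹ • u1) (B' *ᵥ l - l) = pur (d⁻¹ • u1) (B' *ᵥ l) - pur (d⁻¹ • u1) l := by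
        rw [sub_eq_add_neg, pur_add_right, pur_neg_right, ← sub_eq_add_neg]
      rw [this, hval, pur_neg_left]
      abel
    have hne : pur (-u2) k ≠ 0 := by
      rw [pur_neg_left]
      exact neg_ne_zero.mpr hy0
    obtain ⟨⟨lam, hlam⟩, -⟩ := pur_prop h3 hne
    have h4 : bf J1 (-u2) u1 = lam := by
      rw [hlam, bf_smul_left, bf_smul_left, ← hd, inv_mul_cancel₀ hu1, mul_one]
    rw [bf_neg_left, hu21, neg_zero] at h4
    rw [← h4, zero_smul, neg_eq_zero] at hlam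
    exact hu2 hlam
  · -- `ρ = A' ⊗ 1`
    rw [hA', hx', kron_mulVec_pur, Matrix.one_mulVec] at hval
    have h3 : pur (A' *ᵥ (d⁻¹ • u1) - d⁻¹ • u1) l = pur (-u2) k := by
      have : pur (A' *ᵥ (d⁻¹ • u1) - d⁻¹ • u1) l =
          pur (A' *ᵥ (d⁻¹ • u1)) l - pur (d⁻¹ • u1) l := by
        rw [sub_eq_add_neg, pur_add_left, pur_neg_left, ← sub_eq_add_neg]
      rw [this, hval, pur_neg_left]
      abel
    have hne : pur (-u2) k ≠ 0 := by
      rw [pur_neg_left]
      exact neg_ne_zero.mpr hy0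
    obtain ⟨-, ⟨mu, hmu⟩⟩ := pur_prop h3 hne
    have h4 : bf J2 k l = 0 := by
      rw [hmu, bf_smul_left, hl, mul_zero]
    rw [hkl] at h4
    exact one_ne_zero h4

end main

end Cfsg.Agent.Lib.Helper25.OTStrict
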