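import Mathlib
import Cfsg.Agent.Lib.Helper1.Frattini

/-!
# Tools for 3-transposition groups `H = O_{2,3,2}(H)` (S5559), part A

* `gen9`: rank two coprime generation for an elementary abelian `2`-group with two commuting
  endomorphisms of order three (explicit formula, no counting);
* `zpowers_eq_top_of_normalClosure`: a `p`-group generated by one conjugacy class is cyclic;
* `TS`: the relations of `3^{1+2} : 2`; `TS.card_le`, `TS.nonempty_mulEquiv`.
-/

set_option autoImplicit false

namespace Cfsg.Agent.Lib.Helper25.OTT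

section Gen9

variable {V : Type*} [CommGroup V]

theorem cancel_left (hV : ∀ v : V, v * v = 1) (x y : V) : x * (x * y) = y := by
  rw [← mul_assoc, hV, one_mul]

/-- rank two generation: every `v ∈ U` is a product of fixed points of `f`, `g`, `f g`, `f g²`. -/
theorem gen9 (hV : ∀ v : V, v * v = 1) (f g : V →* V)
    (U S : Subgroup V) (hfU : ∀ v ∈ U, f v ∈ U) (hgU : ∀ v ∈ U, g v ∈ U)
    (hc : ∀ v ∈ U, f (g v) = g (f v)) (hf3 : ∀ v ∈ U, f (f (f v)) = v)
    (hg3 : ∀ v ∈ U, g (g (g v)) = v)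
    (h1 : ∀ v ∈ U, f v = v → v ∈ S) (h2 : ∀ v ∈ U, g v = v → v ∈ S)
    (h3 : ∀ v ∈ U, f (g v) = v → v ∈ S) (h4 : ∀ v ∈ U, f (g (g v)) = v → v ∈ S) : U ≤ S := by
  intro v hv
  have hfv := hfU v hv
  have hffv := hfU _ hfv
  have hgv := hgU v hv
  have hggv := hgU _ hgv
  have hfgv := hfU _ hgv
  have hffgv := hfU _ hfgv
  have hfggv := hfU _ hggv
  have hffggv := hfU _ hfggv
  -- commutation facts
  have c1 : g (f v) = f (g v) := (hc v hv).symm
  have c2 : g (f (g v)) = f (g (g v)) := (hc _ hgv).symm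
  have c3 : g (f (f v)) = f (f (g v)) := by rw [← hc _ hfv, c1]
  have c4 : g (f (f (g v))) = f (f (g (g v))) := by rw [← hc _ hfgv, c2]
  have c5 : g (f (g (g v))) = f v := by rw [← hc _ hggv, hg3 v hv]
  have c6 : g (f (f (g (g v)))) = f (f v) := by rw [← hc _ hfggv, c5]
  have e1 : f (v * f v * f (f v)) = v * f v * f (f v) := by
    rw [map_mul, map_mul, hf3 v hv]
    simp only [mul_assoc, mul_comm, mul_left_comm]
  have e2 : g (v * g v * g (g v)) = v * g v * g (g v) := by
    rw [map_mul, map_mul, hg3 v hv]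
    simp only [mul_assoc, mul_comm, mul_left_comm]
  have e3 : f (g (v * f (g v) * f (f (g (g v))))) = v * f (g v) * f (f (g (g v))) := by
    rw [map_mul, map_mul, map_mul, map_mul, c2, c6, hf3 v hv]
    simp only [mul_assoc, mul_comm, mul_left_comm]
  have e4 : f (g (g (v * f (g (g v)) * f (f (g v))))) =
      v * f (g (g v)) * f (f (g v)) := by
    rw [map_mul, map_mul, map_mul, map_mul, map_mul, map_mul, c5, c4, c1, c6, hf3 v hv]
    simp only [mul_assoc, mul_comm, mul_left_comm]
  have e5 : f (v * f v * f (f v) * g v * g (g v) * f (g v) * f (g (g v)) * f (f (g v)) *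
      f (f (g (g v)))) = v * f v * f (f v) * g v * g (g v) * f (g v) * f (g (g v)) *
      f (f (g v)) * f (f (g (g v))) := by
    simp only [map_mul]
    rw [hf3 v hv, hf3 _ hgv, hf3 _ hggv]
    simp only [mul_assoc, mul_comm, mul_left_comm]
  have m1 : v * f v * f (f v) ∈ S :=
    h1 _ (U.mul_mem (U.mul_mem hv hfv) hffv) e1
  have m2 : v * g v * g (g v) ∈ S :=
    h2 _ (U.mul_mem (U.mul_mem hv hgv) hggv) e2
  have m3 : v * f (g v) * f (f (g (g v))) ∈ S :=
    h3 _ (U.mul_mem (U.mul_mem hv hfgv) hffggv) e3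
  have m4 : v * f (g (g v)) * f (f (g v)) ∈ S :=
    h4 _ (U.mul_mem (U.mul_mem hv hfggv) hffgv) e4
  have m5 : v * f v * f (f v) * g v * g (g v) * f (g v) * f (g (g v)) * f (f (g v)) *
      f (f (g (g v))) ∈ S := by
    refine h1 _ ?_ e5
    exact U.mul_mem (U.mul_mem (U.mul_mem (U.mul_mem (U.mul_mem (U.mul_mem (U.mul_mem
      (U.mul_mem hv hfv) hffv) hgv) hggv) hfgv) hfggv) hffgv) hffggv
  have key : v = (v * f v * f (f v)) * (v * g v * g (g v)) * (v * f (g v) * f (f (g (g v)))) *
      (v * f (g (g v)) * f (f (g v))) *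
      (v * f v * f (f v) * g v * g (g v) * f (g v) * f (g (g v)) * f (f (g v)) *
      f (f (g (g v)))) := by
    have hc' := cancel_left hV
    simp only [mul_assoc, mul_comm, mul_left_comm, hc', hV, mul_one]
  rw [key]
  exact S.mul_mem (S.mul_mem (S.mul_mem (S.mul_mem m1 m2) m3) m4) m5

end Gen9

section Cyc

variable {G : Type*} [Group G] [Finite G]

/-- A finite `p`-group generated by one conjugacy class is cyclic. -/
theorem zpowers_eq_top_of_normalClosure {p : ℕ} [Fact p.Prime] (hG : IsPGroup p G) (g : G)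
    (h : Subgroup.normalClosure {g} = ⊤) : Subgroup.zpowers g = ⊤ := by
  by_contra hne
  obtain ⟨M, hM, hle⟩ := (eq_top_or_exists_le_coatom (Subgroup.zpowers g)).resolve_left hne
  have hMn : M.Normal := Cfsg.Agent.Lib.Helper1.IsPGroup.normal_of_isCoatom hG hM
  have h1 : Subgroup.normalClosure {g} ≤ M := by
    apply Subgroup.normalClosure_le_normal
    intro x hx
    rw [Set.mem_singleton_iff] at hx
    rw [hx]
    exact hle (Subgroup.mem_zpowers g)
  rw [h] at h1
  exact hM.1 (top_le_iff.mp h1)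

end Cyc

end Cfsg.Agent.Lib.Helper25.OTT
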