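import Mathlib

/-!
# The group `3^{1+2} : 2` by generators and relations (S5559, part B)

`TS t y s a`: relations of `3^{1+2}_+ : 2` (the involution `a` inverts `t, y` and centralises the
central commutator `s = [t, y]`).  A group generated by such `t, y, a` has order at most `54`, and
any two such groups of order `54` are isomorphic.
-/

set_option autoImplicit false

namespace Cfsg.Agent.Lib.Helper25.OTT

variable {G : Type*} [Group G]

/-- the relations of `3^{1+2} : 2`. -/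
structure TS (t y s a : G) : Prop where
  t3 : t ^ 3 = 1
  y3 : y ^ 3 = 1
  s3 : s ^ 3 = 1
  a2 : a ^ 2 = 1
  hat : a * t * a⁻¹ = t⁻¹
  hay : a * y * a⁻¹ = y⁻¹
  hs : s = t * y * t⁻¹ * y⁻¹
  st : s * t = t * s
  sy : s * y = y * s
  sa : s * a = a * s

namespace TS

variable {t y s a : G}

theorem yt (h : TS t y s a) : y * t = t * y * s ^ 2 := by
  have h1 : s⁻¹ = s ^ 2 := by
    rw [inv_eq_iff_mul_eq_one, ← pow_succ', h.s3]
  have h2 : y * t = s⁻¹ * (t * y) := by rw [h.hs]; group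
  rw [h2, h1]
  have c1 : Commute s t := h.st
  have c2 : Commute s y := h.sy
  exact ((c1.mul_right c2).pow_left 2).eq

theorem ypow_t (h : TS t y s a) (j : ℕ) : y ^ j * t = t * y ^ j * s ^ (2 * j) := by
  have c1 : Commute s t := h.st
  have c2 : Commute s y := h.sy
  induction j with
  | zero => simp
  | succ j ih =>
    calc y ^ (j + 1) * t = y * (y ^ j * t) := by rw [pow_succ', mul_assoc]
      _ = y * (t * y ^ j * s ^ (2 * j)) := by rw [ih]
      _ = (y * t) * y ^ j * s ^ (2 * j) := by simp only [mul_assoc]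
      _ = t * y * s ^ 2 * y ^ j * s ^ (2 * j) := by rw [h.yt]
      _ = t * (y * y ^ j) * (s ^ 2 * s ^ (2 * j)) := by
        have c3 : Commute (s ^ 2) (y ^ j) := (c2.pow_pow 2 j)
        calc t * y * s ^ 2 * y ^ j * s ^ (2 * j)
            = t * y * (s ^ 2 * y ^ j) * s ^ (2 * j) := by simp only [mul_assoc]
          _ = t * y * (y ^ j * s ^ 2) * s ^ (2 * j) := by rw [c3.eq]
          _ = t * (y * y ^ j) * (s ^ 2 * s ^ (2 * j)) := by simp only [mul_assoc]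
      _ = t * y ^ (j + 1) * s ^ (2 * (j + 1)) := by
        rw [← pow_succ', ← pow_add]; ring_nf

theorem a_inv (h : TS t y s a) : a⁻¹ = a := by
  rw [inv_eq_iff_mul_eq_one, ← pow_two, h.a2]

theorem a_t (h : TS t y s a) : a * t = t ^ 2 * a := by
  have h1 : t⁻¹ = t ^ 2 := by rw [inv_eq_iff_mul_eq_one, ← pow_succ', h.t3]
  have h2 : a * t = (a * t * a⁻¹) * a := by group
  rw [h2, h.hat, h1]

theorem a_y (h : TS t y s a) : a * y = y ^ 2 * a := by
  have h1 : y⁻¹ = y ^ 2 := by rw [inv_eq_iff_mul_eq_one, ← pow_succ', h.y3]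
  have h2 : a * y = (a * y * a⁻¹) * a := by group
  rw [h2, h.hay, h1]

/-- normal form predicate. -/
def NF (t y s a : G) (g : G) : Prop :=
  ∃ i j k : ℕ, g = t ^ i * y ^ j * s ^ k ∨ g = t ^ i * y ^ j * s ^ k * a

theorem nf_mul_a (h : TS t y s a) {g : G} (hg : NF t y s a g) : NF t y s a (g * a) := by
  obtain ⟨i, j, k, hg | hg⟩ := hg
  · exact ⟨i, j, k, Or.inr (by rw [hg])⟩
  · refine ⟨i, j, k, Or.inl ?_⟩
    rw [hg, mul_assoc, ← pow_two, h.a2, mul_one]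

theorem nf_mul_y (h : TS t y s a) {g : G} (hg : NF t y s a g) : NF t y s a (g * y) := by
  have c2 : Commute s y := h.sy
  obtain ⟨i, j, k, hg | hg⟩ := hg
  · refine ⟨i, j + 1, k, Or.inl ?_⟩
    rw [hg, mul_assoc, ((c2.pow_left k)).eq, ← mul_assoc, mul_assoc (t ^ i), ← pow_succ]
  · refine ⟨i, j + 2, k, Or.inr ?_⟩
    rw [hg, mul_assoc, h.a_y, ← mul_assoc]
    congr 1
    rw [mul_assoc, ((c2.pow_pow k 2)).eq, ← mul_assoc, mul_assoc (t ^ i), ← pow_add]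

theorem nf_mul_t_aux (h : TS t y s a) (i j k : ℕ) :
    t ^ i * y ^ j * s ^ k * t = t ^ (i + 1) * y ^ j * s ^ (2 * j + k) := by
  have c1 : Commute s t := h.st
  calc t ^ i * y ^ j * s ^ k * t = t ^ i * y ^ j * (s ^ k * t) := by simp only [mul_assoc]
    _ = t ^ i * y ^ j * (t * s ^ k) := by rw [(c1.pow_left k).eq]
    _ = t ^ i * (y ^ j * t) * s ^ k := by simp only [mul_assoc]
    _ = t ^ i * (t * y ^ j * s ^ (2 * j)) * s ^ k := by rw [h.ypow_t]
    _ = (t ^ i * t) * y ^ j * (s ^ (2 * j) * s ^ k) := by simp only [mul_assoc]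
    _ = t ^ (i + 1) * y ^ j * s ^ (2 * j + k) := by rw [← pow_succ, ← pow_add]

theorem nf_mul_t (h : TS t y s a) {g : G} (hg : NF t y s a g) : NF t y s a (g * t) := by
  obtain ⟨i, j, k, hg | hg⟩ := hg
  · exact ⟨i + 1, j, 2 * j + k, Or.inl (by rw [hg, h.nf_mul_t_aux])⟩
  · refine ⟨i + 1 + 1, j, 2 * j + (2 * j + k), Or.inr ?_⟩
    rw [hg, mul_assoc, h.a_t, ← mul_assoc, pow_two, ← mul_assoc, h.nf_mul_t_aux, h.nf_mul_t_aux]

theorem nf_of_closure (h : TS t y s a) (hgen : Subgroup.closure {t, y, a} = ⊤) (g : G) :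
    NF t y s a g := by
  have hg : g ∈ Subgroup.closure {t, y, a} := by rw [hgen]; trivial
  induction hg using Subgroup.closure_induction_right with
  | one => exact ⟨0, 0, 0, Or.inl (by simp)⟩
  | mul_right x hx z hz ih =>
    simp only [Set.mem_insert_iff, Set.mem_singleton_iff] at hz
    rcases hz with rfl | rfl | rfl
    · exact h.nf_mul_t ih
    · exact h.nf_mul_y ih
    · exact h.nf_mul_a ih
  | mul_inv_cancel x hx z hz ih =>
    simp only [Set.mem_insert_iff, Set.mem_singleton_iff] at hz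
    rcases hz with rfl | rfl | rfl
    · have h1 : z⁻¹ = z ^ 2 := by rw [inv_eq_iff_mul_eq_one, ← pow_succ', h.t3]
      rw [h1, pow_two, ← mul_assoc]
      exact h.nf_mul_t (h.nf_mul_t ih)
    · have h1 : z⁻¹ = z ^ 2 := by rw [inv_eq_iff_mul_eq_one, ← pow_succ', h.y3]
      rw [h1, pow_two, ← mul_assoc]
      exact h.nf_mul_y (h.nf_mul_y ih)
    · rw [h.a_inv]
      exact h.nf_mul_a ih

/-- the normal form map on the box. -/
def box (t y s a : G) (u : Fin 3 × Fin 3 × Fin 3 × Bool) : G :=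
  t ^ (u.1 : ℕ) * y ^ (u.2.1 : ℕ) * s ^ (u.2.2.1 : ℕ) * (if u.2.2.2 then a else 1)

theorem box_surjective (h : TS t y s a) (hgen : Subgroup.closure {t, y, a} = ⊤) :
    Function.Surjective (box t y s a) := by
  intro g
  obtain ⟨i, j, k, hg | hg⟩ := h.nf_of_closure hgen g
  · refine ⟨(⟨i % 3, Nat.mod_lt _ (by norm_num)⟩, ⟨j % 3, Nat.mod_lt _ (by norm_num)⟩,
      ⟨k % 3, Nat.mod_lt _ (by norm_num)⟩, false), ?_⟩
    simp only [box]
    rw [hg, pow_eq_pow_mod i h.t3, pow_eq_pow_mod j h.y3, pow_eq_pow_mod k h.s3]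
    simp
  · refine ⟨(⟨i % 3, Nat.mod_lt _ (by norm_num)⟩, ⟨j % 3, Nat.mod_lt _ (by norm_num)⟩,
      ⟨k % 3, Nat.mod_lt _ (by norm_num)⟩, true), ?_⟩
    simp only [box]
    rw [hg, pow_eq_pow_mod i h.t3, pow_eq_pow_mod j h.y3, pow_eq_pow_mod k h.s3]
    simp

theorem finite_of_closure (h : TS t y s a) (hgen : Subgroup.closure {t, y, a} = ⊤) : Finite G :=
  Finite.of_surjective _ (h.box_surjective hgen)

theorem card_le (h : TS t y s a) (hgen : Subgroup.closure {t, y, a} = ⊤) : Nat.card G ≤ 54 := by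
  have h1 := Nat.card_le_card_of_surjective _ (h.box_surjective hgen)
  have h2 : Nat.card (Fin 3 × Fin 3 × Fin 3 × Bool) = 54 := by
    rw [Nat.card_eq_fintype_card]; rfl
  omega

end TS

/-- Two groups of order `54` generated by elements satisfying `TS` are isomorphic. -/
theorem TS.nonempty_mulEquiv {G₁ G₂ : Type*} [Group G₁] [Group G₂]
    {t₁ y₁ s₁ a₁ : G₁} {t₂ y₂ s₂ a₂ : G₂} (h₁ : TS t₁ y₁ s₁ a₁) (h₂ : TS t₂ y₂ s₂ a₂)
    (g₁ : Subgroup.closure {t₁, y₁, a₁} = ⊤) (g₂ : Subgroup.closure {t₂, y₂, a₂} = ⊤)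
    (c₁ : Nat.card G₁ = 54) (c₂ : Nat.card G₂ = 54) : Nonempty (G₁ ≃* G₂) := by
  classical
  haveI : Finite G₁ := Nat.finite_of_card_ne_zero (by rw [c₁]; norm_num)
  haveI : Finite G₂ := Nat.finite_of_card_ne_zero (by rw [c₂]; norm_num)
  set Γ : Subgroup (G₁ × G₂) :=
    Subgroup.closure {((t₁, t₂) : G₁ × G₂), (y₁, y₂), (a₁, a₂)} with hΓ
  have mt : ((t₁, t₂) : G₁ × G₂) ∈ Γ := Subgroup.subset_closure (by simp)
  have my : ((y₁, y₂) : G₁ × G₂) ∈ Γ := Subgroup.subset_closure (by simp)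
  have ma : ((a₁, a₂) : G₁ × G₂) ∈ Γ := Subgroup.subset_closure (by simp)
  have ms : ((s₁, s₂) : G₁ × G₂) ∈ Γ := by
    have : ((s₁, s₂) : G₁ × G₂) = (t₁, t₂) * (y₁, y₂) * (t₁, t₂)⁻¹ * (y₁, y₂)⁻¹ := by
      rw [h₁.hs, h₂.hs]; rfl
    rw [this]
    exact Γ.mul_mem (Γ.mul_mem (Γ.mul_mem mt my) (Γ.inv_mem mt)) (Γ.inv_mem my)
  have hTS : TS (⟨_, mt⟩ : Γ) ⟨_, my⟩ ⟨_, ms⟩ ⟨_, ma⟩ := by
    refine ⟨?_, ?_, ?_, ?_, ?_, ?_, ?_, ?_, ?_, ?_⟩ <;> apply Subtype.ext <;>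
      simp only [Subgroup.coe_pow, Subgroup.coe_mul, Subgroup.coe_inv, Subgroup.coe_one,
        Prod.pow_mk, Prod.mk_mul_mk, Prod.inv_mk, Prod.mk_one_one]
    · rw [h₁.t3, h₂.t3]; rfl
    · rw [h₁.y3, h₂.y3]; rfl
    · rw [h₁.s3, h₂.s3]; rfl
    · rw [h₁.a2, h₂.a2]; rfl
    · rw [h₁.hat, h₂.hat]
    · rw [h₁.hay, h₂.hay]
    · rw [← h₁.hs, ← h₂.hs]
    · rw [h₁.st, h₂.st]
    · rw [h₁.sy, h₂.sy]
    · rw [h₁.sa, h₂.sa]
  have hgen : Subgroup.closure {(⟨_, mt⟩ : Γ), ⟨_, my⟩, ⟨_, ma⟩} = ⊤ := by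
    have h0 := Subgroup.closure_closure_coe_preimage
      (k := ({((t₁, t₂) : G₁ × G₂), (y₁, y₂), (a₁, a₂)} : Set (G₁ × G₂)))
    rw [← h0]
    congr 1
    ext ⟨x, hx⟩
    simp only [Set.mem_insert_iff, Set.mem_singleton_iff, Set.mem_preimage, Subtype.mk.injEq]
  have hcard : Nat.card Γ ≤ 54 := hTS.card_le hgen
  -- projections
  let p₁ : Γ →* G₁ := (MonoidHom.fst G₁ G₂).comp Γ.subtype
  let p₂ : Γ →* G₂ := (MonoidHom.snd G₁ G₂).comp Γ.subtype
  have hs₁ : Function.Surjective p₁ := by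
    rw [← MonoidHom.range_eq_top, eq_top_iff, ← g₁, Subgroup.closure_le]
    intro x hx
    simp only [Set.mem_insert_iff, Set.mem_singleton_iff] at hx
    rcases hx with rfl | rfl | rfl
    · exact ⟨⟨_, mt⟩, rfl⟩
    · exact ⟨⟨_, my⟩, rfl⟩
    · exact ⟨⟨_, ma⟩, rfl⟩
  have hs₂ : Function.Surjective p₂ := by
    rw [← MonoidHom.range_eq_top, eq_top_iff, ← g₂, Subgroup.closure_le]
    intro x hx
    simp only [Set.mem_insert_iff, Set.mem_singleton_iff] at hx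
    rcases hx with rfl | rfl | rfl
    · exact ⟨⟨_, mt⟩, rfl⟩
    · exact ⟨⟨_, my⟩, rfl⟩
    · exact ⟨⟨_, ma⟩, rfl⟩
  have hb₁ : Function.Bijective p₁ := by
    refine ⟨?_, hs₁⟩
    exact (Function.Surjective.bijective_of_nat_card_le hs₁ (by rw [c₁]; exact hcard)).1
  have hb₂ : Function.Bijective p₂ := by
    refine ⟨?_, hs₂⟩
    exact (Function.Surjective.bijective_of_nat_card_le hs₂ (by rw [c₂]; exact hcard)).1
  exact ⟨(MulEquiv.ofBijective p₁ hb₁).symm.trans (MulEquiv.ofBijective p₂ hb₂)⟩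

end Cfsg.Agent.Lib.Helper25.OTT
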