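import Mathlib
import Cfsg.Prelude.Def_FischerSpaces
import Cfsg.Agent.Lib.Helper27.ThreeTransp
import Cfsg.Agent.Lib.Helper25.OTTa
import Cfsg.Agent.Lib.Helper25.OTTb

/-!
# 3-transposition groups `K = P : 2` acting on an elementary abelian 2-group (S5559, part C)

`Hyp D P ρ`: `D` is a class of 3-transpositions generating the finite group `K`, `P` is a normal
Sylow 3-subgroup of 2-power index, `ρ` a faithful action on the elementary abelian `2`-group `V`
with `C_V(ab) ≤ C_V(a)` for `a ≠ b ∈ D` with `(ab)³ = 1`.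

This file: basic consequences (index two, the set `I a` of elements of `P` inverted by `a ∈ D`,
no inverted `3²`, `P = ⟨I a⟩`).
-/

set_option autoImplicit false

namespace Cfsg.Agent.Lib.Helper25.OTT

open Cfsg Cfsg.Agent.Lib.Helper27.TT

variable {K : Type*} [Group K] {V : Type*} [CommGroup V]

/-- the hypotheses. -/
structure Hyp (D : Set K) (P : Subgroup K) (ρ : K → V →* V) : Prop where
  one : ∀ v : V, ρ 1 v = v
  mul : ∀ (g k : K) (v : V), ρ (g * k) v = ρ g (ρ k v)
  hD : IsThreeTranspositionClass D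
  hPn : P.Normal
  hP3 : IsPGroup 3 P
  hidx : ∃ k : ℕ, P.index = 2 ^ k
  hPne : P ≠ ⊥
  hV : ∀ v : V, v * v = 1
  faith : ∀ g : K, (∀ v, ρ g v = v) → g = 1
  hPm : ∀ a ∈ D, ∀ b ∈ D, a ≠ b → (a * b) ^ 3 = 1 → ∀ v, ρ (a * b) v = v → ρ a v = v

/-- the fixed points of `g` on `V`. -/
def Fix (ρ : K → V →* V) (g : K) : Subgroup V where
  carrier := {v | ρ g v = v}
  mul_mem' := by
    intro u v hu hv
    simp only [Set.mem_ofPred_eq] at hu hv ⊢
    rw [map_mul, hu, hv]
  one_mem' := by simp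
  inv_mem' := by
    intro u hu
    simp only [Set.mem_ofPred_eq] at hu ⊢
    rw [map_inv, hu]

theorem mem_Fix {ρ : K → V →* V} {g : K} {v : V} : v ∈ Fix ρ g ↔ ρ g v = v := Iff.rfl


/-- the elements of `P` inverted by `a`. -/
def I (P : Subgroup K) (a : K) : Set K := {g | g ∈ P ∧ a * g * a⁻¹ = g⁻¹}

namespace Hyp

variable [Finite K] {D : Set K} {P : Subgroup K} {ρ : K → V →* V}

theorem conj_mem (h : Hyp D P ρ) (g : K) {d : K} (hd : d ∈ D) : g * d * g⁻¹ ∈ D :=
  conj_mem_of_class h.hD g hd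

theorem sq (h : Hyp D P ρ) {d : K} (hd : d ∈ D) : d * d = 1 := mul_self_of_mem h.hD.1 hd

theorem inv (h : Hyp D P ρ) {d : K} (hd : d ∈ D) : d⁻¹ = d := inv_of_mem h.hD.1 hd

theorem exists_pow (h : Hyp D P ρ) {g : K} (hg : g ∈ P) : ∃ k : ℕ, g ^ (3 ^ k) = 1 := by
  obtain ⟨k, hk⟩ := h.hP3 ⟨g, hg⟩
  refine ⟨k, ?_⟩
  have := congrArg Subtype.val hk
  simpa using this

theorem eq_one_of_sq (h : Hyp D P ρ) {g : K} (hg : g ∈ P) (h2 : g ^ 2 = 1) : g = 1 := by
  obtain ⟨k, hk⟩ := h.exists_pow hg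
  have h1 : orderOf g ∣ 2 := orderOf_dvd_of_pow_eq_one h2
  have h3 : orderOf g ∣ 3 ^ k := orderOf_dvd_of_pow_eq_one hk
  have h4 : orderOf g ∣ Nat.gcd 2 (3 ^ k) := Nat.dvd_gcd h1 h3
  have h5 : Nat.gcd 2 (3 ^ k) = 1 := Nat.Coprime.pow_right k (by norm_num)
  rw [h5, Nat.dvd_one] at h4
  exact orderOf_eq_one_iff.mp h4

theorem odd_order (h : Hyp D P ρ) {g : K} (hg : g ∈ P) : Odd (orderOf g) := by
  obtain ⟨k, hk⟩ := h.exists_pow hg
  have h3 : orderOf g ∣ 3 ^ k := orderOf_dvd_of_pow_eq_one hk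
  exact (Odd.pow (by decide : Odd 3)).of_dvd_nat h3

theorem not_mem (h : Hyp D P ρ) {a : K} (ha : a ∈ D) : a ∉ P := by
  intro haP
  have h1 := h.eq_one_of_sq haP (by rw [pow_two]; exact h.sq ha)
  exact ne_one_of_mem h.hD.1 ha h1

theorem index_two (h : Hyp D P ρ) : P.index = 2 := by
  classical
  haveI := h.hPn
  obtain ⟨k, hk⟩ := h.hidx
  obtain ⟨d0, hd0, hDeq⟩ := h.hD.2.1
  -- K ⧸ P is a 2-group generated by the class of the image of d0
  have hq : IsPGroup 2 (K ⧸ P) := by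
    apply IsPGroup.of_card (n := k)
    rw [← Subgroup.index_eq_card, hk]
  have hnc : Subgroup.normalClosure {d0} = ⊤ := by
    rw [eq_top_iff, ← h.hD.2.2, Subgroup.closure_le]
    intro x hx
    rw [hDeq] at hx
    have hx' : IsConj d0 x := hx
    obtain ⟨g, hg⟩ := isConj_iff.mp hx'
    rw [← hg]
    exact (Subgroup.normalClosure_normal).conj_mem _
      (Subgroup.subset_normalClosure (Set.mem_singleton d0)) g
  have hnc' : Subgroup.normalClosure {(QuotientGroup.mk' P) d0} = ⊤ := by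
    have := Subgroup.map_normalClosure {d0} (QuotientGroup.mk' P) (QuotientGroup.mk'_surjective P)
    rw [Set.image_singleton] at this
    rw [← this, hnc, ← MonoidHom.range_eq_map, MonoidHom.range_eq_top]
    exact QuotientGroup.mk'_surjective P
  haveI : Fact (Nat.Prime 2) := ⟨Nat.prime_two⟩
  have hz := zpowers_eq_top_of_normalClosure hq _ hnc'
  have hcard : Nat.card (K ⧸ P) = orderOf ((QuotientGroup.mk' P) d0) := by
    rw [← Nat.card_zpowers, hz, Subgroup.card_top]
  have hord : orderOf ((QuotientGroup.mk' P) d0) ∣ 2 := by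
    apply orderOf_dvd_of_pow_eq_one
    rw [← map_pow, pow_two, h.sq hd0, map_one]
  rw [Subgroup.index_eq_card, hcard]
  have h12 := (Nat.dvd_prime Nat.prime_two).mp hord
  rcases h12 with h1 | h2
  · exfalso
    rw [orderOf_eq_one_iff, QuotientGroup.mk'_apply, QuotientGroup.eq_one_iff] at h1
    exact h.not_mem hd0 h1
  · exact h2

theorem mul_mem_of_not_mem (h : Hyp D P ρ) {x y : K} (hx : x ∉ P) (hy : y ∉ P) : x * y ∈ P := by
  rw [Subgroup.mul_mem_iff_of_index_two h.index_two]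
  exact ⟨fun hh => absurd hh hx, fun hh => absurd hh hy⟩

/-! ### the set `I a` -/

theorem one_mem_I (a : K) : (1 : K) ∈ I P a := ⟨P.one_mem, by simp⟩

theorem inv_mem_I {a g : K} (hg : g ∈ I P a) : g⁻¹ ∈ I P a := by
  refine ⟨P.inv_mem hg.1, ?_⟩
  have : a * g⁻¹ * a⁻¹ = (a * g * a⁻¹)⁻¹ := by group
  rw [this, hg.2]

theorem mul_mul_mem_I {a g k : K} (hg : g ∈ I P a) (hk : k ∈ I P a) : g * k * g ∈ I P a := by
  refine ⟨P.mul_mem (P.mul_mem hg.1 hk.1) hg.1, ?_⟩
  have : a * (g * k * g) * a⁻¹ = (a * g * a⁻¹) * (a * k * a⁻¹) * (a * g * a⁻¹) := by group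
  rw [this, hg.2, hk.2]
  group

theorem mul_mem_I_of_commute {a g k : K} (hg : g ∈ I P a) (hk : k ∈ I P a)
    (hc : g * k = k * g) : g * k ∈ I P a := by
  refine ⟨P.mul_mem hg.1 hk.1, ?_⟩
  have : a * (g * k) * a⁻¹ = (a * g * a⁻¹) * (a * k * a⁻¹) := by group
  rw [this, hg.2, hk.2, hc, mul_inv_rev]

theorem pow_mem_I {a g : K} (hg : g ∈ I P a) (n : ℕ) : g ^ n ∈ I P a := by
  refine ⟨P.pow_mem hg.1 n, ?_⟩
  have : a * g ^ n * a⁻¹ = (a * g * a⁻¹) ^ n := by
    rw [conj_pow]
  rw [this, hg.2, inv_pow]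

/-- `g⁻¹ * a g a⁻¹` is inverted by the involution `a`. -/
theorem comm_mem_I (h : Hyp D P ρ) {a : K} (ha : a ∈ D) {g : K} (hg : g ∈ P) :
    g⁻¹ * (a * g * a⁻¹) ∈ I P a := by
  haveI := h.hPn
  refine ⟨P.mul_mem (P.inv_mem hg) (h.hPn.conj_mem g hg a), ?_⟩
  have hai := h.inv ha
  have haa := h.sq ha
  have e1 : (g⁻¹ * (a * g * a⁻¹))⁻¹ = a * g⁻¹ * a⁻¹ * g := by group
  rw [e1, hai]
  calc a * (g⁻¹ * (a * g * a)) * a = a * g⁻¹ * a * g * (a * a) := by simp only [mul_assoc]
    _ = a * g⁻¹ * a * g := by rw [haa, mul_one]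

theorem mul_mem_D (h : Hyp D P ρ) {a : K} (ha : a ∈ D) {g : K} (hg : g ∈ I P a) :
    a * g ∈ D := by
  obtain ⟨m, hm⟩ := h.odd_order hg.1
  -- `u = g ^ (m + 1)` satisfies `u * u = g`
  set u := g ^ (m + 1) with hu
  have huu : u * u = g := by
    rw [hu, ← pow_add]
    have : m + 1 + (m + 1) = orderOf g + 1 := by omega
    rw [this, pow_succ, pow_orderOf_eq_one, one_mul]
  have huI : u ∈ I P a := pow_mem_I hg _
  have hai := h.inv ha
  -- `a * g = u⁻¹ * a * u`
  have h1 : a * g = u⁻¹ * a * (u⁻¹)⁻¹ := by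
    have h2 : a * u = u⁻¹ * a := by
      have := huI.2
      calc a * u = (a * u * a⁻¹) * a := by group
        _ = u⁻¹ * a := by rw [this]
    rw [inv_inv, ← huu, ← mul_assoc, h2]
  rw [h1]
  exact h.conj_mem _ ha

theorem pow_three_of_mem_I (h : Hyp D P ρ) {a : K} (ha : a ∈ D) {g : K} (hg : g ∈ I P a) :
    g ^ 3 = 1 := by
  have h1 := h.mul_mem_D ha hg
  have h2 := h.hD.1.2 a ha (a * g) h1
  have h3 : a * (a * g) = g := by rw [← mul_assoc, h.sq ha, one_mul]
  rw [h3] at h2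
  rcases h2 with h2 | h2
  · rw [h.eq_one_of_sq hg.1 h2, one_pow]
  · exact h2

theorem fix_le (h : Hyp D P ρ) {a : K} (ha : a ∈ D) {g : K} (hg : g ∈ I P a) (hg1 : g ≠ 1) :
    Fix ρ g ≤ Fix ρ a := by
  intro v hv
  have h1 := h.mul_mem_D ha hg
  have h3 : a * (a * g) = g := by rw [← mul_assoc, h.sq ha, one_mul]
  have hne : a ≠ a * g := by
    intro he
    apply hg1
    have : a * 1 = a * g := by rw [mul_one]; exact he
    exact (mul_left_cancel this).symm
  have h4 : (a * (a * g)) ^ 3 = 1 := by rw [h3]; exact h.pow_three_of_mem_I ha hg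
  refine h.hPm a ha (a * g) h1 hne h4 v ?_
  rw [h3]
  exact hv

/-- no elementary abelian `3²` is inverted by a transposition. -/
theorem no_inverted (h : Hyp D P ρ) {a : K} (ha : a ∈ D) {g₁ g₂ : K} (h₁ : g₁ ∈ I P a)
    (h₂ : g₂ ∈ I P a) (hc : g₁ * g₂ = g₂ * g₁) (hne : g₁ ≠ 1) :
    g₂ ∈ Subgroup.zpowers g₁ := by
  by_contra hnot
  have hg2ne : g₂ ≠ 1 := by
    rintro rfl
    exact hnot (Subgroup.one_mem _)
  have c13 := h.pow_three_of_mem_I ha h₁
  have c23 := h.pow_three_of_mem_I ha h₂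
  have h12 : g₁ * g₂ ∈ I P a := mul_mem_I_of_commute h₁ h₂ hc
  have h12ne : g₁ * g₂ ≠ 1 := by
    intro he
    apply hnot
    have : g₂ = g₁⁻¹ := (eq_inv_of_mul_eq_one_right he)
    rw [this]
    exact Subgroup.inv_mem _ (Subgroup.mem_zpowers g₁)
  have hc2 : g₁ * (g₂ * g₂) = (g₂ * g₂) * g₁ := by
    rw [← mul_assoc, hc, mul_assoc, hc, mul_assoc]
  have h122 : g₁ * (g₂ * g₂) ∈ I P a := by
    refine mul_mem_I_of_commute h₁ ?_ hc2
    have := pow_mem_I h₂ 2
    rwa [pow_two] at this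
  have h122ne : g₁ * (g₂ * g₂) ≠ 1 := by
    intro he
    apply hnot
    have e1 : g₂ * g₂ = g₁⁻¹ := (eq_inv_of_mul_eq_one_right he)
    have e2 : g₂ = (g₂ * g₂) * (g₂ * g₂) := by
      have : g₂ * g₂ * (g₂ * g₂) = g₂ ^ 3 * g₂ := by
        rw [pow_succ, pow_two]; simp only [mul_assoc]
      rw [this, c23, one_mul]
    rw [e2, e1]
    exact Subgroup.mul_mem _ (Subgroup.inv_mem _ (Subgroup.mem_zpowers g₁))
      (Subgroup.inv_mem _ (Subgroup.mem_zpowers g₁))
  have key : (⊤ : Subgroup V) ≤ Fix ρ a := by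
    apply gen9 h.hV (ρ g₁) (ρ g₂) ⊤ (Fix ρ a)
    · intro v _; trivial
    · intro v _; trivial
    · intro v _
      rw [← h.mul, ← h.mul, hc]
    · intro v _
      rw [← h.mul, ← h.mul, ← pow_two, ← pow_succ, c13, h.one]
    · intro v _
      rw [← h.mul, ← h.mul, ← pow_two, ← pow_succ, c23, h.one]
    · intro v _ hv
      exact h.fix_le ha h₁ hne hv
    · intro v _ hv
      exact h.fix_le ha h₂ hg2ne hv
    · intro v _ hv
      rw [← h.mul] at hv
      exact h.fix_le ha h12 h12ne hv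
    · intro v _ hv
      rw [← h.mul, ← h.mul, mul_assoc] at hv
      exact h.fix_le ha h122 h122ne hv
  have h1 : a = 1 := by
    apply h.faith
    intro v
    exact key (Subgroup.mem_top v)
  exact ne_one_of_mem h.hD.1 ha h1

/-- `P` is generated by `I a`. -/
theorem le_closure_I (h : Hyp D P ρ) {a : K} (ha : a ∈ D) : P ≤ Subgroup.closure (I P a) := by
  haveI := h.hPn
  set P₀ := Subgroup.closure (I P a) with hP₀
  have hai := h.inv ha
  have haa := h.sq ha
  have hP₀P : P₀ ≤ P := by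
    rw [hP₀, Subgroup.closure_le]
    intro g hg
    exact hg.1
  -- `a` normalizes `P₀`
  have hnorm : ∀ x ∈ P₀, a * x * a⁻¹ ∈ P₀ := by
    intro x hx
    induction hx using Subgroup.closure_induction with
    | mem x hx =>
      rw [hx.2]
      exact Subgroup.subset_closure (inv_mem_I hx)
    | one => simp
    | mul x y _ _ ihx ihy =>
      have : a * (x * y) * a⁻¹ = (a * x * a⁻¹) * (a * y * a⁻¹) := by group
      rw [this]
      exact Subgroup.mul_mem _ ihx ihy
    | inv x _ ihx =>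
      have : a * x⁻¹ * a⁻¹ = (a * x * a⁻¹)⁻¹ := by group
      rw [this]
      exact Subgroup.inv_mem _ ihx
  have hall : ∀ x : K, x ∈ P₀ ∨ a * x ∈ P₀ := by
    intro x
    have hx : x ∈ Subgroup.closure D := by rw [h.hD.2.2]; trivial
    induction hx using Subgroup.closure_induction with
    | mem d hd =>
      right
      apply Subgroup.subset_closure
      refine ⟨h.mul_mem_of_not_mem (h.not_mem ha) (h.not_mem hd), ?_⟩
      rw [hai, mul_inv_rev, hai, h.inv hd]
      calc a * (a * d) * a = (a * a) * d * a := by simp only [mul_assoc]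
        _ = d * a := by rw [haa, one_mul]
    | one => left; exact Subgroup.one_mem _
    | mul x y _ _ ihx ihy =>
      rcases ihx with ihx | ihx <;> rcases ihy with ihy | ihy
      · left; exact Subgroup.mul_mem _ ihx ihy
      · right
        have : a * (x * y) = (a * x * a⁻¹) * (a * y) := by group
        rw [this]
        exact Subgroup.mul_mem _ (hnorm x ihx) ihy
      · right
        rw [← mul_assoc]
        exact Subgroup.mul_mem _ ihx ihy
      · left
        have : x * y = (a * (a * x) * a⁻¹) * (a * y) := by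
          rw [hai]
          calc x * y = (a * a) * x * ((a * a) * y) := by rw [haa, one_mul, one_mul]
            _ = a * (a * x) * a * (a * y) := by simp only [mul_assoc]
        rw [this]
        exact Subgroup.mul_mem _ (hnorm _ ihx) ihy
    | inv x _ ihx =>
      rcases ihx with ihx | ihx
      · left; exact Subgroup.inv_mem _ ihx
      · right
        have : a * x⁻¹ = a * (a * x)⁻¹ * a⁻¹ := by
          rw [mul_inv_rev, hai]
          simp only [mul_assoc, haa, mul_one]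
        rw [this]
        exact hnorm _ (Subgroup.inv_mem _ ihx)
  intro x hx
  rcases hall x with h1 | h1
  · exact h1
  · exfalso
    have h2 : a * x ∈ P := hP₀P h1
    have h3 : a ∈ P := by
      have : a = (a * x) * x⁻¹ := by group
      rw [this]
      exact P.mul_mem h2 (P.inv_mem hx)
    exact h.not_mem ha h3

theorem closure_I (h : Hyp D P ρ) {a : K} (ha : a ∈ D) : Subgroup.closure (I P a) = P := by
  apply le_antisymm
  · rw [Subgroup.closure_le]
    intro g hg
    exact hg.1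
  · exact h.le_closure_I ha

end Hyp

end Cfsg.Agent.Lib.Helper25.OTT
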