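import Mathlib
import Cfsg.Prelude.Def_FischerSpaces
import Cfsg.Agent.Lib.Helper27.ThreeTransp
import Cfsg.Agent.Lib.Helper18.S3Section
import Cfsg.Agent.Lib.Helper25.OTTa
import Cfsg.Agent.Lib.Helper25.OTTb
import Cfsg.Agent.Lib.Helper25.OTTc

/-!
# 3-transposition groups `K = P : 2` acting on an elementary abelian 2-group (S5559, part D)

The abelian case (`K ≃ S₃`) and the centre / second centre of `P` in the nonabelian case.
-/

set_option autoImplicit false

namespace Cfsg.Agent.Lib.Helper25.OTT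

open Cfsg Cfsg.Agent.Lib.Helper27.TT

variable {K : Type*} [Group K] {V : Type*} [CommGroup V]

namespace Hyp

variable [Finite K] {D : Set K} {P : Subgroup K} {ρ : K → V →* V}

/-- every element is in `P` or in `a P`. -/
theorem mem_or_mul_mem (h : Hyp D P ρ) {a : K} (ha : a ∈ D) (g : K) : g ∈ P ∨ a * g ∈ P := by
  by_cases hg : g ∈ P
  · exact Or.inl hg
  · exact Or.inr (h.mul_mem_of_not_mem (h.not_mem ha) hg)

theorem closure_eq_top (h : Hyp D P ρ) {a : K} (ha : a ∈ D) (S : Subgroup K) (hP : P ≤ S)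
    (haS : a ∈ S) : S = ⊤ := by
  rw [eq_top_iff]
  intro g _
  rcases h.mem_or_mul_mem ha g with h1 | h1
  · exact hP h1
  · have : g = a⁻¹ * (a * g) := by group
    rw [this]
    exact S.mul_mem (S.inv_mem haS) (hP h1)

theorem exists_mem_I_ne_one (h : Hyp D P ρ) {a : K} (ha : a ∈ D) : ∃ x ∈ I P a, x ≠ 1 := by
  by_contra hcon
  push Not at hcon
  apply h.hPne
  rw [eq_bot_iff, ← h.closure_I ha, Subgroup.closure_le]
  intro g hg
  rw [hcon g hg]
  exact Subgroup.one_mem _

/-- if some nontrivial element of `I a` commutes with all of `I a`, then `P` is cyclic,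
generated by it. -/
theorem le_zpowers_of_commute (h : Hyp D P ρ) {a : K} (ha : a ∈ D) {x : K} (hx : x ∈ I P a)
    (hx1 : x ≠ 1) (hc : ∀ i ∈ I P a, x * i = i * x) : P ≤ Subgroup.zpowers x := by
  rw [← h.closure_I ha, Subgroup.closure_le]
  intro i hi
  exact h.no_inverted ha hx hi (hc i hi) hx1

/-- the abelian case. -/
theorem perm_three_of_commute (h : Hyp D P ρ) {a : K} (ha : a ∈ D) {x : K} (hx : x ∈ I P a)
    (hx1 : x ≠ 1) (hc : ∀ i ∈ I P a, x * i = i * x) :
    Nonempty (K ≃* Equiv.Perm (Fin 3)) := by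
  have hPz := h.le_zpowers_of_commute ha hx hx1 hc
  have ha2 : a ^ 2 = 1 := by rw [pow_two]; exact h.sq ha
  have hx3 := h.pow_three_of_mem_I ha hx
  obtain ⟨e⟩ := Cfsg.Agent.Lib.Helper18.S3Section.nonempty_closure_mulEquiv_perm_three a x ha2
    hx1 hx3 hx.2
  have htop : Subgroup.closure ({a, x * a * x⁻¹} : Set K) = ⊤ := by
    apply h.closure_eq_top ha
    · refine hPz.trans ?_
      rw [Subgroup.zpowers_le]
      have h1 : x * a * x⁻¹ * a ∈ Subgroup.closure ({a, x * a * x⁻¹} : Set K) :=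
        Subgroup.mul_mem _ (Subgroup.subset_closure (by simp)) (Subgroup.subset_closure (by simp))
      have h2 : x * a * x⁻¹ * a = x * x := by
        have h3 : a * x⁻¹ * a⁻¹ = x := by
          have : a * x⁻¹ * a⁻¹ = (a * x * a⁻¹)⁻¹ := by group
          rw [this, hx.2, inv_inv]
        rw [h.inv ha] at h3
        calc x * a * x⁻¹ * a = x * (a * x⁻¹ * a) := by simp only [mul_assoc]
          _ = x * x := by rw [h3]
      rw [h2] at h1
      have h4 : x = (x * x) * (x * x) := by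
        have : x * x * (x * x) = x ^ 3 * x := by
          rw [pow_succ, pow_two]; simp only [mul_assoc]
        rw [this, hx3, one_mul]
      have h5 := Subgroup.mul_mem _ h1 h1
      rwa [← h4] at h5
    · exact Subgroup.subset_closure (by simp)
  exact ⟨(Subgroup.topEquiv.symm.trans (MulEquiv.subgroupCongr htop.symm)).trans e⟩

/-! ### the centre of `P` -/

/-- the centre of `P`, as a subgroup of `K`. -/
def ZP (P : Subgroup K) : Subgroup K := P ⊓ Subgroup.centralizer (P : Set K)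

theorem mem_ZP {P : Subgroup K} {z : K} : z ∈ ZP P ↔ z ∈ P ∧ ∀ k ∈ P, k * z = z * k := by
  unfold ZP
  rw [Subgroup.mem_inf, Subgroup.mem_centralizer_iff]
  rfl

theorem ZP_le (P : Subgroup K) : ZP P ≤ P := inf_le_left

theorem conj_mem_ZP (h : Hyp D P ρ) {z : K} (hz : z ∈ ZP P) (x : K) : x * z * x⁻¹ ∈ ZP P := by
  haveI := h.hPn
  haveI : (ZP P).Normal := by
    unfold ZP
    infer_instance
  exact Subgroup.Normal.conj_mem inferInstance z hz x

/-- `a` centralizes the centre of `P` unless `P` is cyclic. -/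
theorem ZP_inter_I (h : Hyp D P ρ) {a : K} (ha : a ∈ D)
    (hna : ¬ ∀ x ∈ P, ∀ y ∈ P, x * y = y * x) {c : K} (hc : c ∈ ZP P) (hcI : c ∈ I P a) :
    c = 1 := by
  by_contra hc1
  apply hna
  have hle := h.le_zpowers_of_commute ha hcI hc1
    (fun i hi => ((mem_ZP.mp hc).2 i hi.1).symm)
  intro x hx y hy
  obtain ⟨m, hm⟩ := Subgroup.mem_zpowers_iff.mp (hle hx)
  obtain ⟨n, hn⟩ := Subgroup.mem_zpowers_iff.mp (hle hy)
  rw [← hm, ← hn]
  exact (Commute.zpow_zpow_self c m n).eq

theorem a_centralizes_ZP (h : Hyp D P ρ) {a : K} (ha : a ∈ D)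
    (hna : ¬ ∀ x ∈ P, ∀ y ∈ P, x * y = y * x) {s : K} (hs : s ∈ ZP P) :
    a * s * a⁻¹ = s := by
  have h1 : s⁻¹ * (a * s * a⁻¹) ∈ I P a := h.comm_mem_I ha (ZP_le P hs)
  have h2 : s⁻¹ * (a * s * a⁻¹) ∈ ZP P :=
    (ZP P).mul_mem ((ZP P).inv_mem hs) (h.conj_mem_ZP hs a)
  have h3 := h.ZP_inter_I ha hna h2 h1
  calc a * s * a⁻¹ = s * (s⁻¹ * (a * s * a⁻¹)) := by group
    _ = s := by rw [h3, mul_one]

end Hyp

end Cfsg.Agent.Lib.Helper25.OTT
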