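import Mathlib
import Cfsg.Prelude.Def_FischerSpaces
import Cfsg.Agent.Lib.Helper27.ThreeTransp
import Cfsg.Agent.Lib.Helper25.OTTa
import Cfsg.Agent.Lib.Helper25.OTTb
import Cfsg.Agent.Lib.Helper25.OTTc
import Cfsg.Agent.Lib.Helper25.OTTd

/-!
# 3-transposition groups `K = P : 2` acting on an elementary abelian 2-group (S5559, part E)

The second centre of `P`, the element `t ∈ I a` of the second centre, and the commutator map
`θ = cm t`.
-/

set_option autoImplicit false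

namespace Cfsg.Agent.Lib.Helper25.OTT

open Cfsg Cfsg.Agent.Lib.Helper27.TT

variable {K : Type*} [Group K] {V : Type*} [CommGroup V]

/-- the commutator `g k g⁻¹ k⁻¹`. -/
def cm (g k : K) : K := g * k * g⁻¹ * k⁻¹

theorem cm_one_left (k : K) : cm 1 k = 1 := by unfold cm; group

theorem cm_one_right (g : K) : cm g 1 = 1 := by unfold cm; group

theorem cm_self (g : K) : cm g g = 1 := by unfold cm; group

theorem cm_eq_one_iff {g k : K} : cm g k = 1 ↔ g * k = k * g := by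
  unfold cm
  constructor
  · intro h
    have : g * k = (g * k * g⁻¹ * k⁻¹) * (k * g) := by group
    rw [this, h, one_mul]
  · intro h
    have : g * k * g⁻¹ * k⁻¹ = (g * k) * (k * g)⁻¹ := by group
    rw [this, h, mul_inv_cancel]

theorem cm_conj (x g k : K) : cm (x * g * x⁻¹) (x * k * x⁻¹) = x * cm g k * x⁻¹ := by
  unfold cm; group

/-- membership in the second centre of `P`. -/
def Cen2 (P : Subgroup K) (g : K) : Prop := g ∈ P ∧ ∀ k ∈ P, cm g k ∈ Hyp.ZP P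

section

variable [Finite K] {P : Subgroup K}

theorem cm_mul_left {g h k : K} (hg : g ∈ P) (hh : Cen2 P h) (hk : k ∈ P) :
    cm (g * h) k = cm h k * cm g k := by
  have hc := (Hyp.mem_ZP.mp (hh.2 k hk)).2 g hg
  calc cm (g * h) k = (g * cm h k) * (k * g⁻¹ * k⁻¹) := by unfold cm; group
    _ = cm h k * g * (k * g⁻¹ * k⁻¹) := by rw [hc]
    _ = cm h k * cm g k := by unfold cm; simp only [mul_assoc]

theorem cm_mul_right {g k l : K} (hg : Cen2 P g) (hk : k ∈ P) (hl : l ∈ P) :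
    cm g (k * l) = cm g k * cm g l := by
  have hc := (Hyp.mem_ZP.mp (hg.2 l hl)).2 k⁻¹ (P.inv_mem hk)
  calc cm g (k * l) = g * k * g⁻¹ * (cm g l * k⁻¹) := by unfold cm; group
    _ = g * k * g⁻¹ * (k⁻¹ * cm g l) := by rw [hc]
    _ = cm g k * cm g l := by unfold cm; simp only [mul_assoc]

theorem cm_inv_left {g k : K} (hg : Cen2 P g) (hk : k ∈ P) : cm g⁻¹ k = (cm g k)⁻¹ := by
  have h1 := cm_mul_left (P.inv_mem hg.1) hg hk
  rw [inv_mul_cancel, cm_one_left] at h1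
  exact eq_inv_of_mul_eq_one_right h1.symm

theorem cm_inv_right {g k : K} (hg : Cen2 P g) (hk : k ∈ P) : cm g k⁻¹ = (cm g k)⁻¹ := by
  have h1 := cm_mul_right hg hk (P.inv_mem hk)
  rw [mul_inv_cancel, cm_one_right] at h1
  exact eq_inv_of_mul_eq_one_right h1.symm

theorem Cen2.inv {g : K} (hg : Cen2 P g) : Cen2 P g⁻¹ := by
  refine ⟨P.inv_mem hg.1, fun k hk => ?_⟩
  rw [cm_inv_left hg hk]
  exact (Hyp.ZP P).inv_mem (hg.2 k hk)

theorem Cen2.mul {g h : K} (hg : Cen2 P g) (hh : Cen2 P h) : Cen2 P (g * h) := by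
  refine ⟨P.mul_mem hg.1 hh.1, fun k hk => ?_⟩
  rw [cm_mul_left hg.1 hh hk]
  exact (Hyp.ZP P).mul_mem (hh.2 k hk) (hg.2 k hk)

end

namespace Hyp

variable [Finite K] {D : Set K} {P : Subgroup K} {ρ : K → V →* V}

theorem cen2_conj (h : Hyp D P ρ) {g : K} (hg : Cen2 P g) (x : K) : Cen2 P (x * g * x⁻¹) := by
  refine ⟨h.hPn.conj_mem g hg.1 x, fun k hk => ?_⟩
  have h1 : x⁻¹ * k * x ∈ P := by
    have := h.hPn.conj_mem k hk x⁻¹
    rwa [inv_inv] at this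
  have h2 : cm (x * g * x⁻¹) k = x * cm g (x⁻¹ * k * x) * x⁻¹ := by
    unfold cm; group
  rw [h2]
  exact h.conj_mem_ZP (hg.2 _ h1) x

/-- the second centre is bigger than the centre. -/
theorem exists_cen2 (h : Hyp D P ρ) (hna : ¬ ∀ x ∈ P, ∀ y ∈ P, x * y = y * x) :
    ∃ g, Cen2 P g ∧ g ∉ ZP P := by
  classical
  haveI : Nontrivial (↥P ⧸ Subgroup.center ↥P) := by
    by_contra hns
    rw [not_nontrivial_iff_subsingleton] at hns
    apply hna
    intro x hx y hy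
    have h1 : ((⟨x, hx⟩ : ↥P) : ↥P ⧸ Subgroup.center ↥P) = 1 := Subsingleton.elim _ _
    rw [QuotientGroup.eq_one_iff] at h1
    have h2 := Subgroup.mem_center_iff.mp h1 ⟨y, hy⟩
    have h3 := congrArg Subtype.val h2
    simpa using h3.symm
  have hq : IsPGroup 3 (↥P ⧸ Subgroup.center ↥P) := h.hP3.to_quotient _
  haveI : Fact (Nat.Prime 3) := ⟨by norm_num⟩
  haveI := hq.center_nontrivial
  obtain ⟨⟨q, hqc⟩, hq1⟩ := exists_ne (1 : Subgroup.center (↥P ⧸ Subgroup.center ↥P))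
  obtain ⟨⟨g, hg⟩, rfl⟩ := QuotientGroup.mk_surjective q
  refine ⟨g, ⟨hg, ?_⟩, ?_⟩
  · intro k hk
    have h1 : (((⟨g, hg⟩ : ↥P) * ⟨k, hk⟩ * (⟨g, hg⟩ : ↥P)⁻¹ * (⟨k, hk⟩ : ↥P)⁻¹ : ↥P) :
        ↥P ⧸ Subgroup.center ↥P) = 1 := by
      have h2 := Subgroup.mem_center_iff.mp hqc ((⟨k, hk⟩ : ↥P) : ↥P ⧸ Subgroup.center ↥P)
      rw [QuotientGroup.mk_mul, QuotientGroup.mk_mul, QuotientGroup.mk_mul, ← h2,
        QuotientGroup.mk_inv, QuotientGroup.mk_inv]
      group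
    rw [QuotientGroup.eq_one_iff] at h1
    rw [mem_ZP]
    refine ⟨P.mul_mem (P.mul_mem (P.mul_mem hg hk) (P.inv_mem hg)) (P.inv_mem hk), ?_⟩
    intro l hl
    have h3 := Subgroup.mem_center_iff.mp h1 ⟨l, hl⟩
    have h4 := congrArg Subtype.val h3
    simpa [cm] using h4
  · intro hz
    apply hq1
    apply Subtype.ext
    show ((⟨g, hg⟩ : ↥P) : ↥P ⧸ Subgroup.center ↥P) = 1
    rw [QuotientGroup.eq_one_iff, Subgroup.mem_center_iff]
    intro l
    apply Subtype.ext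
    exact (mem_ZP.mp hz).2 l l.2

theorem mem_ZP_of_commute_I (h : Hyp D P ρ) {a : K} (ha : a ∈ D) {g : K} (hg : g ∈ P)
    (hc : ∀ i ∈ I P a, g * i = i * g) : g ∈ ZP P := by
  rw [mem_ZP]
  refine ⟨hg, ?_⟩
  have h1 : P ≤ Subgroup.centralizer {g} := by
    rw [← h.closure_I ha, Subgroup.closure_le]
    intro i hi
    rw [SetLike.mem_coe, Subgroup.mem_centralizer_iff]
    intro x hx
    rw [Set.mem_singleton_iff] at hx
    rw [hx]
    exact hc i hi
  intro k hk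
  have h2 := h1 hk
  rw [Subgroup.mem_centralizer_iff] at h2
  exact (h2 g (Set.mem_singleton g)).symm

/-- a nontrivial element of `I a` in the second centre of `P`. -/
theorem exists_t (h : Hyp D P ρ) {a : K} (ha : a ∈ D)
    (hna : ¬ ∀ x ∈ P, ∀ y ∈ P, x * y = y * x) : ∃ t, t ∈ I P a ∧ t ≠ 1 ∧ Cen2 P t := by
  obtain ⟨g, hg2, hgZ⟩ := h.exists_cen2 hna
  have hne : a * g * a⁻¹ ≠ g := by
    intro he
    apply hgZ
    apply h.mem_ZP_of_commute_I ha hg2.1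
    intro i hi
    have hcZ := hg2.2 i hi.1
    have h1 := h.a_centralizes_ZP ha hna hcZ
    rw [← cm_conj, he, hi.2, cm_inv_right hg2 hi.1] at h1
    have h2 : cm g i ^ 2 = 1 := by
      rw [pow_two]
      nth_rewrite 1 [← h1]
      exact inv_mul_cancel _
    have h3 := h.eq_one_of_sq (ZP_le P hcZ) h2
    exact cm_eq_one_iff.mp h3
  refine ⟨g⁻¹ * (a * g * a⁻¹), h.comm_mem_I ha hg2.1, ?_, hg2.inv.mul (h.cen2_conj hg2 a)⟩
  intro he
  apply hne
  calc a * g * a⁻¹ = g * (g⁻¹ * (a * g * a⁻¹)) := by group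
    _ = g := by rw [he, mul_one]

/-! ### the map `θ = cm t` -/

theorem cm_pow_three (h : Hyp D P ρ) {a : K} (ha : a ∈ D) {t : K} (ht : t ∈ I P a)
    (ht2 : Cen2 P t) {g : K} (hg : g ∈ P) : cm t g ^ 3 = 1 := by
  have h1 := cm_mul_left ht.1 ht2 hg
  have h2 := cm_mul_left ht.1 (ht2.mul ht2) hg
  have h3 : t * (t * t) = 1 := by
    have := h.pow_three_of_mem_I ha ht
    rw [pow_succ, pow_two] at this
    rw [← mul_assoc]; exact this
  rw [h3, cm_one_left, h1] at h2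
  rw [pow_succ, pow_two]
  exact h2.symm

theorem cm_conj_a (h : Hyp D P ρ) {a : K} (ha : a ∈ D)
    (hna : ¬ ∀ x ∈ P, ∀ y ∈ P, x * y = y * x) {t : K} (ht : t ∈ I P a)
    (ht2 : Cen2 P t) {g : K} (hg : g ∈ P) : cm t (a * g * a⁻¹) = (cm t g)⁻¹ := by
  have h1 := h.a_centralizes_ZP ha hna (ht2.2 g hg)
  rw [← cm_conj, ht.2, cm_inv_left ht2 (h.hPn.conj_mem g hg a)] at h1
  rw [← h1, inv_inv]

theorem cm_comm_a (h : Hyp D P ρ) {a : K} (ha : a ∈ D)
    (hna : ¬ ∀ x ∈ P, ∀ y ∈ P, x * y = y * x) {t : K} (ht : t ∈ I P a)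
    (ht2 : Cen2 P t) {g : K} (hg : g ∈ P) : cm t (g⁻¹ * (a * g * a⁻¹)) = cm t g := by
  rw [cm_mul_right ht2 (P.inv_mem hg) (h.hPn.conj_mem g hg a), cm_inv_right ht2 hg,
    h.cm_conj_a ha hna ht ht2 hg]
  have h3 := h.cm_pow_three ha ht ht2 hg
  have : cm t g = (cm t g)⁻¹ * (cm t g)⁻¹ * cm t g ^ 3 := by
    rw [pow_succ, pow_two]; group
  rw [h3, mul_one] at this
  exact this.symm

end Hyp

end Cfsg.Agent.Lib.Helper25.OTT
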