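import Mathlib
import Cfsg.Prelude.Def_FischerSpaces
import Cfsg.Agent.Lib.Helper27.ThreeTransp
import Cfsg.Agent.Lib.Helper25.OTTa
import Cfsg.Agent.Lib.Helper25.OTTb
import Cfsg.Agent.Lib.Helper25.OTTc
import Cfsg.Agent.Lib.Helper25.OTTd
import Cfsg.Agent.Lib.Helper25.OTTe

/-!
# 3-transposition groups `K = P : 2` acting on an elementary abelian 2-group (S5559, part F)

The main structure theorem: `K ≃ S₃` or `K` is a group of order `54` with the relations `TS`.
-/

set_option autoImplicit false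

namespace Cfsg.Agent.Lib.Helper25.OTT

open Cfsg Cfsg.Agent.Lib.Helper27.TT

variable {K : Type*} [Group K] {V : Type*} [CommGroup V]

namespace Hyp

variable [Finite K] {D : Set K} {P : Subgroup K} {ρ : K → V →* V}

theorem fix_inv (h : Hyp D P ρ) {g : K} {v : V} (hv : ρ g v = v) : ρ g⁻¹ v = v := by
  have h1 : ρ (g⁻¹ * g) v = v := by rw [inv_mul_cancel, h.one]
  rw [h.mul, hv] at h1
  exact h1

/-- the key step: fixed points of `cm t w` are fixed by `a`. -/
theorem fix_cm_le_of_mem_I (h : Hyp D P ρ) {a : K} (ha : a ∈ D) {t : K} (ht : t ∈ I P a)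
    (ht1 : t ≠ 1) (ht2 : Cen2 P t) {w : K} (hw : w ∈ I P a) (hne : cm t w ≠ 1) :
    Fix ρ (cm t w) ≤ Fix ρ a := by
  set c := cm t w with hc
  have hcZ : c ∈ ZP P := ht2.2 w hw.1
  have hct : t * c = c * t := (mem_ZP.mp hcZ).2 t ht.1
  have hcw : w * c = c * w := (mem_ZP.mp hcZ).2 w hw.1
  have htw : t * w = c * (w * t) := by rw [hc]; unfold cm; group
  have t3 : t * (t * t) = 1 := by
    have := h.pow_three_of_mem_I ha ht
    rw [pow_succ, pow_two] at this
    rw [← mul_assoc]; exact this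
  have w3 : w * (w * w) = 1 := by
    have := h.pow_three_of_mem_I ha hw
    rw [pow_succ, pow_two] at this
    rw [← mul_assoc]; exact this
  have hw1 : w ≠ 1 := by
    rintro rfl
    exact hne (cm_one_right t)
  have hfU : ∀ v ∈ Fix ρ c, ρ t v ∈ Fix ρ c := by
    intro v hv
    rw [mem_Fix] at hv ⊢
    rw [← h.mul, ← hct, h.mul, hv]
  have hgU : ∀ v ∈ Fix ρ c, ρ w v ∈ Fix ρ c := by
    intro v hv
    rw [mem_Fix] at hv ⊢
    rw [← h.mul, ← hcw, h.mul, hv]
  apply gen9 h.hV (ρ t) (ρ w) (Fix ρ c) (Fix ρ a) hfU hgU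
  · intro v hv
    have h1 := hgU _ (hfU v hv)
    rw [mem_Fix, ← h.mul w t] at h1
    rw [← h.mul, ← h.mul, htw, h.mul c, h1]
  · intro v _
    rw [← h.mul, ← h.mul, mul_assoc, t3, h.one]
  · intro v _
    rw [← h.mul, ← h.mul, mul_assoc, w3, h.one]
  · intro v _ hv
    exact h.fix_le ha ht ht1 hv
  · intro v _ hv
    exact h.fix_le ha hw hw1 hv
  · intro v hvU hv
    have hj : t⁻¹ * w * t⁻¹ ∈ I P a := mul_mul_mem_I (inv_mem_I ht) hw
    have hj1 : t⁻¹ * w * t⁻¹ ≠ 1 := by
      intro he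
      apply hne
      have : w = t * t := by
        calc w = t * (t⁻¹ * w * t⁻¹) * t := by group
          _ = t * t := by rw [he, mul_one]
      rw [hc, this]
      unfold cm; group
    have hjc : t⁻¹ * w * t⁻¹ = c * (t * w) := by
      have e1 : t⁻¹ * w * t⁻¹ = (t * (t * t))⁻¹ * (t * cm t w * t⁻¹) * (t * w) := by
        unfold cm; group
      rw [e1, t3, inv_one, one_mul, ← hc, hct, mul_inv_cancel_right]
    apply h.fix_le ha hj hj1
    rw [mem_Fix, hjc, h.mul, h.mul, hv]
    exact hvU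
  · intro v hvU hv
    have hj : w * t * w ∈ I P a := mul_mul_mem_I hw ht
    have hj1 : w * t * w ≠ 1 := by
      intro he
      apply hne
      have : t = w⁻¹ * w⁻¹ := by
        calc t = w⁻¹ * (w * t * w) * w⁻¹ := by group
          _ = w⁻¹ * w⁻¹ := by rw [he, mul_one]
      rw [hc, this]
      unfold cm; group
    have hjc : w * t * w = c⁻¹ * (t * (w * w)) := by
      rw [hc]; unfold cm; group
    apply h.fix_le ha hj hj1
    rw [mem_Fix, hjc, h.mul, h.mul, h.mul, hv]
    exact h.fix_inv hvU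

theorem fix_cm_le (h : Hyp D P ρ) {a : K} (ha : a ∈ D)
    (hna : ¬ ∀ x ∈ P, ∀ y ∈ P, x * y = y * x) {t : K} (ht : t ∈ I P a)
    (ht1 : t ≠ 1) (ht2 : Cen2 P t) {g : K} (hg : g ∈ P) (hne : cm t g ≠ 1) :
    Fix ρ (cm t g) ≤ Fix ρ a := by
  have h1 := h.cm_comm_a ha hna ht ht2 hg
  have h2 := h.fix_cm_le_of_mem_I ha ht ht1 ht2 (h.comm_mem_I ha hg) (by rw [h1]; exact hne)
  rwa [h1] at h2

theorem exists_y (h : Hyp D P ρ) {a : K} (ha : a ∈ D)
    (hna : ¬ ∀ x ∈ P, ∀ y ∈ P, x * y = y * x) {t : K} (ht : t ∈ I P a)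
    (ht1 : t ≠ 1) : ∃ y ∈ I P a, cm t y ≠ 1 := by
  by_contra hcon
  push Not at hcon
  apply ht1
  apply h.ZP_inter_I ha hna _ ht
  apply h.mem_ZP_of_commute_I ha ht.1
  intro i hi
  exact cm_eq_one_iff.mp (hcon i hi)

theorem cm_mem_zpowers (h : Hyp D P ρ) {a : K} (ha : a ∈ D)
    (hna : ¬ ∀ x ∈ P, ∀ y ∈ P, x * y = y * x) {t : K} (ht : t ∈ I P a)
    (ht1 : t ≠ 1) (ht2 : Cen2 P t) {y : K} (hy : y ∈ P) (hy1 : cm t y ≠ 1)
    {g : K} (hg : g ∈ P) : cm t g ∈ Subgroup.zpowers (cm t y) := by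
  by_contra hnot
  set s := cm t y with hs
  set s' := cm t g with hs'
  have hsZ : s ∈ ZP P := ht2.2 y hy
  have hs'Z : s' ∈ ZP P := ht2.2 g hg
  have hss' : s' * s = s * s' := (mem_ZP.mp hsZ).2 s' (ZP_le P hs'Z)
  have s3 : s * (s * s) = 1 := by
    have := h.cm_pow_three ha ht ht2 hy
    rw [pow_succ, pow_two] at this
    rw [← mul_assoc]; exact this
  have s'3 : s' * (s' * s') = 1 := by
    have := h.cm_pow_three ha ht ht2 hg
    rw [pow_succ, pow_two] at this
    rw [← mul_assoc]; exact this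
  have hs'1 : s' ≠ 1 := by
    intro he
    apply hnot
    rw [he]
    exact Subgroup.one_mem _
  have e3 : s * s' = cm t (y * g) := (cm_mul_right ht2 hy hg).symm
  have e4 : s * (s' * s') = cm t (y * (g * g)) := by
    rw [cm_mul_right ht2 hy (P.mul_mem hg hg), cm_mul_right ht2 hg hg]
  have n3 : s * s' ≠ 1 := by
    intro he
    apply hnot
    have : s' = s⁻¹ := eq_inv_of_mul_eq_one_right he
    rw [this]
    exact Subgroup.inv_mem _ (Subgroup.mem_zpowers s)
  have n4 : s * (s' * s') ≠ 1 := by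
    intro he
    apply hnot
    have e1 : s' * s' = s⁻¹ := eq_inv_of_mul_eq_one_right he
    have e2 : s' = (s' * s') * (s' * s') := by
      have : s' * s' * (s' * s') = (s' * (s' * s')) * s' := by simp only [mul_assoc]
      rw [this, s'3, one_mul]
    rw [e2, e1]
    exact Subgroup.mul_mem _ (Subgroup.inv_mem _ (Subgroup.mem_zpowers s))
      (Subgroup.inv_mem _ (Subgroup.mem_zpowers s))
  have key : (⊤ : Subgroup V) ≤ Fix ρ a := by
    apply gen9 h.hV (ρ s) (ρ s') ⊤ (Fix ρ a)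
    · intro v _; trivial
    · intro v _; trivial
    · intro v _
      rw [← h.mul, ← h.mul, hss']
    · intro v _
      rw [← h.mul, ← h.mul, mul_assoc, s3, h.one]
    · intro v _
      rw [← h.mul, ← h.mul, mul_assoc, s'3, h.one]
    · intro v _ hv
      exact h.fix_cm_le ha hna ht ht1 ht2 hy hy1 hv
    · intro v _ hv
      exact h.fix_cm_le ha hna ht ht1 ht2 hg hs'1 hv
    · intro v _ hv
      rw [← h.mul, e3] at hv
      refine h.fix_cm_le ha hna ht ht1 ht2 (P.mul_mem hy hg) ?_ hv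
      rw [← e3]; exact n3
    · intro v _ hv
      rw [← h.mul, ← h.mul, mul_assoc, e4] at hv
      refine h.fix_cm_le ha hna ht ht1 ht2 (P.mul_mem hy (P.mul_mem hg hg)) ?_ hv
      rw [← e4]; exact n4
  have h1 : a = 1 := by
    apply h.faith
    intro v
    exact key (Subgroup.mem_top v)
  exact ne_one_of_mem h.hD.1 ha h1

theorem mem_closure_ty (h : Hyp D P ρ) {a : K} (ha : a ∈ D)
    (hna : ¬ ∀ x ∈ P, ∀ y ∈ P, x * y = y * x) {t : K} (ht : t ∈ I P a)
    (ht1 : t ≠ 1) (ht2 : Cen2 P t) {y : K} (hy : y ∈ I P a) (hy1 : cm t y ≠ 1)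
    {i : K} (hi : i ∈ I P a) : i ∈ Subgroup.closure ({t, y} : Set K) := by
  have htc : t ∈ Subgroup.closure ({t, y} : Set K) := Subgroup.subset_closure (by simp)
  have hyc : y ∈ Subgroup.closure ({t, y} : Set K) := Subgroup.subset_closure (by simp)
  have hzt : Subgroup.zpowers t ≤ Subgroup.closure ({t, y} : Set K) := by
    rw [Subgroup.zpowers_le]; exact htc
  have hcase : ∀ w ∈ I P a, cm t w = 1 → w ∈ Subgroup.closure ({t, y} : Set K) := by
    intro w hw hcw
    exact hzt (h.no_inverted ha ht hw (cm_eq_one_iff.mp hcw) ht1)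
  set s := cm t y with hs
  have s3 : s * (s * s) = 1 := by
    have := h.cm_pow_three ha ht ht2 hy.1
    rw [pow_succ, pow_two] at this
    rw [← mul_assoc]; exact this
  have s3' : s ^ (3 : ℤ) = 1 := by
    have := h.cm_pow_three ha ht ht2 hy.1
    exact_mod_cast this
  obtain ⟨n, hn⟩ := Subgroup.mem_zpowers_iff.mp (h.cm_mem_zpowers ha hna ht ht1 ht2 hy.1 hy1 hi.1)
  rw [zpow_eq_zpow_emod n s3'] at hn
  obtain h0 | h0 | h0 : n % 3 = 0 ∨ n % 3 = 1 ∨ n % 3 = 2 := by omega
  · rw [h0, zpow_zero] at hn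
    exact hcase i hi hn.symm
  · rw [h0, zpow_one] at hn
    have hj : y * i * y ∈ I P a := mul_mul_mem_I hy hi
    have hcj : cm t (y * i * y) = 1 := by
      rw [cm_mul_right ht2 (P.mul_mem hy.1 hi.1) hy.1, cm_mul_right ht2 hy.1 hi.1, ← hn, ← hs,
        mul_assoc]
      exact s3
    have := hcase _ hj hcj
    have e : i = y⁻¹ * (y * i * y) * y⁻¹ := by group
    rw [e]
    exact Subgroup.mul_mem _ (Subgroup.mul_mem _ (Subgroup.inv_mem _ hyc) this)
      (Subgroup.inv_mem _ hyc)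
  · have hn' : cm t i = s⁻¹ := by
      rw [← hn, h0]
      have : s ^ (2 : ℤ) = s * s := by
        have := pow_two s
        exact_mod_cast this
      rw [this]
      exact eq_inv_of_mul_eq_one_right s3
    have hj : y⁻¹ * i * y⁻¹ ∈ I P a := mul_mul_mem_I (inv_mem_I hy) hi
    have hcj : cm t (y⁻¹ * i * y⁻¹) = 1 := by
      rw [cm_mul_right ht2 (P.mul_mem (P.inv_mem hy.1) hi.1) (P.inv_mem hy.1),
        cm_mul_right ht2 (P.inv_mem hy.1) hi.1, hn', cm_inv_right ht2 hy.1, ← hs]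
      have : s⁻¹ * s⁻¹ * s⁻¹ = (s * (s * s))⁻¹ := by group
      rw [this, s3, inv_one]
    have := hcase _ hj hcj
    have e : i = y * (y⁻¹ * i * y⁻¹) * y := by group
    rw [e]
    exact Subgroup.mul_mem _ (Subgroup.mul_mem _ hyc this) hyc

/-- a nonabelian `3`-group has order at least `27`. -/
theorem card_P_ge (h : Hyp D P ρ) (hna : ¬ ∀ x ∈ P, ∀ y ∈ P, x * y = y * x) :
    27 ≤ Nat.card P := by
  haveI : Fact (Nat.Prime 3) := ⟨by norm_num⟩
  obtain ⟨n, hn⟩ := IsPGroup.iff_card.mp h.hP3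
  have hcomm : (∀ x y : ↥P, x * y = y * x) → False := by
    intro hc
    apply hna
    intro x hx y hy
    have := congrArg Subtype.val (hc ⟨x, hx⟩ ⟨y, hy⟩)
    simpa using this
  have hn3 : 3 ≤ n := by
    by_contra hlt
    have hn' : n = 0 ∨ n = 1 ∨ n = 2 := by omega
    rcases hn' with rfl | rfl | rfl
    · apply hcomm
      rw [pow_zero] at hn
      haveI : Subsingleton ↥P := (Nat.card_eq_one_iff_unique.mp hn).1
      intro x y
      exact Subsingleton.elim _ _
    · apply hcomm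
      rw [pow_one] at hn
      haveI : IsCyclic ↥P := isCyclic_of_prime_card hn
      intro x y
      exact mul_comm' x y
    · apply hcomm
      haveI : IsMulCommutative ↥P := IsPGroup.isMulCommutative_of_card_eq_prime_sq hn
      intro x y
      exact mul_comm' x y
  rw [hn]
  calc 27 = 3 ^ 3 := by norm_num
    _ ≤ 3 ^ n := Nat.pow_le_pow_right (by norm_num) hn3

/-- **The structure theorem.** -/
theorem main (h : Hyp D P ρ) :
    Nonempty (K ≃* Equiv.Perm (Fin 3)) ∨
      ∃ t y s a : K, TS t y s a ∧ Subgroup.closure ({t, y, a} : Set K) = ⊤ ∧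
        Nat.card K = 54 := by
  obtain ⟨a, ha, -⟩ := h.hD.2.1
  by_cases hna : ∀ x ∈ P, ∀ y ∈ P, x * y = y * x
  · left
    obtain ⟨x, hx, hx1⟩ := h.exists_mem_I_ne_one ha
    exact h.perm_three_of_commute ha hx hx1 (fun i hi => hna x hx.1 i hi.1)
  · right
    obtain ⟨t, ht, ht1, ht2⟩ := h.exists_t ha hna
    obtain ⟨y, hy, hy1⟩ := h.exists_y ha hna ht ht1
    have hsZ : cm t y ∈ ZP P := ht2.2 y hy.1
    have hTS : TS t y (cm t y) a := by
      refine ⟨h.pow_three_of_mem_I ha ht, h.pow_three_of_mem_I ha hy,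
        h.cm_pow_three ha ht ht2 hy.1, by rw [pow_two]; exact h.sq ha, ht.2, hy.2, rfl,
        ((mem_ZP.mp hsZ).2 t ht.1).symm, ((mem_ZP.mp hsZ).2 y hy.1).symm, ?_⟩
      have := h.a_centralizes_ZP ha hna hsZ
      calc cm t y * a = (a * cm t y * a⁻¹) * a := by rw [this]
        _ = a * cm t y := by group
    have hP : P ≤ Subgroup.closure ({t, y} : Set K) := by
      rw [← h.closure_I ha, Subgroup.closure_le]
      intro i hi
      exact h.mem_closure_ty ha hna ht ht1 ht2 hy hy1 hi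
    have hgen : Subgroup.closure ({t, y, a} : Set K) = ⊤ := by
      apply h.closure_eq_top ha
      · refine hP.trans (Subgroup.closure_mono ?_)
        intro x hx
        simp only [Set.mem_insert_iff, Set.mem_singleton_iff] at hx ⊢
        rcases hx with rfl | rfl
        · exact Or.inl rfl
        · exact Or.inr (Or.inl rfl)
      · exact Subgroup.subset_closure (by simp)
    refine ⟨t, y, cm t y, a, hTS, hgen, ?_⟩
    have hle := hTS.card_le hgen
    have hge := h.card_P_ge hna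
    have hidx := Subgroup.index_mul_card P
    rw [h.index_two] at hidx
    omega

end Hyp

end Cfsg.Agent.Lib.Helper25.OTT
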