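import Mathlib
import Cfsg.Agent.Lib.Helper6.SUThreeTwo
import Cfsg.Agent.S0278
import Cfsg.Agent.Lib.Helper25.OTTb

/-!
# The derived group of `SU_3(2)` (S5559, part G)

The derived group of `SU_3(2)` (over the concrete field `K4`) has order `54` and is generated by
elements satisfying the relations `TS`.
-/

set_option autoImplicit false

namespace Cfsg.Agent.Lib.Helper25.OTT

open Cfsg Cfsg.Agent.Lib.Helper6.FFour Cfsg.Agent.Lib.Helper6.SUThreeTwo
open scoped commutatorElement

/-- a noncommutative finite `3`-group has order divisible by `27`. -/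
theorem dvd_card_of_not_comm {G : Type*} [Group G] [Finite G] (hp : IsPGroup 3 G)
    (hna : ¬ ∀ x y : G, x * y = y * x) : 27 ∣ Nat.card G := by
  haveI : Fact (Nat.Prime 3) := ⟨by norm_num⟩
  obtain ⟨n, hn⟩ := IsPGroup.iff_card.mp hp
  have hn3 : 3 ≤ n := by
    by_contra hlt
    have hn' : n = 0 ∨ n = 1 ∨ n = 2 := by omega
    rcases hn' with rfl | rfl | rfl
    · apply hna
      rw [pow_zero] at hn
      haveI : Subsingleton G := (Nat.card_eq_one_iff_unique.mp hn).1
      intro x y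
      exact Subsingleton.elim _ _
    · apply hna
      rw [pow_one] at hn
      haveI : IsCyclic G := isCyclic_of_prime_card hn
      intro x y
      exact mul_comm' x y
    · apply hna
      haveI : IsMulCommutative G := IsPGroup.isMulCommutative_of_card_eq_prime_sq hn
      intro x y
      exact mul_comm' x y
  rw [hn]
  exact pow_dvd_pow 3 hn3

/-- generators of a subgroup generate the subgroup as a group. -/
theorem closure_preimage_eq_top {G : Type*} [Group G] (L : Subgroup G) (s : Set G)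
    (hs : Subgroup.closure s = L) : Subgroup.closure (L.subtype ⁻¹' s) = ⊤ := by
  subst hs
  exact Subgroup.closure_closure_coe_preimage

theorem card_K4 : Fintype.card K4 = 2 ^ 2 := by decide

/-- `SU_3(2)`. -/
abbrev S4 : Type := ↥(Cfsg.SU 3 K4 2)

/-- the elements. -/
def eD : S4 := gD card_K4 (RingHom.id K4)
def eC : S4 := gC card_K4 (RingHom.id K4)
def eZ : S4 := gZ card_K4 (RingHom.id K4)
def ePhi : S4 := gPhi card_K4 (RingHom.id K4)
def eX : S4 := gX card_K4 (RingHom.id K4)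
def eA : S4 := ePhi * ePhi

theorem eD3 : eD * eD * eD = 1 := gD_pow _ _
theorem eC3 : eC * eC * eC = 1 := gC_pow _ _
theorem eCD : eC * eD = eZ * (eD * eC) := gC_gD _ _
theorem eCD_ne : eC * eD ≠ eD * eC := gC_gD_ne _ _
theorem ePhiD : ePhi * eD = eC * ePhi := gPhi_gD _ _
theorem ePhiC : ePhi * eC = eD * eD * ePhi := gPhi_gC _ _
theorem ePhi4 : ePhi * ePhi * (ePhi * ePhi) = 1 := gPhi_four _ _
theorem eX2 : eX * eX = ePhi * ePhi := gX_sq _ _
theorem ePhiXPhi : ePhi * eX * ePhi = eX := gPhi_gX_gPhi _ _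
theorem eZc (g : S4) : g * eZ = eZ * g :=
  Subgroup.mem_center_iff.mp (gZ_mem_center card_K4 (RingHom.id K4)) g
theorem eA_ne : eA * eD ≠ eD * eA := gPhi_sq_gD_ne _ _

theorem eZ3 : eZ * eZ * eZ = 1 := by
  apply mat_injective
  simp only [mat_mul, eZ, gZ, mat_emb, ← mapF_mul, mat_one]
  rw [← mapF_one (RingHom.id K4)]
  exact congrArg (mapF (RingHom.id K4)) (by decide)

theorem eD_inv : eD⁻¹ = eD * eD := by
  rw [inv_eq_iff_mul_eq_one, ← mul_assoc]; exact eD3

theorem eC_inv : eC⁻¹ = eC * eC := by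
  rw [inv_eq_iff_mul_eq_one, ← mul_assoc]; exact eC3

theorem eA2 : eA * eA = 1 := ePhi4

theorem eA_inv : eA⁻¹ = eA := by
  rw [inv_eq_iff_mul_eq_one]; exact eA2

theorem eAD : eA * eD = eD * eD * eA := by
  unfold eA
  calc ePhi * ePhi * eD = ePhi * (ePhi * eD) := by rw [mul_assoc]
    _ = ePhi * (eC * ePhi) := by rw [ePhiD]
    _ = (ePhi * eC) * ePhi := by rw [mul_assoc]
    _ = eD * eD * ePhi * ePhi := by rw [ePhiC]
    _ = eD * eD * (ePhi * ePhi) := by simp only [mul_assoc]

theorem eAC : eA * eC = eC * eC * eA := by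
  unfold eA
  calc ePhi * ePhi * eC = ePhi * (ePhi * eC) := by rw [mul_assoc]
    _ = ePhi * (eD * eD * ePhi) := by rw [ePhiC]
    _ = (ePhi * eD) * eD * ePhi := by simp only [mul_assoc]
    _ = (eC * ePhi) * eD * ePhi := by rw [ePhiD]
    _ = eC * (ePhi * eD) * ePhi := by simp only [mul_assoc]
    _ = eC * (eC * ePhi) * ePhi := by rw [ePhiD]
    _ = eC * eC * (ePhi * ePhi) := by simp only [mul_assoc]

theorem eA_conj_D : eA * eD * eA⁻¹ = eD⁻¹ := by
  rw [eAD, eD_inv, mul_assoc, mul_inv_cancel, mul_one]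

theorem eA_conj_C : eA * eC * eA⁻¹ = eC⁻¹ := by
  rw [eAC, eC_inv, mul_assoc, mul_inv_cancel, mul_one]

/-- `s = [D, C] = Z⁻¹`. -/
theorem eS_eq : eD * eC * eD⁻¹ * eC⁻¹ = eZ⁻¹ := by
  have h1 : eD * eC = eZ⁻¹ * (eC * eD) := by rw [eCD, inv_mul_cancel_left]
  rw [h1]
  group

theorem eZ_inv3 : eZ⁻¹ ^ 3 = 1 := by
  rw [inv_pow, inv_eq_one, pow_succ, pow_two]
  exact eZ3

theorem eZ_inv_c (g : S4) : eZ⁻¹ * g = g * eZ⁻¹ := by
  have := eZc g
  calc eZ⁻¹ * g = eZ⁻¹ * (g * eZ) * eZ⁻¹ := by group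
    _ = g * eZ⁻¹ := by rw [this]; group

theorem ts_S4 : TS eD eC (eD * eC * eD⁻¹ * eC⁻¹) eA := by
  refine ⟨by rw [pow_succ, pow_two]; exact eD3, by rw [pow_succ, pow_two]; exact eC3, ?_,
    by rw [pow_two]; exact eA2, eA_conj_D, eA_conj_C, rfl, ?_, ?_, ?_⟩
  · rw [eS_eq]; exact eZ_inv3
  · rw [eS_eq]; exact eZ_inv_c _
  · rw [eS_eq]; exact eZ_inv_c _
  · rw [eS_eq]; exact eZ_inv_c _

/-! ### membership in the derived group -/

theorem eA_mem : eA ∈ commutator S4 := by
  have h1 : eA = ⁅ePhi, eX⁆ := by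
    rw [commutatorElement_def]
    have h2 : ePhi * eX = eX * ePhi⁻¹ := by
      calc ePhi * eX = (ePhi * eX * ePhi) * ePhi⁻¹ := by group
        _ = eX * ePhi⁻¹ := by rw [ePhiXPhi]
    have h3 : ePhi⁻¹ * ePhi⁻¹ = ePhi * ePhi := by
      have := ePhi4
      calc ePhi⁻¹ * ePhi⁻¹ = ePhi⁻¹ * ePhi⁻¹ * (ePhi * ePhi * (ePhi * ePhi)) := by
            rw [this, mul_one]
        _ = ePhi * ePhi := by simp only [mul_assoc, inv_mul_cancel_left]
    calc eA = eX * eX * eX * eX⁻¹ := by
          unfold eA; rw [← eX2]; group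
      _ = eX * (ePhi⁻¹ * ePhi⁻¹) * eX⁻¹ := by rw [h3, ← eX2]; group
      _ = (eX * ePhi⁻¹) * ePhi⁻¹ * eX⁻¹ := by group
      _ = ePhi * eX * ePhi⁻¹ * eX⁻¹ := by rw [← h2]
  rw [h1, commutator_def]
  exact Subgroup.commutator_mem_commutator (Subgroup.mem_top _) (Subgroup.mem_top _)

theorem eD_mem : eD ∈ commutator S4 := by
  have h1 : eD = ⁅eA, eD⁆ := by
    rw [commutatorElement_def, eA_conj_D, eD_inv]
    have := eD3
    calc eD = eD * (eD * eD * eD) := by rw [this, mul_one]
      _ = eD * eD * (eD * eD) := by simp only [mul_assoc]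
  rw [h1, commutator_def]
  exact Subgroup.commutator_mem_commutator (Subgroup.mem_top _) (Subgroup.mem_top _)

theorem eC_mem : eC ∈ commutator S4 := by
  have h1 : eC = ⁅eA, eC⁆ := by
    rw [commutatorElement_def, eA_conj_C, eC_inv]
    have := eC3
    calc eC = eC * (eC * eC * eC) := by rw [this, mul_one]
      _ = eC * eC * (eC * eC) := by simp only [mul_assoc]
  rw [h1, commutator_def]
  exact Subgroup.commutator_mem_commutator (Subgroup.mem_top _) (Subgroup.mem_top _)

/-! ### orders -/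

theorem card_S4 : Nat.card S4 = 216 := by
  have h := Cfsg.Agent.S0278.result (F := K4) (q := 2) card_K4 3 (by norm_num)
  norm_num [Finset.prod_range_succ] at h
  show Nat.card ↥(Cfsg.SU 3 K4 2) = 216
  omega

instance : Finite S4 := Nat.finite_of_card_ne_zero (by rw [card_S4]; norm_num)

theorem q8_comm (x y : QuaternionGroup 2) :
    ⁅x, y⁆ ∈ Subgroup.zpowers (QuaternionGroup.a (2 : ZMod (2 * 2))) := by
  have h : ∀ x y : QuaternionGroup 2, ⁅x, y⁆ = 1 ∨ ⁅x, y⁆ = QuaternionGroup.a 2 := by decide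
  rcases h x y with h1 | h1
  · rw [h1]; exact Subgroup.one_mem _
  · rw [h1]; exact Subgroup.mem_zpowers _

theorem q8_card_z : Nat.card (Subgroup.zpowers (QuaternionGroup.a (2 : ZMod (2 * 2)))) = 2 := by
  rw [Nat.card_zpowers]
  exact orderOf_eq_prime (by decide) (by decide)

/-- **The derived group of `SU_3(2)`** has order `54` and satisfies `TS`. -/
theorem su_side :
    ∃ t y s a : ↥(commutator S4), TS t y s a ∧
      Subgroup.closure ({t, y, a} : Set ↥(commutator S4)) = ⊤ ∧
      Nat.card ↥(commutator S4) = 54 := by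
  classical
  obtain ⟨N, hNn, hN9, hexp, ⟨e⟩⟩ := psu_three_two (F := K4) (by decide)
  haveI := hNn
  obtain ⟨f, hf⟩ : ∃ f : S4 →* QuaternionGroup 2, f = e.toMonoidHom.comp
      ((QuotientGroup.mk' N).comp (QuotientGroup.mk' (Subgroup.center S4))) := ⟨_, rfl⟩
  have hfs : Function.Surjective f := by
    rw [hf]
    exact e.surjective.comp
      ((QuotientGroup.mk'_surjective N).comp (QuotientGroup.mk'_surjective _))
  have hker : Nat.card f.ker = 27 := by
    have h1 := Subgroup.index_ker f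
    have h2 : Nat.card f.range = 8 := by
      rw [MonoidHom.range_eq_top.mpr hfs, Subgroup.card_top, Nat.card_eq_fintype_card,
        QuaternionGroup.card]
    have h3 := Subgroup.index_mul_card f.ker
    rw [h1, h2, card_S4] at h3
    omega
  have hk3 : ∀ g : S4, g * g * g = 1 → g ∈ f.ker := by
    intro g hg
    rw [MonoidHom.mem_ker]
    have h3 : f g ^ 3 = 1 := by rw [← map_pow, pow_succ, pow_two, hg, map_one]
    have h4 : f g ^ 4 = 1 := q8_pow_four _
    calc f g = f g ^ 4 * (f g ^ 3)⁻¹ := by group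
      _ = 1 := by rw [h3, h4]; group
  obtain ⟨M, hM⟩ : ∃ M : Subgroup S4,
      M = (Subgroup.zpowers (QuaternionGroup.a (2 : ZMod (2 * 2)))).comap f := ⟨_, rfl⟩
  have hcM : commutator S4 ≤ M := by
    rw [commutator_def, Subgroup.commutator_le]
    intro g₁ _ g₂ _
    rw [hM, Subgroup.mem_comap, map_commutatorElement]
    exact q8_comm _ _
  have hMcard : Nat.card M = 54 := by
    have h1 : M.index = (Subgroup.zpowers (QuaternionGroup.a (2 : ZMod (2 * 2)))).index := by
      rw [hM]; exact Subgroup.index_comap_of_surjective _ hfs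
    have h2 := Subgroup.index_mul_card (Subgroup.zpowers (QuaternionGroup.a (2 : ZMod (2 * 2))))
    rw [q8_card_z, Nat.card_eq_fintype_card, QuaternionGroup.card] at h2
    have h3 := Subgroup.index_mul_card M
    rw [card_S4, h1] at h3
    have h4 : (Subgroup.zpowers (QuaternionGroup.a (2 : ZMod (2 * 2)))).index = 4 := by omega
    rw [h4] at h3
    omega
  obtain ⟨H, hH⟩ : ∃ H : Subgroup S4, H = Subgroup.closure {eD, eC, eA} := ⟨_, rfl⟩
  have hHc : H ≤ commutator S4 := by
    rw [hH, Subgroup.closure_le]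
    intro x hx
    simp only [Set.mem_insert_iff, Set.mem_singleton_iff] at hx
    rcases hx with rfl | rfl | rfl
    exacts [eD_mem, eC_mem, eA_mem]
  obtain ⟨T, hT⟩ : ∃ T : Subgroup S4, T = Subgroup.closure {eD, eC} := ⟨_, rfl⟩
  have hTk : T ≤ f.ker := by
    rw [hT, Subgroup.closure_le]
    intro x hx
    simp only [Set.mem_insert_iff, Set.mem_singleton_iff] at hx
    rcases hx with rfl | rfl
    exacts [hk3 _ eD3, hk3 _ eC3]
  have hTH : T ≤ H := by
    rw [hT, hH]
    apply Subgroup.closure_mono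
    intro x hx
    simp only [Set.mem_insert_iff, Set.mem_singleton_iff] at hx ⊢
    rcases hx with rfl | rfl
    · exact Or.inl rfl
    · exact Or.inr (Or.inl rfl)
  have hT3 : IsPGroup 3 T :=
    (IsPGroup.of_card (n := 3) (by rw [hker]; norm_num)).to_le hTk
  have hDT : eD ∈ T := by rw [hT]; exact Subgroup.subset_closure (by simp)
  have hCT : eC ∈ T := by rw [hT]; exact Subgroup.subset_closure (by simp)
  have h27 : 27 ∣ Nat.card T := by
    apply dvd_card_of_not_comm hT3
    intro hc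
    have := hc ⟨eC, hCT⟩ ⟨eD, hDT⟩
    exact eCD_ne (congrArg Subtype.val this)
  have h27H : 27 ∣ Nat.card H := h27.trans (Subgroup.card_dvd_of_le hTH)
  have hAH : eA ∈ H := by rw [hH]; exact Subgroup.subset_closure (by simp)
  have h2H : 2 ∣ Nat.card H := by
    have ho : orderOf (⟨eA, hAH⟩ : H) = 2 := by
      apply orderOf_eq_prime
      · apply Subtype.ext
        rw [Subgroup.coe_pow, Subgroup.coe_one, pow_two]
        exact eA2
      · intro h1
        have h2 : eA = 1 := congrArg Subtype.val h1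
        apply eA_ne
        rw [h2, one_mul, mul_one]
    have h3 := orderOf_dvd_natCard (⟨eA, hAH⟩ : H)
    rwa [ho] at h3
  have h54 : 54 ∣ Nat.card H :=
    Nat.Coprime.mul_dvd_of_dvd_of_dvd (by norm_num : Nat.Coprime 27 2) h27H h2H
  have hcle : Nat.card ↥(commutator S4) ≤ 54 := by
    rw [← hMcard]; exact Subgroup.card_le_of_le hcM
  have hHle : Nat.card H ≤ Nat.card ↥(commutator S4) := Subgroup.card_le_of_le hHc
  have hHge : 54 ≤ Nat.card H := Nat.le_of_dvd Nat.card_pos h54
  have hHeq : H = commutator S4 := Subgroup.eq_of_le_of_card_ge hHc (by omega)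
  have hcard : Nat.card ↥(commutator S4) = 54 := by omega
  refine ⟨⟨eD, eD_mem⟩, ⟨eC, eC_mem⟩,
    (⟨eD, eD_mem⟩ : ↥(commutator S4)) * ⟨eC, eC_mem⟩ * (⟨eD, eD_mem⟩ : ↥(commutator S4))⁻¹ *
      (⟨eC, eC_mem⟩ : ↥(commutator S4))⁻¹, ⟨eA, eA_mem⟩, ?_, ?_, hcard⟩
  · have h0 := ts_S4
    refine ⟨?_, ?_, ?_, ?_, ?_, ?_, rfl, ?_, ?_, ?_⟩ <;> apply Subtype.ext <;>
      simp only [Subgroup.coe_pow, Subgroup.coe_mul, Subgroup.coe_inv, Subgroup.coe_one]
    · exact h0.t3
    · exact h0.y3
    · exact h0.s3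
    · exact h0.a2
    · exact h0.hat
    · exact h0.hay
    · exact h0.st
    · exact h0.sy
    · exact h0.sa
  · have h1 := closure_preimage_eq_top (commutator S4) {eD, eC, eA} (by rw [← hH]; exact hHeq)
    rw [← h1]
    congr 1
    ext ⟨x, hx⟩
    simp only [Set.mem_insert_iff, Set.mem_singleton_iff, Set.mem_preimage, Subtype.mk.injEq,
      Subgroup.coe_subtype]

end Cfsg.Agent.Lib.Helper25.OTT
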