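import Mathlib
import Cfsg.Prelude.Def_FischerSpaces
import Cfsg.Agent.Lib.Helper27.ThreeTransp
import Cfsg.Agent.Lib.Helper1.Frattini
import Cfsg.Agent.Lib.Helper1.Coprime
import Cfsg.Agent.Lib.Helper12.Generation
import Cfsg.Agent.Lib.Helper25.OTTa

/-!
# The action on the Frattini quotient of a normal 2-subgroup (S5559, part H)
-/

set_option autoImplicit false

namespace Cfsg.Agent.Lib.Helper25.OTT

open Cfsg Cfsg.Agent.Lib.Helper27.TT
open scoped commutatorElement

section FrAct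

variable {G : Type*} [Group G] (Q : Subgroup G) [hQn : Q.Normal]

/-- the Frattini quotient of `Q`. -/
abbrev FQ : Type _ := ↥Q ⧸ frattini ↥Q

/-- the conjugation action of `G` on the Frattini quotient of `Q`. -/
noncomputable def frAct (g : G) : FQ Q →* FQ Q :=
  QuotientGroup.map (frattini ↥Q) (frattini ↥Q) (MulAut.conjNormal g : ↥Q ≃* ↥Q).toMonoidHom
    (Subgroup.characteristic_iff_le_comap.mp inferInstance _)

theorem frAct_mk (g : G) (x : ↥Q) :
    frAct Q g (QuotientGroup.mk x) = QuotientGroup.mk (MulAut.conjNormal g x) := rfl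

theorem frAct_one (v : FQ Q) : frAct Q 1 v = v := by
  induction v using QuotientGroup.induction_on with
  | H x => rw [frAct_mk, map_one]; rfl

theorem frAct_mul (g k : G) (v : FQ Q) : frAct Q (g * k) v = frAct Q g (frAct Q k v) := by
  induction v using QuotientGroup.induction_on with
  | H x => rw [frAct_mk, frAct_mk, frAct_mk, map_mul]; rfl

/-- the Frattini subgroup of `Q` as a subgroup of `G`. -/
def PhiQ : Subgroup G := (frattini ↥Q).map Q.subtype

theorem PhiQ_le : PhiQ Q ≤ Q := Subgroup.map_subtype_le _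

theorem mem_PhiQ_iff (x : ↥Q) : (x : G) ∈ PhiQ Q ↔ x ∈ frattini ↥Q := by
  unfold PhiQ
  constructor
  · rintro ⟨y, hy, hxy⟩
    have : y = x := Subtype.ext hxy
    rwa [← this]
  · intro hx
    exact ⟨x, hx, rfl⟩

theorem PhiQ_conj_mem {z : G} (hz : z ∈ PhiQ Q) (g : G) : g * z * g⁻¹ ∈ PhiQ Q := by
  have h1 := Cfsg.Agent.Lib.Helper1.normalizer_le_normalizer_map_of_characteristic Q
    (frattini ↥Q)
  have h2 : g ∈ Subgroup.normalizer (Q : Set G) := by
    rw [Subgroup.normalizer_eq_top_iff.mpr hQn]; trivial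
  exact (Subgroup.mem_normalizer_iff.mp (h1 h2) z).mp hz

theorem mk_eq_mk_iff (x y : ↥Q) :
    (QuotientGroup.mk x : FQ Q) = QuotientGroup.mk y ↔ (x : G)⁻¹ * y ∈ PhiQ Q := by
  rw [QuotientGroup.eq, ← mem_PhiQ_iff]
  rfl

theorem frAct_fix_iff (g : G) (z : ↥Q) :
    frAct Q g (QuotientGroup.mk z) = QuotientGroup.mk z ↔
      (z : G)⁻¹ * (g * z * g⁻¹) ∈ PhiQ Q := by
  rw [frAct_mk, eq_comm, mk_eq_mk_iff]
  rfl

variable [Finite G]

theorem FQ_comm (hQ : IsPGroup 2 Q) (u v : FQ Q) : u * v = v * u := by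
  haveI : Fact (Nat.Prime 2) := ⟨Nat.prime_two⟩
  have hc := Cfsg.Agent.Lib.Helper1.IsPGroup.commutator_le_frattini hQ
  haveI : IsMulCommutative (FQ Q) :=
    (Subgroup.Normal.quotient_commutative_iff_commutator_le).mpr hc
  exact mul_comm' u v

theorem FQ_sq (hQ : IsPGroup 2 Q) (v : FQ Q) : v * v = 1 := by
  haveI : Fact (Nat.Prime 2) := ⟨Nat.prime_two⟩
  induction v using QuotientGroup.induction_on with
  | H x =>
    rw [← QuotientGroup.mk_mul, QuotientGroup.eq_one_iff, ← pow_two]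
    exact Cfsg.Agent.Lib.Helper1.IsPGroup.pow_mem_frattini hQ x

theorem frAct_of_mem (hQ : IsPGroup 2 Q) {q : G} (hq : q ∈ Q) (v : FQ Q) : frAct Q q v = v := by
  haveI : Fact (Nat.Prime 2) := ⟨Nat.prime_two⟩
  have hc := Cfsg.Agent.Lib.Helper1.IsPGroup.commutator_le_frattini hQ
  induction v using QuotientGroup.induction_on with
  | H x =>
    rw [frAct_mk, eq_comm, QuotientGroup.eq]
    apply hc
    rw [commutator_def]
    have h1 : x⁻¹ * (MulAut.conjNormal q x) = ⁅x⁻¹, (⟨q, hq⟩ : ↥Q)⁆ := by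
      apply Subtype.ext
      rw [commutatorElement_def]
      simp only [Subgroup.coe_mul, Subgroup.coe_inv, MulAut.conjNormal_apply, inv_inv, mul_assoc]
    rw [h1]
    exact Subgroup.commutator_mem_commutator (Subgroup.mem_top _) (Subgroup.mem_top _)

theorem frAct_congr (hQ : IsPGroup 2 Q) {g g' : G}
    (h : (QuotientGroup.mk g : G ⧸ Q) = QuotientGroup.mk g') (v : FQ Q) :
    frAct Q g v = frAct Q g' v := by
  have h1 : g⁻¹ * g' ∈ Q := QuotientGroup.eq.mp h
  have h2 : g' = g * (g⁻¹ * g') := by group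
  rw [h2, frAct_mul, frAct_of_mem Q hQ h1]

/-- the kernel of the action on the Frattini quotient. -/
def frKer : Subgroup G where
  carrier := {g | ∀ v, frAct Q g v = v}
  one_mem' := fun v => frAct_one Q v
  mul_mem' := by
    intro a b ha hb v
    simp only [Set.mem_ofPred_eq] at ha hb
    rw [frAct_mul, hb v, ha v]
  inv_mem' := by
    intro a ha v
    simp only [Set.mem_ofPred_eq] at ha
    have := frAct_mul Q a⁻¹ a v
    rw [inv_mul_cancel, frAct_one, ha v] at this
    exact this.symm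

theorem mem_frKer {g : G} : g ∈ frKer Q ↔ ∀ v, frAct Q g v = v := Iff.rfl

theorem frKer_normal : (frKer Q).Normal := ⟨by
  intro n hn g v
  rw [mem_frKer] at hn
  rw [frAct_mul, frAct_mul, hn, ← frAct_mul, mul_inv_cancel, frAct_one]⟩

theorem frKer_isPGroup (hQ : IsPGroup 2 Q) (hC : Subgroup.centralizer (Q : Set G) ≤ Q) :
    IsPGroup 2 (frKer Q) := by
  haveI : Fact (Nat.Prime 2) := ⟨Nat.prime_two⟩
  rintro ⟨g, hg⟩
  obtain ⟨k, m, hm, hkm⟩ := Nat.exists_eq_two_pow_mul_odd (orderOf_pos g).ne'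
  refine ⟨k, ?_⟩
  apply Subtype.ext
  rw [Subgroup.coe_pow, Subgroup.coe_one]
  show g ^ 2 ^ k = 1
  obtain ⟨g', hg'⟩ : ∃ g' : G, g' = g ^ 2 ^ k := ⟨_, rfl⟩
  rw [← hg']
  have hg'K : g' ∈ frKer Q := by rw [hg']; exact pow_mem hg _
  have hord : orderOf g' = m := by
    rw [hg', orderOf_pow_of_dvd (by positivity) (by rw [hkm]; exact dvd_mul_right _ _), hkm,
      Nat.mul_div_cancel_left _ (by positivity)]
  obtain ⟨n, hn⟩ := IsPGroup.iff_card.mp (hQ.to_subgroup (frattini ↥Q))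
  have hcop : (Nat.card (Subgroup.zpowers g')).Coprime (Nat.card (frattini ↥Q)) := by
    rw [Nat.card_zpowers, hord, hn]
    exact Nat.Coprime.pow_right n (Nat.coprime_two_right.mpr hm)
  have hnorm : Subgroup.zpowers g' ≤ Subgroup.normalizer (Q : Set G) := by
    rw [Subgroup.normalizer_eq_top_iff.mpr hQn]; exact le_top
  have htriv : ∀ a ∈ Subgroup.zpowers g', ∀ x ∈ Q,
      a * x * a⁻¹ * x⁻¹ ∈ (frattini ↥Q).map Q.subtype := by
    intro a ha x hx
    have haK : a ∈ frKer Q := (Subgroup.zpowers_le.mpr hg'K) ha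
    have h1 := (frAct_fix_iff Q a ⟨x, hx⟩).mp (haK _)
    have h2 := PhiQ_conj_mem Q h1 x
    have h3 : x * ((⟨x, hx⟩ : ↥Q) : G)⁻¹ * (a * ((⟨x, hx⟩ : ↥Q) : G) * a⁻¹) * x⁻¹ =
        a * x * a⁻¹ * x⁻¹ := by
      show x * x⁻¹ * (a * x * a⁻¹) * x⁻¹ = a * x * a⁻¹ * x⁻¹
      group
    have h4 : x * (((⟨x, hx⟩ : ↥Q) : G)⁻¹ * (a * ((⟨x, hx⟩ : ↥Q) : G) * a⁻¹)) * x⁻¹ =
        a * x * a⁻¹ * x⁻¹ := by
      rw [← h3]; simp only [mul_assoc]
    rw [h4] at h2
    exact h2
  have hcen := Cfsg.Agent.Lib.Helper1.le_centralizer_of_commutator_le_frattini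
    (Subgroup.zpowers g') Q hnorm hcop htriv
  have hg'Q : g' ∈ Q := hC (hcen (Subgroup.mem_zpowers g'))
  obtain ⟨j, hj⟩ := hQ ⟨g', hg'Q⟩
  have hj' : g' ^ 2 ^ j = 1 := by
    have := congrArg Subtype.val hj
    simpa using this
  have h5 : orderOf g' ∣ 2 ^ j := orderOf_dvd_of_pow_eq_one hj'
  rw [hord] at h5
  have h6 : m = 1 :=
    Nat.Coprime.eq_one_of_dvd (Nat.Coprime.pow_right j (Nat.coprime_two_right.mpr hm)) h5
  rw [h6] at hord
  exact orderOf_eq_one_iff.mp hord

end FrAct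

section Glue

variable {H : Type*} [Group H] [Finite H] {E : Set H}

theorem eq_one_of_pow_three_of_mem {Q : Subgroup H} (hQ : IsPGroup 2 Q) {c : H} (hc : c ∈ Q)
    (h3 : c ^ 3 = 1) : c = 1 := by
  obtain ⟨j, hj⟩ := hQ ⟨c, hc⟩
  have hj' : c ^ 2 ^ j = 1 := by
    have := congrArg Subtype.val hj
    simpa using this
  have h1 : orderOf c ∣ 3 := orderOf_dvd_of_pow_eq_one h3
  have h2 : orderOf c ∣ 2 ^ j := orderOf_dvd_of_pow_eq_one hj'
  have h4 : orderOf c ∣ Nat.gcd 3 (2 ^ j) := Nat.dvd_gcd h1 h2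
  have h5 : Nat.gcd 3 (2 ^ j) = 1 := Nat.Coprime.pow_right j (by norm_num)
  rw [h5, Nat.dvd_one] at h4
  exact orderOf_eq_one_iff.mp h4

/-- a `2`-element centralizing `a b` centralizes `a`. -/
theorem commute_of_commute_mul (hE : IsThreeTranspositionClass E) (Q : Subgroup H) [Q.Normal]
    (hQ : IsPGroup 2 Q) {a b q : H} (ha : a ∈ E) (hb : b ∈ E) (hab : a ≠ b)
    (h3 : (a * b) ^ 3 = 1) (hq : q ∈ Q) (hc : q * (a * b) = (a * b) * q) : q * a = a * q := by
  have haa : a * a = 1 := mul_self_of_mem hE.1 ha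
  have hbb : b * b = 1 := mul_self_of_mem hE.1 hb
  have hai : a⁻¹ = a := inv_of_mem hE.1 ha
  have hbi : b⁻¹ = b := inv_of_mem hE.1 hb
  obtain ⟨a', ha'⟩ : ∃ a' : H, a' = q⁻¹ * a * q := ⟨_, rfl⟩
  obtain ⟨b', hb'⟩ : ∃ b' : H, b' = q⁻¹ * b * q := ⟨_, rfl⟩
  have ha'E : a' ∈ E := by
    have := conj_mem_of_class hE q⁻¹ ha
    rwa [inv_inv, ← ha'] at this
  have hb'E : b' ∈ E := by
    have := conj_mem_of_class hE q⁻¹ hb
    rwa [inv_inv, ← hb'] at this
  have ha'a' : a' * a' = 1 := mul_self_of_mem hE.1 ha'E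
  have ha'i : a'⁻¹ = a' := inv_of_mem hE.1 ha'E
  obtain ⟨c, hcdef⟩ : ∃ c : H, c = a * a' := ⟨_, rfl⟩
  have hcQ : c ∈ Q := by
    have h1 : c = (a * q⁻¹ * a⁻¹) * q := by rw [hcdef, ha', hai]; group
    rw [h1]
    exact Q.mul_mem (‹Q.Normal›.conj_mem _ (Q.inv_mem hq) a) hq
  have hcc : c * c = 1 := by
    rcases hE.1.2 a ha a' ha'E with h2 | h2
    · rw [← hcdef, pow_two] at h2; exact h2
    · rw [← hcdef] at h2
      rw [eq_one_of_pow_three_of_mem hQ hcQ h2, one_mul]
  have hci : c⁻¹ = c := inv_eq_of_mul_eq_one_right hcc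
  -- `a'` commutes with `a`
  have haa' : a' * a = c := by
    have : a' * a = (a * a')⁻¹ := by rw [mul_inv_rev, hai, ha'i]
    rw [this, ← hcdef, hci]
  have hac : a * c = c * a := by
    rw [hcdef]
    calc a * (a * a') = a' := by rw [← mul_assoc, haa, one_mul]
      _ = a * (a' * a) := by rw [haa', hcdef, ← mul_assoc, haa, one_mul]
      _ = a * a' * a := by rw [mul_assoc]
  -- `b' = c * b`
  have hb'c : b' = c * b := by
    have h1 : a' * b' = a * b := by
      rw [ha', hb']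
      calc q⁻¹ * a * q * (q⁻¹ * b * q) = q⁻¹ * ((a * b) * q) := by group
        _ = q⁻¹ * (q * (a * b)) := by rw [hc]
        _ = a * b := by group
    calc b' = a' * (a' * b') := by rw [← mul_assoc, ha'a', one_mul]
      _ = a' * (a * b) := by rw [h1]
      _ = (a' * a) * b := by rw [mul_assoc]
      _ = c * b := by rw [haa']
  have hbc : b * c = c * b := by
    have h1 : (c * b) * (c * b) = 1 := by
      rw [← hb'c]; exact mul_self_of_mem hE.1 hb'E
    have h2 : c * b = (c * b)⁻¹ := (inv_eq_of_mul_eq_one_right h1).symm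
    rw [h2, mul_inv_rev, hbi, hci]
  -- `a (c b) = c (a b)`
  have hcomm : Commute c (a * b) := by
    show c * (a * b) = (a * b) * c
    rw [← mul_assoc, ← hac, mul_assoc, ← hbc, mul_assoc]
  have hc3 : c ^ 3 = c := by
    rw [pow_succ, pow_two, hcc, one_mul]
  have hc2 : c ^ 2 = 1 := by rw [pow_two]; exact hcc
  have hcases := hE.1.2 a ha b' hb'E
  have e1 : a * b' = c * (a * b) := by
    rw [hb'c, ← mul_assoc, hac, mul_assoc]
  rw [e1, hcomm.mul_pow, hcomm.mul_pow, hc2, hc3, h3, one_mul, mul_one] at hcases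
  rcases hcases with h2 | h2
  · exfalso
    apply hab
    have h4 : a * b = 1 := by
      calc a * b = (a * b) ^ 3 * ((a * b) ^ 2)⁻¹ := by group
        _ = 1 := by rw [h3, h2, inv_one, mul_one]
    calc a = a * (b * b) := by rw [hbb, mul_one]
      _ = (a * b) * b := by rw [mul_assoc]
      _ = b := by rw [h4, one_mul]
  · -- `c = 1`
    rw [h2] at hcdef
    have h5 : a' = a := by
      calc a' = a * (a * a') := by rw [← mul_assoc, haa, one_mul]
        _ = a := by rw [← hcdef, mul_one]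
    rw [ha'] at h5
    calc q * a = q * (q⁻¹ * a * q) := by rw [h5]
      _ = a * q := by group

/-- a group generated by a class of `3`-transpositions with at least two members is not a
`2`-group. -/
theorem not_isPGroup_two (hE : IsThreeTranspositionClass E) (hE2 : ∃ a ∈ E, ∃ b ∈ E, a ≠ b) :
    ¬ IsPGroup 2 H := by
  intro hH
  haveI : Fact (Nat.Prime 2) := ⟨Nat.prime_two⟩
  obtain ⟨d0, hd0, hDeq⟩ := hE.2.1
  have hnc : Subgroup.normalClosure {d0} = ⊤ := by
    rw [eq_top_iff, ← hE.2.2, Subgroup.closure_le]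
    intro x hx
    rw [hDeq] at hx
    have hx' : IsConj d0 x := hx
    obtain ⟨g, hg⟩ := isConj_iff.mp hx'
    rw [← hg]
    exact (Subgroup.normalClosure_normal).conj_mem _
      (Subgroup.subset_normalClosure (Set.mem_singleton d0)) g
  have hz := zpowers_eq_top_of_normalClosure hH d0 hnc
  have hall : ∀ x ∈ E, x = d0 := by
    intro x hx
    rw [hDeq] at hx
    have hx' : IsConj d0 x := hx
    obtain ⟨g, hg⟩ := isConj_iff.mp hx'
    have hgz : g ∈ Subgroup.zpowers d0 := by rw [hz]; trivial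
    obtain ⟨n, hn⟩ := Subgroup.mem_zpowers_iff.mp hgz
    rw [← hg, ← hn]
    have : Commute (d0 ^ n) d0 := (Commute.refl d0).zpow_left n
    rw [this.eq, mul_assoc, mul_inv_cancel, mul_one]
  obtain ⟨a, ha, b, hb, hab⟩ := hE2
  exact hab ((hall a ha).trans (hall b hb).symm)

/-- fixed points of `a b` on the Frattini quotient are fixed by `a`. -/
theorem frAct_fix_of_fix_mul (hE : IsThreeTranspositionClass E) (Q : Subgroup H) [Q.Normal]
    (hQ : IsPGroup 2 Q) {a b : H} (ha : a ∈ E) (hb : b ∈ E) (hab : a ≠ b)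
    (h3 : (a * b) ^ 3 = 1) (v : FQ Q) (hv : frAct Q (a * b) v = v) : frAct Q a v = v := by
  haveI : Fact (Nat.Prime 2) := ⟨Nat.prime_two⟩
  induction v using QuotientGroup.induction_on with
  | H z =>
    obtain ⟨x, hx⟩ : ∃ x : H, x = a * b := ⟨_, rfl⟩
    rw [← hx] at hv h3
    have hpow : ∀ k : ℕ, frAct Q (x ^ k) (QuotientGroup.mk z) = QuotientGroup.mk z := by
      intro k
      induction k with
      | zero => rw [pow_zero, frAct_one]
      | succ k ih => rw [pow_succ, frAct_mul, hv, ih]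
    have hxN : x ∈ Subgroup.normalizer (Q : Set H) := by
      rw [Subgroup.normalizer_eq_top_iff.mpr ‹Q.Normal›]; trivial
    obtain ⟨n, hn⟩ := IsPGroup.iff_card.mp hQ
    have hcop : (orderOf x).Coprime (Nat.card Q) := by
      rw [hn]
      apply Nat.Coprime.pow_right
      have h1 : orderOf x ∣ 3 := orderOf_dvd_of_pow_eq_one h3
      exact Nat.Coprime.coprime_dvd_left h1 (by norm_num)
    have hact := Cfsg.Agent.Lib.Helper12.coprimeAct_zpowers hxN hcop
    have hNA : Subgroup.zpowers x ≤ Subgroup.normalizer (PhiQ Q : Set H) := by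
      intro g _
      rw [Subgroup.mem_normalizer_iff]
      intro y
      constructor
      · intro hy; exact PhiQ_conj_mem Q hy g
      · intro hy
        have := PhiQ_conj_mem Q hy g⁻¹
        have e : g⁻¹ * (g * y * g⁻¹) * g⁻¹⁻¹ = y := by group
        rwa [e] at this
    have hfix : ∀ g ∈ Subgroup.zpowers x, (z : H)⁻¹ * (g * z * g⁻¹) ∈ PhiQ Q := by
      intro g hg
      rw [← mem_powers_iff_mem_zpowers, Submonoid.mem_powers_iff] at hg
      obtain ⟨k, rfl⟩ := hg
      exact (frAct_fix_iff Q _ z).mp (hpow k)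
    obtain ⟨u, hu, hzu⟩ := hact.exists_mul_mem_centralizer (PhiQ_le Q) hNA (z : H) z.2 hfix
    have hqQ : (z : H) * u ∈ Q := (Subgroup.mem_inf.mp hzu).1
    have hqc : (z : H) * u ∈ Subgroup.centralizer (Subgroup.zpowers x : Set H) :=
      (Subgroup.mem_inf.mp hzu).2
    have hqx : ((z : H) * u) * x = x * ((z : H) * u) :=
      (Subgroup.mem_centralizer_iff.mp hqc x (Subgroup.mem_zpowers x)).symm
    rw [hx] at hqx
    have hqa := commute_of_commute_mul hE Q hQ ha hb hab (by rw [← hx]; exact h3) hqQ hqx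
    -- `mk z = mk (z u)`
    have hmk : (QuotientGroup.mk z : FQ Q) = QuotientGroup.mk (⟨(z : H) * u, hqQ⟩ : ↥Q) := by
      rw [mk_eq_mk_iff]
      show (z : H)⁻¹ * ((z : H) * u) ∈ PhiQ Q
      rw [inv_mul_cancel_left]; exact hu
    rw [hmk, frAct_fix_iff]
    show ((z : H) * u)⁻¹ * (a * ((z : H) * u) * a⁻¹) ∈ PhiQ Q
    rw [← hqa, mul_inv_cancel_right, inv_mul_cancel]
    exact Subgroup.one_mem _

end Glue

end Cfsg.Agent.Lib.Helper25.OTT
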