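import Mathlib
import Cfsg.Prelude.Def_FischerSpaces
import Cfsg.Agent.Lib.Helper27.ThreeTransp
import Cfsg.Agent.Lib.Helper25.OTTa
import Cfsg.Agent.Lib.Helper25.OTTb
import Cfsg.Agent.Lib.Helper25.OTTc
import Cfsg.Agent.Lib.Helper25.OTTd
import Cfsg.Agent.Lib.Helper25.OTTe
import Cfsg.Agent.Lib.Helper25.OTTf
import Cfsg.Agent.Lib.Helper25.OTTg
import Cfsg.Agent.Lib.Helper25.OTTh

/-!
# 3-transposition groups `H = O_{2,3,2}(H)` (S5559, part I): the glue
-/

set_option autoImplicit false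

namespace Cfsg.Agent.Lib.Helper25.OTT

open Cfsg Cfsg.Agent.Lib.Helper27.TT

theorem glue {H : Type*} [Group H] [Finite H] {E : Set H} (hE : IsThreeTranspositionClass E)
    (hE2 : ∃ a ∈ E, ∃ b ∈ E, a ≠ b) (Q : Subgroup H) [hQn : Q.Normal] (hQ : IsPGroup 2 Q)
    (hC : Subgroup.centralizer (Q : Set H) ≤ Q)
    (hmax : ∀ N : Subgroup H, N.Normal → IsPGroup 2 N → N ≤ Q)
    (h232 : ∃ P : Sylow 3 (H ⧸ Q), (P : Subgroup (H ⧸ Q)).Normal ∧
      ∃ k : ℕ, (P : Subgroup (H ⧸ Q)).index = 2 ^ k) :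
    Nonempty (H ⧸ Q ≃* Equiv.Perm (Fin 3)) ∨ Nonempty (H ⧸ Q ≃* ↥(commutator S4)) := by
  classical
  haveI : Fact (Nat.Prime 2) := ⟨Nat.prime_two⟩
  obtain ⟨P, hPn, hPidx⟩ := h232
  obtain ⟨π, hπ⟩ : ∃ π : H →* H ⧸ Q, π = QuotientGroup.mk' Q := ⟨_, rfl⟩
  have hπs : Function.Surjective π := by rw [hπ]; exact QuotientGroup.mk'_surjective Q
  have hπ1 : ∀ g : H, π g = 1 ↔ g ∈ Q := by
    intro g; rw [hπ]; exact QuotientGroup.eq_one_iff g
  -- a group of 2-power order is excluded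
  have hno2 : ∀ n : ℕ, Nat.card H ≠ 2 ^ n := by
    intro n hn
    exact not_isPGroup_two hE hE2 (IsPGroup.of_card hn)
  obtain ⟨nQ, hnQ⟩ := IsPGroup.iff_card.mp hQ
  have hcardH : Nat.card H = Nat.card (H ⧸ Q) * Nat.card Q :=
    Subgroup.card_eq_card_quotient_mul_card_subgroup Q
  -- members of `E` are not in `Q`
  have hnotQ : ∀ a ∈ E, a ∉ Q := by
    intro a ha haQ
    obtain ⟨d0, hd0, hEeq⟩ := hE.2.1
    have hd0Q : d0 ∈ Q := by
      rw [hEeq] at ha
      have ha' : IsConj d0 a := ha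
      obtain ⟨g, hg⟩ := isConj_iff.mp ha'
      have h1 : d0 = g⁻¹ * a * g⁻¹⁻¹ := by rw [← hg]; group
      rw [h1]
      exact hQn.conj_mem a haQ g⁻¹
    have hEQ : E ⊆ Q := by
      intro x hx
      rw [hEeq] at hx
      have hx' : IsConj d0 x := hx
      obtain ⟨g, hg⟩ := isConj_iff.mp hx'
      rw [SetLike.mem_coe, ← hg]
      exact hQn.conj_mem d0 hd0Q g
    have htop : (⊤ : Subgroup H) ≤ Q := by
      rw [← hE.2.2, Subgroup.closure_le]; exact hEQ
    have hQtop : Q = ⊤ := top_le_iff.mp htop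
    apply hno2 nQ
    rw [← hnQ, hQtop, Subgroup.card_top]
  -- the image class
  obtain ⟨D, hD⟩ : ∃ D : Set (H ⧸ Q), D = π '' E := ⟨_, rfl⟩
  have hDclass : IsThreeTranspositionClass D := by
    refine ⟨⟨?_, ?_⟩, ?_, ?_⟩
    · rw [hD]
      rintro _ ⟨a, ha, rfl⟩
      apply orderOf_eq_prime
      · rw [← map_pow, pow_two, mul_self_of_mem hE.1 ha, map_one]
      · intro h1
        exact hnotQ a ha ((hπ1 a).mp h1)
    · rw [hD]
      rintro _ ⟨a, ha, rfl⟩ _ ⟨b, hb, rfl⟩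
      rcases hE.1.2 a ha b hb with h | h
      · left; rw [← map_mul, ← map_pow, h, map_one]
      · right; rw [← map_mul, ← map_pow, h, map_one]
    · obtain ⟨d0, hd0, hEeq⟩ := hE.2.1
      refine ⟨π d0, by rw [hD]; exact ⟨d0, hd0, rfl⟩, ?_⟩
      ext x
      constructor
      · rw [hD]
        rintro ⟨a, ha, rfl⟩
        rw [hEeq] at ha
        have ha' : IsConj d0 a := ha
        exact MonoidHom.map_isConj π ha'
      · intro hx
        have hx' : IsConj (π d0) x := hx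
        obtain ⟨g', hg'⟩ := isConj_iff.mp hx'
        obtain ⟨g, rfl⟩ := hπs g'
        rw [hD]
        refine ⟨g * d0 * g⁻¹, conj_mem_of_class hE g hd0, ?_⟩
        rw [map_mul, map_mul, map_inv, hg']
    · rw [hD, ← MonoidHom.map_closure, hE.2.2, ← MonoidHom.range_eq_map,
        MonoidHom.range_eq_top.mpr hπs]
  -- the module
  letI instV : CommGroup (FQ Q) :=
    { (inferInstance : Group (FQ Q)) with mul_comm := FQ_comm Q hQ }
  obtain ⟨ρ, hρ⟩ : ∃ ρ : (H ⧸ Q) → FQ Q →* FQ Q, ρ = fun k => frAct Q (Quotient.out k) :=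
    ⟨_, rfl⟩
  have hρmk : ∀ (g : H) (v : FQ Q), ρ (π g) v = frAct Q g v := by
    intro g v
    rw [hρ]
    apply frAct_congr Q hQ
    rw [hπ]
    exact QuotientGroup.out_eq' _
  have hyp : Hyp D (P : Subgroup (H ⧸ Q)) ρ := by
    refine ⟨?_, ?_, hDclass, hPn, P.isPGroup', hPidx, ?_, FQ_sq Q hQ, ?_, ?_⟩
    · intro v
      rw [← map_one π, hρmk, frAct_one]
    · intro g k v
      obtain ⟨g, rfl⟩ := hπs g
      obtain ⟨k, rfl⟩ := hπs k
      rw [← map_mul, hρmk, hρmk, hρmk, frAct_mul]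
    · intro hbot
      obtain ⟨k, hk⟩ := hPidx
      rw [hbot, Subgroup.index_bot] at hk
      apply hno2 (k + nQ)
      rw [hcardH, hk, hnQ, pow_add]
    · intro k hk
      obtain ⟨g, rfl⟩ := hπs k
      rw [hπ1]
      have hgK : g ∈ frKer Q := by
        rw [mem_frKer]
        intro v
        rw [← hρmk]; exact hk v
      exact hmax (frKer Q) (frKer_normal Q) (frKer_isPGroup Q hQ hC) hgK
    · rw [hD]
      rintro _ ⟨a, ha, rfl⟩ _ ⟨b, hb, rfl⟩ hne h3 v hv
      have hab : a ≠ b := by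
        rintro rfl
        exact hne rfl
      rw [← map_mul] at h3 hv
      rw [hρmk] at hv ⊢
      have h3' : (a * b) ^ 3 = 1 := by
        rcases hE.1.2 a ha b hb with h2 | h2
        · exfalso
          apply hne
          have e2 : π (a * b) ^ 2 = 1 := by rw [← map_pow, h2, map_one]
          have e1 : π (a * b) = 1 := by
            calc π (a * b) = π (a * b) ^ 3 * (π (a * b) ^ 2)⁻¹ := by group
              _ = 1 := by rw [h3, e2, inv_one, mul_one]
          rw [map_mul] at e1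
          have hbD : π b ∈ D := by rw [hD]; exact ⟨b, hb, rfl⟩
          calc π a = (π b)⁻¹ := eq_inv_of_mul_eq_one_left e1
            _ = π b := inv_of_mem hDclass.1 hbD
        · exact h2
      exact frAct_fix_of_fix_mul hE Q hQ ha hb hab h3' v hv
  rcases hyp.main with h1 | ⟨t, y, s, a, hTS, hgen, hcard⟩
  · left; exact h1
  · right
    obtain ⟨t', y', s', a', hTS', hgen', hcard'⟩ := su_side
    exact TS.nonempty_mulEquiv hTS hTS' hgen hgen' hcard hcard'

end Cfsg.Agent.Lib.Helper25.OTT
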