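import Mathlib
import Cfsg.Agent.Lib.Helper6.SUThreeTwo
import Cfsg.Agent.S0278
import Cfsg.Agent.Lib.Helper25.OTTb
import Cfsg.Agent.Lib.Helper25.OTTg

/-!
# The derived group of `SU_3(2)` over an arbitrary field with four elements (S5555, part J)
-/

set_option autoImplicit false

namespace Cfsg.Agent.Lib.Helper25.OTT

open Cfsg Cfsg.Agent.Lib.Helper6.FFour Cfsg.Agent.Lib.Helper6.SUThreeTwo
open scoped commutatorElement

namespace SUGen

section
variable {F : Type*} [Field F] [Fintype F] (hF : Fintype.card F = 2 ^ 2) (φ : K4 →+* F)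

/-- `Φ²`. -/
def gA : ↥(Cfsg.SU 3 F 2) := gPhi hF φ * gPhi hF φ

theorem gZc (g : ↥(Cfsg.SU 3 F 2)) : g * gZ hF φ = gZ hF φ * g :=
  Subgroup.mem_center_iff.mp (gZ_mem_center hF φ) g

theorem gZ3 : gZ hF φ * gZ hF φ * gZ hF φ = 1 := by
  apply mat_injective
  simp only [mat_mul, gZ, mat_emb, ← mapF_mul, mat_one]
  rw [← mapF_one φ]
  exact congrArg (mapF φ) (by decide)

theorem gD_inv : (gD hF φ)⁻¹ = gD hF φ * gD hF φ := by
  rw [inv_eq_iff_mul_eq_one, ← mul_assoc]; exact gD_pow hF φ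

theorem gC_inv : (gC hF φ)⁻¹ = gC hF φ * gC hF φ := by
  rw [inv_eq_iff_mul_eq_one, ← mul_assoc]; exact gC_pow hF φ

theorem gA2 : gA hF φ * gA hF φ = 1 := gPhi_four hF φ

theorem gA_inv : (gA hF φ)⁻¹ = gA hF φ := by
  rw [inv_eq_iff_mul_eq_one]; exact gA2 hF φ

theorem gAD : gA hF φ * gD hF φ = gD hF φ * gD hF φ * gA hF φ := by
  unfold gA
  calc gPhi hF φ * gPhi hF φ * gD hF φ = gPhi hF φ * (gPhi hF φ * gD hF φ) := by rw [mul_assoc]
    _ = gPhi hF φ * (gC hF φ * gPhi hF φ) := by rw [gPhi_gD]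
    _ = (gPhi hF φ * gC hF φ) * gPhi hF φ := by rw [mul_assoc]
    _ = gD hF φ * gD hF φ * gPhi hF φ * gPhi hF φ := by rw [gPhi_gC]
    _ = gD hF φ * gD hF φ * (gPhi hF φ * gPhi hF φ) := by simp only [mul_assoc]

theorem gAC : gA hF φ * gC hF φ = gC hF φ * gC hF φ * gA hF φ := by
  unfold gA
  calc gPhi hF φ * gPhi hF φ * gC hF φ = gPhi hF φ * (gPhi hF φ * gC hF φ) := by rw [mul_assoc]
    _ = gPhi hF φ * (gD hF φ * gD hF φ * gPhi hF φ) := by rw [gPhi_gC]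
    _ = (gPhi hF φ * gD hF φ) * gD hF φ * gPhi hF φ := by simp only [mul_assoc]
    _ = (gC hF φ * gPhi hF φ) * gD hF φ * gPhi hF φ := by rw [gPhi_gD]
    _ = gC hF φ * (gPhi hF φ * gD hF φ) * gPhi hF φ := by simp only [mul_assoc]
    _ = gC hF φ * (gC hF φ * gPhi hF φ) * gPhi hF φ := by rw [gPhi_gD]
    _ = gC hF φ * gC hF φ * (gPhi hF φ * gPhi hF φ) := by simp only [mul_assoc]

theorem gA_conj_D : gA hF φ * gD hF φ * (gA hF φ)⁻¹ = (gD hF φ)⁻¹ := by
  rw [gAD, gD_inv, mul_assoc, mul_inv_cancel, mul_one]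

theorem gA_conj_C : gA hF φ * gC hF φ * (gA hF φ)⁻¹ = (gC hF φ)⁻¹ := by
  rw [gAC, gC_inv, mul_assoc, mul_inv_cancel, mul_one]

theorem gS_eq : gD hF φ * gC hF φ * (gD hF φ)⁻¹ * (gC hF φ)⁻¹ = (gZ hF φ)⁻¹ := by
  have h1 : gD hF φ * gC hF φ = (gZ hF φ)⁻¹ * (gC hF φ * gD hF φ) := by
    rw [gC_gD, inv_mul_cancel_left]
  rw [h1]
  group

theorem gZ_inv3 : (gZ hF φ)⁻¹ ^ 3 = 1 := by
  rw [inv_pow, inv_eq_one, pow_succ, pow_two]
  exact gZ3 hF φ

theorem gZ_inv_c (g : ↥(Cfsg.SU 3 F 2)) : (gZ hF φ)⁻¹ * g = g * (gZ hF φ)⁻¹ := by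
  have := gZc hF φ g
  calc (gZ hF φ)⁻¹ * g = (gZ hF φ)⁻¹ * (g * gZ hF φ) * (gZ hF φ)⁻¹ := by group
    _ = g * (gZ hF φ)⁻¹ := by rw [this]; group

theorem ts_gen : TS (gD hF φ) (gC hF φ)
    (gD hF φ * gC hF φ * (gD hF φ)⁻¹ * (gC hF φ)⁻¹) (gA hF φ) := by
  refine ⟨by rw [pow_succ, pow_two]; exact gD_pow hF φ,
    by rw [pow_succ, pow_two]; exact gC_pow hF φ, ?_,
    by rw [pow_two]; exact gA2 hF φ, gA_conj_D hF φ, gA_conj_C hF φ, rfl, ?_, ?_, ?_⟩
  · rw [gS_eq]; exact gZ_inv3 hF φ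
  · rw [gS_eq]; exact gZ_inv_c hF φ _
  · rw [gS_eq]; exact gZ_inv_c hF φ _
  · rw [gS_eq]; exact gZ_inv_c hF φ _

theorem gA_mem : gA hF φ ∈ commutator ↥(Cfsg.SU 3 F 2) := by
  have h1 : gA hF φ = ⁅gPhi hF φ, gX hF φ⁆ := by
    rw [commutatorElement_def]
    have h2 : gPhi hF φ * gX hF φ = gX hF φ * (gPhi hF φ)⁻¹ := by
      calc gPhi hF φ * gX hF φ = (gPhi hF φ * gX hF φ * gPhi hF φ) * (gPhi hF φ)⁻¹ := by group
        _ = gX hF φ * (gPhi hF φ)⁻¹ := by rw [gPhi_gX_gPhi]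
    have h3 : (gPhi hF φ)⁻¹ * (gPhi hF φ)⁻¹ = gPhi hF φ * gPhi hF φ := by
      have := gPhi_four hF φ
      calc (gPhi hF φ)⁻¹ * (gPhi hF φ)⁻¹
          = (gPhi hF φ)⁻¹ * (gPhi hF φ)⁻¹ *
            (gPhi hF φ * gPhi hF φ * (gPhi hF φ * gPhi hF φ)) := by rw [this, mul_one]
        _ = gPhi hF φ * gPhi hF φ := by simp only [mul_assoc, inv_mul_cancel_left]
    calc gA hF φ = gX hF φ * gX hF φ * gX hF φ * (gX hF φ)⁻¹ := by
          unfold gA; rw [← gX_sq]; group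
      _ = gX hF φ * ((gPhi hF φ)⁻¹ * (gPhi hF φ)⁻¹) * (gX hF φ)⁻¹ := by
          rw [h3, ← gX_sq]; group
      _ = (gX hF φ * (gPhi hF φ)⁻¹) * (gPhi hF φ)⁻¹ * (gX hF φ)⁻¹ := by group
      _ = gPhi hF φ * gX hF φ * (gPhi hF φ)⁻¹ * (gX hF φ)⁻¹ := by rw [← h2]
  rw [h1, commutator_def]
  exact Subgroup.commutator_mem_commutator (Subgroup.mem_top _) (Subgroup.mem_top _)

theorem gD_mem : gD hF φ ∈ commutator ↥(Cfsg.SU 3 F 2) := by
  have h1 : gD hF φ = ⁅gA hF φ, gD hF φ⁆ := by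
    rw [commutatorElement_def, gA_conj_D, gD_inv]
    have := gD_pow hF φ
    calc gD hF φ = gD hF φ * (gD hF φ * gD hF φ * gD hF φ) := by rw [this, mul_one]
      _ = gD hF φ * gD hF φ * (gD hF φ * gD hF φ) := by simp only [mul_assoc]
  rw [h1, commutator_def]
  exact Subgroup.commutator_mem_commutator (Subgroup.mem_top _) (Subgroup.mem_top _)

theorem gC_mem : gC hF φ ∈ commutator ↥(Cfsg.SU 3 F 2) := by
  have h1 : gC hF φ = ⁅gA hF φ, gC hF φ⁆ := by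
    rw [commutatorElement_def, gA_conj_C, gC_inv]
    have := gC_pow hF φ
    calc gC hF φ = gC hF φ * (gC hF φ * gC hF φ * gC hF φ) := by rw [this, mul_one]
      _ = gC hF φ * gC hF φ * (gC hF φ * gC hF φ) := by simp only [mul_assoc]
  rw [h1, commutator_def]
  exact Subgroup.commutator_mem_commutator (Subgroup.mem_top _) (Subgroup.mem_top _)

end

theorem card_SU {F : Type*} [Field F] [Fintype F] (hF : Fintype.card F = 2 ^ 2) :
    Nat.card ↥(Cfsg.SU 3 F 2) = 216 := by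
  have h := Cfsg.Agent.S0278.result (F := F) (q := 2) hF 3 (by norm_num)
  norm_num [Finset.prod_range_succ] at h
  omega

/-- **The derived group of `SU_3(2)`** (over any field with four elements) has order `54` and
satisfies `TS`. -/
theorem su_side_gen {F : Type*} [Field F] [Fintype F] (hF4 : Fintype.card F = 4) :
    ∃ t y s a : ↥(commutator ↥(Cfsg.SU 3 F 2)), TS t y s a ∧
      Subgroup.closure ({t, y, a} : Set ↥(commutator ↥(Cfsg.SU 3 F 2))) = ⊤ ∧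
      Nat.card ↥(commutator ↥(Cfsg.SU 3 F 2)) = 54 := by
  classical
  have hF : Fintype.card F = 2 ^ 2 := by rw [hF4]; norm_num
  have h2 := two_eq_zero hF4
  obtain ⟨ω, hω⟩ := exists_omega hF4
  obtain ⟨φ, -⟩ : ∃ φ : K4 →+* F, φ = toF ω hω h2 := ⟨_, rfl⟩
  haveI : Finite ↥(Cfsg.SU 3 F 2) :=
    Nat.finite_of_card_ne_zero (by rw [card_SU hF]; norm_num)
  obtain ⟨N, hNn, hN9, hexp, ⟨e⟩⟩ := psu_three_two (F := F) hF4
  haveI := hNn
  obtain ⟨f, hf⟩ : ∃ f : ↥(Cfsg.SU 3 F 2) →* QuaternionGroup 2, f = e.toMonoidHom.comp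
      ((QuotientGroup.mk' N).comp (QuotientGroup.mk' (Subgroup.center ↥(Cfsg.SU 3 F 2)))) :=
    ⟨_, rfl⟩
  have hfs : Function.Surjective f := by
    rw [hf]
    exact e.surjective.comp
      ((QuotientGroup.mk'_surjective N).comp (QuotientGroup.mk'_surjective _))
  have hker : Nat.card f.ker = 27 := by
    have h1 := Subgroup.index_ker f
    have h2 : Nat.card f.range = 8 := by
      rw [MonoidHom.range_eq_top.mpr hfs, Subgroup.card_top, Nat.card_eq_fintype_card,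
        QuaternionGroup.card]
    have h3 := Subgroup.index_mul_card f.ker
    rw [h1, h2, card_SU hF] at h3
    omega
  have hk3 : ∀ g : ↥(Cfsg.SU 3 F 2), g * g * g = 1 → g ∈ f.ker := by
    intro g hg
    rw [MonoidHom.mem_ker]
    have h3 : f g ^ 3 = 1 := by rw [← map_pow, pow_succ, pow_two, hg, map_one]
    have h4 : f g ^ 4 = 1 := q8_pow_four _
    calc f g = f g ^ 4 * (f g ^ 3)⁻¹ := by group
      _ = 1 := by rw [h3, h4]; group
  obtain ⟨M, hM⟩ : ∃ M : Subgroup ↥(Cfsg.SU 3 F 2),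
      M = (Subgroup.zpowers (QuaternionGroup.a (2 : ZMod (2 * 2)))).comap f := ⟨_, rfl⟩
  have hcM : commutator ↥(Cfsg.SU 3 F 2) ≤ M := by
    rw [commutator_def, Subgroup.commutator_le]
    intro g₁ _ g₂ _
    rw [hM, Subgroup.mem_comap, map_commutatorElement]
    exact q8_comm _ _
  have hMcard : Nat.card M = 54 := by
    have h1 : M.index = (Subgroup.zpowers (QuaternionGroup.a (2 : ZMod (2 * 2)))).index := by
      rw [hM]; exact Subgroup.index_comap_of_surjective _ hfs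
    have h2 := Subgroup.index_mul_card (Subgroup.zpowers (QuaternionGroup.a (2 : ZMod (2 * 2))))
    rw [q8_card_z, Nat.card_eq_fintype_card, QuaternionGroup.card] at h2
    have h3 := Subgroup.index_mul_card M
    rw [card_SU hF, h1] at h3
    have h4 : (Subgroup.zpowers (QuaternionGroup.a (2 : ZMod (2 * 2)))).index = 4 := by omega
    rw [h4] at h3
    omega
  obtain ⟨H, hH⟩ : ∃ H : Subgroup ↥(Cfsg.SU 3 F 2),
      H = Subgroup.closure {gD hF φ, gC hF φ, gA hF φ} := ⟨_, rfl⟩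
  have hHc : H ≤ commutator ↥(Cfsg.SU 3 F 2) := by
    rw [hH, Subgroup.closure_le]
    intro x hx
    simp only [Set.mem_insert_iff, Set.mem_singleton_iff] at hx
    rcases hx with rfl | rfl | rfl
    exacts [gD_mem hF φ, gC_mem hF φ, gA_mem hF φ]
  obtain ⟨T, hT⟩ : ∃ T : Subgroup ↥(Cfsg.SU 3 F 2),
      T = Subgroup.closure {gD hF φ, gC hF φ} := ⟨_, rfl⟩
  have hTk : T ≤ f.ker := by
    rw [hT, Subgroup.closure_le]
    intro x hx
    simp only [Set.mem_insert_iff, Set.mem_singleton_iff] at hx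
    rcases hx with rfl | rfl
    exacts [hk3 _ (gD_pow hF φ), hk3 _ (gC_pow hF φ)]
  have hTH : T ≤ H := by
    rw [hT, hH]
    apply Subgroup.closure_mono
    intro x hx
    simp only [Set.mem_insert_iff, Set.mem_singleton_iff] at hx ⊢
    rcases hx with rfl | rfl
    · exact Or.inl rfl
    · exact Or.inr (Or.inl rfl)
  have hT3 : IsPGroup 3 T :=
    (IsPGroup.of_card (n := 3) (by rw [hker]; norm_num)).to_le hTk
  have hDT : gD hF φ ∈ T := by rw [hT]; exact Subgroup.subset_closure (by simp)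
  have hCT : gC hF φ ∈ T := by rw [hT]; exact Subgroup.subset_closure (by simp)
  have h27 : 27 ∣ Nat.card T := by
    apply dvd_card_of_not_comm hT3
    intro hc
    have := hc ⟨gC hF φ, hCT⟩ ⟨gD hF φ, hDT⟩
    exact gC_gD_ne hF φ (congrArg Subtype.val this)
  have h27H : 27 ∣ Nat.card H := h27.trans (Subgroup.card_dvd_of_le hTH)
  have hAH : gA hF φ ∈ H := by rw [hH]; exact Subgroup.subset_closure (by simp)
  have h2H : 2 ∣ Nat.card H := by
    have ho : orderOf (⟨gA hF φ, hAH⟩ : H) = 2 := by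
      apply orderOf_eq_prime
      · apply Subtype.ext
        rw [Subgroup.coe_pow, Subgroup.coe_one, pow_two]
        exact gA2 hF φ
      · intro h1
        have h2 : gA hF φ = 1 := congrArg Subtype.val h1
        apply gPhi_sq_gD_ne hF φ
        show gA hF φ * gD hF φ = gD hF φ * gA hF φ
        rw [h2, one_mul, mul_one]
    have h3 := orderOf_dvd_natCard (⟨gA hF φ, hAH⟩ : H)
    rwa [ho] at h3
  have h54 : 54 ∣ Nat.card H :=
    Nat.Coprime.mul_dvd_of_dvd_of_dvd (by norm_num : Nat.Coprime 27 2) h27H h2H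
  have hcle : Nat.card ↥(commutator ↥(Cfsg.SU 3 F 2)) ≤ 54 := by
    rw [← hMcard]; exact Subgroup.card_le_of_le hcM
  have hHle : Nat.card H ≤ Nat.card ↥(commutator ↥(Cfsg.SU 3 F 2)) :=
    Subgroup.card_le_of_le hHc
  have hHge : 54 ≤ Nat.card H := Nat.le_of_dvd Nat.card_pos h54
  have hHeq : H = commutator ↥(Cfsg.SU 3 F 2) :=
    Subgroup.eq_of_le_of_card_ge hHc (by omega)
  have hcard : Nat.card ↥(commutator ↥(Cfsg.SU 3 F 2)) = 54 := by omega
  refine ⟨⟨gD hF φ, gD_mem hF φ⟩, ⟨gC hF φ, gC_mem hF φ⟩,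
    (⟨gD hF φ, gD_mem hF φ⟩ : ↥(commutator ↥(Cfsg.SU 3 F 2))) * ⟨gC hF φ, gC_mem hF φ⟩ *
      (⟨gD hF φ, gD_mem hF φ⟩ : ↥(commutator ↥(Cfsg.SU 3 F 2)))⁻¹ *
      (⟨gC hF φ, gC_mem hF φ⟩ : ↥(commutator ↥(Cfsg.SU 3 F 2)))⁻¹,
    ⟨gA hF φ, gA_mem hF φ⟩, ?_, ?_, hcard⟩
  · have h0 := ts_gen hF φ
    refine ⟨?_, ?_, ?_, ?_, ?_, ?_, rfl, ?_, ?_, ?_⟩ <;> apply Subtype.ext <;>
      simp only [Subgroup.coe_pow, Subgroup.coe_mul, Subgroup.coe_inv, Subgroup.coe_one]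
    · exact h0.t3
    · exact h0.y3
    · exact h0.s3
    · exact h0.a2
    · exact h0.hat
    · exact h0.hay
    · exact h0.st
    · exact h0.sy
    · exact h0.sa
  · have h1 := closure_preimage_eq_top (commutator ↥(Cfsg.SU 3 F 2))
      {gD hF φ, gC hF φ, gA hF φ} (by rw [← hH]; exact hHeq)
    rw [← h1]
    congr 1
    ext ⟨x, hx⟩
    simp only [Set.mem_insert_iff, Set.mem_singleton_iff, Set.mem_preimage, Subtype.mk.injEq,
      Subgroup.coe_subtype]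

end SUGen

end Cfsg.Agent.Lib.Helper25.OTT
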