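import Mathlib
import Cfsg.Agent.Lib.Helper25.OTTb

/-!
# The presentation of `3² : S₃ = 3^{1+2} : 2` by three involutions (S5555, part K)

* `pres54`: three involutions `a, b, c` with `(ab)³ = (bc)³ = (ca)³ = (a·cbc)³ = 1` satisfy the
  relations `TS` with `t = ab`, `y = a·cbc`;
* `TS.card_closure_le`: the subgroup generated by `TS`-elements has order at most `54`;
* facts on groups of order `54` (involutions conjugate; a product of two involutions is not an
  involution).
-/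

set_option autoImplicit false

namespace Cfsg.Agent.Lib.Helper25.OTT

section Pres

variable {L : Type*} [Group L] {a b c : L}

theorem braid_of_cube {a b : L} (ha : a * a = 1) (hb : b * b = 1) (h : (a * b) ^ 3 = 1) :
    a * b * a = b * a * b := by
  have hai : a⁻¹ = a := inv_eq_of_mul_eq_one_right ha
  have hbi : b⁻¹ = b := inv_eq_of_mul_eq_one_right hb
  have h1 : (a * b * a) * (b * a * b) = 1 := by
    rw [pow_succ, pow_two] at h
    rw [← h]; simp only [mul_assoc]
  have h2 : a * b * a = (b * a * b)⁻¹ := eq_inv_of_mul_eq_one_left h1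
  rw [h2, mul_inv_rev, mul_inv_rev, hai, hbi, mul_assoc]

theorem pres54 (ha : a * a = 1) (hb : b * b = 1) (hc : c * c = 1) (hab : (a * b) ^ 3 = 1)
    (hbc : (b * c) ^ 3 = 1) (hca : (c * a) ^ 3 = 1) (hx : (a * (c * b * c)) ^ 3 = 1) :
    TS (a * b) (a * (c * b * c))
      ((a * b) * (a * (c * b * c)) * (a * b)⁻¹ * (a * (c * b * c))⁻¹) a ∧
    b ∈ Subgroup.closure ({a * b, a * (c * b * c), a} : Set L) ∧
    c ∈ Subgroup.closure ({a * b, a * (c * b * c), a} : Set L) := by
  have hai : a⁻¹ = a := inv_eq_of_mul_eq_one_right ha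
  have hbi : b⁻¹ = b := inv_eq_of_mul_eq_one_right hb
  have hci : c⁻¹ = c := inv_eq_of_mul_eq_one_right hc
  have aba : a * b * a = b * a * b := braid_of_cube ha hb hab
  have bcb : b * c * b = c * b * c := braid_of_cube hb hc hbc
  have cac : c * a * c = a * c * a := braid_of_cube hc ha hca
  obtain ⟨q, hq⟩ : ∃ q : L, q = c * b * c := ⟨_, rfl⟩
  obtain ⟨p, hp⟩ : ∃ p : L, p = a * c * a := ⟨_, rfl⟩
  have hqq : q * q = 1 := by
    rw [hq]
    calc c * b * c * (c * b * c) = c * b * (c * c) * b * c := by simp only [mul_assoc]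
      _ = 1 := by rw [hc, mul_one, mul_assoc c, hb, mul_one, hc]
  have hpp : p * p = 1 := by
    rw [hp]
    calc a * c * a * (a * c * a) = a * c * (a * a) * c * a := by simp only [mul_assoc]
      _ = 1 := by rw [ha, mul_one, mul_assoc a, hc, mul_one, ha]
  have hqi : q⁻¹ = q := inv_eq_of_mul_eq_one_right hqq
  have hpi : p⁻¹ = p := inv_eq_of_mul_eq_one_right hpp
  obtain ⟨x, hxd⟩ : ∃ x : L, x = a * q := ⟨_, rfl⟩
  obtain ⟨x', hx'd⟩ : ∃ x' : L, x' = b * p := ⟨_, rfl⟩
  rw [← hq, ← hxd] at hx ⊢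
  -- (E1)
  have E1 : x * x' = a * b * a * c := by
    rw [hxd, hx'd, hq, hp]
    calc a * (c * b * c) * (b * (a * c * a)) = a * ((c * b * c) * b) * (a * c * a) := by
          simp only [mul_assoc]
      _ = a * ((b * c * b) * b) * (a * c * a) := by rw [bcb]
      _ = a * (b * c) * (a * c * a) := by rw [mul_assoc (b * c), hb, mul_one]
      _ = a * b * (c * a * c) * a := by simp only [mul_assoc]
      _ = a * b * (a * c * a) * a := by rw [cac]
      _ = a * b * a * c * (a * a) := by simp only [mul_assoc]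
      _ = a * b * a * c := by rw [ha, mul_one]
  have E2 : x' * x = b * a * b * c := by
    rw [hxd, hx'd, hq, hp]
    calc b * (a * c * a) * (a * (c * b * c)) = b * a * c * (a * a) * c * b * c := by
          simp only [mul_assoc]
      _ = b * a * (c * c) * b * c := by rw [ha, mul_one]; simp only [mul_assoc]
      _ = b * a * b * c := by rw [hc, mul_one]
  have comm : x * x' = x' * x := by rw [E1, E2, aba]
  -- (E4)
  have E4 : (a * b) * x * (a * b)⁻¹ = x' := by
    rw [mul_inv_rev, hai, hbi, hxd, hx'd, hq, hp]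
    calc a * b * (a * (c * b * c)) * (b * a) = (a * b * a) * (c * b * c) * (b * a) := by
          simp only [mul_assoc]
      _ = (b * a * b) * (b * c * b) * (b * a) := by rw [aba, bcb]
      _ = b * a * (b * b) * c * (b * b) * a := by simp only [mul_assoc]
      _ = b * (a * c * a) := by rw [hb, mul_one, mul_one]; simp only [mul_assoc]
  have E5 : a * x * a⁻¹ = x⁻¹ := by
    rw [hai, hxd, mul_inv_rev, hai, hqi, ← mul_assoc, ha, one_mul]
  have E5' : a * x⁻¹ * a⁻¹ = x := by
    have : a * x⁻¹ * a⁻¹ = (a * x * a⁻¹)⁻¹ := by group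
    rw [this, E5, inv_inv]
  have E6 : a * x' * a⁻¹ = x * x' := by
    rw [E1, hai, hx'd, hp]
    calc a * (b * (a * c * a)) * a = a * b * a * c * (a * a) := by simp only [mul_assoc]
      _ = a * b * a * c := by rw [ha, mul_one]
  have hx'3 : x' ^ 3 = 1 := by
    rw [← E4, conj_pow, hx, mul_one, mul_inv_cancel]
  have hxx'i : x' * x⁻¹ = x⁻¹ * x' := by
    calc x' * x⁻¹ = x⁻¹ * (x * x') * x⁻¹ := by group
      _ = x⁻¹ * (x' * x) * x⁻¹ := by rw [comm]
      _ = x⁻¹ * x' := by group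
  -- `s`
  have hs : (a * b) * x * (a * b)⁻¹ * x⁻¹ = x' * x⁻¹ := by rw [E4]
  have cx : Commute x x' := comm
  have E7 : b * x' * b⁻¹ = x'⁻¹ := by
    rw [hbi, hx'd, mul_inv_rev, hbi, hpi, ← mul_assoc, hb, one_mul]
  have E8 : (a * b) * x' * (a * b)⁻¹ = (x * x')⁻¹ := by
    have h1 : (a * b) * x' * (a * b)⁻¹ = a * (b * x' * b⁻¹) * a⁻¹ := by group
    rw [h1, E7]
    have h2 : a * x'⁻¹ * a⁻¹ = (a * x' * a⁻¹)⁻¹ := by group
    rw [h2, E6]
  have hx3' : x⁻¹ * x⁻¹ = x := by
    have : x⁻¹ * x⁻¹ = x⁻¹ * x⁻¹ * x ^ 3 := by rw [hx, mul_one]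
    rw [this, pow_succ, pow_two]; group
  have hx'3' : x'⁻¹ * x'⁻¹ = x' := by
    have : x'⁻¹ * x'⁻¹ = x'⁻¹ * x'⁻¹ * x' ^ 3 := by rw [hx'3, mul_one]
    rw [this, pow_succ, pow_two]; group
  refine ⟨⟨hab, hx, ?_, by rw [pow_two]; exact ha, ?_, E5, rfl, ?_, ?_, ?_⟩, ?_, ?_⟩
  · -- s³ = 1
    rw [hs]
    have c2 : Commute x' x⁻¹ := hxx'i
    rw [c2.mul_pow, hx'3, inv_pow, hx, inv_one, one_mul]
  · -- a t a⁻¹ = t⁻¹
    rw [mul_inv_rev, hai, hbi]
    calc a * (a * b) * a = (a * a) * b * a := by simp only [mul_assoc]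
      _ = b * a := by rw [ha, one_mul]
  · -- s t = t s
    rw [hs]
    have h1 : (a * b) * (x' * x⁻¹) * (a * b)⁻¹ = x' * x⁻¹ := by
      have h2 : (a * b) * (x' * x⁻¹) * (a * b)⁻¹ =
          ((a * b) * x' * (a * b)⁻¹) * ((a * b) * x * (a * b)⁻¹)⁻¹ := by group
      rw [h2, E8, E4, mul_inv_rev]
      calc x'⁻¹ * x⁻¹ * x'⁻¹ = x⁻¹ * (x'⁻¹ * x'⁻¹) := by
            have : x'⁻¹ * x⁻¹ = x⁻¹ * x'⁻¹ := (cx.inv_inv).symm.eq
            rw [this, mul_assoc]
        _ = x⁻¹ * x' := by rw [hx'3']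
        _ = x' * x⁻¹ := hxx'i.symm
    calc x' * x⁻¹ * (a * b) = ((a * b) * (x' * x⁻¹) * (a * b)⁻¹) * (a * b) := by rw [h1]
      _ = a * b * (x' * x⁻¹) := by group
  · -- s y = y s
    rw [hs]
    calc x' * x⁻¹ * x = x' := by group
      _ = x * (x⁻¹ * x') := by group
      _ = x * (x' * x⁻¹) := by rw [hxx'i]
  · -- s a = a s
    rw [hs]
    have h1 : a * (x' * x⁻¹) * a⁻¹ = x' * x⁻¹ := by
      have h2 : a * (x' * x⁻¹) * a⁻¹ = (a * x' * a⁻¹) * (a * x⁻¹ * a⁻¹) := by group
      rw [h2, E6, E5']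
      calc x * x' * x = x' * (x * x) := by rw [comm, mul_assoc]
        _ = x' * x⁻¹ := by
          have : x * x = x⁻¹ := by
            have h3 : x * x * x = 1 := by rw [← hx, pow_succ, pow_two]
            exact eq_inv_of_mul_eq_one_left h3
          rw [this]
    calc x' * x⁻¹ * a = (a * (x' * x⁻¹) * a⁻¹) * a := by rw [h1]
      _ = a * (x' * x⁻¹) := by group
  · -- b
    have hm : a * (a * b) ∈ Subgroup.closure ({a * b, x, a} : Set L) :=
      Subgroup.mul_mem _ (Subgroup.subset_closure (by simp))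
        (Subgroup.subset_closure (by simp))
    have h1 : a * (a * b) = b := by rw [← mul_assoc, ha, one_mul]
    rwa [h1] at hm
  · -- c
    have hamem : a ∈ Subgroup.closure ({a * b, x, a} : Set L) :=
      Subgroup.subset_closure (by simp)
    have htmem : a * b ∈ Subgroup.closure ({a * b, x, a} : Set L) :=
      Subgroup.subset_closure (by simp)
    have hxmem : x ∈ Subgroup.closure ({a * b, x, a} : Set L) :=
      Subgroup.subset_closure (by simp)
    have hx'mem : x' ∈ Subgroup.closure ({a * b, x, a} : Set L) := by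
      rw [← E4]
      exact Subgroup.mul_mem _ (Subgroup.mul_mem _ htmem hxmem) (Subgroup.inv_mem _ htmem)
    have hm : (a * b * a)⁻¹ * (x * x') ∈ Subgroup.closure ({a * b, x, a} : Set L) :=
      Subgroup.mul_mem _ (Subgroup.inv_mem _ (Subgroup.mul_mem _ htmem hamem))
        (Subgroup.mul_mem _ hxmem hx'mem)
    have h1 : (a * b * a)⁻¹ * (x * x') = c := by rw [E1]; group
    rwa [h1] at hm

end Pres

section CardClosure

variable {G : Type*} [Group G] {t y s a : G}

/-- the subgroup generated by elements satisfying `TS` has order at most `54`. -/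
theorem TS.card_closure_le (h : TS t y s a) :
    Nat.card (Subgroup.closure ({t, y, a} : Set G)) ≤ 54 := by
  obtain ⟨Γ, hΓ⟩ : ∃ Γ : Subgroup G, Γ = Subgroup.closure ({t, y, a} : Set G) := ⟨_, rfl⟩
  rw [← hΓ]
  have mt : t ∈ Γ := by rw [hΓ]; exact Subgroup.subset_closure (by simp)
  have my : y ∈ Γ := by rw [hΓ]; exact Subgroup.subset_closure (by simp)
  have ma : a ∈ Γ := by rw [hΓ]; exact Subgroup.subset_closure (by simp)
  have ms : s ∈ Γ := by
    rw [h.hs]
    exact Γ.mul_mem (Γ.mul_mem (Γ.mul_mem mt my) (Γ.inv_mem mt)) (Γ.inv_mem my)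
  have hTS : TS (⟨t, mt⟩ : Γ) ⟨y, my⟩ ⟨s, ms⟩ ⟨a, ma⟩ := by
    refine ⟨?_, ?_, ?_, ?_, ?_, ?_, ?_, ?_, ?_, ?_⟩ <;> apply Subtype.ext <;>
      simp only [Subgroup.coe_pow, Subgroup.coe_mul, Subgroup.coe_inv, Subgroup.coe_one]
    · exact h.t3
    · exact h.y3
    · exact h.s3
    · exact h.a2
    · exact h.hat
    · exact h.hay
    · exact h.hs
    · exact h.st
    · exact h.sy
    · exact h.sa
  have hgen : Subgroup.closure {(⟨t, mt⟩ : Γ), ⟨y, my⟩, ⟨a, ma⟩} = ⊤ := by
    subst hΓ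
    have h0 := Subgroup.closure_closure_coe_preimage (k := ({t, y, a} : Set G))
    rw [← h0]
    congr 1
    ext ⟨x, hx⟩
    simp only [Set.mem_insert_iff, Set.mem_singleton_iff, Set.mem_preimage, Subtype.mk.injEq]
  exact hTS.card_le hgen

end CardClosure

section Order54

variable {C : Type*} [Group C] [Finite C]

/-- a subgroup of index two in a group of order `54`. -/
theorem exists_index_two (hC : Nat.card C = 54) :
    ∃ P : Subgroup C, Nat.card P = 27 ∧ P.index = 2 := by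
  haveI : Fact (Nat.Prime 3) := ⟨by norm_num⟩
  obtain ⟨P, hP⟩ := Sylow.exists_subgroup_card_pow_prime (G := C) 3 (n := 3)
    (by rw [hC]; norm_num)
  refine ⟨P, by rw [hP]; norm_num, ?_⟩
  have h1 := Subgroup.index_mul_card P
  rw [hP, hC] at h1
  omega

/-- in a group of order `54`, the product of two involutions is not an involution. -/
theorem eq_one_of_mul_sq (hC : Nat.card C = 54) {u v : C} (hu : u * u = 1) (hu1 : u ≠ 1)
    (hv : v * v = 1) (hv1 : v ≠ 1) (hz : (u * v) * (u * v) = 1) : u * v = 1 := by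
  obtain ⟨P, hP, hidx⟩ := exists_index_two hC
  have hodd : ∀ g ∈ P, g * g = 1 → g = 1 := by
    intro g hg hgg
    have h1 : orderOf (⟨g, hg⟩ : P) ∣ 27 := by rw [← hP]; exact orderOf_dvd_natCard _
    have h2 : orderOf (⟨g, hg⟩ : P) ∣ 2 := by
      apply orderOf_dvd_of_pow_eq_one
      apply Subtype.ext
      rw [Subgroup.coe_pow, Subgroup.coe_one, pow_two]; exact hgg
    have h3 : orderOf (⟨g, hg⟩ : P) ∣ Nat.gcd 27 2 := Nat.dvd_gcd h1 h2
    have h4 : Nat.gcd 27 2 = 1 := by norm_num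
    rw [h4, Nat.dvd_one, orderOf_eq_one_iff] at h3
    exact congrArg Subtype.val h3
  have huP : u ∉ P := fun h => hu1 (hodd u h hu)
  have hvP : v ∉ P := fun h => hv1 (hodd v h hv)
  have huv : u * v ∈ P := by
    rw [Subgroup.mul_mem_iff_of_index_two hidx]
    exact ⟨fun h => absurd h huP, fun h => absurd h hvP⟩
  exact hodd _ huv hz

/-- in a group of order `54` all involutions are conjugate. -/
theorem exists_conj_of_involutions (hC : Nat.card C = 54) {u v : C} (hu : u * u = 1)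
    (hu1 : u ≠ 1) (hv : v * v = 1) (hv1 : v ≠ 1) : ∃ g : C, g * u * g⁻¹ = v := by
  haveI : Fact (Nat.Prime 2) := ⟨Nat.prime_two⟩
  have key : ∀ w : C, w * w = 1 → w ≠ 1 → ∃ S : Sylow 2 C, (S : Subgroup C) = Subgroup.zpowers w := by
    intro w hw hw1
    have ho : orderOf w = 2 := orderOf_eq_prime (by rw [pow_two]; exact hw) hw1
    have hcard : Nat.card (Subgroup.zpowers w) = 2 := by rw [Nat.card_zpowers, ho]
    have hp : IsPGroup 2 (Subgroup.zpowers w) := IsPGroup.of_card (n := 1) (by rw [hcard]; norm_num)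
    obtain ⟨S, hS⟩ := hp.exists_le_sylow
    refine ⟨S, ?_⟩
    symm
    apply Subgroup.eq_of_le_of_card_ge hS
    obtain ⟨k, hk⟩ := IsPGroup.iff_card.mp S.isPGroup'
    have hdvd : Nat.card S ∣ 54 := by rw [← hC]; exact Subgroup.card_subgroup_dvd_card _
    rw [hcard, hk]
    rw [hk] at hdvd
    have hk1 : k ≤ 1 := by
      by_contra hcon
      have h2 : 2 ≤ k := by omega
      have h4 : 2 ^ 2 ∣ 54 := (pow_dvd_pow 2 h2).trans hdvd
      norm_num at h4
    calc 2 ^ k ≤ 2 ^ 1 := Nat.pow_le_pow_right (by norm_num) hk1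
      _ = 2 := by norm_num
  obtain ⟨S₁, hS₁⟩ := key u hu hu1
  obtain ⟨S₂, hS₂⟩ := key v hv hv1
  obtain ⟨g, hg⟩ := MulAction.exists_smul_eq C S₁ S₂
  refine ⟨g, ?_⟩
  have h1 : g * u * g⁻¹ ∈ (S₂ : Subgroup C) := by
    rw [← hg, Sylow.coe_subgroup_smul, Subgroup.mem_smul_pointwise_iff_exists]
    refine ⟨u, by rw [hS₁]; exact Subgroup.mem_zpowers u, ?_⟩
    rw [MulAut.smul_def, MulAut.conj_apply]
  rw [hS₂] at h1
  have ho : orderOf v = 2 := orderOf_eq_prime (by rw [pow_two]; exact hv) hv1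
  rw [Subgroup.mem_zpowers_iff] at h1
  obtain ⟨n, hn⟩ := h1
  have h2 : v ^ n = v ^ (n % 2) := by
    have hv2 : v ^ (2 : ℤ) = 1 := by
      have := pow_two v
      rw [hv] at this
      exact_mod_cast this
    exact zpow_eq_zpow_emod n hv2
  rw [h2] at hn
  obtain h0 | h0 : n % 2 = 0 ∨ n % 2 = 1 := by omega
  · exfalso
    rw [h0, zpow_zero] at hn
    apply hu1
    have : u = g⁻¹ * (g * u * g⁻¹) * g := by group
    rw [this, ← hn]; group
  · rw [h0, zpow_one] at hn
    exact hn.symm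

end Order54

end Cfsg.Agent.Lib.Helper25.OTT
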