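import Mathlib
import Cfsg.Prelude.Def_FischerSpaces
import Cfsg.Agent.Lib.Helper27.ThreeTransp
import Cfsg.Agent.Lib.Helper25.OTTb
import Cfsg.Agent.Lib.Helper25.OTTk

/-!
# Splitting of `O₂(G)` when `G / O₂(G) ≅ 3^{1+2} : 2` (S5555, part L)
-/

set_option autoImplicit false

namespace Cfsg.Agent.Lib.Helper25.OTT

open Cfsg Cfsg.Agent.Lib.Helper27.TT

section BoxFacts

variable {C : Type*} [Group C] {t y s a : C}

theorem TS.box_injective (h : TS t y s a) (hgen : Subgroup.closure {t, y, a} = ⊤)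
    (hcard : Nat.card C = 54) : Function.Injective (box t y s a) := by
  haveI : Finite C := Nat.finite_of_card_ne_zero (by rw [hcard]; norm_num)
  have h2 : Nat.card (Fin 3 × Fin 3 × Fin 3 × Bool) = 54 := by
    rw [Nat.card_eq_fintype_card]; rfl
  exact (Function.Surjective.bijective_of_nat_card_le (h.box_surjective hgen)
    (by rw [h2, hcard])).1

theorem TS.facts (h : TS t y s a) (hgen : Subgroup.closure {t, y, a} = ⊤)
    (hcard : Nat.card C = 54) : t ≠ 1 ∧ y ≠ 1 ∧ y ≠ t ∧ t * y ≠ 1 ∧ a ≠ 1 := by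
  have hinj := h.box_injective hgen hcard
  have b1 : box t y s a (0, 0, 0, false) = 1 := by simp [box]
  have bt : box t y s a (1, 0, 0, false) = t := by simp [box]
  have by' : box t y s a (0, 1, 0, false) = y := by simp [box]
  have bty : box t y s a (1, 1, 0, false) = t * y := by simp [box]
  have ba : box t y s a (0, 0, 0, true) = a := by simp [box]
  refine ⟨?_, ?_, ?_, ?_, ?_⟩
  · intro he
    have := hinj (bt.trans (he.trans b1.symm))
    revert this; decide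
  · intro he
    have := hinj (by'.trans (he.trans b1.symm))
    revert this; decide
  · intro he
    have := hinj (by'.trans (he.trans bt.symm))
    revert this; decide
  · intro he
    have := hinj (bty.trans (he.trans b1.symm))
    revert this; decide
  · intro he
    have := hinj (ba.trans (he.trans b1.symm))
    revert this; decide

end BoxFacts

theorem split54 {G : Type*} [Group G] [Finite G] {D : Set G}
    (hD : IsThreeTranspositionClass D) (Q : Subgroup G) [hQn : Q.Normal] {C : Type*} [Group C]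
    (e : G ⧸ Q ≃* C) {t y s a₀ : C} (hTS : TS t y s a₀)
    (hgen : Subgroup.closure {t, y, a₀} = ⊤) (hcard : Nat.card C = 54) :
    ∃ L : Subgroup G, Q.IsComplement' L := by
  classical
  haveI : Finite C := Nat.finite_of_card_ne_zero (by rw [hcard]; norm_num)
  obtain ⟨ht1, hy1, hyt, hty, ha1⟩ := hTS.facts hgen hcard
  obtain ⟨ψ, hψ⟩ : ∃ ψ : G →* C, ψ = e.toMonoidHom.comp (QuotientGroup.mk' Q) := ⟨_, rfl⟩
  have hψs : Function.Surjective ψ := by
    rw [hψ]; exact e.surjective.comp (QuotientGroup.mk'_surjective Q)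
  have hψ1 : ∀ g : G, ψ g = 1 ↔ g ∈ Q := by
    intro g
    rw [hψ, MonoidHom.comp_apply]
    show e (QuotientGroup.mk' Q g) = 1 ↔ g ∈ Q
    rw [MulEquiv.map_eq_one_iff, QuotientGroup.mk'_apply, QuotientGroup.eq_one_iff]
  -- TS algebra
  have a0i : a₀⁻¹ = a₀ := hTS.a_inv
  have a0a0 : a₀ * a₀ = 1 := by rw [← pow_two]; exact hTS.a2
  have e_at : a₀ * t = t⁻¹ * a₀ := by
    calc a₀ * t = (a₀ * t * a₀⁻¹) * a₀ := by group
      _ = t⁻¹ * a₀ := by rw [hTS.hat]
  have e_ay : a₀ * y = y⁻¹ * a₀ := by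
    calc a₀ * y = (a₀ * y * a₀⁻¹) * a₀ := by group
      _ = y⁻¹ * a₀ := by rw [hTS.hay]
  have e_ati : a₀ * t⁻¹ = t * a₀ := by
    calc a₀ * t⁻¹ = t * (t⁻¹ * a₀) * t⁻¹ := by group
      _ = t * (a₀ * t) * t⁻¹ := by rw [e_at]
      _ = t * a₀ := by group
  have e_ayi : a₀ * y⁻¹ = y * a₀ := by
    calc a₀ * y⁻¹ = y * (y⁻¹ * a₀) * y⁻¹ := by group
      _ = y * (a₀ * y) * y⁻¹ := by rw [e_ay]
      _ = y * a₀ := by group
  have tt : t⁻¹ * t⁻¹ = t := by
    have h3 : t * t * t = 1 := by rw [← hTS.t3, pow_succ, pow_two]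
    calc t⁻¹ * t⁻¹ = t⁻¹ * t⁻¹ * (t * t * t) := by rw [h3, mul_one]
      _ = t := by group
  have yy : y⁻¹ * y⁻¹ = y := by
    have h3 : y * y * y = 1 := by rw [← hTS.y3, pow_succ, pow_two]
    calc y⁻¹ * y⁻¹ = y⁻¹ * y⁻¹ * (y * y * y) := by rw [h3, mul_one]
      _ = y := by group
  -- the conjugates `β = t a₀ t⁻¹ = a₀ t`, `γ = y a₀ y⁻¹ = a₀ y`
  have hβ : t * a₀ * t⁻¹ = a₀ * t := by
    calc t * a₀ * t⁻¹ = t * (a₀ * t⁻¹) := by rw [mul_assoc]
      _ = t * (t * a₀) := by rw [e_ati]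
      _ = (t⁻¹ * t⁻¹)⁻¹ * a₀ := by rw [mul_inv_rev, inv_inv, mul_assoc]
      _ = t⁻¹ * a₀ := by rw [tt]
      _ = a₀ * t := e_at.symm
  have hγ : y * a₀ * y⁻¹ = a₀ * y := by
    calc y * a₀ * y⁻¹ = y * (a₀ * y⁻¹) := by rw [mul_assoc]
      _ = y * (y * a₀) := by rw [e_ayi]
      _ = (y⁻¹ * y⁻¹)⁻¹ * a₀ := by rw [mul_inv_rev, inv_inv, mul_assoc]
      _ = y⁻¹ * a₀ := by rw [yy]
      _ = a₀ * y := e_ay.symm
  -- elements of `D` map to involutions
  have hsq : ∀ d ∈ D, ψ d * ψ d = 1 := by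
    intro d hd
    rw [← map_mul, mul_self_of_mem hD.1 hd, map_one]
  have hne : ∀ d ∈ D, ψ d ≠ 1 := by
    intro d hd h1
    have hdQ : d ∈ Q := (hψ1 d).mp h1
    have hDQ : D ⊆ Q := by
      intro x hx
      obtain ⟨e0, _, hDeq⟩ := hD.2.1
      have hd' : IsConj e0 d := by rw [hDeq] at hd; exact hd
      have hx' : IsConj e0 x := by rw [hDeq] at hx; exact hx
      obtain ⟨g, hg⟩ := isConj_iff.mp ((IsConj.symm hd').trans hx')
      rw [SetLike.mem_coe, ← hg]
      exact hQn.conj_mem d hdQ g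
    have htop : (⊤ : Subgroup G) ≤ Q := by
      rw [← hD.2.2, Subgroup.closure_le]; exact hDQ
    apply ht1
    obtain ⟨g, hg⟩ := hψs t
    rw [← hg, hψ1]
    exact htop (Subgroup.mem_top g)
  -- products of members of `D` with different images have order three
  have key : ∀ d₁ ∈ D, ∀ d₂ ∈ D, ψ d₁ ≠ ψ d₂ → (d₁ * d₂) ^ 3 = 1 := by
    intro d₁ h₁ d₂ h₂ hne12
    rcases hD.1.2 d₁ h₁ d₂ h₂ with h2 | h2
    · exfalso
      apply hne12
      have hz : (ψ d₁ * ψ d₂) * (ψ d₁ * ψ d₂) = 1 := by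
        rw [← map_mul, ← map_mul, ← pow_two, h2, map_one]
      have := eq_one_of_mul_sq hcard (hsq d₁ h₁) (hne d₁ h₁) (hsq d₂ h₂) (hne d₂ h₂) hz
      calc ψ d₁ = ψ d₁ * (ψ d₂ * ψ d₂) := by rw [hsq d₂ h₂, mul_one]
        _ = (ψ d₁ * ψ d₂) * ψ d₂ := by rw [mul_assoc]
        _ = ψ d₂ := by rw [this, one_mul]
    · exact h2
  -- the three transpositions
  obtain ⟨d₀, hd₀, -⟩ := hD.2.1
  obtain ⟨g, hg⟩ := exists_conj_of_involutions hcard (hsq d₀ hd₀) (hne d₀ hd₀) a0a0 ha1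
  obtain ⟨g', rfl⟩ := hψs g
  obtain ⟨a, had⟩ : ∃ a : G, a = g' * d₀ * g'⁻¹ := ⟨_, rfl⟩
  have haD : a ∈ D := by rw [had]; exact conj_mem_of_class hD g' hd₀
  have hψa : ψ a = a₀ := by rw [had, map_mul, map_mul, map_inv, hg]
  obtain ⟨gt, hgt⟩ := hψs t
  obtain ⟨gy, hgy⟩ := hψs y
  obtain ⟨b, hbd⟩ : ∃ b : G, b = gt * a * gt⁻¹ := ⟨_, rfl⟩
  obtain ⟨c, hcd⟩ : ∃ c : G, c = gy * a * gy⁻¹ := ⟨_, rfl⟩
  have hbD : b ∈ D := by rw [hbd]; exact conj_mem_of_class hD gt haD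
  have hcD : c ∈ D := by rw [hcd]; exact conj_mem_of_class hD gy haD
  have hψb : ψ b = a₀ * t := by rw [hbd, map_mul, map_mul, map_inv, hgt, hψa, hβ]
  have hψc : ψ c = a₀ * y := by rw [hcd, map_mul, map_mul, map_inv, hgy, hψa, hγ]
  have hcbcD : c * b * c ∈ D := by
    have := conj_mem_of_class hD c hbD
    rwa [inv_of_mem hD.1 hcD] at this
  have haa : a * a = 1 := mul_self_of_mem hD.1 haD
  have hbb : b * b = 1 := mul_self_of_mem hD.1 hbD
  have hcc : c * c = 1 := mul_self_of_mem hD.1 hcD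
  have r1 : (a * b) ^ 3 = 1 := by
    apply key a haD b hbD
    rw [hψa, hψb]
    intro he
    apply ht1
    have : a₀ * 1 = a₀ * t := by rw [mul_one]; exact he
    exact (mul_left_cancel this).symm
  have r2 : (b * c) ^ 3 = 1 := by
    apply key b hbD c hcD
    rw [hψb, hψc]
    intro he
    exact hyt (mul_left_cancel he).symm
  have r3 : (c * a) ^ 3 = 1 := by
    apply key c hcD a haD
    rw [hψa, hψc]
    intro he
    apply hy1
    have : a₀ * y = a₀ * 1 := by rw [mul_one]; exact he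
    exact mul_left_cancel this
  have r4 : (a * (c * b * c)) ^ 3 = 1 := by
    apply key a haD (c * b * c) hcbcD
    rw [map_mul, map_mul, hψa, hψb, hψc]
    intro he
    apply hty
    -- `a₀ = (a₀ y)(a₀ t)(a₀ y) = y⁻¹ t y⁻¹ a₀`
    have h1 : a₀ * y * (a₀ * t) * (a₀ * y) = y⁻¹ * t * y⁻¹ * a₀ := by
      calc a₀ * y * (a₀ * t) * (a₀ * y) = (a₀ * y) * (a₀ * t) * (a₀ * y) := by rfl
        _ = (y⁻¹ * a₀) * (a₀ * t) * (a₀ * y) := by rw [e_ay]
        _ = y⁻¹ * (a₀ * a₀) * t * (a₀ * y) := by simp only [mul_assoc]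
        _ = y⁻¹ * t * (y⁻¹ * a₀) := by rw [a0a0, mul_one, e_ay]
        _ = y⁻¹ * t * y⁻¹ * a₀ := by simp only [mul_assoc]
    rw [h1] at he
    have h2 : y⁻¹ * t * y⁻¹ = 1 := by
      have : 1 * a₀ = y⁻¹ * t * y⁻¹ * a₀ := by rw [one_mul]; exact he
      exact (mul_right_cancel this).symm
    have h3 : t = y * y := by
      calc t = y * (y⁻¹ * t * y⁻¹) * y := by group
        _ = y * y := by rw [h2, mul_one]
    rw [h3, ← pow_two, ← pow_succ]
    exact hTS.y3
  obtain ⟨hTSG, hbL, hcL⟩ := pres54 haa hbb hcc r1 r2 r3 r4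
  obtain ⟨L, hL⟩ : ∃ L : Subgroup G,
      L = Subgroup.closure ({a * b, a * (c * b * c), a} : Set G) := ⟨_, rfl⟩
  rw [← hL] at hbL hcL
  have haL : a ∈ L := by rw [hL]; exact Subgroup.subset_closure (by simp)
  have hLcard : Nat.card L ≤ 54 := by rw [hL]; exact hTSG.card_closure_le
  -- `ψ` maps `L` onto `C`
  have hmap : L.map ψ = ⊤ := by
    rw [eq_top_iff, ← hgen, Subgroup.closure_le]
    intro z hz
    simp only [Set.mem_insert_iff, Set.mem_singleton_iff] at hz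
    have m1 : a₀ ∈ L.map ψ := ⟨a, haL, hψa⟩
    have m2 : a₀ * t ∈ L.map ψ := ⟨b, hbL, hψb⟩
    have m3 : a₀ * y ∈ L.map ψ := ⟨c, hcL, hψc⟩
    rcases hz with rfl | rfl | rfl
    · have : z = a₀⁻¹ * (a₀ * z) := by group
      rw [SetLike.mem_coe, this]
      exact Subgroup.mul_mem _ (Subgroup.inv_mem _ m1) m2
    · have : z = a₀⁻¹ * (a₀ * z) := by group
      rw [SetLike.mem_coe, this]
      exact Subgroup.mul_mem _ (Subgroup.inv_mem _ m1) m3
    · exact m1
  obtain ⟨f, hf⟩ : ∃ f : ↥L → C, f = fun l : ↥L => ψ (l : G) := ⟨_, rfl⟩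
  have hfs : Function.Surjective f := by
    intro z
    have hz : z ∈ L.map ψ := by rw [hmap]; trivial
    obtain ⟨l, hl, rfl⟩ := hz
    exact ⟨⟨l, hl⟩, by rw [hf]⟩
  have hfb : Function.Bijective f :=
    Function.Surjective.bijective_of_nat_card_le hfs (by rw [hcard]; exact hLcard)
  have hLcard' : Nat.card L = 54 := by
    rw [← hcard]; exact Nat.card_congr (Equiv.ofBijective f hfb)
  refine ⟨L, Subgroup.isComplement'_of_card_mul_and_disjoint ?_ ?_⟩
  · have h1 := Subgroup.card_eq_card_quotient_mul_card_subgroup Q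
    have h2 : Nat.card (G ⧸ Q) = 54 := by rw [← hcard]; exact Nat.card_congr e.toEquiv
    rw [h1, h2, hLcard', mul_comm]
  · rw [Subgroup.disjoint_def]
    intro x hxQ hxL
    have h1 : f ⟨x, hxL⟩ = f 1 := by
      rw [hf]
      show ψ x = ψ ((1 : ↥L) : G)
      rw [(hψ1 x).mpr hxQ, Subgroup.coe_one, map_one]
    have h2 := hfb.1 h1
    exact congrArg Subtype.val h2

end Cfsg.Agent.Lib.Helper25.OTT
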