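import Mathlib
import Cfsg.Agent.H5.SylowTupleS
import Cfsg.Agent.Lib.Helper7.SylowBasic
import Cfsg.Agent.Lib.Helper7.SylowPrime
import Cfsg.Agent.Lib.Helper18.SylowOver

/-!
# No non-abelian simple group of order 4680 = 2^3 * 3^2 * 5 * 13 (helper25, for S0983)
-/

set_option autoImplicit false
set_option linter.unusedSectionVars false
set_option linter.unusedVariables false
set_option linter.style.haveILetI false
set_option maxRecDepth 100000

namespace Cfsg.Agent.Lib.Helper25.Ord4680

open Cfsg.H5.SmallOrd Cfsg.H5.SylowTuple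

variable {G : Type*} [Group G] [Finite G]

/-- conjugation by `g⁻¹` maps the finite subgroup `X` into itself, so `g` normalizes `X` -/
theorem mem_normalizer_of_conj_le (X : Subgroup G) (g : G)
    (hg : ∀ b ∈ X, g⁻¹ * b * g ∈ X) : g ∈ Subgroup.normalizer (X : Set G) := by
  have hpow : ∀ n : ℕ, ∀ b ∈ X, (g⁻¹) ^ n * b * ((g⁻¹) ^ n)⁻¹ ∈ X := by
    intro n
    induction n with
    | zero => intro b hb; simpa using hb
    | succ n ih =>
      intro b hb
      have h1 := ih b hb
      have h2 := hg _ h1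
      have : (g⁻¹) ^ (n + 1) * b * ((g⁻¹) ^ (n + 1))⁻¹
          = g⁻¹ * ((g⁻¹) ^ n * b * ((g⁻¹) ^ n)⁻¹) * g := by
        rw [pow_succ']
        group
      rw [this]; exact h2
  have hgp : g = (g⁻¹) ^ (orderOf g - 1) := by
    have hpos : 0 < orderOf g := orderOf_pos g
    have : g * g ^ (orderOf g - 1) = 1 := by
      rw [← pow_succ', Nat.sub_add_cancel hpos, pow_orderOf_eq_one]
    rw [inv_pow]
    exact eq_inv_of_mul_eq_one_left this
  have hfw : ∀ b ∈ X, g * b * g⁻¹ ∈ X := by
    intro b hb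
    have := hpow (orderOf g - 1) b hb
    rwa [← hgp] at this
  rw [Subgroup.mem_normalizer_iff]
  intro b
  constructor
  · exact hfw b
  · intro hb
    have := hg _ hb
    have h2 : g⁻¹ * (g * b * g⁻¹) * g = b := by group
    rwa [h2] at this

theorem orderOf_conj' (g x : G) : orderOf (g * x * g⁻¹) = orderOf x := by
  have h : SemiconjBy g x (g * x * g⁻¹) := by
    show g * x = g * x * g⁻¹ * g
    group
  exact (h.orderOf_eq g).symm

/-- orbit counting for conjugation by a subgroup `H` on an element `x` with stabilizer `Q` -/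
theorem orbit_count (H Q : Subgroup G) (hQH : Q ≤ H) (x : G)
    (hstab : ∀ h ∈ H, h * x = x * h → h ∈ Q) (hQx : ∀ q ∈ Q, q * x = x * q) :
    Set.ncard {y : G | ∃ h ∈ H, h * x * h⁻¹ = y} * Nat.card Q = Nat.card H := by
  letI : MulAction H G := MulAction.compHom G ((MulAut.conj : G →* MulAut G).comp H.subtype)
  have hsmul : ∀ (h : H) (a : G), h • a = (h : G) * a * (h : G)⁻¹ := fun h a => rfl
  have horb : (MulAction.orbit H x : Set G) = {y : G | ∃ h ∈ H, h * x * h⁻¹ = y} := by
    ext y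
    constructor
    · rintro ⟨h, rfl⟩
      exact ⟨h, h.2, (hsmul h x).symm⟩
    · rintro ⟨h, hh, rfl⟩
      exact ⟨⟨h, hh⟩, hsmul ⟨h, hh⟩ x⟩
  have hst : MulAction.stabilizer H x = Q.subgroupOf H := by
    ext h
    rw [MulAction.mem_stabilizer_iff, Subgroup.mem_subgroupOf, hsmul]
    constructor
    · intro hh
      apply hstab h h.2
      calc (h : G) * x = (h : G) * x * (h : G)⁻¹ * h := by group
        _ = x * h := by rw [hh]
    · intro hh
      rw [hQx _ hh]; group
  have h1 : Nat.card (MulAction.orbit H x) = (MulAction.stabilizer H x).index := by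
    rw [Subgroup.index]
    exact Nat.card_congr (MulAction.orbitEquivQuotientStabilizer H x)
  have h2 := Subgroup.card_mul_index (Q.subgroupOf H)
  rw [← hst, ← h1, hst, Nat.card_congr (Subgroup.subgroupOfEquivOfLe hQH).toEquiv] at h2
  rw [← horb, ← _root_.Nat.card_coe_set_eq, mul_comm]
  exact h2

/-- the subgroup `X` of order 3 of `C(P₁₃)`, normalized by `N(P₁₃)` -/
theorem exists_x [Fact (Nat.Prime 13)] (hsd : IsSD G 13 40 3 3) (P : Sylow 13 G) :
    ∃ x : G, orderOf x = 3 ∧ (∀ a ∈ (P : Subgroup G), a * x = x * a) ∧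
      Subgroup.normalizer ((P : Subgroup G) : Set G) ≤
        Subgroup.normalizer ((Subgroup.zpowers x : Subgroup G) : Set G) := by
  haveI : Fact (Nat.Prime 3) := ⟨by norm_num⟩
  set C : Subgroup G := Subgroup.centralizer ((P : Subgroup G) : Set G) with hCdef
  have hC : Nat.card C = 13 * 3 := hsd.card_C P
  have hPc : Nat.card (P : Subgroup G) = 13 := hsd.card_P P
  have hmemC : ∀ g : G, g ∈ C ↔ ∀ a ∈ (P : Subgroup G), a * g = g * a := by
    intro g
    rw [hCdef, Subgroup.mem_centralizer_iff]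
    rfl
  obtain ⟨y0, hy0⟩ := exists_prime_orderOf_dvd_card' (G := C) 3 (by rw [hC]; norm_num)
  obtain ⟨w0, hw0⟩ := exists_prime_orderOf_dvd_card' (G := (P : Subgroup G)) 13 (by rw [hPc])
  set y : G := (y0 : G) with hy
  set w : G := (w0 : G) with hw
  have hyo : orderOf y = 3 := by rw [hy, Subgroup.orderOf_coe]; exact hy0
  have hwo : orderOf w = 13 := by rw [hw, Subgroup.orderOf_coe]; exact hw0
  have hwP : w ∈ (P : Subgroup G) := w0.2
  have hyC : y ∈ C := y0.2
  have hcomm : Commute y w := ((hmemC y).1 hyC w hwP).symm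
  -- `P` is abelian
  have hPab : ∀ a ∈ (P : Subgroup G), ∀ b ∈ (P : Subgroup G), a * b = b * a := by
    intro a ha b hb
    haveI : IsCyclic (P : Subgroup G) := isCyclic_of_prime_card hPc
    have := (IsCyclic.commGroup (α := (P : Subgroup G))).mul_comm ⟨a, ha⟩ ⟨b, hb⟩
    exact congrArg Subtype.val this
  have hwC : w ∈ C := (hmemC w).2 (fun a ha => hPab a ha w hwP)
  set z : G := y * w with hz
  have hzo : orderOf z = 39 := by
    rw [hz, hcomm.orderOf_mul_eq_mul_orderOf_of_coprime (by rw [hyo, hwo]; norm_num), hyo, hwo]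
  have hzC : z ∈ C := C.mul_mem hyC hwC
  have hCz : Subgroup.zpowers z = C := by
    apply Subgroup.eq_of_le_of_card_ge
    · rw [Subgroup.zpowers_le]; exact hzC
    · rw [Nat.card_zpowers, hzo, hC]
  refine ⟨z ^ 13, ?_, ?_, ?_⟩
  · rw [orderOf_pow' z (by norm_num), hzo]; decide
  · intro a ha
    exact (hmemC _).1 (C.pow_mem hzC 13) a ha
  · intro g hg
    apply mem_normalizer_of_conj_le
    intro b hb
    -- g⁻¹ z g ∈ C
    have hconjC : g⁻¹ * z * g ∈ C := by
      rw [hmemC]
      intro a ha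
      have ha' : g * a * g⁻¹ ∈ (P : Subgroup G) := (Subgroup.mem_normalizer_iff.mp hg a).1 ha
      have h1 := (hmemC z).1 hzC _ ha'
      calc a * (g⁻¹ * z * g) = g⁻¹ * ((g * a * g⁻¹) * z) * g := by group
        _ = g⁻¹ * (z * (g * a * g⁻¹)) * g := by rw [h1]
        _ = g⁻¹ * z * g * a := by group
    rw [← hCz, Subgroup.mem_zpowers_iff] at hconjC
    obtain ⟨k, hk⟩ := hconjC
    rw [Subgroup.mem_zpowers_iff] at hb
    obtain ⟨j, hj⟩ := hb
    rw [Subgroup.mem_zpowers_iff]
    refine ⟨k * j, ?_⟩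
    have h2 : g⁻¹ * b * g = (g⁻¹ * z * g) ^ (13 * j) := by
      have := conj_zpow (a := g⁻¹) (b := z) (i := 13 * j)
      rw [inv_inv] at this
      rw [this, ← hj, zpow_mul]
      norm_cast
    rw [h2, ← hk, ← zpow_mul, ← zpow_natCast, ← zpow_mul]
    congr 1
    push_cast
    ring

/-- commuting with `x` implies normalizing `⟨x⟩` -/
theorem mem_normalizer_zpowers_of_comm (x g : G) (h : g * x = x * g) :
    g ∈ Subgroup.normalizer ((Subgroup.zpowers x : Subgroup G) : Set G) := by
  apply mem_normalizer_of_conj_le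
  intro b hb
  rw [Subgroup.mem_zpowers_iff] at hb
  obtain ⟨j, rfl⟩ := hb
  have hc : Commute g (x ^ j) := Commute.zpow_right h j
  have : g⁻¹ * x ^ j * g = x ^ j := by
    rw [mul_assoc, ← hc.eq, ← mul_assoc, inv_mul_cancel, one_mul]
  rw [this]
  exact Subgroup.zpow_mem_zpowers x j

/-- inverting `x` implies normalizing `⟨x⟩` -/
theorem mem_normalizer_zpowers_of_inv (x g : G) (h : g * x * g⁻¹ = x⁻¹) :
    g ∈ Subgroup.normalizer ((Subgroup.zpowers x : Subgroup G) : Set G) := by
  apply mem_normalizer_of_conj_le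
  intro b hb
  rw [Subgroup.mem_zpowers_iff] at hb
  obtain ⟨j, rfl⟩ := hb
  have h2 : g * x⁻¹ * g⁻¹ = x := by
    have := congrArg (fun t => t⁻¹) h
    simpa [mul_assoc] using this
  have h1 : g⁻¹ * x * g = x⁻¹ := by
    calc g⁻¹ * x * g = g⁻¹ * (g * x⁻¹ * g⁻¹) * g := by rw [h2]
      _ = x⁻¹ := by group
  have h3 : g⁻¹ * x ^ j * g = (x⁻¹) ^ j := by
    have := conj_zpow (a := g⁻¹) (b := x) (i := j)
    rw [inv_inv] at this
    rw [← this, h1]
  rw [h3, inv_zpow, ← zpow_neg]
  exact Subgroup.zpow_mem_zpowers x (-j)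

/-- in a simple group of order 4680, no element of order 3 commutes with an element of order 5 -/
theorem no_comm_3_5 [IsSimpleGroup G] (hG : ¬ IsMulCommutative G) (hn : Nat.card G = 4680)
    [Fact (Nat.Prime 13)] (hsd : IsSD G 13 40 3 3) :
    ∀ y v : G, orderOf y = 3 → orderOf v = 5 → ¬ Commute y v := by
  haveI : Fact (Nat.Prime 3) := ⟨by norm_num⟩
  obtain ⟨P⟩ : Nonempty (Sylow 13 G) := inferInstance
  obtain ⟨x, hxo, hxP, hNX⟩ := exists_x hsd P
  set X : Subgroup G := Subgroup.zpowers x with hX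
  set M : Subgroup G := Subgroup.normalizer (X : Set G) with hMdef
  have hXc : Nat.card X = 3 := by rw [hX, Nat.card_zpowers, hxo]
  have hx1 : x ≠ 1 := by
    intro h; rw [h, orderOf_one] at hxo; omega
  have hNP : Nat.card (Subgroup.normalizer ((P : Subgroup G) : Set G)) = 117 := by
    rw [hsd.card_N P]
  -- |M| = 117
  have hM : Nat.card M = 117 := by
    have h1 := Cfsg.Agent.Lib.Helper18.SylowOver.card_eq_card_normalizer_mul P M hNX
    have hk1 := Cfsg.Agent.Lib.Helper18.SylowOver.card_sylow_subgroup_mod (p := 13) M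
    have hdiv : Nat.card M ∣ 4680 := hn ▸ Subgroup.card_subgroup_dvd_card M
    rw [hNP] at h1
    set k := Nat.card (Sylow 13 M) with hk
    rw [h1] at hdiv
    have hk40 : k ∣ 40 := by
      have : 117 * k ∣ 117 * 40 := by simpa using hdiv
      exact Nat.dvd_of_mul_dvd_mul_left (by norm_num) this
    have hkle : k ≤ 40 := Nat.le_of_dvd (by norm_num) hk40
    have hk0 : 0 < k := Nat.pos_of_dvd_of_pos hk40 (by norm_num)
    have hkcases : k = 1 ∨ k = 40 := by
      interval_cases k <;> omega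
    rcases hkcases with hk' | hk'
    · rw [h1, hk']
    · exfalso
      have hMtop : M = ⊤ := by
        apply Subgroup.eq_top_of_card_eq
        rw [h1, hk', hn]
      have hXn : X.Normal := Subgroup.normalizer_eq_top_iff.mp hMtop
      rcases hXn.eq_bot_or_eq_top with h | h
      · rw [h, Subgroup.card_bot] at hXc; omega
      · rw [h, Subgroup.card_top, hn] at hXc; omega
  have hMeq : Subgroup.normalizer ((P : Subgroup G) : Set G) = M :=
    Subgroup.eq_of_le_of_card_ge hNX (by rw [hM, hNP])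
  have hCxM : ∀ g : G, g * x = x * g → g ∈ M := fun g hg => mem_normalizer_zpowers_of_comm x g hg
  -- a Sylow 3-subgroup containing x
  have hpg : IsPGroup 3 (Subgroup.zpowers x) :=
    IsPGroup.of_card (n := 1) (by rw [Nat.card_zpowers, hxo, pow_one])
  obtain ⟨Q, hQ⟩ := hpg.exists_le_sylow
  have hQc : Nat.card (Q : Subgroup G) = 3 ^ 2 :=
    sylow_card 3 2 520 (by norm_num) (by rw [hn]; norm_num) Q
  have hxQ : x ∈ (Q : Subgroup G) := hQ (Subgroup.mem_zpowers x)
  have hQab : ∀ a ∈ (Q : Subgroup G), ∀ b ∈ (Q : Subgroup G), a * b = b * a := by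
    intro a ha b hb
    have := IsPGroup.commutative_of_card_eq_prime_sq hQc ⟨a, ha⟩ ⟨b, hb⟩
    exact congrArg Subtype.val this
  have hQx : ∀ q ∈ (Q : Subgroup G), q * x = x * q := fun q hq => hQab q hq x hxQ
  have hQM : (Q : Subgroup G) ≤ M := fun q hq => hCxM q (hQx q hq)
  set H : Subgroup G := Subgroup.normalizer ((Q : Subgroup G) : Set G) with hHdef
  have hQH : (Q : Subgroup G) ≤ H := Subgroup.le_normalizer
  -- H ⊓ M = Q
  have hL : H ⊓ M = (Q : Subgroup G) := by
    have hQL : (Q : Subgroup G) ≤ H ⊓ M := le_inf hQH hQM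
    have h9 : 9 ∣ Nat.card (H ⊓ M : Subgroup G) := by
      have := Subgroup.card_dvd_of_le hQL
      rwa [hQc] at this
    have h117 : Nat.card (H ⊓ M : Subgroup G) ∣ 117 := by
      have := Subgroup.card_dvd_of_le (inf_le_right : H ⊓ M ≤ M)
      rwa [hM] at this
    obtain ⟨j, hj⟩ := h9
    have hj13 : j ∣ 13 := by
      rw [hj] at h117
      have : 9 * j ∣ 9 * 13 := by simpa using h117
      exact Nat.dvd_of_mul_dvd_mul_left (by norm_num) this
    have hjc : j = 1 ∨ j = 13 := (Nat.dvd_prime (by norm_num)).mp hj13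
    rcases hjc with hj1 | hj13'
    · symm
      apply Subgroup.eq_of_le_of_card_ge hQL
      rw [hj, hj1, hQc]; norm_num
    · exfalso
      have hLM : H ⊓ M = M := by
        apply Subgroup.eq_of_le_of_card_ge inf_le_right
        rw [hj, hj13', hM]
      have hMH : M ≤ H := by rw [← hLM]; exact inf_le_left
      have hPM : (P : Subgroup G) ≤ M := by rw [← hMeq]; exact Subgroup.le_normalizer
      have hdisj : (P : Subgroup G) ⊓ (Q : Subgroup G) = ⊥ :=
        Subgroup.inf_eq_bot_of_coprime (by rw [hsd.card_P P, hQc]; norm_num)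
      have hQCP : (Q : Subgroup G) ≤ Subgroup.centralizer ((P : Subgroup G) : Set G) := by
        intro q hq
        rw [Subgroup.mem_centralizer_iff]
        intro a ha
        have hqN : q ∈ Subgroup.normalizer ((P : Subgroup G) : Set G) := by
          rw [hMeq]; exact hQM hq
        have haH : a ∈ H := hMH (hPM ha)
        have h1 : q * a * q⁻¹ ∈ (P : Subgroup G) := (Subgroup.mem_normalizer_iff.mp hqN a).1 ha
        have h2 : a * q⁻¹ * a⁻¹ ∈ (Q : Subgroup G) :=
          (Subgroup.mem_normalizer_iff.mp haH q⁻¹).1 ((Q : Subgroup G).inv_mem hq)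
        have hc1 : q * a * q⁻¹ * a⁻¹ ∈ (P : Subgroup G) :=
          (P : Subgroup G).mul_mem h1 ((P : Subgroup G).inv_mem ha)
        have hc2 : q * a * q⁻¹ * a⁻¹ ∈ (Q : Subgroup G) := by
          have := (Q : Subgroup G).mul_mem hq h2
          have e : q * (a * q⁻¹ * a⁻¹) = q * a * q⁻¹ * a⁻¹ := by group
          rwa [e] at this
        have hc : q * a * q⁻¹ * a⁻¹ ∈ (P : Subgroup G) ⊓ (Q : Subgroup G) := ⟨hc1, hc2⟩
        rw [hdisj, Subgroup.mem_bot] at hc
        have : q * a = a * q := by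
          have e : q * a = (q * a * q⁻¹ * a⁻¹) * (a * q) := by group
          rw [e, hc, one_mul]
        exact this.symm
      have := Subgroup.card_dvd_of_le hQCP
      rw [hQc, hsd.card_C P] at this
      omega
  have hstab : ∀ h ∈ H, h * x = x * h → h ∈ (Q : Subgroup G) := by
    intro h hh hc
    rw [← hL]
    exact ⟨hh, hCxM h hc⟩
  have hstab' : ∀ h ∈ H, h * x⁻¹ = x⁻¹ * h → h ∈ (Q : Subgroup G) := by
    intro h hh hc
    apply hstab h hh
    have : Commute h x⁻¹ := hc
    exact (Commute.inv_right_iff.mp this).eq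
  have hQx' : ∀ q ∈ (Q : Subgroup G), q * x⁻¹ = x⁻¹ * q := by
    intro q hq
    exact (Commute.inv_right (hQx q hq : Commute q x)).eq
  set O1 : Set G := {y : G | ∃ h ∈ H, h * x * h⁻¹ = y} with hO1
  set O2 : Set G := {y : G | ∃ h ∈ H, h * x⁻¹ * h⁻¹ = y} with hO2
  have hc1 := orbit_count H (Q : Subgroup G) hQH x hstab hQx
  have hc2 := orbit_count H (Q : Subgroup G) hQH x⁻¹ hstab' hQx'
  rw [hQc] at hc1 hc2
  set S : Set G := ((Q : Subgroup G) : Set G) \ {1} with hS
  have hSfin : S.Finite := Set.toFinite S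
  have hScard : S.ncard = 8 := by
    rw [hS, Set.ncard_diff_singleton_of_mem (Subgroup.one_mem _)]
    have : ((Q : Subgroup G) : Set G).ncard = 9 := by
      rw [← _root_.Nat.card_coe_set_eq]
      exact hQc
    rw [this]
  have hO1S : O1 ⊆ S := by
    rintro y ⟨h, hh, rfl⟩
    refine ⟨(Subgroup.mem_normalizer_iff.mp hh x).1 hxQ, ?_⟩
    intro h1
    rw [Set.mem_singleton_iff] at h1
    apply hx1
    have : x = h⁻¹ * (h * x * h⁻¹) * h := by group
    rw [this, h1]; group
  have hO2S : O2 ⊆ S := by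
    rintro y ⟨h, hh, rfl⟩
    refine ⟨(Subgroup.mem_normalizer_iff.mp hh x⁻¹).1 ((Q : Subgroup G).inv_mem hxQ), ?_⟩
    intro h1
    rw [Set.mem_singleton_iff] at h1
    apply hx1
    have : x⁻¹ = h⁻¹ * (h * x⁻¹ * h⁻¹) * h := by group
    rw [h1] at this
    have h2 : x⁻¹ = 1 := by rw [this]; group
    exact inv_eq_one.mp h2
  have hdisj : Disjoint O1 O2 := by
    rw [Set.disjoint_left]
    rintro y ⟨h, hh, rfl⟩ ⟨h', hh', he⟩
    -- g = h'⁻¹ h inverts x
    have hg : (h'⁻¹ * h) * x * (h'⁻¹ * h)⁻¹ = x⁻¹ := by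
      calc (h'⁻¹ * h) * x * (h'⁻¹ * h)⁻¹ = h'⁻¹ * (h * x * h⁻¹) * h' := by group
        _ = h'⁻¹ * (h' * x⁻¹ * h'⁻¹) * h' := by rw [he]
        _ = x⁻¹ := by group
    have hgH : h'⁻¹ * h ∈ H := H.mul_mem (H.inv_mem hh') hh
    have hgM : h'⁻¹ * h ∈ M := mem_normalizer_zpowers_of_inv x _ hg
    have hgQ : h'⁻¹ * h ∈ (Q : Subgroup G) := by rw [← hL]; exact ⟨hgH, hgM⟩
    have hcomm := hQx _ hgQ
    have : x = x⁻¹ := by
      rw [← hg, hcomm]; group
    have hx2 : x ^ 2 = 1 := by
      rw [pow_two]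
      nth_rewrite 1 [this]
      exact inv_mul_cancel x
    have := orderOf_dvd_of_pow_eq_one hx2
    rw [hxo] at this
    omega
  have hunion : (O1 ∪ O2).ncard = O1.ncard + O2.ncard :=
    Set.ncard_union_eq hdisj (Set.toFinite _) (Set.toFinite _)
  have hsub : O1 ∪ O2 ⊆ S := Set.union_subset hO1S hO2S
  have hle : O1.ncard + O2.ncard ≤ 8 := by
    rw [← hunion, ← hScard]
    exact Set.ncard_le_ncard hsub hSfin
  -- numerics
  have hHidx : Nat.card H * Nat.card (Sylow 3 G) = 4680 := by
    rw [Sylow.card_eq_index_normalizer Q, ← hn]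
    exact Subgroup.card_mul_index H
  have hn3 : Nat.card (Sylow 3 G) % 3 = 1 := by
    have := card_sylow_modEq_one 3 G
    unfold Nat.ModEq at this
    rw [this]
  set m := O1.ncard with hm
  have hm2 : O2.ncard = m := by
    have : O2.ncard * 3 ^ 2 = m * 3 ^ 2 := by rw [hc2, hc1]
    exact Nat.eq_of_mul_eq_mul_right (by norm_num) this
  rw [hm2] at hle
  set n3 := Nat.card (Sylow 3 G) with hn3def
  have hmn : m * n3 = 520 := by
    have : 9 * (m * n3) = 9 * 520 := by
      have e : 9 * (m * n3) = (m * 3 ^ 2) * n3 := by ring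
      rw [e, hc1, hHidx]
    exact Nat.eq_of_mul_eq_mul_left (by norm_num) this
  have hm4 : m ≤ 4 := by omega
  have hmcases : m = 1 ∨ m = 4 := by
    have hmd : m ∣ 520 := ⟨n3, hmn.symm⟩
    interval_cases m
    · omega
    · left; rfl
    · exfalso
      have : n3 = 260 := by omega
      rw [this] at hn3; omega
    · omega
    · right; rfl
  rcases hmcases with hm1 | hm4'
  · -- H = Q: Burnside
    exfalso
    have hHQ : Nat.card H = 9 := by rw [← hc1, hm1]; norm_num
    have hHeq : (Q : Subgroup G) = H :=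
      Subgroup.eq_of_le_of_card_ge hQH (by rw [hHQ, hQc]; norm_num)
    have hNC : Subgroup.normalizer ((Q : Subgroup G) : Set G) ≤
        Subgroup.centralizer ((Q : Subgroup G) : Set G) := by
      intro g hg
      have hgQ : g ∈ (Q : Subgroup G) := by rw [hHeq]; exact hg
      rw [Subgroup.mem_centralizer_iff]
      intro a ha
      exact hQab a ha g hgQ
    have := Cfsg.Agent.Lib.Helper7.card_eq_prime_of_simple_of_normalizer_le_centralizer Q
      (by rw [hn]; norm_num) hNC
    rw [hn] at this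
    omega
  · -- all elements of Q \ {1} are conjugate to x or x⁻¹
    have hall : O1 ∪ O2 = S := by
      apply Set.eq_of_subset_of_ncard_le hsub _ hSfin
      rw [hunion, hm2, hm4', hScard]
    intro y v hyo hvo hyv
    have hpgy : IsPGroup 3 (Subgroup.zpowers y) :=
      IsPGroup.of_card (n := 1) (by rw [Nat.card_zpowers, hyo, pow_one])
    obtain ⟨Q', hQ'⟩ := hpgy.exists_le_sylow
    obtain ⟨g, hg⟩ := MulAction.exists_smul_eq G Q' Q
    have hyQ' : y ∈ (Q' : Subgroup G) := hQ' (Subgroup.mem_zpowers y)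
    have hy' : g * y * g⁻¹ ∈ (Q : Subgroup G) := by
      rw [← hg, Sylow.coe_subgroup_smul, Subgroup.mem_pointwise_smul_iff_inv_smul_mem]
      simp only [MulAut.smul_def, MulAut.conj_inv_apply]
      have : g⁻¹ * (g * y * g⁻¹) * g = y := by group
      rw [this]; exact hyQ'
    have hy1 : g * y * g⁻¹ ≠ 1 := by
      intro h1
      have : y = g⁻¹ * (g * y * g⁻¹) * g := by group
      rw [h1] at this
      have hy1 : y = 1 := by rw [this]; group
      rw [hy1, orderOf_one] at hyo; omega
    have hyS : g * y * g⁻¹ ∈ S := ⟨hy', hy1⟩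
    rw [← hall] at hyS
    -- v' = g v g⁻¹ commutes with g y g⁻¹
    have hv'o : orderOf (g * v * g⁻¹) = 5 := by rw [orderOf_conj']; exact hvo
    have hcomm' : Commute (g * y * g⁻¹) (g * v * g⁻¹) := by
      show g * y * g⁻¹ * (g * v * g⁻¹) = g * v * g⁻¹ * (g * y * g⁻¹)
      calc g * y * g⁻¹ * (g * v * g⁻¹) = g * (y * v) * g⁻¹ := by group
        _ = g * (v * y) * g⁻¹ := by rw [hyv.eq]
        _ = g * v * g⁻¹ * (g * y * g⁻¹) := by group
    have key : ∀ (e : G), (e = x ∨ e = x⁻¹) → ∀ h : G, h * e * h⁻¹ = g * y * g⁻¹ → False := by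
      intro e he h hhe
      set u := h⁻¹ * (g * v * g⁻¹) * h with hu
      have huo : orderOf u = 5 := by
        have : u = h⁻¹ * (g * v * g⁻¹) * h⁻¹⁻¹ := by rw [inv_inv]
        rw [this, orderOf_conj']; exact hv'o
      have hue : u * e = e * u := by
        have h1 : e = h⁻¹ * (g * y * g⁻¹) * h := by rw [← hhe]; group
        rw [hu, h1]
        calc h⁻¹ * (g * v * g⁻¹) * h * (h⁻¹ * (g * y * g⁻¹) * h)
            = h⁻¹ * ((g * v * g⁻¹) * (g * y * g⁻¹)) * h := by group
          _ = h⁻¹ * ((g * y * g⁻¹) * (g * v * g⁻¹)) * h := by rw [hcomm'.eq]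
          _ = h⁻¹ * (g * y * g⁻¹) * h * (h⁻¹ * (g * v * g⁻¹) * h) := by group
      have hux : u * x = x * u := by
        rcases he with rfl | rfl
        · exact hue
        · have : Commute u x⁻¹ := hue
          exact (Commute.inv_right_iff.mp this).eq
      have huM : u ∈ M := hCxM u hux
      have : orderOf u ∣ Nat.card M := by
        have := orderOf_dvd_natCard (⟨u, huM⟩ : M)
        rwa [Subgroup.orderOf_mk] at this
      rw [huo, hM] at this
      omega
    rcases hyS with ⟨h, _, hh⟩ | ⟨h, _, hh⟩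
    · exact key x (Or.inl rfl) h hh
    · exact key x⁻¹ (Or.inr rfl) h hh

/-- There is no non-abelian simple group of order 4680. -/
theorem no_4680 [IsSimpleGroup G] (hG : ¬ IsMulCommutative G) : Nat.card G ≠ 4680 := by
  intro hn
  haveI h13 : Fact (Nat.Prime 13) := ⟨by norm_num⟩
  haveI h5 : Fact (Nat.Prime 5) := ⟨by norm_num⟩
  haveI h3 : Fact (Nat.Prime 3) := ⟨by norm_num⟩
  -- Sylow data at 13
  obtain ⟨t13, ht13, hp13, hsd13⟩ :=
    exists_mem_triples hG 4680 13 hn (by norm_num) (by norm_num) (by norm_num) (by norm_num)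
  have htr13 : triples 4680 13 = [(40, 3, 3)] := by decide +kernel
  rw [htr13, List.mem_singleton] at ht13
  subst ht13
  have hsd13' : IsSD G 13 40 3 3 := hsd13
  have hno := no_comm_3_5 hG hn hsd13'
  -- Sylow data at 5
  obtain ⟨t5, ht5, hp5, hsd5⟩ :=
    exists_mem_triples hG 4680 5 hn (by norm_num) (by norm_num) (by norm_num) (by norm_num)
  have htr5 : triples 4680 5 = [(26, 2, 18), (26, 4, 9), (36, 2, 13), (156, 2, 3)] := by
    decide +kernel
  rw [htr5] at ht5
  -- if 3 divides c₅ we get commuting elements of orders 3 and 5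
  have hkill3 : ∀ k e c : ℕ, IsSD G 5 k e c → 3 ∣ c → False := by
    intro k e c hsd hc
    obtain ⟨P5⟩ : Nonempty (Sylow 5 G) := inferInstance
    have hC5 := hsd.card_C P5
    have h3C : 3 ∣ Nat.card (Subgroup.centralizer ((P5 : Subgroup G) : Set G)) := by
      rw [hC5]; exact Dvd.dvd.mul_left hc 5
    obtain ⟨y0, hy0⟩ := exists_prime_orderOf_dvd_card' 3 h3C
    have hyo : orderOf (y0 : G) = 3 := by rw [Subgroup.orderOf_coe]; exact hy0
    obtain ⟨v0, hv0⟩ := exists_prime_orderOf_dvd_card' (G := (P5 : Subgroup G)) 5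
      (by rw [hsd.card_P P5])
    have hvo : orderOf (v0 : G) = 5 := by rw [Subgroup.orderOf_coe]; exact hv0
    have hcomm : Commute (y0 : G) (v0 : G) :=
      ((Subgroup.mem_centralizer_iff.mp y0.2) (v0 : G) v0.2).symm
    exact hno _ _ hyo hvo hcomm
  simp only [List.mem_cons, List.not_mem_nil, or_false] at ht5
  rcases ht5 with rfl | rfl | rfl | rfl
  · exact hkill3 _ _ _ hsd5 (by norm_num)
  · exact hkill3 _ _ _ hsd5 (by norm_num)
  · have hsd5' : IsSD G 5 36 2 13 := hsd5
    have := IsSD.adj hsd5' hsd13' (by norm_num) (dvd_refl 13)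
    omega
  · exact hkill3 _ _ _ hsd5 (by norm_num)

end Cfsg.Agent.Lib.Helper25.Ord4680
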