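import Mathlib
import Cfsg.Agent.H5.SmallOrdD

/-!
# No non-abelian simple group of order 5400 = 2^3 * 3^3 * 5^2 (helper25, for S0983)
-/

set_option autoImplicit false
set_option linter.unusedSectionVars false
set_option linter.unusedVariables false
set_option linter.style.haveILetI false
set_option maxRecDepth 100000

namespace Cfsg.Agent.Lib.Helper25.Ord5400

open Cfsg.H5.SmallOrd
open scoped Pointwise

variable {G : Type*} [Group G] [Finite G]

/-- Sylow subgroups of a subgroup `K` containing a Sylow subgroup of `G` correspond to the Sylow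
subgroups of `G` inside `K`. -/
theorem card_sylow_subgroup {p : ℕ} [Fact p.Prime] (K : Subgroup G) (P : Sylow p G)
    (hP : (P : Subgroup G) ≤ K) :
    Nat.card (Sylow p K) = Nat.card {R : Sylow p G // (R : Subgroup G) ≤ K} := by
  symm
  apply Nat.card_congr
  refine Equiv.ofBijective (fun R => R.1.subtype R.2) ⟨?_, ?_⟩
  · rintro ⟨R₁, h₁⟩ ⟨R₂, h₂⟩ h
    exact Subtype.ext (Sylow.subtype_injective h)
  · intro Q
    have hc : Nat.card ((Q : Subgroup K).map K.subtype) = p ^ (Nat.card G).factorization p := by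
      rw [Subgroup.card_map_of_injective K.subtype_injective, Q.card_eq_multiplicity,
        ← (P.subtype hP).card_eq_multiplicity, ← P.card_eq_multiplicity]
      exact Nat.card_congr (Subgroup.subgroupOfEquivOfLe hP).toEquiv
    refine ⟨⟨Sylow.ofCard _ hc, ?_⟩, ?_⟩
    · exact Subgroup.map_subtype_le _
    · apply Sylow.ext
      rw [Sylow.coe_subtype, Sylow.coe_ofCard]
      exact Subgroup.comap_map_eq_self_of_injective K.subtype_injective _

/-- In a subgroup `K ≥ P`: `|K| = |K ⊓ N_G(P)| * n_p(K)`. -/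
theorem card_eq_card_inf_normalizer_mul {p : ℕ} [Fact p.Prime] (P : Sylow p G) (K : Subgroup G)
    (hPK : (P : Subgroup G) ≤ K) :
    Nat.card K =
      Nat.card (K ⊓ Subgroup.normalizer ((P : Subgroup G) : Set G) : Subgroup G) *
        Nat.card (Sylow p K) := by
  have h1 : Nat.card (Sylow p K) =
      (Subgroup.normalizer (((P.subtype hPK : Sylow p K) : Subgroup K) : Set K)).index :=
    Sylow.card_eq_index_normalizer _
  have h2 : ((P.subtype hPK : Sylow p K) : Subgroup K) = (P : Subgroup G).subgroupOf K := rfl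
  rw [h2, ← Subgroup.subgroupOf_normalizer_eq hPK] at h1
  have h3 := Subgroup.card_mul_index
    ((Subgroup.normalizer ((P : Subgroup G) : Set G)).subgroupOf K)
  rw [← h1, card_subgroupOf_eq_card_inf] at h3
  exact h3.symm

/-- a `p`-subgroup `L` lies in a Sylow `p`-subgroup `R` normalizing it -/
theorem le_sylow_of_le_normalizer {p : ℕ} [Fact p.Prime] (L : Subgroup G) (hL : IsPGroup p L)
    (R : Sylow p G) (hR : (R : Subgroup G) ≤ Subgroup.normalizer (L : Set G)) :
    L ≤ (R : Subgroup G) := by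
  have h1 : IsPGroup p (L ⊔ (R : Subgroup G) : Subgroup G) :=
    hL.to_sup_of_normal_left' R.isPGroup' hR
  have h2 := R.is_maximal' h1 le_sup_right
  rw [← h2]
  exact le_sup_left

/-- an abelian subgroup `R` containing `L` normalizes `L` -/
theorem le_normalizer_of_comm (L R : Subgroup G) (hLR : L ≤ R)
    (hab : ∀ a ∈ R, ∀ b ∈ R, a * b = b * a) : R ≤ Subgroup.normalizer (L : Set G) := by
  intro r hr
  rw [Subgroup.mem_normalizer_iff]
  intro h
  constructor
  · intro hh
    have : r * h * r⁻¹ = h := by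
      rw [hab r hr h (hLR hh)]; group
    rw [this]; exact hh
  · intro hh
    have h1 : r⁻¹ * (r * h * r⁻¹) = (r * h * r⁻¹) * r⁻¹ :=
      hab _ (R.inv_mem hr) _ (hLR hh)
    have h2 : h = r * h * r⁻¹ := by
      calc h = r⁻¹ * (r * h * r⁻¹) * r := by group
        _ = (r * h * r⁻¹) * r⁻¹ * r := by rw [h1]
        _ = r * h * r⁻¹ := by group
    rw [h2]; exact hh

/-- the Sylow subgroups over `L ≤ P` are the Sylow subgroups of `N(L)` (abelian Sylow case) -/
theorem card_over_eq {p : ℕ} [Fact p.Prime] (P : Sylow p G) (L : Subgroup G)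
    (hLP : L ≤ (P : Subgroup G))
    (hab : ∀ R : Sylow p G, ∀ a ∈ (R : Subgroup G), ∀ b ∈ (R : Subgroup G), a * b = b * a) :
    Nat.card {R : Sylow p G // L ≤ (R : Subgroup G)} =
      Nat.card (Sylow p (Subgroup.normalizer (L : Set G))) := by
  rw [card_sylow_subgroup _ P (le_normalizer_of_comm L P hLP (hab P))]
  apply Nat.card_congr
  apply Equiv.subtypeEquivRight
  intro R
  constructor
  · intro h; exact le_normalizer_of_comm L R h (hab R)
  · intro h; exact le_sylow_of_le_normalizer L (P.isPGroup'.to_le hLP) R h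

theorem index_ge_ten {i : ℕ} (h : 2 * 5400 ∣ i.factorial) : 10 ≤ i := by
  by_contra hlt
  push Not at hlt
  have h1 : i.factorial ∣ (9).factorial := Nat.factorial_dvd_factorial (by omega)
  have h2 := h.trans h1
  revert h2
  decide

/-- the number of Sylow 5-subgroups of the normalizer of a proper nontrivial subgroup
normalized by a Sylow 5-subgroup is 1 or 6 -/
theorem card_sylow_normalizer [IsSimpleGroup G] (hG : ¬ IsMulCommutative G)
    (hn : Nat.card G = 5400) [Fact (Nat.Prime 5)] (P : Sylow 5 G) (L : Subgroup G)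
    (hL1 : L ≠ ⊥) (hL2 : L ≠ ⊤)
    (hPL : (P : Subgroup G) ≤ Subgroup.normalizer (L : Set G)) :
    Nat.card (Sylow 5 (Subgroup.normalizer (L : Set G))) = 1 ∨
      Nat.card (Sylow 5 (Subgroup.normalizer (L : Set G))) = 6 := by
  set K : Subgroup G := Subgroup.normalizer (L : Set G) with hK
  have hcard : Nat.card G = 5 ^ 2 * 216 := by rw [hn]; norm_num
  have hPc : Nat.card (P : Subgroup G) = 5 ^ 2 := sylow_card 5 2 216 (by norm_num) hcard P
  have hKtop : K ≠ ⊤ := by
    intro h
    rw [hK, Subgroup.normalizer_eq_top_iff] at h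
    exact Cfsg.Agent.S0493.false_of_normal L h hL1 hL2
  have hfact := two_card_dvd_factorial_index hG K hKtop
  rw [hn] at hfact
  have hi := index_ge_ten hfact
  have hidx := Subgroup.card_mul_index K
  rw [hn] at hidx
  have hmod : Nat.card (Sylow 5 K) % 5 = 1 := by
    have := card_sylow_modEq_one 5 K
    unfold Nat.ModEq at this
    rw [this]
  have h1 := card_eq_card_inf_normalizer_mul P K hPL
  have h2 : Nat.card (P : Subgroup G) ∣
      Nat.card (K ⊓ Subgroup.normalizer ((P : Subgroup G) : Set G) : Subgroup G) :=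
    Subgroup.card_dvd_of_le (le_inf hPL Subgroup.le_normalizer)
  rw [hPc] at h2
  obtain ⟨j, hj⟩ := h2
  rw [hj] at h1
  rw [h1] at hidx
  set d := Nat.card (Sylow 5 K) with hd
  set i := K.index with hi'
  have h3 : d * (j * i) = 216 := by
    have : 5 ^ 2 * (d * (j * i)) = 5 ^ 2 * 216 := by
      have h5 : (5400 : ℕ) = 5 ^ 2 * 216 := by norm_num
      rw [← h5, ← hidx]; ring
    exact Nat.eq_of_mul_eq_mul_left (by norm_num) this
  have hj0 : 0 < j := by
    rcases Nat.eq_zero_or_pos j with h | h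
    · rw [h] at h3; simp at h3
    · exact h
  have hd21 : d ≤ 21 := by
    have : d * 10 ≤ d * (j * i) := by
      apply Nat.mul_le_mul_left
      calc 10 = 1 * 10 := by norm_num
        _ ≤ j * i := Nat.mul_le_mul hj0 hi
    omega
  have hdvd : d ∣ 216 := Dvd.intro _ h3
  clear_value d
  clear h3 h1 hidx hj
  interval_cases d <;> first | (left; rfl) | (right; rfl) | (exfalso; revert hmod; decide) | (exfalso; revert hdvd; decide)

theorem card_over_conj {p : ℕ} [Fact p.Prime] (y : G) (L : Subgroup G) :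
    Nat.card {R : Sylow p G // MulAut.conj y • L ≤ (R : Subgroup G)} =
      Nat.card {R : Sylow p G // L ≤ (R : Subgroup G)} := by
  symm
  apply Nat.card_congr
  refine (MulAction.toPerm y : Equiv.Perm (Sylow p G)).subtypeEquiv ?_
  intro R
  show L ≤ R ↔ MulAut.conj y • L ≤ ((y • R : Sylow p G) : Subgroup G)
  rw [Sylow.coe_subgroup_smul, Subgroup.pointwise_smul_le_pointwise_smul_iff]

theorem mem_normalizer_of_conj_smul_eq (y : G) (D : Subgroup G)
    (h : MulAut.conj y • D = D) : y ∈ Subgroup.normalizer (D : Set G) := by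
  rw [Subgroup.mem_normalizer_iff]
  intro x
  have h1 : MulAut.conj y • x ∈ MulAut.conj y • D ↔ x ∈ D :=
    Subgroup.smul_mem_pointwise_smul_iff
  rw [h] at h1
  rw [← h1]
  rfl

theorem conj_smul_le_sylow {p : ℕ} [Fact p.Prime] (P : Sylow p G) (y : G)
    (hy : y ∈ Subgroup.normalizer ((P : Subgroup G) : Set G)) (L : Subgroup G)
    (hL : L ≤ (P : Subgroup G)) : MulAut.conj y • L ≤ (P : Subgroup G) := by
  have h1 : y • P = P := Sylow.smul_eq_iff_mem_normalizer.mpr hy
  have h2 : MulAut.conj y • (P : Subgroup G) = (P : Subgroup G) := by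
    rw [← Sylow.coe_subgroup_smul, h1]
  rw [← h2, Subgroup.pointwise_smul_le_pointwise_smul_iff]
  exact hL

theorem card_conj_smul (y : G) (L : Subgroup G) :
    Nat.card (MulAut.conj y • L : Subgroup G) = Nat.card L :=
  (Nat.card_congr (Subgroup.equivSMul (MulAut.conj y) L).toEquiv).symm

/-- two distinct subgroups of order 5 of a Sylow subgroup `P` of order 25 lie in no other
Sylow subgroup -/
theorem eq_of_two_lines [Fact (Nat.Prime 5)] (P R : Sylow 5 G)
    (hPc : Nat.card (P : Subgroup G) = 25) (L₁ L₂ : Subgroup G) (h1 : Nat.card L₁ = 5)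
    (h2 : Nat.card L₂ = 5) (hne : L₁ ≠ L₂) (h1P : L₁ ≤ (P : Subgroup G))
    (h2P : L₂ ≤ (P : Subgroup G)) (h1R : L₁ ≤ (R : Subgroup G))
    (h2R : L₂ ≤ (R : Subgroup G)) : R = P := by
  have hJP : L₁ ⊔ L₂ ≤ (P : Subgroup G) := sup_le h1P h2P
  have hJR : L₁ ⊔ L₂ ≤ (R : Subgroup G) := sup_le h1R h2R
  have hd1 : Nat.card (L₁ ⊔ L₂ : Subgroup G) ∣ 5 ^ 2 := by
    have := Subgroup.card_dvd_of_le hJP
    rw [hPc] at this
    exact this
  have hd2 : 5 ∣ Nat.card (L₁ ⊔ L₂ : Subgroup G) := by
    have := Subgroup.card_dvd_of_le (le_sup_left : L₁ ≤ L₁ ⊔ L₂)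
    rwa [h1] at this
  obtain ⟨k, hk, hkc⟩ := (Nat.dvd_prime_pow (by norm_num : Nat.Prime 5)).mp hd1
  have hk' : k = 0 ∨ k = 1 ∨ k = 2 := by omega
  rcases hk' with rfl | rfl | rfl
  · rw [hkc] at hd2; norm_num at hd2
  · exfalso
    apply hne
    have e1 : L₁ = L₁ ⊔ L₂ :=
      Subgroup.eq_of_le_of_card_ge le_sup_left (by rw [hkc, h1]; norm_num)
    have e2 : L₂ = L₁ ⊔ L₂ :=
      Subgroup.eq_of_le_of_card_ge le_sup_right (by rw [hkc, h2]; norm_num)
    rw [e1]; exact e2.symm
  · have e : L₁ ⊔ L₂ = (P : Subgroup G) :=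
      Subgroup.eq_of_le_of_card_ge hJP (by rw [hkc, hPc]; norm_num)
    rw [e] at hJR
    exact (sylow_eq_of_le 5 P R hJR).symm

/-- the Sylow subgroups meeting `P` trivially come in `P`-orbits of length `|P|` -/
theorem card_trivial_inter_ge {p : ℕ} [Fact p.Prime] (P R : Sylow p G)
    (hPR : (P : Subgroup G) ⊓ (R : Subgroup G) = ⊥) (hne : R ≠ P) :
    Nat.card (P : Subgroup G) ≤
      Nat.card {R' : Sylow p G // R' ≠ P ∧ (P : Subgroup G) ⊓ (R' : Subgroup G) = ⊥} := by
  have hsm : ∀ g : G, g ∈ (P : Subgroup G) → g • P = P := fun g hg =>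
    Sylow.smul_eq_iff_mem_normalizer.mpr (Subgroup.le_normalizer hg)
  have hf : ∀ g : (P : Subgroup G), ((g : G) • R ≠ P ∧
      (P : Subgroup G) ⊓ (((g : G) • R : Sylow p G) : Subgroup G) = ⊥) := by
    intro g
    constructor
    · intro h
      apply hne
      have h2 : R = (g : G)⁻¹ • P := by
        calc R = (g : G)⁻¹ • ((g : G) • R) := (inv_smul_smul _ _).symm
          _ = (g : G)⁻¹ • P := by rw [h]
      rw [h2]
      exact hsm _ ((P : Subgroup G).inv_mem g.2)
    · have h1 : MulAut.conj (g : G) • (P : Subgroup G) = (P : Subgroup G) :=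
        Subgroup.conj_smul_eq_self_of_mem g.2
      rw [Sylow.coe_subgroup_smul]
      nth_rewrite 1 [← h1]
      rw [← Subgroup.smul_inf, hPR, Subgroup.smul_bot]
  apply Nat.card_le_card_of_injective
    (fun g : (P : Subgroup G) => (⟨(g : G) • R, hf g⟩ :
      {R' : Sylow p G // R' ≠ P ∧ (P : Subgroup G) ⊓ (R' : Subgroup G) = ⊥}))
  intro g h hgh
  have h1 : (g : G) • R = (h : G) • R := congrArg Subtype.val hgh
  have h2 : ((h : G)⁻¹ * (g : G)) • R = R := by
    rw [mul_smul, h1, inv_smul_smul]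
  have h3 : (h : G)⁻¹ * (g : G) ∈ Subgroup.normalizer ((R : Subgroup G) : Set G) :=
    Sylow.smul_eq_iff_mem_normalizer.mp h2
  have h4 : (h : G)⁻¹ * (g : G) ∈ (P : Subgroup G) :=
    (P : Subgroup G).mul_mem ((P : Subgroup G).inv_mem h.2) g.2
  have h6 := P.isPGroup'.inf_normalizer_sylow R
  have h5 : (h : G)⁻¹ * (g : G) ∈ ((P : Subgroup G) ⊓ (R : Subgroup G) : Subgroup G) := by
    rw [← h6]; exact ⟨h4, h3⟩
  rw [hPR, Subgroup.mem_bot] at h5
  apply Subtype.ext
  have : (g : G) = (h : G) * ((h : G)⁻¹ * (g : G)) := by group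
  rw [this, h5, mul_one]

/-- a group of order 450 has a normal Sylow 5-subgroup -/
theorem card_sylow_five_of_card_450 (K : Type*) [Group K] [Finite K] (hK : Nat.card K = 450)
    [Fact (Nat.Prime 5)] : Nat.card (Sylow 5 K) = 1 := by
  haveI : Fact (Nat.Prime 2) := ⟨Nat.prime_two⟩
  obtain ⟨S⟩ : Nonempty (Sylow 2 K) := inferInstance
  have hSc : Nat.card (S : Subgroup K) = 2 := by
    have := sylow_card 2 1 225 (by norm_num) (by rw [hK]; norm_num) S
    simpa using this
  have hrel := relIndex_centralizer_normalizer_dvd_prime (S : Subgroup K) Nat.prime_two hSc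
  have hrel1 : (Subgroup.centralizer ((S : Subgroup K) : Set K)).relIndex
      (Subgroup.normalizer ((S : Subgroup K) : Set K)) = 1 := Nat.dvd_one.mp hrel
  have hle : Subgroup.normalizer ((S : Subgroup K) : Set K) ≤
      Subgroup.centralizer ((S : Subgroup K) : Set K) := Subgroup.relIndex_eq_one.mp hrel1
  have hc := MonoidHom.ker_transferSylow_isComplement' S hle
  set N : Subgroup K := (MonoidHom.transferSylow S hle).ker with hN
  have hNc : Nat.card N = 225 := by
    have := hc.card_mul_card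
    rw [hSc, hK] at this
    omega
  have hNc' : Nat.card N = 5 ^ 2 * 9 := by rw [hNc]; norm_num
  obtain ⟨Q⟩ : Nonempty (Sylow 5 N) := inferInstance
  have hn1 : Nat.card (Sylow 5 N) = 1 := by
    have hdiv : Nat.card (Sylow 5 N) ∣ 9 := by
      have := Q.card_dvd_index
      rwa [sylow_index 5 2 9 (by norm_num) hNc' Q] at this
    have hmod : Nat.card (Sylow 5 N) % 5 = 1 := by
      have := card_sylow_modEq_one 5 N
      unfold Nat.ModEq at this
      rw [this]
    have hle9 : Nat.card (Sylow 5 N) ≤ 9 := Nat.le_of_dvd (by norm_num) hdiv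
    generalize Nat.card (Sylow 5 N) = d at *
    interval_cases d <;> first | rfl | (exfalso; revert hmod; decide) | (exfalso; revert hdiv; decide)
  haveI : Subsingleton (Sylow 5 N) := (Nat.card_eq_one_iff_unique.mp hn1).1
  haveI : (Q : Subgroup N).Characteristic := Sylow.characteristic_of_subsingleton Q
  haveI : N.Normal := MonoidHom.normal_ker _
  have hnorm : ((Q : Subgroup N).map N.subtype).Normal :=
    ConjAct.normal_of_characteristic_of_normal
  obtain ⟨P0⟩ : Nonempty (Sylow 5 K) := inferInstance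
  have hQc : Nat.card ((Q : Subgroup N).map N.subtype) = 5 ^ (Nat.card K).factorization 5 := by
    rw [Subgroup.card_map_of_injective N.subtype_injective, sylow_card 5 2 9 (by norm_num) hNc' Q,
      ← sylow_card 5 2 18 (by norm_num) (by rw [hK]; norm_num) P0, P0.card_eq_multiplicity]
  have hQn : ((Sylow.ofCard _ hQc : Sylow 5 K) : Subgroup K).Normal := hnorm
  haveI := Sylow.unique_of_normal (Sylow.ofCard _ hQc : Sylow 5 K) hQn
  exact Nat.card_unique

theorem sylow_card_25 [Fact (Nat.Prime 5)] (hn : Nat.card G = 5400) (R : Sylow 5 G) :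
    Nat.card (R : Subgroup G) = 25 := by
  have := sylow_card 5 2 216 (by norm_num) (by rw [hn]; norm_num) R
  simpa using this

theorem sylow_comm [Fact (Nat.Prime 5)] (hn : Nat.card G = 5400) (R : Sylow 5 G) :
    ∀ a ∈ (R : Subgroup G), ∀ b ∈ (R : Subgroup G), a * b = b * a := by
  intro a ha b hb
  have h := sylow_card_25 hn R
  have h2 : Nat.card (R : Subgroup G) = 5 ^ 2 := by rw [h]; norm_num
  have := (IsPGroup.isMulCommutative_of_card_eq_prime_sq h2).is_comm.comm ⟨a, ha⟩ ⟨b, hb⟩
  exact congrArg Subtype.val this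

theorem card_over_line [IsSimpleGroup G] (hG : ¬ IsMulCommutative G) [Fact (Nat.Prime 5)]
    (hn : Nat.card G = 5400) (P : Sylow 5 G) (L : Subgroup G) (hL : Nat.card L = 5)
    (hLP : L ≤ (P : Subgroup G)) :
    Nat.card {R : Sylow 5 G // L ≤ (R : Subgroup G)} = 1 ∨
      Nat.card {R : Sylow 5 G // L ≤ (R : Subgroup G)} = 6 := by
  rw [card_over_eq P L hLP (sylow_comm hn)]
  apply card_sylow_normalizer hG hn P L
  · rintro rfl
    rw [Subgroup.card_bot] at hL
    omega
  · rintro rfl
    rw [Subgroup.card_top, hn] at hL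
    omega
  · exact le_normalizer_of_comm L P hLP (sylow_comm hn P)

theorem card_mem_le [IsSimpleGroup G] (hG : ¬ IsMulCommutative G) [Fact (Nat.Prime 5)]
    (hn : Nat.card G = 5400) (P : Sylow 5 G) (g : G) (hgP : g ∈ (P : Subgroup G))
    (hg1 : g ≠ 1) :
    Nat.card {R : Sylow 5 G // g ∈ (R : Subgroup G)} ≤ 6 := by
  have hPc := sylow_card_25 hn P
  have hord : orderOf g ∣ 5 ^ 2 := by
    have h1 : orderOf (⟨g, hgP⟩ : (P : Subgroup G)) ∣ Nat.card (P : Subgroup G) :=
      orderOf_dvd_natCard _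
    rw [Subgroup.orderOf_mk, hPc] at h1
    exact h1
  obtain ⟨k, hk, hkc⟩ := (Nat.dvd_prime_pow (by norm_num : Nat.Prime 5)).mp hord
  have hzc : Nat.card (Subgroup.zpowers g) = 5 ^ k := by rw [Nat.card_zpowers, hkc]
  have hzP : Subgroup.zpowers g ≤ (P : Subgroup G) := by
    rw [Subgroup.zpowers_le]; exact hgP
  have hcongr : Nat.card {R : Sylow 5 G // g ∈ (R : Subgroup G)} =
      Nat.card {R : Sylow 5 G // Subgroup.zpowers g ≤ (R : Subgroup G)} := by
    apply Nat.card_congr
    apply Equiv.subtypeEquivRight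
    intro R
    rw [Subgroup.zpowers_le]
  have hk' : k = 0 ∨ k = 1 ∨ k = 2 := by omega
  rcases hk' with rfl | rfl | rfl
  · exfalso
    apply hg1
    rw [← orderOf_eq_one_iff, hkc]; norm_num
  · rw [hcongr]
    rcases card_over_line hG hn P _ (by rw [hzc]; norm_num) hzP with h | h <;> omega
  · rw [hcongr]
    have e : Subgroup.zpowers g = (P : Subgroup G) :=
      Subgroup.eq_of_le_of_card_ge hzP (by rw [hzc, hPc]; norm_num)
    have hss : Subsingleton {R : Sylow 5 G // Subgroup.zpowers g ≤ (R : Subgroup G)} := by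
      constructor
      rintro ⟨R₁, h₁⟩ ⟨R₂, h₂⟩
      apply Subtype.ext
      rw [e] at h₁ h₂
      show R₁ = R₂
      rw [← sylow_eq_of_le 5 P R₁ h₁, ← sylow_eq_of_le 5 P R₂ h₂]
    have := Finite.card_le_one_iff_subsingleton.mpr hss
    omega

theorem card_filter_eq {α : Type*} [Fintype α] (q : α → Prop) [DecidablePred q] :
    (Finset.univ.filter q).card = Nat.card {a : α // q a} := by
  rw [Nat.card_eq_fintype_card, Fintype.card_subtype]

/-- double counting: at most 30 Sylow subgroups `≠ P` meet `P` nontrivially -/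
theorem four_mul_card_le [IsSimpleGroup G] (hG : ¬ IsMulCommutative G) [Fact (Nat.Prime 5)]
    (hn : Nat.card G = 5400) (P : Sylow 5 G) :
    Nat.card {R : Sylow 5 G // R ≠ P ∧ (P : Subgroup G) ⊓ (R : Subgroup G) ≠ ⊥} * 4 ≤ 24 * 5 := by
  classical
  letI := Fintype.ofFinite (Sylow 5 G)
  letI := Fintype.ofFinite (P : Subgroup G)
  have hPc := sylow_card_25 hn P
  set s : Finset (Sylow 5 G) :=
    Finset.univ.filter (fun R => R ≠ P ∧ (P : Subgroup G) ⊓ (R : Subgroup G) ≠ ⊥) with hs
  set t : Finset (P : Subgroup G) := Finset.univ.erase 1 with ht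
  have htc : t.card = 24 := by
    rw [ht, Finset.card_erase_of_mem (Finset.mem_univ _), Finset.card_univ,
      ← Nat.card_eq_fintype_card, hPc]
  have hsc : s.card =
      Nat.card {R : Sylow 5 G // R ≠ P ∧ (P : Subgroup G) ⊓ (R : Subgroup G) ≠ ⊥} :=
    card_filter_eq _
  rw [← hsc, ← htc]
  apply Finset.card_mul_le_card_mul
    (fun (R : Sylow 5 G) (g : (P : Subgroup G)) => (g : G) ∈ (R : Subgroup G))
  · intro R hR
    rw [hs, Finset.mem_filter] at hR
    obtain ⟨-, hRP, hne⟩ := hR
    obtain ⟨x, hx1⟩ := (Subgroup.ne_bot_iff_exists_ne_one).mp hne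
    set x' : (P : Subgroup G) := ⟨x.1, x.2.1⟩ with hx'
    have hx'1 : x' ≠ 1 := by
      intro h
      apply hx1
      apply Subtype.ext
      have h' : ((x' : (P : Subgroup G)) : G) = ((1 : (P : Subgroup G)) : G) :=
        congrArg Subtype.val h
      exact h'
    have hord : orderOf x' ∣ 5 ^ 2 := by
      have h1 : orderOf x' ∣ Nat.card (P : Subgroup G) := orderOf_dvd_natCard _
      rw [hPc] at h1
      exact h1
    have h5 : 5 ≤ orderOf x' := by
      obtain ⟨k, hk, hkc⟩ := (Nat.dvd_prime_pow (by norm_num : Nat.Prime 5)).mp hord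
      have hk0 : k ≠ 0 := by
        rintro rfl
        apply hx'1
        rw [← orderOf_eq_one_iff, hkc]; norm_num
      rw [hkc]
      calc 5 = 5 ^ 1 := by norm_num
        _ ≤ 5 ^ k := Nat.pow_le_pow_right (by norm_num) (by omega)
    calc 4 = (Finset.Icc 1 4).card := by simp
      _ ≤ _ := Finset.card_le_card_of_injOn (fun k : ℕ => x' ^ k) ?_ ?_
    · intro k hk
      rw [Finset.coe_Icc, Set.mem_Icc] at hk
      rw [Finset.mem_coe, Finset.mem_bipartiteAbove, ht, Finset.mem_erase]
      refine ⟨⟨?_, Finset.mem_univ _⟩, ?_⟩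
      · exact pow_ne_one_of_lt_orderOf (by omega) (by omega)
      · show ((x' ^ k : (P : Subgroup G)) : G) ∈ (R : Subgroup G)
        rw [Subgroup.coe_pow]
        exact (R : Subgroup G).pow_mem x.2.2 k
    · intro k hk l hl hkl
      rw [Finset.coe_Icc, Set.mem_Icc] at hk hl
      exact pow_injOn_Iio_orderOf (x := x') (by rw [Set.mem_Iio]; omega)
        (by rw [Set.mem_Iio]; omega) hkl
  · intro g hg
    rw [ht, Finset.mem_erase] at hg
    have hg1 : (g : G) ≠ 1 := by
      intro h
      apply hg.1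
      apply Subtype.ext
      exact h
    have hsub : Finset.bipartiteBelow
        (fun (R : Sylow 5 G) (g : (P : Subgroup G)) => (g : G) ∈ (R : Subgroup G)) s g ⊆
        (Finset.univ.filter (fun R : Sylow 5 G => (g : G) ∈ (R : Subgroup G))).erase P := by
      intro R hR
      rw [Finset.mem_bipartiteBelow] at hR
      rw [Finset.mem_erase, Finset.mem_filter]
      obtain ⟨hRs, hRg⟩ := hR
      rw [hs, Finset.mem_filter] at hRs
      exact ⟨hRs.2.1, Finset.mem_univ _, hRg⟩
    have hPmem : P ∈ Finset.univ.filter (fun R : Sylow 5 G => (g : G) ∈ (R : Subgroup G)) := by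
      rw [Finset.mem_filter]
      exact ⟨Finset.mem_univ _, g.2⟩
    have h6 := card_mem_le hG hn P (g : G) g.2 hg1
    rw [← card_filter_eq] at h6
    calc _ ≤ ((Finset.univ.filter
          (fun R : Sylow 5 G => (g : G) ∈ (R : Subgroup G))).erase P).card :=
          Finset.card_le_card hsub
      _ = (Finset.univ.filter
          (fun R : Sylow 5 G => (g : G) ∈ (R : Subgroup G))).card - 1 :=
          Finset.card_erase_of_mem hPmem
      _ ≤ 5 := by omega

theorem card_A_add_card_B [Fact (Nat.Prime 5)] (h36 : Nat.card (Sylow 5 G) = 36)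
    (P : Sylow 5 G) :
    Nat.card {R : Sylow 5 G // R ≠ P ∧ (P : Subgroup G) ⊓ (R : Subgroup G) = ⊥} +
      Nat.card {R : Sylow 5 G // R ≠ P ∧ (P : Subgroup G) ⊓ (R : Subgroup G) ≠ ⊥} = 35 := by
  classical
  letI := Fintype.ofFinite (Sylow 5 G)
  rw [← card_filter_eq, ← card_filter_eq]
  have h1 : (Finset.univ.erase P).card = 35 := by
    rw [Finset.card_erase_of_mem (Finset.mem_univ _), Finset.card_univ,
      ← Nat.card_eq_fintype_card, h36]
  have h2 := Finset.card_filter_add_card_filter_not (s := Finset.univ.erase P)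
    (fun R : Sylow 5 G => (P : Subgroup G) ⊓ (R : Subgroup G) = ⊥)
  have e1 : (Finset.univ.erase P).filter
      (fun R : Sylow 5 G => (P : Subgroup G) ⊓ (R : Subgroup G) = ⊥) =
      Finset.univ.filter
        (fun R : Sylow 5 G => R ≠ P ∧ (P : Subgroup G) ⊓ (R : Subgroup G) = ⊥) := by
    ext R
    simp only [Finset.mem_filter, Finset.mem_erase, Finset.mem_univ, and_true, true_and]
  have e2 : (Finset.univ.erase P).filter
      (fun R : Sylow 5 G => ¬ (P : Subgroup G) ⊓ (R : Subgroup G) = ⊥) =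
      Finset.univ.filter
        (fun R : Sylow 5 G => R ≠ P ∧ (P : Subgroup G) ⊓ (R : Subgroup G) ≠ ⊥) := by
    ext R
    simp only [Finset.mem_filter, Finset.mem_erase, Finset.mem_univ, and_true, true_and, ne_eq]
  rw [e1, e2, h1] at h2
  exact h2

/-- at most 10 Sylow subgroups `≠ P` meet `P` nontrivially -/
theorem card_B_le_ten [IsSimpleGroup G] (hG : ¬ IsMulCommutative G) [Fact (Nat.Prime 5)]
    (hn : Nat.card G = 5400) (h36 : Nat.card (Sylow 5 G) = 36) (P : Sylow 5 G) :
    Nat.card {R : Sylow 5 G // R ≠ P ∧ (P : Subgroup G) ⊓ (R : Subgroup G) ≠ ⊥} ≤ 10 := by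
  have h1 := four_mul_card_le hG hn P
  have h2 := card_A_add_card_B h36 P
  have h3 : Nat.card {R : Sylow 5 G // R ≠ P ∧ (P : Subgroup G) ⊓ (R : Subgroup G) = ⊥} ≠ 0 := by
    omega
  have hne : Nonempty {R : Sylow 5 G // R ≠ P ∧ (P : Subgroup G) ⊓ (R : Subgroup G) = ⊥} := by
    by_contra h
    rw [not_nonempty_iff] at h
    exact h3 Nat.card_of_isEmpty
  obtain ⟨⟨R, hRP, hR⟩⟩ := hne
  have h4 := card_trivial_inter_ge P R hR hRP
  rw [sylow_card_25 hn P] at h4
  omega

/-- the Sylow subgroups `≠ P` over a line `L ≤ P` with six Sylow subgroups over it -/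
theorem fifteen_le [Fact (Nat.Prime 5)] (hn : Nat.card G = 5400) (P : Sylow 5 G)
    (D₀ D₁ D₂ : Subgroup G) (hc0 : Nat.card D₀ = 5) (hc1 : Nat.card D₁ = 5)
    (hc2 : Nat.card D₂ = 5) (hP0 : D₀ ≤ (P : Subgroup G)) (hP1 : D₁ ≤ (P : Subgroup G))
    (hP2 : D₂ ≤ (P : Subgroup G)) (h01 : D₀ ≠ D₁) (h02 : D₀ ≠ D₂) (h12 : D₁ ≠ D₂)
    (h0 : Nat.card {R : Sylow 5 G // D₀ ≤ (R : Subgroup G)} = 6)
    (h1 : Nat.card {R : Sylow 5 G // D₁ ≤ (R : Subgroup G)} = 6)
    (h2 : Nat.card {R : Sylow 5 G // D₂ ≤ (R : Subgroup G)} = 6) :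
    15 ≤ Nat.card {R : Sylow 5 G // R ≠ P ∧ (P : Subgroup G) ⊓ (R : Subgroup G) ≠ ⊥} := by
  classical
  letI := Fintype.ofFinite (Sylow 5 G)
  have hPc := sylow_card_25 hn P
  rw [← card_filter_eq] at h0 h1 h2 ⊢
  -- the three families
  have hF : ∀ D : Subgroup G, D ≤ (P : Subgroup G) →
      (Finset.univ.filter (fun R : Sylow 5 G => D ≤ (R : Subgroup G))).card = 6 →
      ((Finset.univ.filter (fun R : Sylow 5 G => D ≤ (R : Subgroup G))).erase P).card = 5 := by
    intro D hD h6
    rw [Finset.card_erase_of_mem, h6]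
    rw [Finset.mem_filter]
    exact ⟨Finset.mem_univ _, hD⟩
  have hsub : ∀ D : Subgroup G, Nat.card D = 5 → D ≤ (P : Subgroup G) →
      (Finset.univ.filter (fun R : Sylow 5 G => D ≤ (R : Subgroup G))).erase P ⊆
      Finset.univ.filter
        (fun R : Sylow 5 G => R ≠ P ∧ (P : Subgroup G) ⊓ (R : Subgroup G) ≠ ⊥) := by
    intro D hDc hD R hR
    rw [Finset.mem_erase, Finset.mem_filter] at hR
    rw [Finset.mem_filter]
    refine ⟨Finset.mem_univ _, hR.1, ?_⟩
    intro hbot
    have : D ≤ (⊥ : Subgroup G) := by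
      rw [← hbot]; exact le_inf hD hR.2.2
    rw [le_bot_iff] at this
    rw [this, Subgroup.card_bot] at hDc
    omega
  have hdisj : ∀ D D' : Subgroup G, Nat.card D = 5 → Nat.card D' = 5 → D ≤ (P : Subgroup G) →
      D' ≤ (P : Subgroup G) → D ≠ D' →
      Disjoint ((Finset.univ.filter (fun R : Sylow 5 G => D ≤ (R : Subgroup G))).erase P)
        ((Finset.univ.filter (fun R : Sylow 5 G => D' ≤ (R : Subgroup G))).erase P) := by
    intro D D' hDc hDc' hD hD' hne
    rw [Finset.disjoint_left]
    intro R hR hR'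
    rw [Finset.mem_erase, Finset.mem_filter] at hR hR'
    exact hR.1 (eq_of_two_lines P R hPc D D' hDc hDc' hne hD hD' hR.2.2 hR'.2.2)
  set F₀ := (Finset.univ.filter (fun R : Sylow 5 G => D₀ ≤ (R : Subgroup G))).erase P with hF₀
  set F₁ := (Finset.univ.filter (fun R : Sylow 5 G => D₁ ≤ (R : Subgroup G))).erase P with hF₁
  set F₂ := (Finset.univ.filter (fun R : Sylow 5 G => D₂ ≤ (R : Subgroup G))).erase P with hF₂
  have hd01 : Disjoint F₀ F₁ := hdisj D₀ D₁ hc0 hc1 hP0 hP1 h01
  have hd02 : Disjoint F₀ F₂ := hdisj D₀ D₂ hc0 hc2 hP0 hP2 h02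
  have hd12 : Disjoint F₁ F₂ := hdisj D₁ D₂ hc1 hc2 hP1 hP2 h12
  have hd : Disjoint (F₀ ∪ F₁) F₂ := by
    rw [Finset.disjoint_union_left]
    exact ⟨hd02, hd12⟩
  have hcard : ((F₀ ∪ F₁) ∪ F₂).card = 15 := by
    rw [Finset.card_union_of_disjoint hd, Finset.card_union_of_disjoint hd01,
      hF D₀ hP0 h0, hF D₁ hP1 h1, hF D₂ hP2 h2]
  rw [← hcard]
  apply Finset.card_le_card
  apply Finset.union_subset (Finset.union_subset _ _)
  · exact hsub D₂ hc2 hP2
  · exact hsub D₀ hc0 hP0
  · exact hsub D₁ hc1 hP1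

theorem case36 [IsSimpleGroup G] (hG : ¬ IsMulCommutative G) [Fact (Nat.Prime 5)]
    (hn : Nat.card G = 5400) (h36 : Nat.card (Sylow 5 G) = 36) : False := by
  have hcard : Nat.card G = 5 ^ 2 * 216 := by rw [hn]; norm_num
  have hmod : Nat.card (Sylow 5 G) % 5 ^ 2 ≠ 1 := by rw [h36]; norm_num
  obtain ⟨P, R, hPR, hDc, hPN, hRN⟩ :=
    exists_inter 5 2 216 (by norm_num) (by norm_num) hcard hmod
  set D : Subgroup G := (P : Subgroup G) ⊓ (R : Subgroup G) with hD
  have hD5 : Nat.card D = 5 := by omega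
  have hDP : D ≤ (P : Subgroup G) := inf_le_left
  have hPc := sylow_card_25 hn P
  have hcnt : Nat.card {R' : Sylow 5 G // D ≤ (R' : Subgroup G)} = 6 := by
    rcases card_over_line hG hn P D hD5 hDP with h | h
    · exfalso
      have hss : Subsingleton {R' : Sylow 5 G // D ≤ (R' : Subgroup G)} :=
        (Nat.card_eq_one_iff_unique.mp h).1
      have := Subsingleton.elim
        (⟨P, hDP⟩ : {R' : Sylow 5 G // D ≤ (R' : Subgroup G)}) ⟨R, inf_le_right⟩
      exact hPR (congrArg Subtype.val this)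
    · exact h
  have hB10 := card_B_le_ten hG hn h36 P
  -- the normalizer of `P` has order 150
  have hNP : Nat.card (Subgroup.normalizer ((P : Subgroup G) : Set G)) = 150 := by
    have h1 : Nat.card (Sylow 5 G) =
        (Subgroup.normalizer ((P : Subgroup G) : Set G)).index :=
      Sylow.card_eq_index_normalizer P
    have h2 := Subgroup.card_mul_index (Subgroup.normalizer ((P : Subgroup G) : Set G))
    rw [← h1, h36, hn] at h2
    omega
  haveI : Fact (Nat.Prime 3) := ⟨by norm_num⟩
  obtain ⟨y0, hy0⟩ := exists_prime_orderOf_dvd_card'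
    (G := Subgroup.normalizer ((P : Subgroup G) : Set G)) 3 (by rw [hNP]; norm_num)
  set y : G := (y0 : G) with hy
  have hyo : orderOf y = 3 := by rw [hy, Subgroup.orderOf_coe]; exact hy0
  have hyN : y ∈ Subgroup.normalizer ((P : Subgroup G) : Set G) := y0.2
  by_cases hyD : y ∈ Subgroup.normalizer (D : Set G)
  · -- `|N(D)| = 450`
    set K : Subgroup G := Subgroup.normalizer (D : Set G) with hK
    have hnK : Nat.card (Sylow 5 K) = 6 := by
      rw [← card_over_eq P D hDP (sylow_comm hn)]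
      exact hcnt
    have h1 := card_eq_card_inf_normalizer_mul P K hPN
    rw [hnK] at h1
    have h25 : 25 ∣
        Nat.card (K ⊓ Subgroup.normalizer ((P : Subgroup G) : Set G) : Subgroup G) := by
      have := Subgroup.card_dvd_of_le
        (le_inf hPN Subgroup.le_normalizer :
          (P : Subgroup G) ≤ K ⊓ Subgroup.normalizer ((P : Subgroup G) : Set G))
      rwa [hPc] at this
    have h3 : 3 ∣
        Nat.card (K ⊓ Subgroup.normalizer ((P : Subgroup G) : Set G) : Subgroup G) := by
      have h := Subgroup.orderOf_dvd_natCard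
        (K ⊓ Subgroup.normalizer ((P : Subgroup G) : Set G) : Subgroup G)
        (⟨hyD, hyN⟩ : y ∈ K ⊓ Subgroup.normalizer ((P : Subgroup G) : Set G))
      rwa [hyo] at h
    have h75 : 25 * 3 ∣
        Nat.card (K ⊓ Subgroup.normalizer ((P : Subgroup G) : Set G) : Subgroup G) :=
      Nat.Coprime.mul_dvd_of_dvd_of_dvd (by norm_num) h25 h3
    obtain ⟨c, hc⟩ := h75
    rw [hc] at h1
    have hKtop : K ≠ ⊤ := by
      intro h
      rw [hK, Subgroup.normalizer_eq_top_iff] at h
      refine Cfsg.Agent.S0493.false_of_normal D h ?_ ?_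
      · rintro h0
        rw [h0, Subgroup.card_bot] at hD5
        omega
      · rintro h0
        rw [h0, Subgroup.card_top, hn] at hD5
        omega
    have hfact := two_card_dvd_factorial_index hG K hKtop
    rw [hn] at hfact
    have hi := index_ge_ten hfact
    have hidx := Subgroup.card_mul_index K
    rw [hn, h1] at hidx
    have hci : c * K.index = 12 := by
      have : 450 * (c * K.index) = 450 * 12 := by
        have h5 : (450 : ℕ) * 12 = 5400 := by norm_num
        rw [h5, ← hidx]; ring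
      exact Nat.eq_of_mul_eq_mul_left (by norm_num) this
    have hc1 : c = 1 := by
      rcases Nat.eq_zero_or_pos c with h | h
      · rw [h] at hci; omega
      · by_contra hne
        have h2 : 2 ≤ c := by omega
        have : 2 * 10 ≤ c * K.index := Nat.mul_le_mul h2 hi
        omega
    rw [hc1] at h1
    have hK450 : Nat.card K = 450 := by rw [h1]
    have := card_sylow_five_of_card_450 K hK450
    omega
  · -- three lines
    have hy2N : y ^ 2 ∈ Subgroup.normalizer ((P : Subgroup G) : Set G) :=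
      Subgroup.pow_mem _ hyN 2
    have h01 : D ≠ MulAut.conj y • D := by
      intro h
      exact hyD (mem_normalizer_of_conj_smul_eq y D h.symm)
    have h02 : D ≠ MulAut.conj (y ^ 2) • D := by
      intro h
      apply hyD
      have h2 := mem_normalizer_of_conj_smul_eq (y ^ 2) D h.symm
      have h4 := Subgroup.pow_mem _ h2 2
      have : (y ^ 2) ^ 2 = y := by
        rw [← pow_mul]
        calc y ^ (2 * 2) = y ^ 3 * y := by group
          _ = y := by rw [← hyo, pow_orderOf_eq_one, one_mul]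
      rwa [this] at h4
    have h12 : MulAut.conj y • D ≠ MulAut.conj (y ^ 2) • D := by
      intro h
      apply h01
      have e : MulAut.conj (y ^ 2) • D = MulAut.conj y • (MulAut.conj y • D) := by
        rw [← mul_smul, ← map_mul, pow_two]
      rw [e] at h
      exact smul_left_cancel _ h
    have := fifteen_le hn P D (MulAut.conj y • D) (MulAut.conj (y ^ 2) • D) hD5
      (by rw [card_conj_smul]; exact hD5) (by rw [card_conj_smul]; exact hD5) hDP
      (conj_smul_le_sylow P y hyN D hDP) (conj_smul_le_sylow P (y ^ 2) hy2N D hDP) h01 h02 h12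
      hcnt (by rw [card_over_conj]; exact hcnt) (by rw [card_over_conj]; exact hcnt)
    omega

theorem no_5400 [IsSimpleGroup G] (hG : ¬ IsMulCommutative G) : Nat.card G ≠ 5400 := by
  intro hn
  haveI : Fact (Nat.Prime 5) := ⟨by norm_num⟩
  have hcard : Nat.card G = 5 ^ 2 * 216 := by rw [hn]; norm_num
  obtain ⟨h1, h2, h3, h4⟩ :=
    sylow_num hG 5 2 216 (by norm_num) (by norm_num) (by norm_num) hcard
  have hdiv : ∀ d ∈ Nat.divisors 216, d % 5 = 1 → 1 < d → d = 6 ∨ d = 36 ∨ d = 216 := by
    decide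
  have hmem : Nat.card (Sylow 5 G) ∈ Nat.divisors 216 := by
    rw [Nat.mem_divisors]
    exact ⟨h1, by norm_num⟩
  rcases hdiv _ hmem h2 h3 with h | h | h
  · rw [h, hn] at h4
    revert h4
    decide
  · exact case36 hG hn h
  · obtain ⟨P⟩ : Nonempty (Sylow 5 G) := inferInstance
    have hPc := sylow_card_25 hn P
    have hNP : Nat.card (Subgroup.normalizer ((P : Subgroup G) : Set G)) = 25 := by
      have e1 : Nat.card (Sylow 5 G) =
          (Subgroup.normalizer ((P : Subgroup G) : Set G)).index :=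
        Sylow.card_eq_index_normalizer P
      have e2 := Subgroup.card_mul_index (Subgroup.normalizer ((P : Subgroup G) : Set G))
      rw [← e1, h, hn] at e2
      omega
    have hNeq : (P : Subgroup G) = Subgroup.normalizer ((P : Subgroup G) : Set G) :=
      Subgroup.eq_of_le_of_card_ge Subgroup.le_normalizer (by rw [hNP, hPc])
    have hle : Subgroup.normalizer ((P : Subgroup G) : Set G) ≤
        Subgroup.centralizer ((P : Subgroup G) : Set G) := by
      rw [← hNeq]
      intro a ha
      rw [Subgroup.mem_centralizer_iff]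
      intro b hb
      exact sylow_comm hn P b hb a ha
    rcases sylow_eq_bot_or_top_of_normalizer_le_centralizer' P hle with h0 | h0
    · rw [h0, Subgroup.card_bot] at hPc
      omega
    · rw [h0, Subgroup.card_top, hn] at hPc
      omega

end Cfsg.Agent.Lib.Helper25.Ord5400
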