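import Mathlib

/-!
# S2159 farm-out pieces FO-A1..A4 (helper25, for helper27): abstract quotient lemmas
-/

set_option autoImplicit false

namespace Cfsg.Agent.Lib.Helper25.S2159

open scoped commutatorElement

section A

variable {A : Type*} [Group A] (N : Subgroup A) [N.Normal] (P K : Subgroup A)

/-- every element of `A ⧸ N` is the class of an element of `P` when `A = N P` -/
theorem exists_mem_mk_eq (hPN : ∀ a : A, ∃ n ∈ N, n * a ∈ P) (x : A ⧸ N) :
    ∃ θ ∈ P, (QuotientGroup.mk' N) θ = x := by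
  obtain ⟨a, rfl⟩ := QuotientGroup.mk'_surjective N x
  obtain ⟨n, hn, hna⟩ := hPN a
  refine ⟨n * a, hna, ?_⟩
  rw [map_mul]
  have : (QuotientGroup.mk' N) n = 1 := (QuotientGroup.eq_one_iff n).mpr hn
  rw [this, one_mul]

/-- FO-A1: `A = N P`; a subgroup `K` normalised by `P` has normal image in `A ⧸ N`. -/
theorem map_mk_normal (hPN : ∀ a : A, ∃ n ∈ N, n * a ∈ P)
    (hKn : ∀ θ ∈ P, ∀ k ∈ K, θ * k * θ⁻¹ ∈ K) :
    (K.map (QuotientGroup.mk' N)).Normal := by
  constructor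
  intro y hy x
  obtain ⟨θ, hθ, rfl⟩ := exists_mem_mk_eq N P hPN x
  obtain ⟨k, hk, rfl⟩ := hy
  refine ⟨θ * k * θ⁻¹, hKn θ hθ k hk, ?_⟩
  simp only [map_mul, map_inv]

/-- FO-A2: `A = N P`, `K ≤ P`, `P ∩ N ≤ K`: the index of the image of `K` in `A ⧸ N` is `|P : K|`. -/
theorem index_map_mk (hPN : ∀ a : A, ∃ n ∈ N, n * a ∈ P) (hKP : K ≤ P) (hNK : P ⊓ N ≤ K) :
    (K.map (QuotientGroup.mk' N)).index = (K.subgroupOf P).index := by
  let f : ↥P →* A ⧸ N := (QuotientGroup.mk' N).comp P.subtype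
  have hf : Function.Surjective f := by
    intro x
    obtain ⟨θ, hθ, rfl⟩ := exists_mem_mk_eq N P hPN x
    exact ⟨⟨θ, hθ⟩, rfl⟩
  have hmap : (K.subgroupOf P).map f = K.map (QuotientGroup.mk' N) := by
    ext y
    constructor
    · rintro ⟨x, hx, rfl⟩
      exact ⟨(x : A), Subgroup.mem_subgroupOf.mp hx, rfl⟩
    · rintro ⟨k, hk, rfl⟩
      exact ⟨⟨k, hKP hk⟩, Subgroup.mem_subgroupOf.mpr hk, rfl⟩
  have hker : f.ker ≤ K.subgroupOf P := by
    intro x hx
    rw [Subgroup.mem_subgroupOf]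
    apply hNK
    refine ⟨x.2, ?_⟩
    have h1 : (QuotientGroup.mk' N) (x : A) = 1 := MonoidHom.mem_ker.mp hx
    exact (QuotientGroup.eq_one_iff (x : A)).mp h1
  rw [← hmap]
  exact Subgroup.index_map_eq (K.subgroupOf P) hf hker

/-- FO-A3: `K ≤ P`, `P ∩ N ≤ K`: if the image of `K` contains the commutator subgroup of `A ⧸ N`
then `K` contains all commutators of elements of `P`. -/
theorem commutator_mem_of_le (hKP : K ≤ P) (hNK : P ⊓ N ≤ K)
    (h : commutator (A ⧸ N) ≤ K.map (QuotientGroup.mk' N)) :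
    ∀ a ∈ P, ∀ b ∈ P, ⁅a, b⁆ ∈ K := by
  intro a ha b hb
  have hc : (QuotientGroup.mk' N) ⁅a, b⁆ ∈ commutator (A ⧸ N) := by
    rw [map_commutatorElement]
    exact Subgroup.commutator_mem_commutator (Subgroup.mem_top _) (Subgroup.mem_top _)
  obtain ⟨k, hk, hkc⟩ := h hc
  have hcP : ⁅a, b⁆ ∈ P := by
    rw [commutatorElement_def]
    exact P.mul_mem (P.mul_mem (P.mul_mem ha hb) (P.inv_mem ha)) (P.inv_mem hb)
  have hN : k⁻¹ * ⁅a, b⁆ ∈ N := by
    rw [← QuotientGroup.eq_one_iff, ← QuotientGroup.mk'_apply, map_mul, map_inv, hkc,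
      inv_mul_cancel]
  have hK : k⁻¹ * ⁅a, b⁆ ∈ K := hNK ⟨P.mul_mem (P.inv_mem (hKP hk)) hcP, hN⟩
  have := K.mul_mem hk hK
  rwa [mul_inv_cancel_left] at this

/-- FO-A4: for a homomorphism `Ψ` on `P` whose kernel is `K` (as a subgroup of `P`), `|P : K|` is
the number of elements of the range. -/
theorem index_ker_eq_card_range {B : Type*} [Group B] (Ψ : ↥P →* B)
    (hK : K.subgroupOf P = Ψ.ker) : (K.subgroupOf P).index = Nat.card Ψ.range := by
  rw [hK]
  exact Subgroup.index_ker Ψ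

end A

end Cfsg.Agent.Lib.Helper25.S2159
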