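import Mathlib
import Cfsg.Agent.Lib.Helper10.UniqueOrderP

set_option autoImplicit false

namespace Cfsg.Agent.Lib.Helper25.QuatAut

open Cfsg.Agent.Lib.Helper10

variable {W : Type*} [Group W]

/-- iterate: `e c = c`, `e x = x * c` gives `e^k x = x * c^k`. -/
theorem pow_apply_of_mul (e : MulAut W) {x c : W} (hc : e c = c) (hx : e x = x * c) (k : ℕ) :
    (e ^ k) x = x * c ^ k := by
  induction k with
  | zero => simp
  | succ k ih =>
    rw [pow_succ', MulAut.mul_apply, ih, map_mul, map_pow, hx, hc, mul_assoc, ← pow_succ']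

/-- ST: an automorphism of `p`-power order (`p` odd) of a `2`-group with `e c = c`, `e x = x * c`
has `c = 1`. -/
theorem eq_one_of_fix [Finite W] (hW : IsPGroup 2 W) {p : ℕ} [Fact p.Prime] (hp : p ≠ 2)
    (e : MulAut W) (he : ∃ k : ℕ, e ^ (p ^ k) = 1) {x c : W} (hc : e c = c) (hx : e x = x * c) :
    c = 1 := by
  obtain ⟨k, hk⟩ := he
  have h1 := pow_apply_of_mul e hc hx (p ^ k)
  rw [hk, MulAut.one_apply] at h1
  have h2 : c ^ (p ^ k) = 1 := by
    have h3 : x * 1 = x * c ^ (p ^ k) := by rw [mul_one]; exact h1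
    exact (mul_left_cancel h3).symm
  obtain ⟨j, hj⟩ := hW c
  have hd1 : orderOf c ∣ p ^ k := orderOf_dvd_of_pow_eq_one h2
  have hd2 : orderOf c ∣ 2 ^ j := orderOf_dvd_of_pow_eq_one hj
  have hcop : Nat.Coprime (p ^ k) (2 ^ j) := by
    apply Nat.Coprime.pow
    exact (Nat.coprime_primes Fact.out Nat.prime_two).mpr hp
  have h4 : orderOf c = 1 := Nat.eq_one_of_dvd_coprimes hcop hd1 hd2
  exact orderOf_eq_one_iff.mp h4

/-- an invariant abelian subgroup whose involutions are fixed is fixed pointwise. -/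
theorem fix_of_comm [Finite W] (hW : IsPGroup 2 W) {p : ℕ} [Fact p.Prime] (hp : p ≠ 2)
    (e : MulAut W) (he : ∃ k : ℕ, e ^ (p ^ k) = 1) (A : Subgroup W)
    (hAinv : ∀ a ∈ A, e a ∈ A) (hAcomm : ∀ a ∈ A, ∀ b ∈ A, a * b = b * a)
    (hinv : ∀ y ∈ A, y ^ 2 = 1 → e y = y) : ∀ a ∈ A, e a = a := by
  have key : ∀ j : ℕ, ∀ a ∈ A, a ^ (2 ^ j) = 1 → e a = a := by
    intro j
    induction j with
    | zero =>
      intro a _ ha1
      rw [pow_zero, pow_one] at ha1
      rw [ha1, map_one]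
    | succ j ih =>
      intro a ha ha1
      have ha2 : (a ^ 2) ^ (2 ^ j) = 1 := by
        rw [← pow_mul, ← pow_succ']; exact ha1
      have hfix2 : e (a ^ 2) = a ^ 2 := ih (a ^ 2) (A.pow_mem ha 2) ha2
      have hea : e a ∈ A := hAinv a ha
      have hcA : a⁻¹ * e a ∈ A := A.mul_mem (A.inv_mem ha) hea
      have hcomm : a⁻¹ * e a = e a * a⁻¹ := hAcomm _ (A.inv_mem ha) _ hea
      have hc2 : (a⁻¹ * e a) ^ 2 = 1 := by
        have h5 : (e a) ^ 2 = a ^ 2 := by rw [← map_pow]; exact hfix2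
        calc (a⁻¹ * e a) ^ 2 = a⁻¹ * e a * (a⁻¹ * e a) := sq _
          _ = a⁻¹ * (e a * a⁻¹) * e a := by group
          _ = a⁻¹ * (a⁻¹ * e a) * e a := by rw [hcomm]
          _ = a⁻¹ * a⁻¹ * (e a) ^ 2 := by rw [sq]; group
          _ = a⁻¹ * a⁻¹ * a ^ 2 := by rw [h5]
          _ = 1 := by rw [sq]; group
      have hcfix : e (a⁻¹ * e a) = a⁻¹ * e a := hinv _ hcA hc2
      have hx : e a = a * (a⁻¹ * e a) := by group
      have := eq_one_of_fix hW hp e he hcfix hx
      rw [hx, this, mul_one]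
  intro a ha
  obtain ⟨j, hj⟩ := hW a
  exact key j a ha hj

/-- an automorphism fixing pointwise a subgroup of index `≤ 2` of an invariant subgroup fixes it. -/
theorem fix_of_index_two [Finite W] (hW : IsPGroup 2 W) {p : ℕ} [Fact p.Prime] (hp : p ≠ 2)
    (e : MulAut W) (he : ∃ k : ℕ, e ^ (p ^ k) = 1) (X A : Subgroup W)
    (hXinv : ∀ x ∈ X, e x ∈ X) (hAfix : ∀ a ∈ A, e a = a)
    (hidx : ∀ x ∈ X, ∀ y ∈ X, x ∉ A → y ∉ A → ∃ c ∈ A, y = x * c) : ∀ x ∈ X, e x = x := by
  intro x hx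
  by_cases hxA : x ∈ A
  · exact hAfix x hxA
  · have hexA : e x ∉ A := by
      intro h
      have h1 : e (e x) = e x := hAfix _ h
      have h2 : e x = x := e.injective h1
      exact hxA (h2 ▸ h)
    obtain ⟨c, hcA, hc⟩ := hidx x hx (e x) (hXinv x hx) hxA hexA
    have := eq_one_of_fix hW hp e he (hAfix c hcA) hc
    rw [hc, this, mul_one]


open QuaternionGroup in
theorem q8_sq : ∀ q : QuaternionGroup 2, q ^ 2 = 1 → q ≠ 1 → ∀ x : QuaternionGroup 2,
    x ≠ 1 → x ≠ q → x ^ 2 = q := by decide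

set_option synthInstance.maxSize 1000 in
set_option synthInstance.maxHeartbeats 400000 in
theorem q8_comm : ∀ q : QuaternionGroup 2, q ^ 2 = 1 → q ≠ 1 → ∀ x y : QuaternionGroup 2,
    x ≠ 1 → x ≠ q → y ≠ 1 → y ≠ q → y ≠ x → y ≠ x * q → x * y * x⁻¹ * y⁻¹ = q := by decide

set_option synthInstance.maxSize 1000 in
set_option synthInstance.maxHeartbeats 400000 in
theorem q8_idx : ∀ x u v : QuaternionGroup 2, x ≠ 1 → x ^ 2 ≠ 1 →
    (∀ k : Fin 4, u ≠ x ^ (k : ℕ)) → (∀ k : Fin 4, v ≠ x ^ (k : ℕ)) →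
    ∃ k : Fin 4, v = u * x ^ (k : ℕ) := by decide

/-- the commutative case -/
theorem fix_all_of_comm [Finite W] (hW : IsPGroup 2 W)
    {p : ℕ} [Fact p.Prime] (hp : p ≠ 2) (E : Subgroup (MulAut W)) (hE : IsPGroup p ↥E)
    (X : Subgroup W) (hXinv : ∀ e ∈ E, ∀ x ∈ X, e x ∈ X)
    (z : W) (hz2 : orderOf z = 2) (hzuniq : ∀ y ∈ X, orderOf y = 2 → y = z)
    (A : Subgroup W) (hAX : A ≤ X) (hAcomm : ∀ a ∈ A, ∀ b ∈ A, a * b = b * a)
    (e : MulAut W) (heE : e ∈ E) (hAinv : ∀ a ∈ A, e a ∈ A) : ∀ a ∈ A, e a = a := by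
  have he : ∃ k : ℕ, e ^ (p ^ k) = 1 := by
    obtain ⟨k, hk⟩ := hE ⟨e, heE⟩
    refine ⟨k, ?_⟩
    have := congrArg Subtype.val hk
    simpa using this
  refine fix_of_comm hW hp e he A hAinv hAcomm ?_
  intro y hy hy2
  by_cases hy1 : y = 1
  · rw [hy1, map_one]
  · have hoy : orderOf y = 2 := orderOf_eq_prime hy2 hy1
    have hyz : y = z := hzuniq y (hAX hy) hoy
    have hoe : orderOf (e y) = 2 := by rw [MulEquiv.orderOf_eq]; exact hoy
    have := hzuniq (e y) (hXinv e heE y (hAX hy)) hoe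
    rw [this, hyz]

theorem quaternion_of_unique_involution [Finite W] (hW : IsPGroup 2 W)
    {p : ℕ} [Fact p.Prime] (hp : p ≠ 2) (E : Subgroup (MulAut W)) (hE : IsPGroup p ↥E)
    (hab : ∀ e ∈ E, ∀ f ∈ E, e * f = f * e)
    (X : Subgroup W) (hXinv : ∀ e ∈ E, ∀ x ∈ X, e x ∈ X)
    (z : W) (hzX : z ∈ X) (hz2 : orderOf z = 2) (hzuniq : ∀ y ∈ X, orderOf y = 2 → y = z) :
    (∀ e ∈ E, ∀ x ∈ X, e x = x) ∨
    (Nat.card ↥X = 8 ∧
     (∀ x ∈ X, x ≠ 1 → x ≠ z → x ^ 2 = z) ∧
     (∀ x ∈ X, ∀ y ∈ X, x ≠ 1 → x ≠ z → y ≠ 1 → y ≠ z → y ≠ x → y ≠ x * z →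
        x * y * x⁻¹ * y⁻¹ = z) ∧
     (∀ e ∈ E, ∀ x ∈ X, x ≠ 1 → x ≠ z → e x = x → ∀ y ∈ X, e y = y)) := by
  have hpE : ∀ e ∈ E, ∃ k : ℕ, e ^ (p ^ k) = 1 := by
    intro e heE
    obtain ⟨k, hk⟩ := hE ⟨e, heE⟩
    refine ⟨k, ?_⟩
    have := congrArg Subtype.val hk
    simpa using this
  have hz1 : z ≠ 1 := by
    intro h; rw [h, orderOf_one] at hz2; omega
  have hzsq : z ^ 2 = 1 := by rw [← hz2]; exact pow_orderOf_eq_one z
  -- unique subgroup of order 2 in X
  have hu : UniqueOrderP 2 ↥X := by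
    intro x y hx hx1 hy
    have hx' : (x : W) ^ 2 = 1 := by
      have := congrArg Subtype.val hx; simpa using this
    have hy' : (y : W) ^ 2 = 1 := by
      have := congrArg Subtype.val hy; simpa using this
    have hx1' : (x : W) ≠ 1 := fun h0 => hx1 (Subtype.ext h0)
    have hxz : (x : W) = z := hzuniq _ x.2 (orderOf_eq_prime hx' hx1')
    by_cases hy1 : (y : W) = 1
    · have : y = 1 := Subtype.ext hy1
      rw [this]; exact Subgroup.one_mem _
    · have hyz : (y : W) = z := hzuniq _ y.2 (orderOf_eq_prime hy' hy1)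
      have : y = x := Subtype.ext (by rw [hyz, hxz])
      rw [this]; exact Subgroup.mem_zpowers x
  -- commutative case
  have comm_case : (∀ a b : ↥X, a * b = b * a) → ∀ e ∈ E, ∀ x ∈ X, e x = x := by
    intro hc e heE
    refine fix_all_of_comm hW hp E hE X hXinv z hz2 hzuniq X le_rfl ?_ e heE (hXinv e heE)
    intro a ha b hb
    have := congrArg Subtype.val (hc ⟨a, ha⟩ ⟨b, hb⟩)
    simpa using this
  rcases isCyclic_or_quaternion_of_uniqueOrderP (hW.to_subgroup X) hu with hcyc | ⟨-, n, ⟨φ⟩⟩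
  · left
    apply comm_case
    intro a b
    obtain ⟨g, hg⟩ := hcyc.exists_generator
    obtain ⟨i, rfl⟩ := Subgroup.mem_zpowers_iff.mp (hg a)
    obtain ⟨j, rfl⟩ := Subgroup.mem_zpowers_iff.mp (hg b)
    rw [← zpow_add, ← zpow_add, add_comm]
  · rcases n with _ | _ | n
    · -- Q_1 is cyclic of order 4
      left
      apply comm_case
      have hcyc : IsCyclic ↥X := by
        have h1 : IsCyclic (QuaternionGroup (2 ^ 0)) := QuaternionGroup.quaternionGroup_one_isCyclic
        exact (MulEquiv.isCyclic φ).mpr h1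
      intro a b
      obtain ⟨g, hg⟩ := hcyc.exists_generator
      obtain ⟨i, rfl⟩ := Subgroup.mem_zpowers_iff.mp (hg a)
      obtain ⟨j, rfl⟩ := Subgroup.mem_zpowers_iff.mp (hg b)
      rw [← zpow_add, ← zpow_add, add_comm]
    · -- Q_8
      right
      have φ' : ↥X ≃* QuaternionGroup 2 := φ
      set zq : QuaternionGroup 2 := φ' ⟨z, hzX⟩ with hzq
      have hzq2 : zq ^ 2 = 1 := by
        rw [hzq, ← map_pow]
        have : (⟨z, hzX⟩ : ↥X) ^ 2 = 1 := Subtype.ext (by simpa using hzsq)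
        rw [this, map_one]
      have hzq1 : zq ≠ 1 := by
        intro h
        have : (⟨z, hzX⟩ : ↥X) = 1 := φ'.injective (by rw [← hzq, h, map_one])
        exact hz1 (congrArg Subtype.val this)
      have tr_ne : ∀ (x : W) (hx : x ∈ X) (y : W) (hy : y ∈ X), x ≠ y →
          φ' ⟨x, hx⟩ ≠ φ' ⟨y, hy⟩ := by
        intro x hx y hy hne h
        exact hne (congrArg Subtype.val (φ'.injective h))
      have tr_one : ∀ (x : W) (hx : x ∈ X), x ≠ 1 → φ' ⟨x, hx⟩ ≠ 1 := by
        intro x hx hne h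
        have : (⟨x, hx⟩ : ↥X) = 1 := φ'.injective (by rw [h, map_one])
        exact hne (congrArg Subtype.val this)
      have hsq : ∀ x ∈ X, x ≠ 1 → x ≠ z → x ^ 2 = z := by
        intro x hx hx1 hxz
        have h1 := q8_sq zq hzq2 hzq1 (φ' ⟨x, hx⟩) (tr_one x hx hx1) (tr_ne x hx z hzX hxz)
        rw [← map_pow] at h1
        have := congrArg Subtype.val (φ'.injective h1)
        simpa using this
      refine ⟨?_, hsq, ?_, ?_⟩
      · rw [Nat.card_congr φ'.toEquiv, Nat.card_eq_fintype_card, QuaternionGroup.card]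
      · intro x hx y hy hx1 hxz hy1 hyz hyx hyxz
        have hxzX : x * z ∈ X := X.mul_mem hx hzX
        have h1 := q8_comm zq hzq2 hzq1 (φ' ⟨x, hx⟩) (φ' ⟨y, hy⟩) (tr_one x hx hx1)
          (tr_ne x hx z hzX hxz) (tr_one y hy hy1) (tr_ne y hy z hzX hyz) (tr_ne y hy x hx hyx)
          (by
            have := tr_ne y hy (x * z) hxzX hyxz
            rw [hzq, ← map_mul]
            exact this)
        rw [hzq, ← map_inv, ← map_inv, ← map_mul, ← map_mul, ← map_mul] at h1
        have := congrArg Subtype.val (φ'.injective h1)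
        simpa using this
      · intro e heE x hx hx1 hxz hex
        have hx2 : x ^ 2 ≠ 1 := by rw [hsq x hx hx1 hxz]; exact hz1
        refine fix_of_index_two hW hp e (hpE e heE) X (Subgroup.zpowers x) (hXinv e heE) ?_ ?_
        · intro a ha
          obtain ⟨i, rfl⟩ := Subgroup.mem_zpowers_iff.mp ha
          rw [map_zpow, hex]
        · intro u hu v hv huA hvA
          have hxq1 := tr_one x hx hx1
          have hxq2 : (φ' ⟨x, hx⟩) ^ 2 ≠ 1 := by
            intro h
            rw [← map_pow] at h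
            have : (⟨x, hx⟩ : ↥X) ^ 2 = 1 := φ'.injective (by rw [h, map_one])
            exact hx2 (by simpa using congrArg Subtype.val this)
          have hnot : ∀ (w : W) (hw : w ∈ X), w ∉ Subgroup.zpowers x →
              ∀ k : Fin 4, φ' ⟨w, hw⟩ ≠ (φ' ⟨x, hx⟩) ^ (k : ℕ) := by
            intro w hw hwA k h
            rw [← map_pow] at h
            have := congrArg Subtype.val (φ'.injective h)
            apply hwA
            have h3 : w = x ^ (k : ℕ) := by simpa using this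
            rw [h3]
            exact Subgroup.pow_mem _ (Subgroup.mem_zpowers x) _
          obtain ⟨k, hk⟩ := q8_idx (φ' ⟨x, hx⟩) (φ' ⟨u, hu⟩) (φ' ⟨v, hv⟩) hxq1 hxq2
            (hnot u hu huA) (hnot v hv hvA)
          rw [← map_pow, ← map_mul] at hk
          have := congrArg Subtype.val (φ'.injective hk)
          refine ⟨x ^ (k : ℕ), Subgroup.pow_mem _ (Subgroup.mem_zpowers x) _, ?_⟩
          simpa using this
    · -- generalized quaternion of order ≥ 16
      left
      intro e heE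
      have hNZ : NeZero (2 ^ (n + 1 + 1)) := ⟨by positivity⟩
      set m : ℕ := 2 ^ (n + 1 + 1) with hm
      have hm4 : 4 ≤ m := by
        rw [hm, pow_succ, pow_succ]
        have : 1 ≤ 2 ^ n := Nat.one_le_two_pow
        omega
      set g : ↥X := φ.symm (QuaternionGroup.a 1) with hg
      have hgo : orderOf (g : W) = 2 * m := by
        rw [Subgroup.orderOf_coe, hg, MulEquiv.orderOf_eq, QuaternionGroup.orderOf_a_one]
      -- members of X outside ⟨g⟩ map to xa
      have hmem : ∀ (w : W) (hw : w ∈ X) (i : ZMod (2 * m)), φ ⟨w, hw⟩ = QuaternionGroup.a i →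
          w ∈ Subgroup.zpowers (g : W) := by
        intro w hw i hi
        have h1 : (QuaternionGroup.a i : QuaternionGroup m) = (QuaternionGroup.a 1) ^ (i.val) := by
          rw [QuaternionGroup.a_one_pow, ZMod.natCast_zmod_val]
        have h2 : (⟨w, hw⟩ : ↥X) = g ^ (i.val) := by
          rw [hg, ← map_pow, ← h1, ← hi, MulEquiv.symm_apply_apply]
        have h3 : w = (g : W) ^ (i.val) := by
          have := congrArg Subtype.val h2
          simpa using this
        rw [h3]
        exact Subgroup.pow_mem _ (Subgroup.mem_zpowers _) _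
      have hegA : e (g : W) ∈ Subgroup.zpowers (g : W) := by
        have hegX : e (g : W) ∈ X := hXinv e heE _ g.2
        rcases hq : φ ⟨e (g : W), hegX⟩ with i | i
        · exact hmem _ hegX i hq
        · exfalso
          have h1 : orderOf (φ ⟨e (g : W), hegX⟩) = 2 * m := by
            rw [MulEquiv.orderOf_eq, ← Subgroup.orderOf_coe]
            show orderOf (e (g : W)) = 2 * m
            rw [MulEquiv.orderOf_eq, hgo]
          rw [hq, QuaternionGroup.orderOf_xa] at h1
          omega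
      have hAinv : ∀ a ∈ Subgroup.zpowers (g : W), e a ∈ Subgroup.zpowers (g : W) := by
        intro a ha
        obtain ⟨i, rfl⟩ := Subgroup.mem_zpowers_iff.mp ha
        rw [map_zpow]
        exact Subgroup.zpow_mem _ hegA i
      have hAX : Subgroup.zpowers (g : W) ≤ X := by
        rw [Subgroup.zpowers_le]; exact g.2
      have hAfix : ∀ a ∈ Subgroup.zpowers (g : W), e a = a := by
        refine fix_all_of_comm hW hp E hE X hXinv z hz2 hzuniq _ hAX ?_ e heE hAinv
        intro a ha b hb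
        obtain ⟨i, rfl⟩ := Subgroup.mem_zpowers_iff.mp ha
        obtain ⟨j, rfl⟩ := Subgroup.mem_zpowers_iff.mp hb
        rw [← zpow_add, ← zpow_add, add_comm]
      refine fix_of_index_two hW hp e (hpE e heE) X (Subgroup.zpowers (g : W)) (hXinv e heE)
        hAfix ?_
      intro u hu v hv huA hvA
      rcases hqu : φ ⟨u, hu⟩ with i | i
      · exact absurd (hmem u hu i hqu) huA
      · rcases hqv : φ ⟨v, hv⟩ with j | j
        · exact absurd (hmem v hv j hqv) hvA
        · -- v = u * g^(j - i)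
          have h1 : φ ⟨v, hv⟩ = φ ⟨u, hu⟩ * QuaternionGroup.a (j - i) := by
            rw [hqu, hqv, QuaternionGroup.xa_mul_a]; congr 1; ring
          have h2 : (QuaternionGroup.a (j - i) : QuaternionGroup m)
              = φ (g ^ ((j - i).val)) := by
            rw [map_pow, hg, MulEquiv.apply_symm_apply, QuaternionGroup.a_one_pow,
              ZMod.natCast_zmod_val]
          rw [h2, ← map_mul] at h1
          have := congrArg Subtype.val (φ.injective h1)
          refine ⟨(g : W) ^ ((j - i).val), Subgroup.pow_mem _ (Subgroup.mem_zpowers _) _, ?_⟩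
          simpa using this

end Cfsg.Agent.Lib.Helper25.QuatAut
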