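import Mathlib
import Cfsg.Agent.Lib.Helper14.RU0
import Cfsg.Agent.Lib.Helper25.RU34

/-!
# S2281 farm-out pieces B1, B2 (helper25, for helper14): `uh k s` is a regular unipotent element
-/

set_option autoImplicit false

namespace Cfsg.Agent.Lib.Helper25.RU

open Matrix Cfsg.Agent.Lib.Helper6 Cfsg.Agent.Lib.Helper9.SpGen Cfsg.Agent.Lib.Helper14
  Cfsg.Agent.Lib.Helper14.RU

section generic
variable {ι : Type*} [Fintype ι] [DecidableEq ι] {R : Type*} [CommRing R]

/-- `(M - 1)^m` kills `v` -/
def Kills (M : Matrix ι ι R) (m : ℕ) (v : ι → R) : Prop := ((M - 1) ^ m) *ᵥ v = 0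

theorem kills_zero (M : Matrix ι ι R) (m : ℕ) : Kills M m 0 := Matrix.mulVec_zero _

theorem kills_succ {M : Matrix ι ι R} {m : ℕ} {v : ι → R} (h : Kills M m v) : Kills M (m + 1) v := by
  unfold Kills at *
  rw [pow_succ', ← Matrix.mulVec_mulVec, h, Matrix.mulVec_zero]

theorem kills_le {M : Matrix ι ι R} {m m' : ℕ} {v : ι → R} (hm : m ≤ m') (h : Kills M m v) :
    Kills M m' v := by
  induction m', hm using Nat.le_induction with
  | base => exact h
  | succ n _ ih => exact kills_succ ih

theorem kills_of_sub {M : Matrix ι ι R} {m : ℕ} {v : ι → R} (h : Kills M m (M *ᵥ v - v)) :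
    Kills M (m + 1) v := by
  unfold Kills at *
  rw [pow_succ, ← Matrix.mulVec_mulVec, Matrix.sub_mulVec, Matrix.one_mulVec]
  exact h

theorem kills_add {M : Matrix ι ι R} {m : ℕ} {v w : ι → R} (hv : Kills M m v) (hw : Kills M m w) :
    Kills M m (v + w) := by
  unfold Kills at *
  rw [Matrix.mulVec_add, hv, hw, add_zero]

theorem kills_smul {M : Matrix ι ι R} {m : ℕ} {v : ι → R} (c : R) (hv : Kills M m v) :
    Kills M m (c • v) := by
  unfold Kills at *
  rw [Matrix.mulVec_smul, hv, smul_zero]

theorem kills_neg {M : Matrix ι ι R} {m : ℕ} {v : ι → R} (hv : Kills M m v) :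
    Kills M m (-v) := by
  unfold Kills at *
  rw [Matrix.mulVec_neg, hv, neg_zero]

theorem kills_sub {M : Matrix ι ι R} {m : ℕ} {v w : ι → R} (hv : Kills M m v) (hw : Kills M m w) :
    Kills M m (v - w) := by
  rw [sub_eq_add_neg]
  exact kills_add hv (kills_neg hw)

/-- if `(M-1)^m` kills all standard basis vectors it vanishes -/
theorem pow_eq_zero_of_kills {M : Matrix ι ι R} {m : ℕ}
    (h : ∀ a : ι, Kills M m (Pi.single a 1)) : (M - 1) ^ m = 0 := by
  ext b a
  have := congrFun (h a) b
  rw [Matrix.mulVec_single_one] at this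
  simpa using this

end generic

section
variable {k : ℕ} {F : Type*} [Field F]

local notation "ff" => Cfsg.sympForm (k + 2) F
local notation "VV" => (Fin (k + 2) ⊕ Fin (k + 2) → F)
local notation "GG" => Matrix.symplecticGroup (Fin (k + 2)) F
local notation "MM" => Matrix (Fin (k + 2) ⊕ Fin (k + 2)) (Fin (k + 2) ⊕ Fin (k + 2)) F

theorem kills_e (s : F) : ∀ (d : ℕ) (j : Fin (k + 2)), j.val + d = k + 2 →
    Kills ((uh k s : GG) : MM) d (e j : VV) := by
  intro d
  induction d with
  | zero =>
    intro j hj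
    have := j.isLt
    omega
  | succ d ih =>
    intro j hj
    apply kills_of_sub
    by_cases hlast : j.val + 1 < k + 2
    · have hj' : j = Fin.castSucc (⟨j.val, by omega⟩ : Fin (k + 1)) := Fin.ext rfl
      have h1 := act_uh_e_castSucc (k := k) (F := F) s (⟨j.val, by omega⟩ : Fin (k + 1))
      rw [← hj'] at h1
      have h2 : ((uh k s : GG) : MM) *ᵥ (e j : VV) - (e j : VV) =
          (e (Fin.succ (⟨j.val, by omega⟩ : Fin (k + 1))) : VV) := by
        rw [← act_def, h1]
        abel
      rw [h2]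
      apply ih
      simp only [Fin.val_succ]
      omega
    · have hj' : j = Fin.last (k + 1) := by
        apply Fin.ext
        have := j.isLt
        simp only [Fin.val_last]
        omega
      have h1 := act_uh_e_last (k := k) (F := F) s
      rw [← hj'] at h1
      have h2 : ((uh k s : GG) : MM) *ᵥ (e j : VV) - (e j : VV) = 0 := by
        rw [← act_def, h1, sub_self]
      rw [h2]
      exact kills_zero _ _

theorem kills_e' (s : F) (j : Fin (k + 2)) : Kills ((uh k s : GG) : MM) (k + 2) (e j : VV) := by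
  have h := kills_e (k := k) (F := F) s (k + 2 - j.val) j (by have := j.isLt; omega)
  exact kills_le (by omega) h

theorem act_uh_f_succ (s : F) (j : Fin (k + 1)) :
    act (uh k s) (f j.succ : VV) = act (dA k F) (f j.succ : VV) := by
  unfold uh
  rw [act_mul, act_T]
  have h0 : ff (f j.succ : VV) (e 0 : VV) = 0 := by
    rw [form_e_right, f_inr, if_neg]
    exact (Fin.succ_ne_zero j).symm
  rw [h0, mul_zero, zero_smul, add_zero]

theorem act_dA_f_succ (j : Fin (k + 1)) :
    act (dA k F) (f j.succ : VV) = (f j.succ : VV) - act (dA k F) (f j.castSucc : VV) := by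
  have h := act_dA_inv_f_succ (k := k) (F := F) j
  have h2 := congrArg (act (dA k F)) h
  rw [act_act_inv, act_add] at h2
  exact eq_sub_of_add_eq h2.symm

theorem kills_f (s : F) : ∀ (j : ℕ) (hj : j < k + 2),
    Kills ((uh k s : GG) : MM) (k + 3 + j) (f ⟨j, hj⟩ : VV) ∧
    Kills ((uh k s : GG) : MM) (k + 3 + j) (act (dA k F) (f ⟨j, hj⟩ : VV)) := by
  intro j
  induction j with
  | zero =>
    intro hj
    have hf0 : Kills ((uh k s : GG) : MM) (k + 3 + 0) (f ⟨0, hj⟩ : VV) := by
      apply kills_of_sub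
      have h1 := act_uh_f_zero (k := k) (F := F) s
      have h2 : ((uh k s : GG) : MM) *ᵥ (f ⟨0, hj⟩ : VV) - (f ⟨0, hj⟩ : VV) =
          s • ((e 0 : VV) + (e 1 : VV)) := by
        change ((uh k s : GG) : MM) *ᵥ (f 0 : VV) - (f 0 : VV) = _
        rw [← act_def, h1]
        abel
      rw [h2]
      exact kills_smul s (kills_add (kills_e' s 0) (kills_e' s 1))
    refine ⟨hf0, ?_⟩
    change Kills _ _ (act (dA k F) (f 0 : VV))
    rw [act_dA_f_zero]
    exact hf0
  | succ j ih =>
    intro hj
    obtain ⟨-, ihg⟩ := ih (by omega)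
    have hjs : (⟨j + 1, hj⟩ : Fin (k + 2)) = Fin.succ (⟨j, by omega⟩ : Fin (k + 1)) := Fin.ext rfl
    have hjc : (⟨j, by omega⟩ : Fin (k + 2)) = Fin.castSucc (⟨j, by omega⟩ : Fin (k + 1)) :=
      Fin.ext rfl
    rw [hjc] at ihg
    rw [hjs]
    have hf : Kills ((uh k s : GG) : MM) (k + 3 + (j + 1))
        (f (Fin.succ (⟨j, by omega⟩ : Fin (k + 1))) : VV) := by
      have e1 : k + 3 + (j + 1) = (k + 3 + j) + 1 := by omega
      rw [e1]
      apply kills_of_sub
      have h2 : ((uh k s : GG) : MM) *ᵥ (f (Fin.succ (⟨j, by omega⟩ : Fin (k + 1))) : VV) -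
          (f (Fin.succ (⟨j, by omega⟩ : Fin (k + 1))) : VV) =
          - act (dA k F) (f (Fin.castSucc (⟨j, by omega⟩ : Fin (k + 1))) : VV) := by
        rw [← act_def, act_uh_f_succ, act_dA_f_succ]
        abel
      rw [h2]
      exact kills_neg ihg
    refine ⟨hf, ?_⟩
    rw [act_dA_f_succ]
    exact kills_sub hf (kills_le (by omega) ihg)

/-- B1.  `uh k s - 1` is nilpotent. -/
theorem uh_sub_one_isNilpotent (s : F) : IsNilpotent (((uh k s : GG) : MM) - 1) := by
  refine ⟨2 * (k + 2), ?_⟩
  apply pow_eq_zero_of_kills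
  rintro (i | i)
  · change Kills _ _ (e i : VV)
    exact kills_le (by omega) (kills_e' s i)
  · change Kills _ _ (f i : VV)
    have h := (kills_f (k := k) (F := F) s i.val i.isLt).1
    exact kills_le (by have := i.isLt; omega) h

/-- the fixed vectors of `uh k s` (`s ≠ 0`) are the multiples of `e last` -/
theorem eq_smul_e_last_of_fixed (s : F) (hs : s ≠ 0) (x : VV) (hx : act (uh k s) x = x) :
    x = x (Sum.inl (Fin.last (k + 1))) • (e (Fin.last (k + 1)) : VV) := by
  unfold uh at hx
  rw [act_mul, act_T, form_e_right] at hx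
  -- coordinate `inl 0`
  have h0 := congrFun hx (Sum.inl 0)
  rw [act_dA_inl, dif_neg (by simp)] at h0
  simp only [Pi.add_apply, Pi.smul_apply, e_inl, if_pos, smul_eq_mul, mul_one, add_zero] at h0
  have hr0 : x (Sum.inr 0) = 0 := by
    have : s * x (Sum.inr 0) = 0 := by
      have := h0
      linear_combination this
    rcases mul_eq_zero.mp this with h | h
    · exact absurd h hs
    · exact h
  rw [hr0, mul_zero, zero_smul, add_zero] at hx
  have hx' : act (dA k F)⁻¹ x = x := by
    conv_lhs => rw [← hx]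
    rw [act_inv_act]
  have hl : ∀ i : Fin (k + 2), i.val + 1 < k + 2 → x (Sum.inl i) = 0 := by
    intro i hi
    have h1 := congrFun hx (Sum.inl ⟨i.val + 1, hi⟩)
    rw [act_dA_inl, dif_pos (by simp)] at h1
    have e1 : (⟨(⟨i.val + 1, hi⟩ : Fin (k + 2)).val - 1, by
        have := i.isLt; simp only; omega⟩ : Fin (k + 2)) = i := Fin.ext (by simp)
    rw [e1] at h1
    linear_combination h1
  have hr : ∀ i : Fin (k + 2), x (Sum.inr i) = 0 := by
    intro i
    by_cases hi : i.val = 0
    · have : i = 0 := Fin.ext hi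
      rw [this]
      exact hr0
    · have hlt : (i.val - 1) + 1 < k + 2 := by have := i.isLt; omega
      have h1 := congrFun hx' (Sum.inr ⟨i.val - 1, by omega⟩)
      rw [act_dA_inv_inr, dif_pos hlt] at h1
      have e1 : (⟨(⟨i.val - 1, by omega⟩ : Fin (k + 2)).val + 1, hlt⟩ : Fin (k + 2)) = i :=
        Fin.ext (by simp only; omega)
      rw [e1] at h1
      linear_combination h1
  funext c
  rcases c with i | i
  · rw [Pi.smul_apply, e_inl, smul_eq_mul]
    by_cases hi : i = Fin.last (k + 1)
    · rw [if_pos hi, mul_one, hi]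
    · rw [if_neg hi, mul_zero]
      apply hl
      have := i.isLt
      have h2 : i.val ≠ k + 1 := fun h => hi (Fin.ext (by simpa using h))
      omega
  · rw [Pi.smul_apply, e_inr, smul_zero]
    exact hr i

/-- B2.  regularity. -/
theorem uh_sub_one_pow_ne_zero (s : F) (hs : s ≠ 0)
    (hnil : IsNilpotent (((uh k s : GG) : MM) - 1)) :
    (((uh k s : GG) : MM) - 1) ^ (2 * (k + 2) - 1) ≠ 0 := by
  classical
  set M : MM := ((uh k s : GG) : MM) with hM
  set N : Module.End F VV := Matrix.toLinAlgEquiv' (M - 1) with hN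
  have hNnil : IsNilpotent N := hnil.map (Matrix.toLinAlgEquiv' (R := F))
  have hNapp : ∀ x : VV, N x = act (uh k s) x - x := by
    intro x
    rw [hN, Matrix.toLinAlgEquiv'_apply, Matrix.sub_mulVec, Matrix.one_mulVec, act_def]
  have hker : LinearMap.ker N = Submodule.span F {(e (Fin.last (k + 1)) : VV)} := by
    apply le_antisymm
    · intro x hx
      rw [LinearMap.mem_ker, hNapp, sub_eq_zero] at hx
      rw [Submodule.mem_span_singleton]
      exact ⟨_, (eq_smul_e_last_of_fixed s hs x hx).symm⟩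
    · rw [Submodule.span_le, Set.singleton_subset_iff]
      change _ ∈ LinearMap.ker N
      rw [LinearMap.mem_ker, hNapp, act_uh_e_last, sub_self]
  have hfr : Module.finrank F (LinearMap.ker N) = 1 := by
    rw [hker]
    exact finrank_span_singleton (e_ne_zero _)
  have hmain := pow_ne_zero_of_finrank_ker_eq_one N hNnil hfr
  have hdim : Module.finrank F VV = 2 * (k + 2) := by
    rw [Module.finrank_fintype_fun_eq_card, Fintype.card_sum, Fintype.card_fin]
    ring
  rw [hdim] at hmain
  intro h0
  apply hmain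
  rw [hN, ← map_pow, h0, map_zero]

end

end Cfsg.Agent.Lib.Helper25.RU
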