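import Mathlib

/-!
# S1237 FO-D (helper25): coprime stability

A `3`-power automorphism of a `2`-group that is trivial on `N` and on `T/N` is trivial.
-/

set_option autoImplicit false

namespace Cfsg.Agent.Lib.Helper25.S1237

universe u

variable {T : Type u} [Group T]

/-- iterating an automorphism that moves `t` by a fixed element `n` -/
theorem pow_apply_of_fixed (σ : MulAut T) (t n : T) (hn : σ n = n) (ht : σ t = t * n) (j : ℕ) :
    (σ ^ j) t = t * n ^ j := by
  induction j with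
  | zero => simp
  | succ j ih =>
    rw [pow_succ', MulAut.mul_apply, ih, map_mul, map_pow, hn, ht, mul_assoc, ← pow_succ']

/-- an element of a `2`-group whose `3^k`-th power is `1` is `1` -/
theorem eq_one_of_pow_three (hT : IsPGroup 2 T) (n : T) (k : ℕ) (h : n ^ (3 ^ k) = 1) : n = 1 := by
  obtain ⟨m, hm⟩ := hT n
  have h1 : orderOf n ∣ 3 ^ k := orderOf_dvd_of_pow_eq_one h
  have h2 : orderOf n ∣ 2 ^ m := orderOf_dvd_of_pow_eq_one hm
  have hcop : Nat.Coprime (3 ^ k) (2 ^ m) := by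
    apply Nat.Coprime.pow
    decide
  have h3 : orderOf n ∣ 1 := by
    have := Nat.dvd_gcd h1 h2
    rwa [hcop] at this
  have h4 : orderOf n = 1 := Nat.dvd_one.mp h3
  exact orderOf_eq_one_iff.mp h4

/-- **FO-D**. -/
theorem eq_of_stab (hT : IsPGroup 2 T) (σ : MulAut T) (hσ : ∃ k : ℕ, σ ^ (3 ^ k) = 1)
    (N : Subgroup T) (hN : ∀ n ∈ N, σ n = n) (hq : ∀ t : T, t⁻¹ * σ t ∈ N) : ∀ t : T, σ t = t := by
  intro t
  obtain ⟨k, hk⟩ := hσ
  have hn : σ (t⁻¹ * σ t) = t⁻¹ * σ t := hN _ (hq t)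
  have ht : σ t = t * (t⁻¹ * σ t) := by group
  have h1 := pow_apply_of_fixed σ t (t⁻¹ * σ t) hn ht (3 ^ k)
  rw [hk, MulAut.one_apply] at h1
  have h2 : (t⁻¹ * σ t) ^ (3 ^ k) = 1 := by
    have : t * 1 = t * (t⁻¹ * σ t) ^ (3 ^ k) := by rw [mul_one]; exact h1
    exact (mul_left_cancel this).symm
  have h3 := eq_one_of_pow_three hT _ k h2
  rw [ht, h3, mul_one]

end Cfsg.Agent.Lib.Helper25.S1237
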