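import Mathlib
import Cfsg.Agent.Lib.Helper16.S1237Defs
import Cfsg.Agent.Lib.Helper25.S1237FOA
import Cfsg.Agent.Lib.Helper25.S1237FOD

/-!
# S1237 FO-C3 (helper25): `ρ³ = 1` on invariant abelian subgroups
-/

set_option autoImplicit false

namespace Cfsg.Agent.Lib.Helper25.S1237

open Subgroup Cfsg.Agent.Lib.Helper16.S1237

universe u

variable {T : Type u} [Group T] [Finite T] {ρ : MulAut T}

theorem pow_three_apply (ρ : MulAut T) (x : T) : (ρ ^ 3) x = ρ (ρ (ρ x)) := by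
  rw [pow_succ, pow_succ, pow_one, MulAut.mul_apply, MulAut.mul_apply]

/-- the induction behind FO-C3 -/
theorem cube_of_comm_aux (H : Hyp ρ) (A : Subgroup T) (hA : Inv ρ A)
    (hc : ∀ a ∈ A, ∀ b ∈ A, a * b = b * a) (i : ℕ) :
    ∀ x ∈ A, x ^ (2 ^ i) = 1 → ρ (ρ (ρ x)) = x := by
  induction i with
  | zero =>
    intro x _ hx
    rw [pow_zero, pow_one] at hx
    rw [hx]; simp
  | succ i ih =>
    intro x hxA hx
    obtain ⟨k, hk⟩ := H.pow3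
    rcases Nat.eq_zero_or_pos k with hk0 | hkpos
    · rw [hk0, pow_zero, pow_one] at hk
      rw [hk]; rfl
    have hxx : (x * x) ^ (2 ^ i) = 1 := by
      rw [← pow_two, ← pow_mul, ← pow_succ']
      exact hx
    have hτxx : ρ (ρ (ρ (x * x))) = x * x := ih (x * x) (mul_mem hxA hxA) hxx
    have hτA : ρ (ρ (ρ x)) ∈ A := hA _ (hA _ (hA _ hxA))
    have hnA : x⁻¹ * ρ (ρ (ρ x)) ∈ A := mul_mem (Subgroup.inv_mem A hxA) hτA
    have hnn : (x⁻¹ * ρ (ρ (ρ x))) * (x⁻¹ * ρ (ρ (ρ x))) = 1 := by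
      have h1 : (x⁻¹ * ρ (ρ (ρ x))) * (x⁻¹ * ρ (ρ (ρ x)))
          = x⁻¹ * (ρ (ρ (ρ x)) * x⁻¹) * ρ (ρ (ρ x)) := by group
      rw [h1, hc _ hτA _ (Subgroup.inv_mem A hxA)]
      have h2 : x⁻¹ * (x⁻¹ * ρ (ρ (ρ x))) * ρ (ρ (ρ x)) = (x * x)⁻¹ * (ρ (ρ (ρ x)) * ρ (ρ (ρ x))) := by
        group
      rw [h2, ← map_mul, ← map_mul, ← map_mul, hτxx]
      group
    have hτn : (ρ ^ 3) (x⁻¹ * ρ (ρ (ρ x))) = x⁻¹ * ρ (ρ (ρ x)) := by
      rw [pow_three_apply]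
      exact cube_inv H _ hnn
    have hτx : (ρ ^ 3) x = x * (x⁻¹ * ρ (ρ (ρ x))) := by
      rw [pow_three_apply]; group
    have h3 := pow_apply_of_fixed (ρ ^ 3) x (x⁻¹ * ρ (ρ (ρ x))) hτn hτx (3 ^ (k - 1))
    have h4 : (ρ ^ 3) ^ (3 ^ (k - 1)) = 1 := by
      rw [← pow_mul, ← pow_succ']
      have : k - 1 + 1 = k := by omega
      rw [this, hk]
    rw [h4, MulAut.one_apply] at h3
    have h5 : (x⁻¹ * ρ (ρ (ρ x))) ^ (3 ^ (k - 1)) = 1 := by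
      have : x * 1 = x * (x⁻¹ * ρ (ρ (ρ x))) ^ (3 ^ (k - 1)) := by rw [mul_one]; exact h3
      exact (mul_left_cancel this).symm
    have h6 := eq_one_of_pow_three H.pg _ _ h5
    have h7 : ρ (ρ (ρ x)) = x * (x⁻¹ * ρ (ρ (ρ x))) := by group
    rw [h7, h6, mul_one]

/-- **FO-C3**. -/
theorem cube_of_comm (H : Hyp ρ) (A : Subgroup T) (hA : Inv ρ A)
    (hc : ∀ a ∈ A, ∀ b ∈ A, a * b = b * a) : ∀ x ∈ A, ρ (ρ (ρ x)) = x := by
  intro x hx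
  obtain ⟨i, hi⟩ := H.pg x
  exact cube_of_comm_aux H A hA hc i x hx hi

end Cfsg.Agent.Lib.Helper25.S1237
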