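import Mathlib
import Cfsg.Agent.S4762

/-!
# S4067 FO-A (for helper18): `k(G) > |G|/p` (`p` the least prime divisor) forces `G'` central of order `p`
-/

set_option autoImplicit false
set_option linter.unusedSectionVars false

namespace Cfsg.Agent.Lib.Helper25.S4067

open Cfsg

/-- A normal subgroup whose order is the least prime divisor of `|G|` is central. -/
theorem le_center_of_card_eq_minFac {G : Type*} [Group G] [Finite G] (K : Subgroup G) [K.Normal]
    (hK : Nat.card K = (Nat.card G).minFac) : K ≤ Subgroup.center G := by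
  intro x hx
  by_cases hx1 : x = 1
  · rw [hx1]; exact Subgroup.one_mem _
  -- the orbit of `x` under conjugation
  have hdvd : (MulAction.orbit (ConjAct G) x).ncard ∣ Nat.card G := by
    rw [← MulAction.index_stabilizer]
    have := Subgroup.index_dvd_card (MulAction.stabilizer (ConjAct G) x)
    rwa [Nat.card_congr (ConjAct.toConjAct (G := G)).toEquiv.symm] at this
  have hsub : MulAction.orbit (ConjAct G) x ⊆ (K : Set G) \ {1} := by
    rintro _ ⟨g, rfl⟩
    refine ⟨?_, ?_⟩
    · change g • x ∈ K
      rw [ConjAct.smul_def]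
      exact ‹K.Normal›.conj_mem x hx _
    · intro h
      change g • x = 1 at h
      rw [ConjAct.smul_def] at h
      apply hx1
      have := congrArg (fun y => (ConjAct.ofConjAct g)⁻¹ * y * ConjAct.ofConjAct g) h
      simpa [mul_assoc] using this
  have hfin : ((K : Set G) \ {1}).Finite := Set.toFinite _
  have hle : (MulAction.orbit (ConjAct G) x).ncard ≤ (Nat.card G).minFac - 1 := by
    refine (Set.ncard_le_ncard hsub hfin).trans ?_
    rw [Set.ncard_diff_singleton_of_mem (Subgroup.one_mem K)]
    have : (K : Set G).ncard = Nat.card K := rfl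
    rw [this, hK]
  have hg1 : Nat.card G ≠ 1 := by
    intro h1
    haveI : Subsingleton G := (Nat.card_eq_one_iff_unique.mp h1).1
    exact hx1 (Subsingleton.elim _ _)
  have hp : (Nat.card G).minFac.Prime := Nat.minFac_prime hg1
  have hne : (MulAction.orbit (ConjAct G) x).Nonempty := MulAction.nonempty_orbit x
  have hpos : 0 < (MulAction.orbit (ConjAct G) x).ncard :=
    (Set.ncard_pos (Set.toFinite _)).2 hne
  have hone : (MulAction.orbit (ConjAct G) x).ncard = 1 := by
    by_contra hcon
    have h2 : 2 ≤ (MulAction.orbit (ConjAct G) x).ncard := by omega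
    have := Nat.minFac_le_of_dvd h2 hdvd
    have := hp.two_le
    omega
  obtain ⟨a, ha⟩ := Set.ncard_eq_one.1 hone
  have hxa : x = a := by
    have : x ∈ MulAction.orbit (ConjAct G) x := MulAction.mem_orbit_self x
    rw [ha] at this
    exact this
  rw [Subgroup.mem_center_iff]
  intro g
  have hg : (ConjAct.toConjAct g) • x ∈ MulAction.orbit (ConjAct G) x := ⟨_, rfl⟩
  rw [ha, Set.mem_singleton_iff, ← hxa, ConjAct.smul_def, ConjAct.ofConjAct_toConjAct] at hg
  calc g * x = g * x * g⁻¹ * g := by group
    _ = x * g := by rw [hg]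

/-- **FO-A** of the S4067 skeleton. -/
theorem FOA_bad_structure {G : Type*} [Group G] [Finite G] (hna : ¬ IsMulCommutative G)
    (h : Nat.card G / (Nat.card G).minFac < Nat.card (ConjClasses G)) :
    ∃ c : G, orderOf c = (Nat.card G).minFac ∧ c ∈ Subgroup.center G ∧
      ∀ a b : G, a * b * a⁻¹ * b⁻¹ ∈ Subgroup.zpowers c := by
  classical
  haveI := Fintype.ofFinite G
  haveI : Fintype (IrrCharacter G) := Fintype.ofFinite _
  -- the commutator subgroup is nontrivial
  have hK1 : Nat.card (commutator G) ≠ 1 := by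
    intro h1
    have hbot : commutator G = ⊥ := Subgroup.card_eq_one.1 h1
    have hcenter : Subgroup.center G = ⊤ := (commutator_eq_bot_iff_center_eq_top G).1 hbot
    apply hna
    refine ⟨⟨fun x y => ?_⟩⟩
    have hx : x ∈ Subgroup.center G := by rw [hcenter]; exact Subgroup.mem_top x
    exact ((Subgroup.mem_center_iff.1 hx) y).symm
  have hg1 : Nat.card G ≠ 1 := by
    intro h1
    haveI : Subsingleton G := (Nat.card_eq_one_iff_unique.mp h1).1
    apply hK1
    exact Nat.card_unique
  have hp : (Nat.card G).minFac.Prime := Nat.minFac_prime hg1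
  set p := (Nat.card G).minFac with hpdef
  set g := Nat.card G with hgdef
  set i := (commutator G).index with hidef
  set d := Nat.card (commutator G) with hddef
  have hdi : d * i = g := Subgroup.card_mul_index _
  set S := Finset.univ.filter (fun χ : IrrCharacter G => charDegree (χ : G → ℂ) ≠ 1) with hS
  have hsplit : i + ∑ χ ∈ S, charDegree (χ : G → ℂ) ^ 2 = g := Cfsg.Agent.S4762.sum_sq_split
  -- the number of linear characters
  have hlin : (Finset.univ.filter (fun χ : IrrCharacter G => charDegree (χ : G → ℂ) = 1)).card = i := by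
    rw [hidef, ← Cfsg.Agent.Lib.Helper25.card_linear_char, Nat.card_eq_fintype_card, Fintype.card_subtype]
    congr 1
    ext χ
    simp only [Finset.mem_filter, Finset.mem_univ, true_and]
    rw [Cfsg.Agent.Lib.Helper25.char_one_eq_charDegree (Cfsg.Agent.Lib.Helper25.isCharacter_of_irr χ.2)]
    exact_mod_cast Iff.rfl
  have hk : S.card + i = Nat.card (ConjClasses G) := by
    rw [← Cfsg.Agent.Lib.Helper2.card_irrCharacter, Nat.card_eq_fintype_card, ← Finset.card_univ, ← hlin,
      add_comm]
    exact Finset.card_filter_add_card_filter_not (s := (Finset.univ : Finset (IrrCharacter G)))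
      (fun χ : IrrCharacter G => charDegree (χ : G → ℂ) = 1)
  -- every nonlinear degree is at least `p`
  have hgpos : 0 < g := Nat.card_pos
  have hdeg : ∀ χ ∈ S, p ≤ charDegree (χ : G → ℂ) := by
    intro χ hχ
    have hd : charDegree (χ : G → ℂ) ∣ g := Cfsg.Agent.Lib.Helper25.charDegree_dvd_card χ.2
    have hne : charDegree (χ : G → ℂ) ≠ 1 := (Finset.mem_filter.1 hχ).2
    have h0 : charDegree (χ : G → ℂ) ≠ 0 := by
      intro h0
      rw [h0] at hd
      exact hgpos.ne' (Nat.eq_zero_of_zero_dvd hd)
    exact Nat.minFac_le_of_dvd (by omega) hd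
  have hsum : p ^ 2 * S.card ≤ ∑ χ ∈ S, charDegree (χ : G → ℂ) ^ 2 := by
    calc p ^ 2 * S.card = ∑ _χ ∈ S, p ^ 2 := by rw [Finset.sum_const, smul_eq_mul, mul_comm]
      _ ≤ _ := Finset.sum_le_sum (fun χ hχ => Nat.pow_le_pow_left (hdeg χ hχ) 2)
  have hgk : g < Nat.card (ConjClasses G) * p := (Nat.div_lt_iff_lt_mul hp.pos).1 h
  -- arithmetic: `d ≤ p`
  have hp2 : 2 ≤ p := hp.two_le
  have hipos : 0 < i := by
    rcases Nat.eq_zero_or_pos i with h0 | h0
    · rw [h0, mul_zero] at hdi; omega
    · exact h0
  have hdle : d ≤ p := by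
    by_contra hcon
    push Not at hcon
    set s := S.card with hs
    have h1 : i + p ^ 2 * s ≤ g := by omega
    have h2 : g < (s + i) * p := by rw [hk]; exact hgk
    have h3 : (p + 1) * i ≤ g := by
      rw [← hdi]; exact Nat.mul_le_mul_right i hcon
    -- g p < s p² + i p² ≤ g - i + i p², while g (p-1) ≥ (p²-1) i
    have h1' : (i : ℤ) + (p : ℤ) ^ 2 * s ≤ g := by exact_mod_cast h1
    have h2' : (g : ℤ) < ((s : ℤ) + i) * p := by exact_mod_cast h2
    have h3' : ((p : ℤ) + 1) * i ≤ g := by exact_mod_cast h3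
    have hp2' : (2 : ℤ) ≤ p := by exact_mod_cast hp2
    have h4 : (g : ℤ) * p < ((s : ℤ) + i) * p * p := mul_lt_mul_of_pos_right h2' (by linarith)
    have h5 : ((p : ℤ) + 1) * i * ((p : ℤ) - 1) ≤ (g : ℤ) * ((p : ℤ) - 1) :=
      mul_le_mul_of_nonneg_right h3' (by linarith)
    nlinarith [h1', h4, h5]
  have hpd : p ≤ d := Nat.minFac_le_of_dvd (by
    have : d ≠ 0 := by
      intro h0; rw [h0, zero_mul] at hdi; omega
    omega) (Dvd.intro _ hdi)
  have hdp : d = p := le_antisymm hdle hpd
  -- `G'` is central and cyclic of order `p`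
  have hcen : commutator G ≤ Subgroup.center G := le_center_of_card_eq_minFac _ hdp
  haveI : Fact p.Prime := ⟨hp⟩
  haveI : IsCyclic (commutator G) := isCyclic_of_prime_card hdp
  obtain ⟨c, hc⟩ := IsCyclic.exists_generator (α := commutator G)
  have hord : orderOf (c : G) = p := by
    rw [Subgroup.orderOf_coe, orderOf_eq_card_of_forall_mem_zpowers hc]
    exact hdp
  have hzp : Subgroup.zpowers (c : G) = commutator G := by
    apply le_antisymm
    · rw [Subgroup.zpowers_le]; exact c.2
    · intro x hx
      obtain ⟨n, hn⟩ := hc ⟨x, hx⟩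
      refine ⟨n, ?_⟩
      have := congrArg Subtype.val hn
      simpa using this
  refine ⟨c, hord, hcen c.2, fun a b => ?_⟩
  rw [hzp, commutator_def]
  have := Subgroup.commutator_mem_commutator (Subgroup.mem_top a) (Subgroup.mem_top b)
  rwa [commutatorElement_def] at this

end Cfsg.Agent.Lib.Helper25.S4067
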