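import Mathlib
import Cfsg.Agent.Lib.Helper1.SubfSLDefs
import Cfsg.Agent.Lib.Helper25.S5639B1a

/-!
# S5639 FO-B1b (helper25, for helper1): the parameter set is a `K`-subalgebra
-/

set_option autoImplicit false

namespace Cfsg.Agent.Lib.Helper25.S5639

open Matrix Cfsg.Agent.Lib.Helper13 Cfsg.Agent.Lib.Helper1.SubfSL

variable {F : Type*} [Field F] {n : ℕ}

/-- **FO-B1b (rat).** `K ⊆ ParamSet` -/
theorem paramSet_rat (K : Subfield F) (M : Subgroup (GL (Fin n) F)) (hH : H1 K n ≤ M) (k : K) :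
    (k : F) ∈ ParamSet K M := by
  intro u φ h
  have h' : (k • φ) ⬝ᵥ u = 0 := by rw [smul_dotProduct, h, smul_zero]
  have := rat_tv_InM K M hH u (k • φ) h'
  rwa [rvec_smul] at this

/-- **FO-B1b (add).** `ParamSet` is closed under addition -/
theorem paramSet_add (K : Subfield F) (M : Subgroup (GL (Fin n) F))
    (a b : F) (ha : a ∈ ParamSet K M) (hb : b ∈ ParamSet K M) : a + b ∈ ParamSet K M := by
  intro u φ h
  have hdot : (a • rvec K φ) ⬝ᵥ rvec K u = 0 := by
    rw [smul_rvec_dot, h]; simp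
  have := (ha u φ h).mul (hb u φ h)
  rwa [tv_mul_tv _ _ _ hdot, ← add_smul] at this

/-- **FO-B1b (mul).** `ParamSet` is closed under multiplication -/
theorem paramSet_mul (hn : 3 ≤ n) (K : Subfield F) (M : Subgroup (GL (Fin n) F)) (hH : H1 K n ≤ M)
    (a b : F) (ha : a ∈ ParamSet K M) (hb : b ∈ ParamSet K M) : a * b ∈ ParamSet K M := by
  set i0 : Fin n := ⟨0, by omega⟩ with hi0
  set i1 : Fin n := ⟨1, by omega⟩ with hi1
  set i2 : Fin n := ⟨2, by omega⟩ with hi2
  have h01 : i0 ≠ i1 := by rw [hi0, hi1]; intro h; simpa using congrArg Fin.val h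
  have h02 : i0 ≠ i2 := by rw [hi0, hi2]; intro h; simpa using congrArg Fin.val h
  have h12 : i1 ≠ i2 := by rw [hi1, hi2]; intro h; simpa using congrArg Fin.val h
  have hdot : ∀ i j : Fin n, (Pi.single i (1 : K) : Fin n → K) ⬝ᵥ Pi.single j (1 : K) =
      if i = j then 1 else 0 := by
    intro i j
    rw [single_dotProduct, one_mul, Pi.single_apply]
  have d10 : (Pi.single i1 (1 : K) : Fin n → K) ⬝ᵥ Pi.single i0 (1 : K) = 0 := by
    rw [hdot, if_neg h01.symm]
  have d21 : (Pi.single i2 (1 : K) : Fin n → K) ⬝ᵥ Pi.single i1 (1 : K) = 0 := by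
    rw [hdot, if_neg h12.symm]
  have d20 : (Pi.single i2 (1 : K) : Fin n → K) ⬝ᵥ Pi.single i0 (1 : K) = 0 := by
    rw [hdot, if_neg h02.symm]
  have d11 : (Pi.single i1 (1 : K) : Fin n → K) ⬝ᵥ Pi.single i1 (1 : K) = 1 := by
    rw [hdot, if_pos rfl]
  have hA := ha (Pi.single i0 1) (Pi.single i1 1) d10
  have hB := hb (Pi.single i1 1) (Pi.single i2 1) d21
  have hψw : (a • rvec K (Pi.single i1 (1 : K))) ⬝ᵥ rvec K (Pi.single i0 (1 : K)) = 0 := by
    rw [smul_rvec_dot, d10]; simp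
  have hφv : (b • rvec K (Pi.single i2 (1 : K))) ⬝ᵥ rvec K (Pi.single i1 (1 : K)) = 0 := by
    rw [smul_rvec_dot, d21]; simp
  have hφw : (b • rvec K (Pi.single i2 (1 : K))) ⬝ᵥ rvec K (Pi.single i0 (1 : K)) = 0 := by
    rw [smul_rvec_dot, d20]; simp
  have key := tv_comm (rvec K (Pi.single i0 (1 : K))) (a • rvec K (Pi.single i1 (1 : K)))
    (rvec K (Pi.single i1 (1 : K))) (b • rvec K (Pi.single i2 (1 : K))) hψw hφv hφw
  have e1 : (a • rvec K (Pi.single i1 (1 : K))) ⬝ᵥ rvec K (Pi.single i1 (1 : K)) = a := by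
    rw [smul_rvec_dot, d11]; simp
  rw [e1, smul_smul] at key
  have hprod : InM M (tv (rvec K (Pi.single i0 (1 : K)))
      ((a * b) • rvec K (Pi.single i2 (1 : K)))) := by
    rw [← key]
    exact ((hA.mul hB).mul (InM.tv_inv hψw hA)).mul (InM.tv_inv hφv hB)
  have hne : ∀ i : Fin n, (Pi.single i (1 : K) : Fin n → K) ≠ 0 := by
    intro i h
    have := congrFun h i
    rw [Pi.single_eq_same, Pi.zero_apply] at this
    exact one_ne_zero this
  exact param_of_one hn K M hH (Pi.single i0 1) (Pi.single i2 1) (hne i0) (hne i2) d20 (a * b) hprod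

end Cfsg.Agent.Lib.Helper25.S5639
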