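import Mathlib

/-!
# Integrality condition for triangle-free strongly regular graphs

`srg_integrality`: if a real matrix `A` with zero trace satisfies
`A² = (k - μ) I + μ J - μ A` and `A J = J A = k J` (`J` the all-ones matrix), then
`μ² + 4 (k - μ)` is a perfect square or `μ (n - 1) = 2 k`.  The proof uses the trace of an
idempotent polynomial in `A` (no eigenvalues).
-/

set_option autoImplicit false

namespace Cfsg.Agent.Lib.Helper25.SRG

theorem idem_of_relations {R : Type*} [Ring R] [Algebra ℝ R] (B J : R) (s β n μ Δ : ℝ)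
    (hs : s * s = Δ)
    (hBB : B * B = Δ • (1 : R) + (4 * μ) • J) (hBJ : B * J = β • J) (hJB : J * B = β • J)
    (hJJ : J * J = n • J) (hμ : 4 * μ * n = β * β - Δ) :
    (n • (B + s • (1 : R)) - (β + s) • J) * (n • (B + s • (1 : R)) - (β + s) • J) =
      (2 * s * n) • (n • (B + s • (1 : R)) - (β + s) • J) := by
  subst hs
  have h11 : (B + s • (1 : R)) * (B + s • (1 : R)) =
      (2 * s) • (B + s • (1 : R)) + (4 * μ) • J := by
    have e : (B + s • (1 : R)) * (B + s • (1 : R)) = B * B + (2 * s) • B + (s * s) • (1 : R) := by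
      simp only [add_mul, mul_add, smul_mul_assoc, mul_smul_comm, one_mul, mul_one]
      module
    rw [e, hBB]
    module
  have h1J : (B + s • (1 : R)) * J = (β + s) • J := by
    rw [add_mul, hBJ, smul_mul_assoc, one_mul]
    module
  have hJ1 : J * (B + s • (1 : R)) = (β + s) • J := by
    rw [mul_add, hJB, mul_smul_comm, mul_one]
    module
  have e : (n • (B + s • (1 : R)) - (β + s) • J) * (n • (B + s • (1 : R)) - (β + s) • J) =
      (n * n) • ((B + s • (1 : R)) * (B + s • (1 : R))) - (n * (β + s)) • ((B + s • (1 : R)) * J)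
        - ((β + s) * n) • (J * (B + s • (1 : R))) + ((β + s) * (β + s)) • (J * J) := by
    simp only [sub_mul, mul_sub, smul_mul_assoc, mul_smul_comm]
    module
  rw [e, h11, h1J, hJ1, hJJ]
  have hc : 4 * μ * n ^ 2 - n * (β + s) ^ 2 = -(2 * s * n * (β + s)) := by
    linear_combination n * hμ
  have e2 : (n * n) • ((2 * s) • (B + s • (1 : R)) + (4 * μ) • J) - (n * (β + s)) • ((β + s) • J)
      - ((β + s) * n) • ((β + s) • J) + ((β + s) * (β + s)) • (n • J) =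
      (2 * s * n ^ 2) • (B + s • (1 : R)) + (4 * μ * n ^ 2 - n * (β + s) ^ 2) • J := by
    module
  rw [e2, hc]
  module

variable {V : Type*} [Fintype V] [DecidableEq V]

/-- The all-ones matrix. -/
def allOnes (V : Type*) : Matrix V V ℝ := fun _ _ => 1

theorem allOnes_mul_self : allOnes V * allOnes V = (Fintype.card V : ℝ) • allOnes V := by
  ext i j
  simp [allOnes, Matrix.mul_apply]

theorem trace_allOnes : (allOnes V).trace = (Fintype.card V : ℝ) := by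
  simp [allOnes, Matrix.trace]

/-- The trace of an idempotent real matrix is a natural number. -/
theorem trace_idempotent_nat (P : Matrix V V ℝ) (hP : P * P = P) : ∃ m : ℕ, P.trace = m := by
  have hidem : IsIdempotentElem (Matrix.toLin' P) := by
    unfold IsIdempotentElem
    rw [Module.End.mul_eq_comp, ← Matrix.toLin'_mul, hP]
  have h1 := (LinearMap.IsIdempotentElem.isProj_range _ hidem).trace
  rw [Matrix.trace_toLin'_eq] at h1
  exact ⟨_, h1⟩

theorem srg_integrality (A : Matrix V V ℝ) (k μ : ℕ) [Nonempty V] (hμk : μ ≤ k)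
    (hA2 : A * A = ((k : ℝ) - μ) • (1 : Matrix V V ℝ) + (μ : ℝ) • allOnes V - (μ : ℝ) • A)
    (hAJ : A * allOnes V = (k : ℝ) • allOnes V) (hJA : allOnes V * A = (k : ℝ) • allOnes V)
    (htr : A.trace = 0) :
    (μ : ℝ) * (Fintype.card V : ℝ) = k * k - k + μ + μ * k ∧
    (IsSquare (μ ^ 2 + 4 * (k - μ)) ∨ (μ : ℝ) * ((Fintype.card V : ℝ) - 1) = 2 * k) := by
  have hnpos : (0 : ℝ) < (Fintype.card V : ℝ) := Nat.cast_pos.mpr Fintype.card_pos
  have hJJ : allOnes V * allOnes V = (Fintype.card V : ℝ) • allOnes V := allOnes_mul_self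
  -- the counting identity
  have hcount : (μ : ℝ) * (Fintype.card V : ℝ) = k * k - k + μ + μ * k := by
    have h1 : A * A * allOnes V = ((k : ℝ) * k) • allOnes V := by
      rw [mul_assoc, hAJ, mul_smul_comm, hAJ, smul_smul]
    have h2 : A * A * allOnes V =
        ((k : ℝ) - μ + μ * (Fintype.card V : ℝ) - μ * k) • allOnes V := by
      rw [hA2, sub_mul, add_mul, smul_mul_assoc, one_mul, smul_mul_assoc, hJJ, smul_mul_assoc,
        hAJ]
      module
    have h3 : ((k : ℝ) * k) • allOnes V =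
        ((k : ℝ) - μ + μ * (Fintype.card V : ℝ) - μ * k) • allOnes V := h1.symm.trans h2
    obtain ⟨v⟩ := ‹Nonempty V›
    have h4 := congrFun (congrFun h3 v) v
    simp only [Matrix.smul_apply, allOnes, smul_eq_mul, mul_one] at h4
    linarith
  refine ⟨hcount, ?_⟩
  by_cases hΔ0 : μ ^ 2 + 4 * (k - μ) = 0
  · left
    rw [hΔ0]
    exact ⟨0, rfl⟩
  have hΔpos : (0 : ℝ) < ((μ ^ 2 + 4 * (k - μ) : ℕ) : ℝ) :=
    Nat.cast_pos.mpr (Nat.pos_of_ne_zero hΔ0)
  have hΔeq : ((μ ^ 2 + 4 * (k - μ) : ℕ) : ℝ) = (μ : ℝ) ^ 2 + 4 * ((k : ℝ) - μ) := by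
    push_cast [Nat.cast_sub hμk]
    ring
  have hspos : 0 < Real.sqrt ((μ ^ 2 + 4 * (k - μ) : ℕ) : ℝ) := Real.sqrt_pos.mpr hΔpos
  have hss : Real.sqrt ((μ ^ 2 + 4 * (k - μ) : ℕ) : ℝ) *
      Real.sqrt ((μ ^ 2 + 4 * (k - μ) : ℕ) : ℝ) = ((μ ^ 2 + 4 * (k - μ) : ℕ) : ℝ) :=
    Real.mul_self_sqrt hΔpos.le
  have hBB : ((2 : ℝ) • A + (μ : ℝ) • (1 : Matrix V V ℝ)) *
      ((2 : ℝ) • A + (μ : ℝ) • (1 : Matrix V V ℝ)) =
      ((μ ^ 2 + 4 * (k - μ) : ℕ) : ℝ) • (1 : Matrix V V ℝ) + (4 * (μ : ℝ)) • allOnes V := by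
    have e : ((2 : ℝ) • A + (μ : ℝ) • (1 : Matrix V V ℝ)) *
        ((2 : ℝ) • A + (μ : ℝ) • (1 : Matrix V V ℝ)) =
        (4 : ℝ) • (A * A) + (4 * (μ : ℝ)) • A + ((μ : ℝ) * μ) • (1 : Matrix V V ℝ) := by
      simp only [add_mul, mul_add, smul_mul_assoc, mul_smul_comm, one_mul, mul_one]
      module
    rw [e, hA2, hΔeq]
    module
  have hBJ : ((2 : ℝ) • A + (μ : ℝ) • (1 : Matrix V V ℝ)) * allOnes V =
      (2 * (k : ℝ) + μ) • allOnes V := by
    rw [add_mul, smul_mul_assoc, hAJ, smul_mul_assoc, one_mul]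
    module
  have hJB : allOnes V * ((2 : ℝ) • A + (μ : ℝ) • (1 : Matrix V V ℝ)) =
      (2 * (k : ℝ) + μ) • allOnes V := by
    rw [mul_add, mul_smul_comm, hJA, mul_smul_comm, mul_one]
    module
  have hμ' : 4 * (μ : ℝ) * (Fintype.card V : ℝ) =
      (2 * (k : ℝ) + μ) * (2 * (k : ℝ) + μ) - ((μ ^ 2 + 4 * (k - μ) : ℕ) : ℝ) := by
    rw [hΔeq]
    linear_combination 4 * hcount
  have hQ := idem_of_relations _ _ _ _ _ _ _ hss hBB hBJ hJB hJJ hμ'
  have h2sn : 2 * Real.sqrt ((μ ^ 2 + 4 * (k - μ) : ℕ) : ℝ) * (Fintype.card V : ℝ) ≠ 0 := by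
    positivity
  have hP := trace_idempotent_nat
    ((2 * Real.sqrt ((μ ^ 2 + 4 * (k - μ) : ℕ) : ℝ) * (Fintype.card V : ℝ))⁻¹ •
      ((Fintype.card V : ℝ) • (((2 : ℝ) • A + (μ : ℝ) • (1 : Matrix V V ℝ)) +
        Real.sqrt ((μ ^ 2 + 4 * (k - μ) : ℕ) : ℝ) • (1 : Matrix V V ℝ)) -
        ((2 * (k : ℝ) + μ) + Real.sqrt ((μ ^ 2 + 4 * (k - μ) : ℕ) : ℝ)) • allOnes V)) (by
      rw [smul_mul_assoc, mul_smul_comm, hQ, smul_smul, smul_smul]
      congr 1
      field_simp)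
  obtain ⟨m, hm⟩ := hP
  rw [Matrix.trace_smul, Matrix.trace_sub, Matrix.trace_smul, Matrix.trace_add, Matrix.trace_add,
    Matrix.trace_smul, htr, Matrix.trace_smul, Matrix.trace_one, Matrix.trace_smul,
    Matrix.trace_one, Matrix.trace_smul, trace_allOnes] at hm
  simp only [smul_eq_mul, mul_zero, zero_add] at hm
  have hkey : Real.sqrt ((μ ^ 2 + 4 * (k - μ) : ℕ) : ℝ) *
      (2 * (m : ℝ) - ((Fintype.card V : ℝ) - 1)) = μ * ((Fintype.card V : ℝ) - 1) - 2 * k := by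
    have hm' := (inv_mul_eq_iff_eq_mul₀ h2sn).mp hm
    have hn0 : (Fintype.card V : ℝ) ≠ 0 := hnpos.ne'
    apply mul_left_cancel₀ hn0
    linear_combination (-1 : ℝ) * hm'
  by_cases h2m : 2 * (m : ℝ) - ((Fintype.card V : ℝ) - 1) = 0
  · right
    rw [h2m, mul_zero] at hkey
    linarith
  · left
    by_contra hsq
    have hirr : Irrational (Real.sqrt ((μ ^ 2 + 4 * (k - μ) : ℕ) : ℝ)) :=
      irrational_sqrt_natCast_iff.mpr hsq
    generalize Real.sqrt ((μ ^ 2 + 4 * (k - μ) : ℕ) : ℝ) = s at hkey hirr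
    apply hirr
    refine ⟨(((μ : ℤ) * ((Fintype.card V : ℤ) - 1) - 2 * (k : ℤ) : ℤ) : ℚ) /
      ((2 * (m : ℤ) - ((Fintype.card V : ℤ) - 1) : ℤ) : ℚ), ?_⟩
    push_cast
    rw [div_eq_iff h2m]
    linear_combination (-1 : ℝ) * hkey

/-! ### The arithmetic of `3`-powers -/


theorem sq_mod_three (m : ℕ) : (m * m) % 3 ≠ 2 := by
  rw [Nat.mul_mod]
  have h : m % 3 < 3 := Nat.mod_lt _ (by norm_num)
  interval_cases (m % 3) <;> decide

theorem sq_mod_nine (m : ℕ) : (m * m) % 9 ≠ 6 := by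
  rw [Nat.mul_mod]
  have h : m % 9 < 9 := Nat.mod_lt _ (by norm_num)
  interval_cases (m % 9) <;> decide

theorem three_pow_mul_ne_sq : ∀ (i m r : ℕ), r % 3 = 2 → 3 ^ i * r ≠ m * m := by
  intro i
  induction i using Nat.twoStepInduction with
  | zero =>
    intro m r hr h
    rw [pow_zero, one_mul] at h
    exact sq_mod_three m (h ▸ hr)
  | one =>
    intro m r hr h
    rw [pow_one] at h
    have h3 : 3 ∣ m * m := ⟨r, h.symm⟩
    have h3m : 3 ∣ m := by
      rcases (Nat.Prime.dvd_mul Nat.prime_three).mp h3 with h1 | h1 <;> exact h1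
    obtain ⟨m', rfl⟩ := h3m
    have : r = 3 * (m' * m') := by nlinarith
    omega
  | more i ih _ =>
    intro m r hr h
    have h3 : 3 ∣ m * m := ⟨3 ^ (i + 1) * r, by rw [← h]; ring⟩
    have h3m : 3 ∣ m := by
      rcases (Nat.Prime.dvd_mul Nat.prime_three).mp h3 with h1 | h1 <;> exact h1
    obtain ⟨m', rfl⟩ := h3m
    apply ih m' r hr
    have e : 3 ^ (i + 2) * r = 9 * (3 ^ i * r) := by ring
    have : 9 * (3 ^ i * r) = 9 * (m' * m') := by rw [← e, h]; ring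
    exact Nat.eq_of_mul_eq_mul_left (by norm_num) this

theorem three_pow_case {i j : ℕ} (hij : i < j)
    (hsq : IsSquare ((3 ^ i) ^ 2 + 4 * (3 ^ j - 3 ^ i))) : i = 0 ∧ j = 1 := by
  obtain ⟨m, hm⟩ := hsq
  rcases Nat.eq_zero_or_pos i with hi | hi
  · subst hi
    refine ⟨rfl, ?_⟩
    by_contra hj
    have hj2 : 2 ≤ j := by omega
    obtain ⟨t, rfl⟩ : ∃ t, j = t + 2 := ⟨j - 2, by omega⟩
    have e : 3 ^ (t + 2) = 9 * 3 ^ t := by ring
    have ht : 1 ≤ 3 ^ t := Nat.one_le_pow _ _ (by norm_num)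
    rw [pow_zero, e] at hm
    apply sq_mod_nine m
    rw [← hm]
    omega
  · exfalso
    obtain ⟨e, rfl⟩ : ∃ e, j = i + e + 1 := ⟨j - i - 1, by omega⟩
    obtain ⟨i', rfl⟩ : ∃ i', i = i' + 1 := ⟨i - 1, by omega⟩
    have h1 : 1 ≤ 3 ^ i' := Nat.one_le_pow _ _ (by norm_num)
    have h2 : 1 ≤ 3 ^ e := Nat.one_le_pow _ _ (by norm_num)
    have e1 : 3 ^ (i' + 1 + e + 1) - 3 ^ (i' + 1) = 3 ^ (i' + 1) * (3 * 3 ^ e - 1) := by
      rw [Nat.mul_sub, mul_one]
      congr 1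
      ring
    have e2 : (3 ^ (i' + 1)) ^ 2 + 4 * (3 ^ (i' + 1) * (3 * 3 ^ e - 1)) =
        3 ^ (i' + 1) * (3 ^ (i' + 1) + 4 * (3 * 3 ^ e - 1)) := by ring
    rw [e1, e2] at hm
    apply three_pow_mul_ne_sq (i' + 1) m _ ?_ hm
    have e3 : 3 ^ (i' + 1) = 3 * 3 ^ i' := by ring
    rw [e3]
    omega


end Cfsg.Agent.Lib.Helper25.SRG
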