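import Mathlib
import Cfsg.Agent.Lib.Helper7.SectionOrtho
import Cfsg.Agent.Lib.Helper24.InducedDegree
import Cfsg.Agent.Lib.Helper24.BlockOrtho
import Cfsg.Agent.Lib.Helper25.CharBasic

/-!
# Block parts of class functions vanishing on a `p`-section (helper25 library)

A consequence of Brauer's second main theorem: if a class function vanishes on the `p`-section of
a `p`-element `z`, so do all its block parts.
-/

set_option autoImplicit false
open Cfsg

namespace Cfsg.Agent.Lib.Helper25

open Cfsg.Agent.Lib.Helper2 Cfsg.Agent.Lib.Helper7 Cfsg.Agent.Lib.Helper24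
open scoped ComplexConjugate

section

variable {G : Type*} [Group G] [Fintype G] {p : ℕ} [Fact p.Prime] {M : Ideal Cfsg.AlgInt}

/-- a class function vanishing on the `p`-section of the `p`-element `z` has all its block
parts vanishing on that section -/
theorem blockPart_section_vanish (hM : Cfsg.IsPModular p M) (B : Set (Cfsg.IrrCharacter G))
    (hB : Cfsg.IsPBlock M B) (φ : G → ℂ) (hφ : Cfsg.IsClassFunction G φ) (z : G)
    (hz : ∃ k : ℕ, orderOf z = p ^ k)
    (hvan : ∀ c : Subgroup.centralizer ({z} : Set G), ¬ p ∣ orderOf c → φ (z * (c : G)) = 0)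
    (w : Subgroup.centralizer ({z} : Set G)) (hw : ¬ p ∣ orderOf w) :
    Cfsg.blockPart B φ (z * (w : G)) = 0 := by
  classical
  haveI : Fintype (Cfsg.IrrCharacter G) := Fintype.ofFinite _
  haveI : Fintype (Subgroup.centralizer ({z} : Set G)) := Fintype.ofFinite _
  haveI : Fintype (Cfsg.IrrCharacter (Subgroup.centralizer ({z} : Set G))) := Fintype.ofFinite _
  obtain ⟨S, hSdef⟩ : ∃ S : Set (Cfsg.IrrCharacter (Subgroup.centralizer ({z} : Set G))),
      S = {ψ : Cfsg.IrrCharacter (Subgroup.centralizer ({z} : Set G)) |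
        Cfsg.IsInducedBlock M (Subgroup.centralizer ({z} : Set G))
        (Cfsg.blockOf M (ψ : Subgroup.centralizer ({z} : Set G) → ℂ)) B} := ⟨_, rfl⟩
  have hSmem : ∀ ψ : Cfsg.IrrCharacter (Subgroup.centralizer ({z} : Set G)),
      ψ ∈ S ↔ Cfsg.IsInducedBlock M (Subgroup.centralizer ({z} : Set G))
        (Cfsg.blockOf M (ψ : Subgroup.centralizer ({z} : Set G) → ℂ)) B := by
    intro ψ; rw [hSdef]; rfl
  have hSclosed : ∀ ψ ψ' : Cfsg.IrrCharacter (Subgroup.centralizer ({z} : Set G)),
      ψ ∈ S → ψ' ∈ Cfsg.blockOf M (ψ : Subgroup.centralizer ({z} : Set G) → ℂ) → ψ' ∈ S := by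
    intro ψ ψ' hψ hψ'
    rw [hSmem] at hψ ⊢
    rw [← eq_blockOf_of_mem hM ⟨ψ, rfl⟩ hψ']
    exact hψ
  -- the expansion of the shifted function
  set φz : Subgroup.centralizer ({z} : Set G) → ℂ := fun c => φ (z * (c : G)) with hφz
  have hexp := Cfsg.Agent.Lib.Helper25.classFunction_expansion φ hφ
  have hφz_exp : φz = ∑ ζ : Cfsg.IrrCharacter G, Cfsg.classInner φ (ζ : G → ℂ) •
      (fun c : Subgroup.centralizer ({z} : Set G) => (ζ : G → ℂ) (z * (c : G))) := by
    funext c
    have := hexp (z * (c : G))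
    rw [hφz]
    simp only [Finset.sum_apply, Pi.smul_apply, smul_eq_mul]
    exact this
  -- step 1
  rw [blockPart_apply, finsum_mem_eq_sum_ite]
  have h2 : ∀ ζ : Cfsg.IrrCharacter G,
      (if ζ ∈ B then Cfsg.classInner φ (ζ : G → ℂ) * (ζ : G → ℂ) (z * (w : G)) else 0)
      = Cfsg.classInner φ (ζ : G → ℂ) *
        ∑ ψ : Cfsg.IrrCharacter (Subgroup.centralizer ({z} : Set G)),
          (if ψ ∈ S then Cfsg.classInner
              (fun c : Subgroup.centralizer ({z} : Set G) => (ζ : G → ℂ) (z * (c : G)))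
              (ψ : Subgroup.centralizer ({z} : Set G) → ℂ)
            * (ψ : Subgroup.centralizer ({z} : Set G) → ℂ) w else 0) := by
    intro ζ
    have h := section_expansion hM z hz B hB ζ w hw
    have h' : ∑ ψ : Cfsg.IrrCharacter (Subgroup.centralizer ({z} : Set G)),
          (if ψ ∈ S then Cfsg.classInner
              (fun c : Subgroup.centralizer ({z} : Set G) => (ζ : G → ℂ) (z * (c : G)))
              (ψ : Subgroup.centralizer ({z} : Set G) → ℂ)
            * (ψ : Subgroup.centralizer ({z} : Set G) → ℂ) w else 0)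
        = if ζ ∈ B then (ζ : G → ℂ) (z * (w : G)) else 0 := by
      rw [← h]
      apply Finset.sum_congr rfl; intro ψ _
      by_cases hψ : ψ ∈ S
      · rw [if_pos hψ, if_pos ((hSmem ψ).mp hψ)]
      · rw [if_neg hψ, if_neg (fun h => hψ ((hSmem ψ).mpr h))]
    rw [h']
    split_ifs <;> simp
  rw [Finset.sum_congr rfl (fun ζ _ => h2 ζ)]
  simp only [Finset.mul_sum]
  rw [Finset.sum_comm]
  -- step 2: collect
  have h3 : ∀ ψ : Cfsg.IrrCharacter (Subgroup.centralizer ({z} : Set G)),
      ∑ ζ : Cfsg.IrrCharacter G, Cfsg.classInner φ (ζ : G → ℂ) *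
        (if ψ ∈ S then Cfsg.classInner
              (fun c : Subgroup.centralizer ({z} : Set G) => (ζ : G → ℂ) (z * (c : G)))
              (ψ : Subgroup.centralizer ({z} : Set G) → ℂ)
            * (ψ : Subgroup.centralizer ({z} : Set G) → ℂ) w else 0)
      = if ψ ∈ S then Cfsg.classInner φz (ψ : Subgroup.centralizer ({z} : Set G) → ℂ)
          * (ψ : Subgroup.centralizer ({z} : Set G) → ℂ) w else 0 := by
    intro ψ
    by_cases hψ : ψ ∈ S
    · simp only [if_pos hψ]
      rw [hφz_exp, Cfsg.Agent.Lib.Helper25.classInner_sum_left, Finset.sum_mul]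
      apply Finset.sum_congr rfl; intro ζ _
      ring
    · simp only [if_neg hψ, mul_zero, Finset.sum_const_zero]
  rw [Finset.sum_congr rfl (fun ψ _ => h3 ψ)]
  -- step 3: unfold the inner product and swap
  have h4 : ∀ ψ : Cfsg.IrrCharacter (Subgroup.centralizer ({z} : Set G)),
      (if ψ ∈ S then Cfsg.classInner φz (ψ : Subgroup.centralizer ({z} : Set G) → ℂ)
          * (ψ : Subgroup.centralizer ({z} : Set G) → ℂ) w else 0)
      = ∑ c : Subgroup.centralizer ({z} : Set G),
        (Nat.card (Subgroup.centralizer ({z} : Set G)) : ℂ)⁻¹ * φz c *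
          (if ψ ∈ S then conj ((ψ : Subgroup.centralizer ({z} : Set G) → ℂ) c)
            * (ψ : Subgroup.centralizer ({z} : Set G) → ℂ) w else 0) := by
    intro ψ
    by_cases hψ : ψ ∈ S
    · simp only [if_pos hψ]
      rw [classInner_def, Finset.mul_sum, Finset.sum_mul]
      apply Finset.sum_congr rfl; intro c _
      ring
    · simp only [if_neg hψ, mul_zero, Finset.sum_const_zero]
  rw [Finset.sum_congr rfl (fun ψ _ => h4 ψ), Finset.sum_comm]
  apply Finset.sum_eq_zero
  intro c _
  rw [← Finset.mul_sum]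
  by_cases hc : p ∣ orderOf c
  · have h5 := sum_ite_eq_zero_of_block_sums M hM S hSclosed
      (fun ψ => conj ((ψ : Subgroup.centralizer ({z} : Set G) → ℂ) c)
        * (ψ : Subgroup.centralizer ({z} : Set G) → ℂ) w) (by
        intro ψ₀ _
        have h6 := weak_block_orthogonality hM
          (Cfsg.blockOf M (ψ₀ : Subgroup.centralizer ({z} : Set G) → ℂ)) ⟨ψ₀, rfl⟩ w c hw hc
        rw [← h6]
        apply finsum_mem_congr rfl
        intro ψ _
        ring)
    rw [h5, mul_zero]
  · have : φz c = 0 := hvan c hc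
    rw [this, mul_zero, zero_mul]

end

end Cfsg.Agent.Lib.Helper25
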