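import Mathlib
import Cfsg.Agent.S0253
import Cfsg.Agent.S2119
import Cfsg.Agent.Lib.Helper3.CardSL
import Cfsg.Agent.Lib.Helper1.ThreeCycleGen

/-!
# Insoluble sharply doubly transitive groups (S0689), part A: abstract group theory (helper25)
-/

set_option autoImplicit false
set_option linter.unusedSectionVars false
set_option linter.unusedVariables false
set_option linter.style.haveILetI false

namespace Cfsg.Agent.Lib.Helper25.Sharp

/-- the order of a group acting freely divides the size of the set -/
theorem card_dvd_of_free {G X : Type*} [Group G] [MulAction G X]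
    (h : ∀ (g : G) (x : X), g • x = x → g = 1) : Nat.card G ∣ Nat.card X := by
  have hstab : ∀ b : X, MulAction.stabilizer G b = ⊥ := by
    intro b
    rw [eq_bot_iff]
    intro g hg
    rw [Subgroup.mem_bot]
    exact h g b (MulAction.mem_stabilizer_iff.mp hg)
  have e := MulAction.selfEquivOrbitsQuotientProd hstab
  rw [Nat.card_congr e, Nat.card_prod]
  exact dvd_mul_left _ _

/-- perfectness is transported by isomorphisms -/
theorem commutator_eq_top_of_equiv {A B : Type*} [Group A] [Group B] (e : A ≃* B)
    (hA : commutator A = ⊤) : commutator B = ⊤ := by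
  have h1 : (commutator A).map e.toMonoidHom = commutator B := by
    rw [commutator_def, commutator_def, Subgroup.map_commutator,
      Subgroup.map_top_of_surjective _ e.surjective]
  rw [← h1, hA]
  exact Subgroup.map_top_of_surjective _ e.surjective

/-- the derived series of a finite group stabilises -/
theorem exists_derivedSeries_stable (G : Type*) [Group G] [Finite G] :
    ∃ n : ℕ, derivedSeries G (n + 1) = derivedSeries G n := by
  by_contra hcon
  push Not at hcon
  have hlt : ∀ n : ℕ, Nat.card (derivedSeries G n) + n ≤ Nat.card G := by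
    intro n
    induction n with
    | zero =>
      rw [derivedSeries_zero, Subgroup.card_top]
      omega
    | succ n ih =>
      have hle : derivedSeries G (n + 1) ≤ derivedSeries G n :=
        derivedSeries_antitone G (Nat.le_succ n)
      have h1 : Nat.card (derivedSeries G (n + 1)) < Nat.card (derivedSeries G n) := by
        by_contra hge
        push Not at hge
        exact hcon n (Subgroup.eq_of_le_of_card_ge hle hge)
      omega
  have h1 := hlt (Nat.card G + 1)
  omega

/-- a finite non-solvable group has a nontrivial perfect normal subgroup -/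
theorem exists_perfect_core (G : Type*) [Group G] [Finite G] (hns : ¬ Group.IsSolvable G) :
    ∃ S : Subgroup G, S.Normal ∧ S ≠ ⊥ ∧ commutator S = ⊤ := by
  obtain ⟨n, hn⟩ := exists_derivedSeries_stable G
  refine ⟨derivedSeries G n, derivedSeries_normal G n, ?_, ?_⟩
  · intro hbot
    exact hns ((Group.isSolvable_def G).mpr ⟨n, hbot⟩)
  · have h1 : (commutator (derivedSeries G n)).map (derivedSeries G n).subtype =
        (⊤ : Subgroup (derivedSeries G n)).map (derivedSeries G n).subtype := by
      rw [Subgroup.map_subtype_commutator, ← derivedSeries_succ, hn, ← MonoidHom.range_eq_map,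
        Subgroup.range_subtype]
    exact Subgroup.map_injective (derivedSeries G n).subtype_injective h1

/-- automorphisms of a perfect group are determined by their action modulo the centre -/
theorem mulAut_eq_of_quot_center {T : Type*} [Group T] (hT : commutator T = ⊤)
    (σ τ : MulAut T) (h : ∀ g : T, (τ g)⁻¹ * σ g ∈ Subgroup.center T) : σ = τ := by
  let ζ : T →* Subgroup.center T :=
    { toFun := fun g => ⟨(τ g)⁻¹ * σ g, h g⟩
      map_one' := by
        apply Subtype.ext
        simp
      map_mul' := by
        intro a b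
        apply Subtype.ext
        show (τ (a * b))⁻¹ * σ (a * b) = ((τ a)⁻¹ * σ a) * ((τ b)⁻¹ * σ b)
        have hc := Subgroup.mem_center_iff.mp (h a)
        rw [map_mul, map_mul, mul_inv_rev]
        calc (τ b)⁻¹ * (τ a)⁻¹ * (σ a * σ b) = (τ b)⁻¹ * (((τ a)⁻¹ * σ a) * σ b) := by group
          _ = (τ b)⁻¹ * (σ b * ((τ a)⁻¹ * σ a)) := by rw [hc (σ b)]
          _ = ((τ b)⁻¹ * σ b) * ((τ a)⁻¹ * σ a) := by group
          _ = ((τ a)⁻¹ * σ a) * ((τ b)⁻¹ * σ b) := by rw [hc ((τ b)⁻¹ * σ b)] }
  haveI : Group.IsSolvable (Subgroup.center T) :=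
    Group.isSolvable_of_comm (fun a b => Subtype.ext (Subgroup.mem_center_iff.mp b.2 a.1))
  apply MulEquiv.ext
  intro g
  have h1 := Cfsg.Agent.Lib.Helper1.TCG.hom_trivial_of_perfect_of_solvable hT ζ g
  have h2 : (τ g)⁻¹ * σ g = 1 := congrArg Subtype.val h1
  calc σ g = τ g * ((τ g)⁻¹ * σ g) := by group
    _ = τ g := by rw [h2, mul_one]

/-- for a perfect group, `Aut T` embeds in `Aut (T / Z(T))` -/
theorem card_mulAut_le_quot_center {T : Type*} [Group T] [Finite T] (hT : commutator T = ⊤) :
    Nat.card (MulAut T) ≤ Nat.card (MulAut (T ⧸ Subgroup.center T)) := by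
  have hch : ∀ σ : MulAut T,
      (Subgroup.center T).map ((σ : T ≃* T) : T →* T) = Subgroup.center T :=
    fun σ => Subgroup.characteristic_iff_map_eq.mp inferInstance σ
  haveI : Finite (MulAut (T ⧸ Subgroup.center T)) :=
    Finite.of_injective (fun f : MulAut (T ⧸ Subgroup.center T) => (f : _ → _))
      (fun f g h => MulEquiv.ext (congrFun h))
  refine Nat.card_le_card_of_injective
    (fun σ : MulAut T => QuotientGroup.congr (Subgroup.center T) (Subgroup.center T) σ (hch σ)) ?_
  intro σ τ hστ
  apply mulAut_eq_of_quot_center hT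
  intro g
  have h1 : (QuotientGroup.congr (Subgroup.center T) (Subgroup.center T) σ (hch σ)) (g : T ⧸ Subgroup.center T) =
      (QuotientGroup.congr (Subgroup.center T) (Subgroup.center T) τ (hch τ)) (g : T ⧸ Subgroup.center T) := by
    have := congrArg (fun f : MulAut (T ⧸ Subgroup.center T) => f (g : T ⧸ Subgroup.center T)) hστ
    exact this
  rw [QuotientGroup.congr_mk, QuotientGroup.congr_mk] at h1
  exact QuotientGroup.eq.mp h1.symm

/-! ### Facts on `SL(2,5)` -/

abbrev SL25 := Matrix.SpecialLinearGroup (Fin 2) (ZMod 5)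

theorem card_SL25 : Nat.card SL25 = 120 := by
  rw [SL25, Cfsg.Agent.Lib.Helper3.CardSL.card_SL2, ZMod.card]
  norm_num

theorem card_alt5 : Nat.card (alternatingGroup (Fin 5)) = 60 := by
  have h := two_mul_card_alternatingGroup (α := Fin 5)
  rw [Fintype.card_perm, Fintype.card_fin] at h
  rw [Nat.card_eq_fintype_card]
  have h5 : Nat.factorial 5 = 120 := by decide
  omega

theorem card_quot_center_SL25 : Nat.card (SL25 ⧸ Subgroup.center SL25) = 60 := by
  obtain ⟨e⟩ := Cfsg.Agent.S0253.result (F := ZMod 5) (ZMod.card 5)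
  rw [← card_alt5]
  exact Nat.card_congr e.toEquiv

theorem card_center_SL25 : Nat.card (Subgroup.center SL25) = 2 := by
  have h := Subgroup.card_eq_card_quotient_mul_card_subgroup (Subgroup.center SL25)
  rw [card_SL25, card_quot_center_SL25] at h
  omega

theorem card_mulAut_alt5 : Nat.card (MulAut (alternatingGroup (Fin 5))) = 120 := by
  have hb := Cfsg.Agent.S2119.result 5 (by norm_num) (by norm_num)
  rw [← Nat.card_congr (Equiv.ofBijective _ hb), Nat.card_eq_fintype_card, Fintype.card_perm,
    Fintype.card_fin]
  decide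

theorem card_mulAut_quot_center_SL25 : Nat.card (MulAut (SL25 ⧸ Subgroup.center SL25)) = 120 := by
  obtain ⟨e⟩ := Cfsg.Agent.S0253.result (F := ZMod 5) (ZMod.card 5)
  rw [← card_mulAut_alt5]
  exact Nat.card_congr (MulAut.congr e).toEquiv

/-- a perfect group isomorphic to `SL(2,5)` has at most 120 automorphisms -/
theorem card_mulAut_le {S : Type*} [Group S] (e : S ≃* SL25) (hS : commutator S = ⊤) :
    Nat.card (MulAut S) ≤ 120 := by
  haveI : Finite SL25 := Nat.finite_of_card_ne_zero (by rw [card_SL25]; norm_num)
  haveI : Finite S := Finite.of_equiv _ e.symm.toEquiv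
  have hperf : commutator SL25 = ⊤ := commutator_eq_top_of_equiv e hS
  rw [Nat.card_congr (MulAut.congr e).toEquiv, ← card_mulAut_quot_center_SL25]
  exact card_mulAut_le_quot_center hperf

theorem card_center_of_equiv {S : Type*} [Group S] (e : S ≃* SL25) :
    Nat.card (Subgroup.center S) = 2 := by
  rw [Nat.card_congr (Subgroup.centerCongr e).toEquiv, card_center_SL25]

/-- the elements `i`, `j`, `-1` of `SL(2,5)` -/
def qi : SL25 := ⟨!![2, 0; 0, 3], by decide⟩
def qj : SL25 := ⟨!![0, 1; 4, 0], by decide⟩
def qz : SL25 := ⟨!![4, 0; 0, 4], by decide⟩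

theorem exists_Q8_SL25 : ∃ i j z : SL25, z ≠ 1 ∧ z * z = 1 ∧ i * i = z ∧ j * j = z ∧
    i * j = z * (j * i) := by
  refine ⟨qi, qj, qz, ?_, ?_, ?_, ?_, ?_⟩
  · intro h
    have h1 := congrArg (fun m : SL25 => m.1 0 0) h
    revert h1
    decide
  · decide
  · decide
  · decide
  · decide

end Cfsg.Agent.Lib.Helper25.Sharp
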