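import Mathlib
import Cfsg.Agent.Lib.Helper25.SharpA

/-!
# Insoluble sharply doubly transitive groups (S0689), part B: linear algebra (helper25)
-/

set_option autoImplicit false
set_option linter.unusedSectionVars false
set_option linter.unusedVariables false
set_option linter.style.haveILetI false

namespace Cfsg.Agent.Lib.Helper25.Sharp

section Quat

variable {p : ℕ} [Fact p.Prime] {V : Type*} [AddCommGroup V] [Module (ZMod p) V]

/-- the involution `u = a I + b J` -/
def uMap (I J : V ≃ₗ[ZMod p] V) (a b : ZMod p) : V →ₗ[ZMod p] V :=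
  a • (I : V →ₗ[ZMod p] V) + b • (J : V →ₗ[ZMod p] V)

theorem uMap_apply (I J : V ≃ₗ[ZMod p] V) (a b : ZMod p) (v : V) :
    uMap I J a b v = a • I v + b • J v := rfl

variable {I J : V ≃ₗ[ZMod p] V} {a b : ZMod p}
  (hI : ∀ v, I (I v) = -v) (hJ : ∀ v, J (J v) = -v) (hIJ : ∀ v, I (J v) = -J (I v))
  (hab : a ^ 2 + b ^ 2 = -1)

include hI hJ hIJ hab in
theorem uMap_uMap (v : V) : uMap I J a b (uMap I J a b v) = v := by
  have hJI : ∀ v, J (I v) = -I (J v) := fun v => by rw [hIJ, neg_neg]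
  have h1 : uMap I J a b (uMap I J a b v) = (-(a ^ 2 + b ^ 2)) • v := by
    simp only [uMap_apply, map_add, map_smul, hI, hJ, hJI]
    module
  rw [h1, hab, neg_neg, one_smul]

include hI hJ hIJ in
theorem uMap_K (v : V) : uMap I J a b (I (J v)) = -(I (J (uMap I J a b v))) := by
  have hJI : ∀ v, J (I v) = -I (J v) := fun v => by rw [hIJ, neg_neg]
  simp only [uMap_apply, map_add, map_smul, map_neg, hI, hJ, hJI]
  module

/-- the `+1`-eigenspace of `u` -/
def Wplus (I J : V ≃ₗ[ZMod p] V) (a b : ZMod p) : Submodule (ZMod p) V :=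
  LinearMap.ker (uMap I J a b - LinearMap.id)

theorem mem_Wplus {I J : V ≃ₗ[ZMod p] V} {a b : ZMod p} {v : V} :
    v ∈ Wplus I J a b ↔ uMap I J a b v = v := by
  rw [Wplus, LinearMap.mem_ker, LinearMap.sub_apply, LinearMap.id_apply, sub_eq_zero]

/-- anything commuting with `I` and `J` preserves `Wplus` -/
theorem map_mem_Wplus {c : V ≃ₗ[ZMod p] V} (hcI : ∀ v, c (I v) = I (c v))
    (hcJ : ∀ v, c (J v) = J (c v)) {v : V} (hv : v ∈ Wplus I J a b) : c v ∈ Wplus I J a b := by
  rw [mem_Wplus] at hv ⊢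
  calc uMap I J a b (c v) = a • I (c v) + b • J (c v) := rfl
    _ = a • c (I v) + b • c (J v) := by rw [hcI, hcJ]
    _ = c (a • I v + b • J v) := by rw [map_add, map_smul, map_smul]
    _ = c v := by rw [← uMap_apply, hv]

include hI hJ hIJ hab in
theorem card_eq_sq [Finite V] (h2 : (2 : ZMod p) ≠ 0) :
    Nat.card V = Nat.card (Wplus I J a b) ^ 2 := by
  have hJI : ∀ v, J (I v) = -I (J v) := fun v => by rw [hIJ, neg_neg]
  have huu := uMap_uMap hI hJ hIJ hab
  have huK := uMap_K (a := a) (b := b) hI hJ hIJ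
  -- the map `(x, y) ↦ x + K y`
  let Ψ : (Wplus I J a b) × (Wplus I J a b) → V := fun xy => (xy.1 : V) + I (J (xy.2 : V))
  have hinj : Function.Injective Ψ := by
    rintro ⟨x, y⟩ ⟨x', y'⟩ hxy
    have hx := mem_Wplus.mp x.2
    have hy := mem_Wplus.mp y.2
    have hx' := mem_Wplus.mp x'.2
    have hy' := mem_Wplus.mp y'.2
    have h1 : (x : V) + I (J (y : V)) = (x' : V) + I (J (y' : V)) := hxy
    have h2' : (x : V) - I (J (y : V)) = (x' : V) - I (J (y' : V)) := by
      have := congrArg (uMap I J a b) h1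
      rw [map_add, map_add, huK, huK, hx, hy, hx', hy'] at this
      rw [sub_eq_add_neg, sub_eq_add_neg]
      exact this
    have h3 : (2 : ZMod p) • (x : V) = (2 : ZMod p) • (x' : V) := by
      have : (x : V) + I (J (y : V)) + ((x : V) - I (J (y : V))) =
          (x' : V) + I (J (y' : V)) + ((x' : V) - I (J (y' : V))) := by rw [h1, h2']
      calc (2 : ZMod p) • (x : V) = (x : V) + I (J (y : V)) + ((x : V) - I (J (y : V))) := by module
        _ = (x' : V) + I (J (y' : V)) + ((x' : V) - I (J (y' : V))) := this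
        _ = (2 : ZMod p) • (x' : V) := by module
    have h4 : (x : V) = (x' : V) := by
      have := congrArg (fun w => (2 : ZMod p)⁻¹ • w) h3
      simpa [smul_smul, inv_mul_cancel₀ h2] using this
    have h5 : I (J (y : V)) = I (J (y' : V)) := by
      rw [h4] at h1
      exact add_left_cancel h1
    have h6 : (y : V) = (y' : V) := J.injective (I.injective h5)
    exact Prod.ext (Subtype.ext h4) (Subtype.ext h6)
  have hsurj : Function.Surjective Ψ := by
    intro v
    -- `v = P₊ v + P₋ v`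
    have hP : uMap I J a b ((2 : ZMod p)⁻¹ • (v + uMap I J a b v)) =
        (2 : ZMod p)⁻¹ • (v + uMap I J a b v) := by
      rw [map_smul, map_add, huu, add_comm]
    -- `K⁻¹ (P₋ v)`, with `K⁻¹ w = J (I w)` up to sign: `K (J (I w)) = I (J (J (I w))) = w`
    have hKinv : ∀ w, I (J (J (I w))) = w := by
      intro w
      rw [hJ, map_neg, hI, neg_neg]
    have hM : uMap I J a b (J (I ((2 : ZMod p)⁻¹ • (v - uMap I J a b v)))) =
        J (I ((2 : ZMod p)⁻¹ • (v - uMap I J a b v))) := by
      have h1 : uMap I J a b (I (J (J (I ((2 : ZMod p)⁻¹ • (v - uMap I J a b v)))))) =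
          -(I (J (uMap I J a b (J (I ((2 : ZMod p)⁻¹ • (v - uMap I J a b v))))))) := huK _
      rw [hKinv] at h1
      have h2' : uMap I J a b ((2 : ZMod p)⁻¹ • (v - uMap I J a b v)) =
          -((2 : ZMod p)⁻¹ • (v - uMap I J a b v)) := by
        rw [map_smul, map_sub, huu]
        module
      rw [h2'] at h1
      have h3 : I (J (uMap I J a b (J (I ((2 : ZMod p)⁻¹ • (v - uMap I J a b v)))))) =
          I (J (J (I ((2 : ZMod p)⁻¹ • (v - uMap I J a b v))))) := by
        rw [hKinv]
        exact (neg_injective h1).symm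
      exact J.injective (I.injective h3)
    refine ⟨(⟨_, mem_Wplus.mpr hP⟩, ⟨_, mem_Wplus.mpr hM⟩), ?_⟩
    show (2 : ZMod p)⁻¹ • (v + uMap I J a b v) +
      I (J (J (I ((2 : ZMod p)⁻¹ • (v - uMap I J a b v))))) = v
    rw [hKinv]
    have h22 : (2 : ZMod p)⁻¹ * 2 = 1 := inv_mul_cancel₀ h2
    calc (2 : ZMod p)⁻¹ • (v + uMap I J a b v) + (2 : ZMod p)⁻¹ • (v - uMap I J a b v)
        = ((2 : ZMod p)⁻¹ * 2) • v := by module
      _ = v := by rw [h22, one_smul]
  rw [← Nat.card_congr (Equiv.ofBijective Ψ ⟨hinj, hsurj⟩), Nat.card_prod, pow_two]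

theorem card_Wplus_pow [Finite V] (I J : V ≃ₗ[ZMod p] V) (a b : ZMod p) :
    ∃ j : ℕ, Nat.card (Wplus I J a b) = p ^ j := by
  haveI : Module.Finite (ZMod p) V := Module.Finite.of_finite
  refine ⟨Module.finrank (ZMod p) (Wplus I J a b), ?_⟩
  rw [Module.natCard_eq_pow_finrank (K := ZMod p), Nat.card_zmod]

end Quat

end Cfsg.Agent.Lib.Helper25.Sharp
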