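import Mathlib
import Cfsg.Agent.Lib.Helper10.UniqueOrderP
import Cfsg.Agent.Lib.Helper1.ThreeCycleGen
import Cfsg.Agent.S0106
import Cfsg.Agent.S3378

/-!
# Zassenhaus' theorem, level 2 (helper25, FO-D of helper5's plan for S0690)

A perfect fixed-point-free linear group is `SL(2,5)`, given the structure of the subgroup
generated by the elements of order 3.
-/

set_option autoImplicit false
set_option linter.unusedSectionVars false
set_option linter.unusedVariables false
set_option linter.style.haveILetI false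

namespace Cfsg.Agent.Lib.Helper25.ZassD

open Cfsg.Agent.Lib.Helper10 (UniqueOrderP)

/-- commuting elements of prime order `p` generate a cyclic group -/
def CommCyc (G : Type*) [Group G] : Prop :=
  ∀ p : ℕ, p.Prime → ∀ x y : G, x * y = y * x → x ^ p = 1 → x ≠ 1 → y ^ p = 1 →
    y ∈ Subgroup.zpowers x

/-- a fixed-point-free linear group over an algebraically closed field satisfies `CommCyc` -/
theorem commCyc_of_fpf {Ω : Type*} [Field Ω] [IsAlgClosed Ω] {G : Type*} [Group G]
    {V : Type*} [AddCommGroup V] [Module Ω V] [Module.Finite Ω V] [Nontrivial V]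
    (ρ : G →* Module.End Ω V) (hfpf : ∀ g : G, g ≠ 1 → ∀ v : V, ρ g v = v → v = 0) :
    CommCyc G := by
  intro p hp x y hxy hx hx1 hy
  haveI : Fact p.Prime := ⟨hp⟩
  have hXY : ρ x * ρ y = ρ y * ρ x := by rw [← map_mul, ← map_mul, hxy]
  obtain ⟨α, hα⟩ := Module.End.exists_eigenvalue (ρ x)
  -- the eigenspace is invariant under `ρ y`
  have hinv : ∀ v ∈ Module.End.eigenspace (ρ x) α, ρ y v ∈ Module.End.eigenspace (ρ x) α := by
    intro v hv
    rw [Module.End.mem_eigenspace_iff] at hv ⊢
    have h1 : ρ x (ρ y v) = (ρ x * ρ y) v := rfl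
    rw [h1, hXY]
    show ρ y (ρ x v) = α • ρ y v
    rw [hv, map_smul]
  haveI : Nontrivial (Module.End.eigenspace (ρ x) α) :=
    (Submodule.nontrivial_iff_ne_bot).mpr hα
  obtain ⟨β, hβ⟩ := Module.End.exists_eigenvalue ((ρ y).restrict hinv)
  obtain ⟨w, hw⟩ := hβ.exists_hasEigenvector
  have hw0 : (w : V) ≠ 0 := by
    intro h
    exact hw.2 (Subtype.ext h)
  have hXw : ρ x (w : V) = α • (w : V) := Module.End.mem_eigenspace_iff.mp w.2
  have hYw : ρ y (w : V) = β • (w : V) := by
    have h1 := hw.apply_eq_smul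
    have h2 := congrArg Subtype.val h1
    simpa using h2
  have hXpow : ∀ n : ℕ, ρ (x ^ n) (w : V) = α ^ n • (w : V) := by
    intro n
    induction n with
    | zero => simp
    | succ n ih =>
      rw [pow_succ, map_mul]
      show ρ (x ^ n) (ρ x (w : V)) = _
      rw [hXw, map_smul, ih, smul_smul, pow_succ, mul_comm]
  have hYpow : ∀ n : ℕ, ρ (y ^ n) (w : V) = β ^ n • (w : V) := by
    intro n
    induction n with
    | zero => simp
    | succ n ih =>
      rw [pow_succ, map_mul]
      show ρ (y ^ n) (ρ y (w : V)) = _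
      rw [hYw, map_smul, ih, smul_smul, pow_succ, mul_comm]
  have hαp : α ^ p = 1 := by
    have h1 := hXpow p
    rw [hx, map_one] at h1
    have h2 : (α ^ p - 1) • (w : V) = 0 := by
      rw [sub_smul, one_smul, ← h1]
      simp
    rcases smul_eq_zero.mp h2 with h | h
    · exact sub_eq_zero.mp h
    · exact absurd h hw0
  have hβp : β ^ p = 1 := by
    have h1 := hYpow p
    rw [hy, map_one] at h1
    have h2 : (β ^ p - 1) • (w : V) = 0 := by
      rw [sub_smul, one_smul, ← h1]
      simp
    rcases smul_eq_zero.mp h2 with h | h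
    · exact sub_eq_zero.mp h
    · exact absurd h hw0
  have hα1 : α ≠ 1 := by
    rintro rfl
    rw [one_smul] at hXw
    exact hw0 (hfpf x hx1 _ hXw)
  have hord : orderOf α = p := orderOf_eq_prime hαp hα1
  have hprim : IsPrimitiveRoot α p := hord ▸ IsPrimitiveRoot.orderOf α
  haveI : NeZero p := ⟨hp.ne_zero⟩
  obtain ⟨i, -, hi⟩ := hprim.eq_pow_of_pow_eq_one hβp
  -- `(x ^ i)⁻¹ * y` fixes `w`
  have hfix : ρ ((x ^ i)⁻¹ * y) (w : V) = (w : V) := by
    rw [map_mul]
    show ρ (x ^ i)⁻¹ (ρ y (w : V)) = _
    rw [hYw, ← hi, ← hXpow i]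
    show (ρ (x ^ i)⁻¹ * ρ (x ^ i)) (w : V) = _
    rw [← map_mul, inv_mul_cancel, map_one]
    rfl
  have h1 : (x ^ i)⁻¹ * y = 1 := by
    by_contra hne
    exact hw0 (hfpf _ hne _ hfix)
  have h2 : y = x ^ i := by
    calc y = x ^ i * ((x ^ i)⁻¹ * y) := by group
      _ = x ^ i := by rw [h1, mul_one]
  rw [h2]
  exact Subgroup.pow_mem _ (Subgroup.mem_zpowers x) i

variable {G : Type*} [Group G]

theorem CommCyc.subgroup (h : CommCyc G) (H : Subgroup G) : CommCyc H := by
  intro p hp x y hxy hx hx1 hy
  have h1 := h p hp (x : G) (y : G) (by exact_mod_cast congrArg Subtype.val hxy)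
    (by exact_mod_cast congrArg Subtype.val hx)
    (fun h0 => hx1 (Subtype.ext h0)) (by exact_mod_cast congrArg Subtype.val hy)
  obtain ⟨k, hk⟩ := Subgroup.mem_zpowers_iff.mp h1
  refine Subgroup.mem_zpowers_iff.mpr ⟨k, ?_⟩
  apply Subtype.ext
  rw [Subgroup.coe_zpow]
  exact hk

/-- a `p`-group with `CommCyc` has at most one subgroup of order `p` -/
theorem CommCyc.uniqueOrderP {P : Type*} [Group P] [Finite P] (h : CommCyc P) {p : ℕ}
    [Fact p.Prime] (hP : IsPGroup p P) : UniqueOrderP p P := by
  have hp : p.Prime := Fact.out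
  intro x y hx hx1 hy
  have hnt : Nontrivial P := ⟨⟨x, 1, hx1⟩⟩
  have hcn : Nontrivial (Subgroup.center P) := hP.center_nontrivial
  obtain ⟨z0, hz0⟩ := exists_ne (1 : Subgroup.center P)
  obtain ⟨z, hzc, hz1, hzp⟩ : ∃ z : P, z ∈ Subgroup.center P ∧ z ≠ 1 ∧ z ^ p = 1 := by
    have hex : ∃ k, (z0 : P) ^ p ^ k = 1 := hP (z0 : P)
    classical
    have hk := Nat.find_spec hex
    have hk0 : Nat.find hex ≠ 0 := by
      intro h0
      rw [h0, pow_zero, pow_one] at hk
      exact hz0 (Subtype.ext hk)
    obtain ⟨j, hj⟩ := Nat.exists_eq_succ_of_ne_zero hk0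
    refine ⟨(z0 : P) ^ p ^ j, pow_mem z0.2 _, ?_, ?_⟩
    · exact Nat.find_min hex (by omega)
    · rw [← pow_mul, ← pow_succ, ← Nat.succ_eq_add_one, ← hj]
      exact hk
  have hzx : z ∈ Subgroup.zpowers x :=
    h p hp x z (Subgroup.mem_center_iff.mp hzc x) hx hx1 hzp
  have hyz : y ∈ Subgroup.zpowers z :=
    h p hp z y (Subgroup.mem_center_iff.mp hzc y).symm hzp hz1 hy
  exact (Subgroup.zpowers_le.mpr hzx) hyz

/-- Sylow subgroups of a `CommCyc` group are cyclic or generalized quaternion -/
theorem CommCyc.sylow_cyclic_or_quaternion [Finite G] (h : CommCyc G) (p : ℕ) [Fact p.Prime]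
    (P : Sylow p G) :
    IsCyclic P ∨ (p = 2 ∧ ∃ n : ℕ, Nonempty (P ≃* QuaternionGroup (2 ^ n))) :=
  Cfsg.Agent.Lib.Helper10.isCyclic_or_quaternion_of_uniqueOrderP P.isPGroup'
    ((h.subgroup (P : Subgroup G)).uniqueOrderP P.isPGroup')

theorem CommCyc.isZGroup_of_sylow2 [Finite G] (h : CommCyc G) (T : Sylow 2 G) (hT : IsCyclic T) :
    IsZGroup G := by
  refine ⟨fun p hp P => ?_⟩
  haveI : Fact p.Prime := ⟨hp⟩
  rcases h.sylow_cyclic_or_quaternion p P with hc | ⟨rfl, -⟩
  · exact hc
  · exact isCyclic_of_surjective (Sylow.equiv T P) (Sylow.equiv T P).surjective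

theorem exists_orderOf_three_SL23 :
    ∃ x : Matrix.SpecialLinearGroup (Fin 2) (ZMod 3), orderOf x = 3 := by
  refine ⟨⟨!![1,1;0,1], by simp [Matrix.det_fin_two]⟩, ?_⟩
  haveI : Fact (Nat.Prime 3) := ⟨by norm_num⟩
  apply orderOf_eq_prime
  · decide
  · intro h
    have h1 := congrArg (fun m : Matrix.SpecialLinearGroup (Fin 2) (ZMod 3) => m.1 0 1) h
    simp at h1

/-- **Lemma A**: a `CommCyc` group of order prime to 3 is solvable. -/
theorem CommCyc.solvable_of_three_not_dvd [Finite G] (h : CommCyc G) (h3 : ¬ 3 ∣ Nat.card G) :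
    Group.IsSolvable G := by
  obtain ⟨T⟩ : Nonempty (Sylow 2 G) := inferInstance
  haveI : Fact (Nat.Prime 2) := ⟨Nat.prime_two⟩
  rcases h.sylow_cyclic_or_quaternion 2 T with hc | ⟨-, n, hn⟩
  · haveI : IsZGroup G := h.isZGroup_of_sylow2 T hc
    infer_instance
  · by_cases hn0 : n = 0
    · subst hn0
      obtain ⟨e⟩ := hn
      haveI := QuaternionGroup.quaternionGroup_one_isCyclic
      have hc : IsCyclic T := isCyclic_of_surjective e.symm e.symm.surjective
      haveI : IsZGroup G := h.isZGroup_of_sylow2 T hc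
      infer_instance
    · rcases Cfsg.Agent.S0106.result T n (by omega) hn with hnc | ⟨H, K, hK, ⟨e⟩⟩
      · obtain ⟨P, N, hN, hc⟩ := hnc
        -- `N` has odd order, so all its Sylow subgroups are cyclic
        have hcard : Nat.card N * Nat.card P = Nat.card G := hc.card_mul_card
        have hNodd : ¬ 2 ∣ Nat.card N := by
          intro h2
          have hP : Nat.card P = 2 ^ (Nat.card G).factorization 2 := P.card_eq_multiplicity
          have hG0 : Nat.card G ≠ 0 := Nat.card_pos.ne'
          have h4 : 2 ^ ((Nat.card G).factorization 2 + 1) ∣ Nat.card G := by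
            have h5 : 2 * 2 ^ (Nat.card G).factorization 2 ∣ Nat.card G := by
              rw [← hP, ← hcard]
              exact Nat.mul_dvd_mul_right h2 _
            rw [pow_succ, mul_comm]
            exact h5
          exact Nat.pow_succ_factorization_not_dvd hG0 Nat.prime_two h4
        haveI : IsZGroup N := by
          refine ⟨fun p hp Q => ?_⟩
          haveI : Fact p.Prime := ⟨hp⟩
          rcases (h.subgroup N).sylow_cyclic_or_quaternion p Q with hc | ⟨rfl, m, ⟨e⟩⟩
          · exact hc
          · -- a Sylow 2-subgroup of an odd-order group is trivial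
            have hQ : Nat.card Q = 1 := by
              have h1 : Nat.card Q = 2 ^ (Nat.card N).factorization 2 := Q.card_eq_multiplicity
              rw [h1, Nat.factorization_eq_zero_of_not_dvd hNodd, pow_zero]
            haveI : Subsingleton Q := (Nat.card_eq_one_iff_unique.mp hQ).1
            infer_instance
        haveI : Group.IsSolvable N := inferInstance
        haveI : Group.IsSolvable (G ⧸ N) := by
          have hq : Nat.card (G ⧸ N) = 2 ^ (Nat.card G).factorization 2 := by
            have h1 : Nat.card (G ⧸ N) = N.index := rfl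
            rw [h1, hc.symm.index_eq_card, P.card_eq_multiplicity]
          haveI : Group.IsNilpotent (G ⧸ N) := (IsPGroup.of_card hq).isNilpotent
          infer_instance
        refine Group.isSolvable_of_ker_le_range N.subtype (QuotientGroup.mk' N) ?_
        rw [QuotientGroup.ker_mk', Subgroup.range_subtype]
      · exfalso
        obtain ⟨x, hx⟩ := exists_orderOf_three_SL23
        have h1 : orderOf (e.symm x) = 3 := (e.symm.orderOf_eq x).trans hx
        have h2 : 3 ∣ Nat.card (H ⧸ K.subgroupOf H) := h1 ▸ orderOf_dvd_natCard _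
        have h3' : Nat.card (H ⧸ K.subgroupOf H) ∣ Nat.card H := by
          have : Nat.card (H ⧸ K.subgroupOf H) = (K.subgroupOf H).index := rfl
          rw [this]
          exact Subgroup.index_dvd_card _
        exact h3 (h2.trans (h3'.trans (Subgroup.card_subgroup_dvd_card H)))

/-- **Lemma C1**: a `CommCyc` group with a central element of order 3 is solvable
(transfer into a cyclic Sylow 3-subgroup, then Lemma A on the kernel). -/
theorem CommCyc.solvable_of_central_three {C : Type*} [Group C] [Finite C] (h : CommCyc C) (x : C)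
    (hx : orderOf x = 3) (hxc : ∀ y : C, x * y = y * x) : Group.IsSolvable C := by
  haveI : Fact (Nat.Prime 3) := ⟨Nat.prime_three⟩
  obtain ⟨P⟩ : Nonempty (Sylow 3 C) := inferInstance
  have hcyc : IsCyclic P := by
    rcases h.sylow_cyclic_or_quaternion 3 P with hc | ⟨h32, -⟩
    · exact hc
    · omega
  letI : CommGroup P := IsCyclic.commGroup
  have hx3 : x ^ 3 = 1 := by rw [← hx]; exact pow_orderOf_eq_one x
  have hx1 : x ≠ 1 := by
    intro h1
    rw [h1, orderOf_one] at hx
    omega
  have key : ∀ (k : ℕ) (g₀ : C), g₀⁻¹ * x ^ k * g₀ ∈ (P : Subgroup C) →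
      g₀⁻¹ * x ^ k * g₀ = x ^ k := by
    intro k g₀ _
    have hc : Commute x g₀ := hxc g₀
    have h1 : x ^ k * g₀ = g₀ * x ^ k := (hc.pow_left k).eq
    rw [mul_assoc, h1, inv_mul_cancel_left]
  have hV := MonoidHom.transfer_eq_pow (MonoidHom.id P) x key
  have hVx : (MonoidHom.transfer (MonoidHom.id P)) x ≠ 1 := by
    intro h1
    rw [hV] at h1
    have h2 : x ^ (P : Subgroup C).index = 1 := congrArg Subtype.val h1
    have h3 : 3 ∣ (P : Subgroup C).index := by
      have h4 := orderOf_dvd_of_pow_eq_one h2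
      rwa [hx] at h4
    exact P.not_dvd_index h3
  have hK3 : ¬ 3 ∣ Nat.card (MonoidHom.transfer (MonoidHom.id P)).ker := by
    intro hdvd
    obtain ⟨y, hy⟩ := exists_prime_orderOf_dvd_card' 3 hdvd
    have hy3 : ((y : C)) ^ 3 = 1 := by
      have h1 : y ^ 3 = 1 := by
        have h0 := pow_orderOf_eq_one y
        rwa [hy] at h0
      exact_mod_cast congrArg Subtype.val h1
    have hy1 : (y : C) ≠ 1 := by
      intro h1
      have h2 : y = 1 := Subtype.ext h1
      rw [h2, orderOf_one] at hy
      omega
    have hmem : x ∈ Subgroup.zpowers (y : C) :=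
      h 3 Nat.prime_three (y : C) x (hxc y).symm hy3 hy1 hx3
    have h4 : x ∈ (MonoidHom.transfer (MonoidHom.id P)).ker :=
      (Subgroup.zpowers_le.mpr y.2) hmem
    exact hVx (MonoidHom.mem_ker.mp h4)
  haveI : Group.IsSolvable (MonoidHom.transfer (MonoidHom.id P)).ker :=
    (h.subgroup _).solvable_of_three_not_dvd hK3
  haveI : Group.IsSolvable P := Group.isSolvable_of_comm (fun a b => mul_comm a b)
  refine Group.isSolvable_of_ker_le_range (MonoidHom.transfer (MonoidHom.id P)).ker.subtype
    (MonoidHom.transfer (MonoidHom.id P)) ?_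
  rw [Subgroup.range_subtype]

/-- a perfect solvable group is trivial -/
theorem eq_one_of_perfect_of_solvable (hperf : commutator G = ⊤) [Group.IsSolvable G] (g : G) :
    g = 1 :=
  Cfsg.Agent.Lib.Helper1.TCG.hom_trivial_of_perfect_of_solvable hperf (MonoidHom.id G) g

/-- **Lemma B**: in a perfect `CommCyc` group a normal subgroup whose order is divisible by 3
exactly once is the whole group. -/
theorem CommCyc.eq_top_of_perfect [Finite G] (h : CommCyc G) (hperf : commutator G = ⊤)
    (N : Subgroup G) [N.Normal] (m : ℕ) (hcard : Nat.card N = 3 * m) (hm : ¬ 3 ∣ m) : N = ⊤ := by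
  haveI : Fact (Nat.Prime 3) := ⟨Nat.prime_three⟩
  have hfac : (Nat.card N).factorization 3 = 1 := by
    have hm0 : m ≠ 0 := by
      rintro rfl
      exact hm (dvd_zero 3)
    rw [hcard, Nat.factorization_mul (by norm_num) hm0, Finsupp.add_apply,
      Nat.prime_three.factorization_self, Nat.factorization_eq_zero_of_not_dvd hm]
  obtain ⟨x, hx⟩ := exists_prime_orderOf_dvd_card' (G := N) 3 (by rw [hcard]; exact dvd_mul_right 3 m)
  let P₀ : Sylow 3 N := Sylow.ofCard (Subgroup.zpowers x)
    (by rw [Nat.card_zpowers, hx, hfac, pow_one])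
  have hF := Sylow.normalizer_sup_eq_top P₀
  have hmap : ((P₀.map N.subtype : Subgroup G)) = Subgroup.zpowers (x : G) := by
    show Subgroup.map N.subtype (Subgroup.zpowers x) = _
    rw [MonoidHom.map_zpowers]
    rfl
  rw [hmap] at hF
  have hxG : orderOf (x : G) = 3 := by rw [Subgroup.orderOf_coe]; exact hx
  -- the centralizer is solvable
  haveI hC : Group.IsSolvable (Subgroup.centralizer ((Subgroup.zpowers (x : G) : Subgroup G) : Set G)) := by
    have hxmem : (x : G) ∈ Subgroup.centralizer ((Subgroup.zpowers (x : G) : Subgroup G) : Set G) := by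
      rw [Subgroup.mem_centralizer_iff]
      intro z hz
      obtain ⟨k, rfl⟩ := Subgroup.mem_zpowers_iff.mp hz
      exact ((Commute.refl (x : G)).zpow_left k).eq
    refine (h.subgroup _).solvable_of_central_three ⟨(x : G), hxmem⟩ ?_ ?_
    · rw [← Subgroup.orderOf_coe]
      exact hxG
    · intro y
      apply Subtype.ext
      have hy := Subgroup.mem_centralizer_iff.mp y.2 (x : G) (Subgroup.mem_zpowers _)
      exact hy
  -- the normalizer is solvable
  haveI hM : Group.IsSolvable (Subgroup.normalizer ((Subgroup.zpowers (x : G) : Subgroup G) : Set G)) := by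
    haveI : Group.IsSolvable (MulAut (Subgroup.zpowers (x : G))) := by
      haveI : Group.IsSolvable (Equiv.Perm (Subgroup.zpowers (x : G))) :=
        Cfsg.Agent.Lib.Helper1.TCG.perm_solvable_of_card_le _
          (by rw [Nat.card_zpowers, hxG]; norm_num)
      refine Group.isSolvable_of_isSolvable_injective
        (f := MulAut.toPerm (Subgroup.zpowers (x : G))) ?_
      intro a b hab
      exact MulEquiv.toEquiv_injective hab
    haveI : Group.IsSolvable ((Subgroup.centralizer ((Subgroup.zpowers (x : G) : Subgroup G) : Set G)).subgroupOf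
        (Subgroup.normalizer ((Subgroup.zpowers (x : G) : Subgroup G) : Set G))) :=
      Group.isSolvable_of_isSolvable_injective
        (f := (Subgroup.subgroupOfEquivOfLe (Subgroup.centralizer_le_normalizer
          ((Subgroup.zpowers (x : G) : Subgroup G) : Set G))).toMonoidHom)
        (Subgroup.subgroupOfEquivOfLe (Subgroup.centralizer_le_normalizer
          ((Subgroup.zpowers (x : G) : Subgroup G) : Set G))).injective
    refine Group.isSolvable_of_ker_le_range
      ((Subgroup.centralizer ((Subgroup.zpowers (x : G) : Subgroup G) : Set G)).subgroupOf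
        (Subgroup.normalizer ((Subgroup.zpowers (x : G) : Subgroup G) : Set G))).subtype
      (Subgroup.zpowers (x : G)).normalizerMonoidHom ?_
    rw [Subgroup.normalizerMonoidHom_ker, Subgroup.range_subtype]
  -- `G ⧸ N` is an image of the normalizer
  haveI hQ : Group.IsSolvable (G ⧸ N) := by
    refine Group.isSolvable_of_surjective
      (f := (QuotientGroup.mk' N).comp
        (Subgroup.normalizer ((Subgroup.zpowers (x : G) : Subgroup G) : Set G)).subtype) ?_
    intro q
    obtain ⟨g, rfl⟩ := QuotientGroup.mk'_surjective N q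
    have hg : g ∈ (Subgroup.normalizer ((Subgroup.zpowers (x : G) : Subgroup G) : Set G)) ⊔ N := by
      rw [hF]; exact Subgroup.mem_top g
    rw [← SetLike.mem_coe, Subgroup.mul_normal] at hg
    obtain ⟨a, ha, b, hb, rfl⟩ := Set.mem_mul.mp hg
    refine ⟨⟨a, ha⟩, ?_⟩
    show (QuotientGroup.mk' N) a = (QuotientGroup.mk' N) (a * b)
    have hb1 : (QuotientGroup.mk' N) b = 1 := (QuotientGroup.eq_one_iff b).mpr hb
    rw [map_mul, hb1, mul_one]
  rw [eq_top_iff]
  intro g _
  have h1 := Cfsg.Agent.Lib.Helper1.TCG.hom_trivial_of_perfect_of_solvable hperf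
    (QuotientGroup.mk' N) g
  exact (QuotientGroup.eq_one_iff g).mp h1

theorem closure_orderOf_normal (k : ℕ) : (Subgroup.closure {x : G | orderOf x = k}).Normal := by
  refine ⟨fun n hn g => ?_⟩
  have h1 : (Subgroup.closure {x : G | orderOf x = k}).map (MulAut.conj g).toMonoidHom ≤
      Subgroup.closure {x : G | orderOf x = k} := by
    rw [MonoidHom.map_closure, Subgroup.closure_le]
    rintro _ ⟨y, hy, rfl⟩
    apply Subgroup.subset_closure
    show orderOf (MulAut.conj g y) = k
    rw [MulEquiv.orderOf_eq]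
    exact hy
  have h2 := h1 (Subgroup.mem_map_of_mem _ hn)
  simpa [MulAut.conj_apply] using h2

/-- a nontrivial perfect group is not solvable -/
theorem not_solvable_of_perfect [Nontrivial G] (hperf : commutator G = ⊤) :
    ¬ Group.IsSolvable G := by
  intro hs
  obtain ⟨a, b, hab⟩ := exists_pair_ne G
  exact hab ((eq_one_of_perfect_of_solvable hperf a).trans
    (eq_one_of_perfect_of_solvable hperf b).symm)

/-- **FO-D**: a nontrivial perfect fixed-point-free linear group is `SL(2,5)`, given the
structure of the subgroup generated by the elements of order 3. -/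
theorem perfect_fpf_iso_SL25 {q : ℕ} [Fact q.Prime] {Ω : Type*} [Field Ω] [Algebra (ZMod q) Ω]
    [IsAlgClosed Ω] {G : Type*} [Group G] [Finite G] [Nontrivial G] {V : Type*} [AddCommGroup V]
    [Module Ω V] [Module.Finite Ω V] [Nontrivial V]
    (ρ : G →* Module.End Ω V) (hfpf : ∀ g : G, g ≠ 1 → ∀ v : V, ρ g v = v → v = 0)
    (hq : ¬ q ∣ Nat.card G) (hperf : commutator G = ⊤)
    (hZ : ∀ N : Subgroup G, N = Subgroup.closure {x : G | orderOf x = 3} →
      Nat.card N = 1 ∨ Nat.card N = 3 ∨
      (Nat.card N = 24 ∧ ∃ f : N →* alternatingGroup (Fin 4), Function.Surjective f ∧ Nat.card f.ker = 2) ∨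
      (Nat.card N = 120 ∧ ∃ f : N →* alternatingGroup (Fin 5), Function.Surjective f ∧ Nat.card f.ker = 2)) :
    Nonempty (G ≃* Matrix.SpecialLinearGroup (Fin 2) (ZMod 5)) := by
  have hcc : CommCyc G := commCyc_of_fpf ρ hfpf
  have hns : ¬ Group.IsSolvable G := not_solvable_of_perfect hperf
  haveI hNn : (Subgroup.closure {x : G | orderOf x = 3}).Normal := closure_orderOf_normal 3
  rcases hZ _ rfl with h1 | h3 | ⟨h24, f, hf, hker⟩ | ⟨h120, -⟩
  · -- no elements of order 3
    exfalso
    apply hns
    apply hcc.solvable_of_three_not_dvd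
    intro hdvd
    obtain ⟨x, hx⟩ := exists_prime_orderOf_dvd_card' 3 hdvd
    have hxN : x ∈ Subgroup.closure {x : G | orderOf x = 3} := Subgroup.subset_closure hx
    rw [Subgroup.eq_bot_of_card_eq _ h1, Subgroup.mem_bot] at hxN
    rw [hxN, orderOf_one] at hx
    omega
  · exfalso
    have htop := hcc.eq_top_of_perfect hperf _ 1 (by rw [h3]) (by norm_num)
    have hG : Nat.card G = 3 := by
      rw [← Subgroup.card_top (G := G), ← htop, h3]
    haveI : Fact (Nat.Prime 3) := ⟨Nat.prime_three⟩
    haveI : IsCyclic G := isCyclic_of_prime_card hG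
    apply hns
    letI : CommGroup G := IsCyclic.commGroup
    exact Group.isSolvable_of_comm (fun a b => mul_comm a b)
  · exfalso
    have htop := hcc.eq_top_of_perfect hperf _ 8 (by rw [h24]) (by norm_num)
    haveI : Group.IsSolvable (Equiv.Perm (Fin 4)) := Cfsg.Agent.Lib.Helper1.TCG.perm_fin4_solvable
    haveI : Group.IsSolvable (alternatingGroup (Fin 4)) := inferInstance
    have htriv : ∀ n : (Subgroup.closure {x : G | orderOf x = 3}), f n = 1 := by
      intro n
      have h1 := Cfsg.Agent.Lib.Helper1.TCG.hom_trivial_of_perfect_of_solvable hperf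
        (f.comp (MonoidHom.codRestrict (MonoidHom.id G) (Subgroup.closure {x : G | orderOf x = 3})
          (fun g => htop ▸ Subgroup.mem_top g))) (n : G)
      exact h1
    have hkt : f.ker = ⊤ := by
      rw [eq_top_iff]
      intro n _
      exact MonoidHom.mem_ker.mpr (htriv n)
    rw [hkt, Subgroup.card_top, h24] at hker
    omega
  · have htop := hcc.eq_top_of_perfect hperf _ 40 (by rw [h120]) (by norm_num)
    have hG : Nat.card G = 120 := by
      rw [← Subgroup.card_top (G := G), ← htop, h120]
    refine (Cfsg.Agent.S3378.result).1 G hG hns ?_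
    intro P
    haveI : Fact (Nat.Prime 2) := ⟨Nat.prime_two⟩
    have hP : Nat.card P = 8 := by
      have hfac : (Nat.card G).factorization 2 = 3 := by
        rw [hG, show (120 : ℕ) = 2 ^ 3 * 15 by norm_num,
          Nat.factorization_mul (by norm_num) (by norm_num), Finsupp.add_apply,
          Nat.factorization_pow, Finsupp.smul_apply, Nat.prime_two.factorization_self,
          Nat.factorization_eq_zero_of_not_dvd (by norm_num : ¬ 2 ∣ 15)]
        rfl
      rw [P.card_eq_multiplicity, hfac]
      norm_num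
    rcases hcc.sylow_cyclic_or_quaternion 2 P with hc | ⟨-, n, ⟨e⟩⟩
    · exfalso
      apply hns
      haveI : IsZGroup G := hcc.isZGroup_of_sylow2 P hc
      infer_instance
    · have hn : 2 ^ n = 2 := by
        have h1 : Nat.card P = Nat.card (QuaternionGroup (2 ^ n)) := Nat.card_congr e.toEquiv
        rw [hP, Nat.card_eq_fintype_card, QuaternionGroup.card] at h1
        omega
      rw [hn] at e
      exact ⟨e⟩

end Cfsg.Agent.Lib.Helper25.ZassD
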