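import Mathlib
import Cfsg.Agent.Lib.Helper25.SharpB
import Cfsg.Agent.Lib.Helper25.ZassD
import Cfsg.Agent.Lib.Helper24.ZassC

/-!
# Insoluble sharply doubly transitive groups (S0689), part C: regular linear groups (helper25)
-/

set_option autoImplicit false
set_option linter.unusedSectionVars false
set_option linter.unusedVariables false
set_option linter.style.haveILetI false

namespace Cfsg.Agent.Lib.Helper25.Sharp

open Cfsg.Agent.Lib.Helper25.ZassD (CommCyc)

/-- `CommCyc` is inherited along injective homomorphisms -/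
theorem commCyc_of_injective {A B : Type*} [Group A] [Group B] (f : A →* B)
    (hf : Function.Injective f) (h : CommCyc B) : CommCyc A := by
  intro r hr x y hxy hx hx1 hy
  have h1 := h r hr (f x) (f y) (by rw [← map_mul, ← map_mul, hxy]) (by rw [← map_pow, hx, map_one])
    (fun h0 => hx1 (hf (h0.trans (map_one f).symm))) (by rw [← map_pow, hy, map_one])
  obtain ⟨k, hk⟩ := Subgroup.mem_zpowers_iff.mp h1
  refine Subgroup.mem_zpowers_iff.mpr ⟨k, ?_⟩
  apply hf
  rw [map_zpow]
  exact hk

section Reg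

variable {p : ℕ} [Fact p.Prime] {V : Type*} [AddCommGroup V] [Module (ZMod p) V]

/-- linear automorphisms as automorphisms of the (multiplicative) additive group -/
def toMulAut : (V ≃ₗ[ZMod p] V) →* MulAut (Multiplicative V) where
  toFun f := AddEquiv.toMultiplicative f.toAddEquiv
  map_one' := by ext; rfl
  map_mul' f g := by ext; rfl

theorem toMulAut_apply (f : V ≃ₗ[ZMod p] V) (x : Multiplicative V) :
    toMulAut f x = Multiplicative.ofAdd (f (Multiplicative.toAdd x)) := rfl

theorem toMulAut_injective : Function.Injective (toMulAut (p := p) (V := V)) := by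
  intro f g hfg
  ext v
  have h1 := congrArg (fun σ : MulAut (Multiplicative V) => σ (Multiplicative.ofAdd v)) hfg
  simp only [toMulAut_apply] at h1
  exact Multiplicative.ofAdd.injective h1

variable (H : Subgroup (V ≃ₗ[ZMod p] V))

/-- the embedding of `H` in `Aut V` -/
def iota : H →* MulAut (Multiplicative V) := toMulAut.comp H.subtype

theorem iota_injective : Function.Injective (iota H) :=
  toMulAut_injective.comp H.subtype_injective

theorem iota_apply (h : H) (x : Multiplicative V) :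
    iota H h x = Multiplicative.ofAdd ((h : V ≃ₗ[ZMod p] V) (Multiplicative.toAdd x)) := rfl

variable {H}
variable (hreg : ∀ v w : V, v ≠ 0 → w ≠ 0 → ∃! h : H, (h : V ≃ₗ[ZMod p] V) v = w)

include hreg in
theorem fpf_of_reg (h : H) (h1 : h ≠ 1) (v : V) (hv : (h : V ≃ₗ[ZMod p] V) v = v) : v = 0 := by
  by_contra hv0
  obtain ⟨g, -, hg⟩ := hreg v v hv0 hv0
  have e1 : h = g := hg h hv
  have e2 : (1 : H) = g := hg 1 (by simp)
  exact h1 (e1.trans e2.symm)

include hreg in
theorem card_add_one [Finite V] [Nontrivial V] : Nat.card H + 1 = Nat.card V := by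
  obtain ⟨v₀, hv₀⟩ := exists_ne (0 : V)
  have hb : Function.Bijective (fun h : H => (⟨(h : V ≃ₗ[ZMod p] V) v₀,
      (LinearEquiv.map_ne_zero_iff _).mpr hv₀⟩ : {w : V // w ≠ 0})) := by
    constructor
    · intro h g hhg
      have h1 : (h : V ≃ₗ[ZMod p] V) v₀ = (g : V ≃ₗ[ZMod p] V) v₀ := congrArg Subtype.val hhg
      have hw : (g : V ≃ₗ[ZMod p] V) v₀ ≠ 0 := (LinearEquiv.map_ne_zero_iff _).mpr hv₀
      obtain ⟨k, -, hk⟩ := hreg v₀ _ hv₀ hw
      exact (hk h h1).trans (hk g rfl).symm
    · rintro ⟨w, hw⟩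
      obtain ⟨k, hk, -⟩ := hreg v₀ w hv₀ hw
      exact ⟨k, Subtype.ext hk⟩
  classical
  rw [Nat.card_congr (Equiv.ofBijective _ hb), ← Finite.card_option]
  exact Nat.card_congr (Equiv.optionSubtypeNe (0 : V))

include hreg in
theorem invol_eq_neg (h : H) (hh : h * h = 1) (h1 : h ≠ 1) (v : V) :
    (h : V ≃ₗ[ZMod p] V) v = -v := by
  have h2 : (h : V ≃ₗ[ZMod p] V) ((h : V ≃ₗ[ZMod p] V) v) = v := by
    have := congrArg (fun g : H => (g : V ≃ₗ[ZMod p] V) v) hh
    simpa using this
  have h3 : (h : V ≃ₗ[ZMod p] V) ((h : V ≃ₗ[ZMod p] V) v + v) = (h : V ≃ₗ[ZMod p] V) v + v := by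
    rw [map_add, h2, add_comm]
  have h4 := fpf_of_reg hreg h h1 _ h3
  exact eq_neg_of_add_eq_zero_left h4

include hreg in
/-- the image of a subgroup of `H` in `Aut V` is fixed-point-free -/
theorem fpf_map (S : Subgroup H) :
    ∀ φ ∈ S.map (iota H), φ ≠ 1 → ∀ k : Multiplicative V, φ k = k → k = 1 := by
  rintro _ ⟨s, hs, rfl⟩ hne k hk
  have hs1 : s ≠ 1 := by
    rintro rfl
    exact hne (map_one _)
  rw [iota_apply] at hk
  have h1 : (s : V ≃ₗ[ZMod p] V) (Multiplicative.toAdd k) = Multiplicative.toAdd k :=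
    Multiplicative.ofAdd.injective hk
  have h2 := fpf_of_reg hreg s hs1 _ h1
  exact Multiplicative.toAdd.injective h2

include hreg in
theorem commCyc_of_reg [Finite V] : CommCyc H := by
  intro r hr x y hxy hx hx1 hy
  have hfpf := fpf_map hreg (⊤ : Subgroup H)
  have hne : (⊤ : Subgroup H).map (iota H) ≠ ⊥ := by
    intro hbot
    have h1 : iota H x ∈ (⊤ : Subgroup H).map (iota H) :=
      Subgroup.mem_map_of_mem _ (Subgroup.mem_top x)
    rw [hbot, Subgroup.mem_bot] at h1
    exact hx1 (iota_injective H (h1.trans (map_one _).symm))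
  obtain ⟨q, hqp, hqG, h1⟩ :=
    Cfsg.Agent.Lib.Helper24.ZassC.exists_prime_normIdeal_of_mulAut _ hfpf hne
  haveI : Fact q.Prime := ⟨hqp⟩
  haveI : Finite (MulAut (Multiplicative V)) :=
    Finite.of_injective (fun f : MulAut (Multiplicative V) => (f : _ → _))
      (fun f g h => MulEquiv.ext (congrFun h))
  obtain ⟨W, i1, i2, i3, i4, ρ, hρ⟩ :=
    Cfsg.Agent.Lib.Helper24.ZassC.exists_fpf_rep_of_normIdeal q hqG h1
  have hcc : CommCyc ((⊤ : Subgroup H).map (iota H)) :=
    Cfsg.Agent.Lib.Helper25.ZassD.commCyc_of_fpf ρ hρ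
  have hcc2 : CommCyc H :=
    commCyc_of_injective
      (((⊤ : Subgroup H).equivMapOfInjective (iota H) (iota_injective H)).toMonoidHom.comp
        (Subgroup.topEquiv (G := H)).symm.toMonoidHom)
      (((⊤ : Subgroup H).equivMapOfInjective (iota H) (iota_injective H)).injective.comp
        (Subgroup.topEquiv (G := H)).symm.injective) hcc
  exact hcc2 r hr x y hxy hx hx1 hy

include hreg in
/-- the perfect core is `SL(2,5)`, given Zassenhaus' theorem -/
theorem core_iso_SL25
    (hZass : ∀ G : Subgroup (MulAut (Multiplicative V)),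
      (∀ φ ∈ G, φ ≠ 1 → ∀ k : Multiplicative V, φ k = k → k = 1) → commutator G = ⊤ → G ≠ ⊥ →
      Nonempty (G ≃* SL25))
    (S : Subgroup H) (hSne : S ≠ ⊥) (hSperf : commutator S = ⊤) : Nonempty (S ≃* SL25) := by
  have e₁ := S.equivMapOfInjective (iota H) (iota_injective H)
  have hperf : commutator (S.map (iota H)) = ⊤ := commutator_eq_top_of_equiv e₁ hSperf
  have hne : S.map (iota H) ≠ ⊥ := by
    intro hbot
    apply hSne
    rw [eq_bot_iff]
    intro s hs
    have h1 : iota H s ∈ S.map (iota H) := Subgroup.mem_map_of_mem _ hs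
    rw [hbot, Subgroup.mem_bot] at h1
    rw [Subgroup.mem_bot]
    exact iota_injective H (h1.trans (map_one _).symm)
  obtain ⟨e₂⟩ := hZass _ (fpf_map hreg S) hperf hne
  exact ⟨e₁.trans e₂⟩

end Reg

end Cfsg.Agent.Lib.Helper25.Sharp
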