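import Mathlib
import Cfsg.Agent.Lib.Helper25.SharpC

/-!
# Insoluble sharply doubly transitive groups (S0689), part D: structure (helper25)
-/

set_option autoImplicit false
set_option linter.unusedSectionVars false
set_option linter.unusedVariables false
set_option linter.style.haveILetI false

namespace Cfsg.Agent.Lib.Helper25.Sharp

open Cfsg.Agent.Lib.Helper25.ZassD (CommCyc)

/-! ### Arithmetic -/

theorem arith_aux60 : ∀ Q < 120,
    ((((Q * Q - 1) / 60) * 60 + 1 = Q * Q ∧ ((Q * Q - 1) / 60) ∣ Q - 1 ∧ 2 ∣ ((Q * Q - 1) / 60) ∧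
      ¬ 3 ∣ ((Q * Q - 1) / 60)) →
      (Q = 11 ∧ (Q * Q - 1) / 60 = 2) ∨ (Q = 29 ∧ (Q * Q - 1) / 60 = 14) ∨
      (Q = 59 ∧ (Q * Q - 1) / 60 = 58)) := by
  decide

theorem arith_aux120 : ∀ Q < 120,
    ((((Q * Q - 1) / 120) * 120 + 1 = Q * Q ∧ ((Q * Q - 1) / 120) ∣ Q - 1 ∧
      2 ∣ ((Q * Q - 1) / 120) ∧ ¬ 3 ∣ ((Q * Q - 1) / 120)) → Q = 119) := by
  decide

theorem arith (Q c r : ℕ) (hr : r = 60 ∨ r = 120) (h1 : c * r + 1 = Q * Q) (h2 : c ∣ Q - 1)
    (h3 : 2 ∣ c) (h4 : ¬ 3 ∣ c) :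
    (Q = 11 ∧ c = 2 ∧ r = 60) ∨ (Q = 29 ∧ c = 14 ∧ r = 60) ∨ (Q = 59 ∧ c = 58 ∧ r = 60) ∨
      Q = 119 := by
  have hc0 : 0 < c := by
    rcases Nat.eq_zero_or_pos c with h | h
    · exact absurd (h ▸ dvd_zero 3) h4
    · exact h
  have hr0 : 60 ≤ r := by rcases hr with h | h <;> omega
  have hQ2 : 2 ≤ Q := by
    by_contra hlt
    push Not at hlt
    have : Q * Q ≤ 1 := by nlinarith
    nlinarith
  obtain ⟨t, ht⟩ := h2
  have hrt : r = t * (Q + 1) := by
    have h5 : c * r = c * (t * (Q + 1)) := by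
      have h6 : Q * Q = (Q - 1) * (Q + 1) + 1 := by
        obtain ⟨k, rfl⟩ : ∃ k, Q = k + 1 := ⟨Q - 1, by omega⟩
        simp
        ring
      rw [ht] at h6
      have h7 : c * r = c * t * (Q + 1) := by omega
      rw [h7]; ring
    exact Nat.eq_of_mul_eq_mul_left hc0 h5
  have ht0 : 0 < t := by
    rcases Nat.eq_zero_or_pos t with h | h
    · rw [h] at hrt; omega
    · exact h
  have hQ : Q < 120 := by
    have : Q + 1 ≤ r := by rw [hrt]; exact Nat.le_mul_of_pos_left _ ht0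
    rcases hr with h | h <;> omega
  have hc : c = (Q * Q - 1) / r := by
    rw [← h1, Nat.add_sub_cancel, Nat.mul_div_cancel _ (by omega)]
  have h2' : c ∣ Q - 1 := ⟨t, ht⟩
  rcases hr with rfl | rfl
  · have := arith_aux60 Q hQ ⟨hc ▸ h1, hc ▸ h2', hc ▸ h3, hc ▸ h4⟩
    rw [← hc] at this
    rcases this with ⟨h, h'⟩ | ⟨h, h'⟩ | ⟨h, h'⟩
    · exact Or.inl ⟨h, h', rfl⟩
    · exact Or.inr (Or.inl ⟨h, h', rfl⟩)
    · exact Or.inr (Or.inr (Or.inl ⟨h, h', rfl⟩))
  · have := arith_aux120 Q hQ ⟨hc ▸ h1, hc ▸ h2', hc ▸ h3, hc ▸ h4⟩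
    exact Or.inr (Or.inr (Or.inr this))

theorem not_pow_119 (p j : ℕ) (hp : p.Prime) : p ^ j ≠ 119 := by
  intro h
  have h7 : 7 ∣ p ^ j := by rw [h]; norm_num
  have h17 : 17 ∣ p ^ j := by rw [h]; norm_num
  have e7 : 7 = p := (Nat.prime_dvd_prime_iff_eq (by norm_num) hp).mp
    ((by norm_num : Nat.Prime 7).dvd_of_dvd_pow h7)
  have e17 : 17 = p := (Nat.prime_dvd_prime_iff_eq (by norm_num) hp).mp
    ((by norm_num : Nat.Prime 17).dvd_of_dvd_pow h17)
  omega

/-! ### Abstract group theory around a normal `SL(2,5)` -/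

section Abstract

variable {H : Type*} [Group H] [Finite H] (S : Subgroup H) [S.Normal] (e : S ≃* SL25)
  (hSperf : commutator S = ⊤)

theorem conjNormal_ker :
    (MulAut.conjNormal : H →* MulAut S).ker = Subgroup.centralizer (S : Set H) := by
  ext h
  rw [MonoidHom.mem_ker, Subgroup.mem_centralizer_iff]
  constructor
  · intro hh s hs
    have h1 := congrArg (fun σ : MulAut S => ((σ ⟨s, hs⟩ : S) : H)) hh
    simp only [MulAut.conjNormal_apply, MulAut.one_apply] at h1
    calc s * h = (h * s * h⁻¹) * h := by rw [h1]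
      _ = h * s := by group
  · intro hh
    apply MulEquiv.ext
    intro s
    apply Subtype.ext
    rw [MulAut.conjNormal_apply, MulAut.one_apply]
    have h1 := hh s s.2
    calc h * s * h⁻¹ = (s * h) * h⁻¹ := by rw [h1]
      _ = s := by group

include e hSperf in
theorem card_eq_centralizer_mul :
    ∃ r : ℕ, (r = 60 ∨ r = 120) ∧
      Nat.card H = Nat.card (Subgroup.centralizer (S : Set H)) * r := by
  haveI : Finite (MulAut S) :=
    Finite.of_injective (fun f : MulAut S => (f : S → S)) (fun f g h => MulEquiv.ext (congrFun h))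
  set φ : H →* MulAut S := MulAut.conjNormal with hφ
  have hcardH : Nat.card H = Nat.card φ.range * Nat.card (Subgroup.centralizer (S : Set H)) := by
    rw [← conjNormal_ker S, ← hφ, Subgroup.card_eq_card_quotient_mul_card_subgroup φ.ker,
      Nat.card_congr (QuotientGroup.quotientKerEquivRange φ).toEquiv]
  have hle : Nat.card φ.range ≤ 120 :=
    (Subgroup.card_le_card_group _).trans (card_mulAut_le e hSperf)
  -- the inner automorphisms
  set ψ : S →* MulAut S := φ.comp S.subtype with hψ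
  have hψker : ψ.ker = Subgroup.center S := by
    ext s
    rw [MonoidHom.mem_ker, Subgroup.mem_center_iff]
    have h1 : ψ s = 1 ↔ (s : H) ∈ Subgroup.centralizer (S : Set H) := by
      rw [← conjNormal_ker S, MonoidHom.mem_ker]
      rfl
    rw [h1, Subgroup.mem_centralizer_iff]
    constructor
    · intro hh g
      exact Subtype.ext (hh g g.2)
    · intro hh g hg
      exact congrArg Subtype.val (hh ⟨g, hg⟩)
  have hS : Nat.card S = 120 := by rw [Nat.card_congr e.toEquiv, card_SL25]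
  have hψr : Nat.card ψ.range = 60 := by
    have h1 := Subgroup.card_eq_card_quotient_mul_card_subgroup ψ.ker
    rw [Nat.card_congr (QuotientGroup.quotientKerEquivRange ψ).toEquiv, hψker,
      card_center_of_equiv e, hS] at h1
    omega
  have hrange : ψ.range ≤ φ.range := by
    rintro _ ⟨s, rfl⟩
    exact ⟨(s : H), rfl⟩
  have hdvd : 60 ∣ Nat.card φ.range := hψr ▸ Subgroup.card_dvd_of_le hrange
  have hpos : 0 < Nat.card φ.range := Nat.card_pos
  refine ⟨Nat.card φ.range, ?_, ?_⟩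
  · obtain ⟨k, hk⟩ := hdvd
    omega
  · rw [hcardH, mul_comm]

include e in
theorem three_not_dvd_centralizer (hcc : CommCyc H) :
    ¬ 3 ∣ Nat.card (Subgroup.centralizer (S : Set H)) := by
  intro hdvd
  haveI : Fact (Nat.Prime 3) := ⟨Nat.prime_three⟩
  obtain ⟨c, hc⟩ := exists_prime_orderOf_dvd_card' 3 hdvd
  have hS : Nat.card S = 120 := by rw [Nat.card_congr e.toEquiv, card_SL25]
  obtain ⟨s, hs⟩ := exists_prime_orderOf_dvd_card' (G := S) 3 (by rw [hS]; norm_num)
  have hcH : orderOf ((c : H)) = 3 := by rw [Subgroup.orderOf_coe]; exact hc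
  have hsH : orderOf ((s : H)) = 3 := by rw [Subgroup.orderOf_coe]; exact hs
  have hcomm : (s : H) * (c : H) = (c : H) * (s : H) :=
    Subgroup.mem_centralizer_iff.mp c.2 (s : H) s.2
  have hs3 : (s : H) ^ 3 = 1 := by rw [← hsH]; exact pow_orderOf_eq_one _
  have hc3 : (c : H) ^ 3 = 1 := by rw [← hcH]; exact pow_orderOf_eq_one _
  have hs1 : (s : H) ≠ 1 := by
    intro h1
    rw [h1, orderOf_one] at hsH
    omega
  have hmem : (c : H) ∈ Subgroup.zpowers (s : H) :=
    hcc 3 Nat.prime_three (s : H) (c : H) hcomm hs3 hs1 hc3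
  have hcS : (c : H) ∈ S := (Subgroup.zpowers_le.mpr s.2) hmem
  have hcen : (⟨(c : H), hcS⟩ : S) ∈ Subgroup.center S := by
    rw [Subgroup.mem_center_iff]
    intro g
    exact Subtype.ext (Subgroup.mem_centralizer_iff.mp c.2 (g : H) g.2)
  have h2 : orderOf (⟨⟨(c : H), hcS⟩, hcen⟩ : Subgroup.center S) ∣ 2 := by
    rw [← card_center_of_equiv e]
    exact orderOf_dvd_natCard _
  rw [← Subgroup.orderOf_coe, ← Subgroup.orderOf_coe] at h2
  have h3 : orderOf ((c : H)) ∣ 2 := h2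
  rw [hcH] at h3
  omega

end Abstract

end Cfsg.Agent.Lib.Helper25.Sharp
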