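import Mathlib
import Cfsg.Agent.Lib.Helper25.SharpD

/-!
# Insoluble sharply doubly transitive groups (S0689), part E: the centralizer bound (helper25)
-/

set_option autoImplicit false
set_option linter.unusedSectionVars false
set_option linter.unusedVariables false
set_option linter.style.haveILetI false

namespace Cfsg.Agent.Lib.Helper25.Sharp

open Cfsg.Agent.Lib.Helper25.ZassD (CommCyc)

section Reg

variable {p : ℕ} [Fact p.Prime] {V : Type*} [AddCommGroup V] [Module (ZMod p) V] [Finite V]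
  {H : Subgroup (V ≃ₗ[ZMod p] V)}
  (hreg : ∀ v w : V, v ≠ 0 → w ≠ 0 → ∃! h : H, (h : V ≃ₗ[ZMod p] V) v = w)

include hreg in
/-- the order of the centralizer of a subgroup `SL(2,5)` divides `Q - 1`, where `Q² = |V|` -/
theorem centralizer_bound (S : Subgroup H) (e : S ≃* SL25) :
    ∃ Q : ℕ, Nat.card V = Q ^ 2 ∧ (∃ j : ℕ, Q = p ^ j) ∧
      Nat.card (Subgroup.centralizer (S : Set H)) ∣ Q - 1 ∧
      2 ∣ Nat.card (Subgroup.centralizer (S : Set H)) := by
  obtain ⟨i₀, j₀, z₀, hz1, hzz, hii, hjj, hij⟩ := exists_Q8_SL25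
  -- the elements of `S`
  have hZ1 : e.symm z₀ ≠ 1 := by
    intro h
    apply hz1
    have := congrArg e h
    simpa using this
  have hZZ : e.symm z₀ * e.symm z₀ = 1 := by rw [← map_mul, hzz, map_one]
  have hII : e.symm i₀ * e.symm i₀ = e.symm z₀ := by rw [← map_mul, hii]
  have hJJ : e.symm j₀ * e.symm j₀ = e.symm z₀ := by rw [← map_mul, hjj]
  have hIJ : e.symm i₀ * e.symm j₀ = e.symm z₀ * (e.symm j₀ * e.symm i₀) := by
    rw [← map_mul, ← map_mul, ← map_mul, hij]
  -- as linear maps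
  obtain ⟨I, hI⟩ : ∃ I : V ≃ₗ[ZMod p] V, I = (((e.symm i₀ : S) : H) : V ≃ₗ[ZMod p] V) := ⟨_, rfl⟩
  obtain ⟨J, hJ⟩ : ∃ J : V ≃ₗ[ZMod p] V, J = (((e.symm j₀ : S) : H) : V ≃ₗ[ZMod p] V) := ⟨_, rfl⟩
  obtain ⟨Z, hZ⟩ : ∃ Z : H, Z = ((e.symm z₀ : S) : H) := ⟨_, rfl⟩
  have hZ1' : Z ≠ 1 := by
    rw [hZ]
    intro h
    exact hZ1 (Subtype.ext h)
  have hZZ' : Z * Z = 1 := by
    rw [hZ]
    exact_mod_cast congrArg Subtype.val hZZ
  have hneg : ∀ v, (Z : V ≃ₗ[ZMod p] V) v = -v := invol_eq_neg hreg Z hZZ' hZ1'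
  have hIIv : ∀ v, I (I v) = -v := by
    intro v
    rw [← hneg v, hZ, hI]
    have h1 := congrArg (fun s : S => ((s : H) : V ≃ₗ[ZMod p] V) v) hII
    exact h1
  have hJJv : ∀ v, J (J v) = -v := by
    intro v
    rw [← hneg v, hZ, hJ]
    have h1 := congrArg (fun s : S => ((s : H) : V ≃ₗ[ZMod p] V) v) hJJ
    exact h1
  have hIJv : ∀ v, I (J v) = -J (I v) := by
    intro v
    rw [← hneg (J (I v)), hZ, hI, hJ]
    have h1 := congrArg (fun s : S => ((s : H) : V ≃ₗ[ZMod p] V) v) hIJ
    exact h1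
  -- `p` is odd
  have h2 : (2 : ZMod p) ≠ 0 := by
    intro h20
    apply hZ1'
    apply Subtype.ext
    apply LinearEquiv.ext
    intro v
    rw [hneg v]
    have h3 : (2 : ZMod p) • v = 0 := by rw [h20, zero_smul]
    have h4 : v + v = 0 := by
      rw [← h3]
      module
    show -v = v
    exact neg_eq_of_add_eq_zero_left h4
  obtain ⟨a, b, hab⟩ := ZMod.sq_add_sq p (-1)
  have hcard := card_eq_sq (I := I) (J := J) hIIv hJJv hIJv hab h2
  obtain ⟨j, hj⟩ := card_Wplus_pow I J a b
  refine ⟨Nat.card (Wplus I J a b), hcard, ⟨j, hj⟩, ?_, ?_⟩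
  · -- the free action on the nonzero vectors of `Wplus`
    have hcomm : ∀ c ∈ Subgroup.centralizer (S : Set H), ∀ s : S, ∀ v : V,
        (c : V ≃ₗ[ZMod p] V) (((s : H) : V ≃ₗ[ZMod p] V) v) =
          ((s : H) : V ≃ₗ[ZMod p] V) ((c : V ≃ₗ[ZMod p] V) v) := by
      intro c hc s v
      have h1 : (s : H) * c = c * (s : H) := Subgroup.mem_centralizer_iff.mp hc (s : H) s.2
      have h3 := congrArg (fun g : H => (g : V ≃ₗ[ZMod p] V) v) h1
      exact h3.symm
    have hpres : ∀ c ∈ Subgroup.centralizer (S : Set H), ∀ v ∈ Wplus I J a b,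
        (c : V ≃ₗ[ZMod p] V) v ∈ Wplus I J a b := by
      intro c hc v hv
      refine map_mem_Wplus ?_ ?_ hv
      · intro w
        rw [hI]
        exact hcomm c hc _ w
      · intro w
        rw [hJ]
        exact hcomm c hc _ w
    letI : MulAction (Subgroup.centralizer (S : Set H)) {w : Wplus I J a b // w ≠ 0} :=
      { smul := fun c x => ⟨⟨((c : H) : V ≃ₗ[ZMod p] V) (x.1 : V), hpres c c.2 _ x.1.2⟩, by
          intro h0
          apply x.2
          apply Subtype.ext
          have h1 : ((c : H) : V ≃ₗ[ZMod p] V) (x.1 : V) = 0 := congrArg Subtype.val h0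
          exact (LinearEquiv.map_eq_zero_iff _).mp h1⟩
        one_smul := by
          intro x
          apply Subtype.ext
          apply Subtype.ext
          rfl
        mul_smul := by
          intro c d x
          apply Subtype.ext
          apply Subtype.ext
          rfl }
    have hfree : ∀ (c : Subgroup.centralizer (S : Set H)) (x : {w : Wplus I J a b // w ≠ 0}),
        c • x = x → c = 1 := by
      intro c x hcx
      by_contra hc1
      have h1 : ((c : H) : V ≃ₗ[ZMod p] V) (x.1 : V) = (x.1 : V) :=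
        congrArg (fun y : {w : Wplus I J a b // w ≠ 0} => ((y.1 : Wplus I J a b) : V)) hcx
      have hcH : (c : H) ≠ 1 := fun h => hc1 (Subtype.ext h)
      have h0 := fpf_of_reg hreg (c : H) hcH _ h1
      exact x.2 (Subtype.ext h0)
    have hdvd := card_dvd_of_free hfree
    have hX : Nat.card {w : Wplus I J a b // w ≠ 0} + 1 = Nat.card (Wplus I J a b) := by
      classical
      rw [← Finite.card_option]
      exact Nat.card_congr (Equiv.optionSubtypeNe (0 : Wplus I J a b))
    have hX' : Nat.card {w : Wplus I J a b // w ≠ 0} = Nat.card (Wplus I J a b) - 1 := by omega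
    rw [← hX']
    exact hdvd
  · -- `Z = -1` is in the centralizer
    have hZc : Z ∈ Subgroup.centralizer (S : Set H) := by
      rw [Subgroup.mem_centralizer_iff]
      intro h _
      apply Subtype.ext
      apply LinearEquiv.ext
      intro v
      show (h : V ≃ₗ[ZMod p] V) ((Z : V ≃ₗ[ZMod p] V) v) =
        (Z : V ≃ₗ[ZMod p] V) ((h : V ≃ₗ[ZMod p] V) v)
      rw [hneg, hneg, map_neg]
    haveI : Fact (Nat.Prime 2) := ⟨Nat.prime_two⟩
    have hord : orderOf (⟨Z, hZc⟩ : Subgroup.centralizer (S : Set H)) = 2 := by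
      apply orderOf_eq_prime
      · apply Subtype.ext
        rw [pow_two]
        exact hZZ'
      · intro h
        exact hZ1' (congrArg Subtype.val h)
    rw [← hord]
    exact orderOf_dvd_natCard _

end Reg

end Cfsg.Agent.Lib.Helper25.Sharp
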