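import Mathlib
import Cfsg.Agent.Lib.Helper25.SharpE

/-!
# Insoluble sharply doubly transitive groups (S0689), part F: assembly (helper25)
-/

set_option autoImplicit false
set_option linter.unusedSectionVars false
set_option linter.unusedVariables false
set_option linter.style.haveILetI false

namespace Cfsg.Agent.Lib.Helper25.Sharp

open Cfsg.Agent.Lib.Helper25.ZassD (CommCyc)

/-- `H = S × C_m` -/
theorem iso_prod {H : Type*} [Group H] [Finite H] (S : Subgroup H) (e : S ≃* SL25) (m : ℕ)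
    [Fact m.Prime] (hm : Nat.Coprime 120 m)
    (hC : Nat.card (Subgroup.centralizer (S : Set H)) = 2 * m) (hH : Nat.card H = 120 * m) :
    Nonempty (H ≃* SL25 × Multiplicative (ZMod m)) := by
  have hmp : m.Prime := Fact.out
  haveI : NeZero m := ⟨hmp.ne_zero⟩
  obtain ⟨c, hc⟩ := exists_prime_orderOf_dvd_card' (G := Subgroup.centralizer (S : Set H)) m
    (by rw [hC]; exact dvd_mul_left m 2)
  have hcH : orderOf ((c : H)) = m := by rw [Subgroup.orderOf_coe]; exact hc
  have hMcard : Nat.card (Subgroup.zpowers (c : H)) = m := by rw [Nat.card_zpowers, hcH]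
  have hZcard : Nat.card (Multiplicative (ZMod m)) = m := by
    rw [Nat.card_congr Multiplicative.toAdd, Nat.card_zmod]
  have e₂ : Multiplicative (ZMod m) ≃* Subgroup.zpowers (c : H) :=
    mulEquivOfCyclicCardEq (hZcard.trans hMcard.symm)
  let f₁ : SL25 →* H := S.subtype.comp e.symm.toMonoidHom
  let f₂ : Multiplicative (ZMod m) →* H := (Subgroup.zpowers (c : H)).subtype.comp e₂.toMonoidHom
  have hf₁S : ∀ t, f₁ t ∈ S := fun t => (e.symm t).2
  have hf₂M : ∀ x, f₂ x ∈ Subgroup.zpowers (c : H) := fun x => (e₂ x).2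
  have hf₁inj : Function.Injective f₁ := S.subtype_injective.comp e.symm.injective
  have hf₂inj : Function.Injective f₂ :=
    (Subgroup.zpowers (c : H)).subtype_injective.comp e₂.injective
  have comm : ∀ (t : SL25) (x : Multiplicative (ZMod m)), Commute (f₁ t) (f₂ x) := by
    intro t x
    obtain ⟨k, hk⟩ := Subgroup.mem_zpowers_iff.mp (hf₂M x)
    rw [← hk]
    apply Commute.zpow_right
    exact Subgroup.mem_centralizer_iff.mp c.2 (f₁ t) (hf₁S t)
  haveI : Finite SL25 := Nat.finite_of_card_ne_zero (by rw [card_SL25]; norm_num)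
  have hinj : Function.Injective (MonoidHom.noncommCoprod f₁ f₂ comm) := by
    rw [injective_iff_map_eq_one]
    rintro ⟨t, x⟩ h
    rw [MonoidHom.noncommCoprod_apply] at h
    have h1 : f₁ t = (f₂ x)⁻¹ := eq_inv_of_mul_eq_one_left h
    have h120 : (f₁ t) ^ 120 = 1 := by
      rw [← map_pow, ← card_SL25, pow_card_eq_one', map_one]
    have hmm : (f₁ t) ^ m = 1 := by
      rw [h1, inv_pow, ← map_pow]
      have : x ^ m = 1 := by
        have h2 := pow_card_eq_one' (G := Multiplicative (ZMod m)) (x := x)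
        rwa [hZcard] at h2
      rw [this, map_one, inv_one]
    have hord : orderOf (f₁ t) ∣ Nat.gcd 120 m :=
      Nat.dvd_gcd (orderOf_dvd_of_pow_eq_one h120) (orderOf_dvd_of_pow_eq_one hmm)
    rw [hm.gcd_eq_one, Nat.dvd_one, orderOf_eq_one_iff] at hord
    have ht : t = 1 := hf₁inj (hord.trans (map_one f₁).symm)
    have hx : x = 1 := by
      apply hf₂inj
      rw [map_one]
      rw [hord] at h1
      exact inv_eq_one.mp h1.symm
    rw [ht, hx]
    rfl
  have hcard : Nat.card (SL25 × Multiplicative (ZMod m)) = Nat.card H := by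
    rw [Nat.card_prod, card_SL25, hZcard, hH]
  have hbij : Function.Bijective (MonoidHom.noncommCoprod f₁ f₂ comm) :=
    (Nat.bijective_iff_injective_and_card _).mpr ⟨hinj, hcard⟩
  exact ⟨(MulEquiv.ofBijective _ hbij).symm⟩

section Reg

variable {p : ℕ} [Fact p.Prime] {V : Type*} [AddCommGroup V] [Module (ZMod p) V] [Finite V]

/-- **The insoluble sharply doubly transitive groups**, given Zassenhaus' theorem on perfect
fixed-point-free automorphism groups. -/
theorem main
    (hZass : ∀ G : Subgroup (MulAut (Multiplicative V)),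
      (∀ φ ∈ G, φ ≠ 1 → ∀ k : Multiplicative V, φ k = k → k = 1) → commutator G = ⊤ → G ≠ ⊥ →
      Nonempty (G ≃* SL25))
    (H : Subgroup (V ≃ₗ[ZMod p] V))
    (hreg : ∀ v w : V, v ≠ 0 → w ≠ 0 → ∃! h : H, (h : V ≃ₗ[ZMod p] V) v = w)
    (hsolv : ¬ Group.IsSolvable H) :
    (Nat.card V = 121 ∧ Nonempty (H ≃* SL25)) ∨
    (Nat.card V = 841 ∧ Nonempty (H ≃* SL25 × Multiplicative (ZMod 7))) ∨
    (Nat.card V = 3481 ∧ Nonempty (H ≃* SL25 × Multiplicative (ZMod 29))) := by
  have hp : p.Prime := Fact.out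
  haveI : Finite (V ≃ₗ[ZMod p] V) :=
    Finite.of_injective (fun f : V ≃ₗ[ZMod p] V => (f : V → V)) DFunLike.coe_injective
  -- `V` is nontrivial
  haveI : Nontrivial V := by
    by_contra hnt
    rw [not_nontrivial_iff_subsingleton] at hnt
    apply hsolv
    apply Group.isSolvable_of_comm
    intro a b
    apply Subtype.ext
    apply LinearEquiv.ext
    intro v
    exact Subsingleton.elim _ _
  obtain ⟨S, hSn, hSne, hSperf⟩ := exists_perfect_core H hsolv
  obtain ⟨e⟩ := core_iso_SL25 hreg hZass S hSne hSperf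
  obtain ⟨Q, hV, ⟨j, hj⟩, hdvd, h2⟩ := centralizer_bound hreg S e
  obtain ⟨r, hr, hH⟩ := card_eq_centralizer_mul S e hSperf
  have h3 := three_not_dvd_centralizer S e (commCyc_of_reg hreg)
  have hcard := card_add_one hreg
  have hS : Nat.card S = 120 := by rw [Nat.card_congr e.toEquiv, card_SL25]
  have h1 : Nat.card (Subgroup.centralizer (S : Set H)) * r + 1 = Q * Q := by
    rw [← hH, hcard, hV, pow_two]
  rcases arith Q _ r hr h1 hdvd h2 h3 with ⟨hQ, hc, hr'⟩ | ⟨hQ, hc, hr'⟩ | ⟨hQ, hc, hr'⟩ | hQ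
  · left
    refine ⟨by rw [hV, hQ]; norm_num, ?_⟩
    have hHS : Nat.card S = Nat.card H := by rw [hS, hH, hc, hr']
    have htop : S = ⊤ := Subgroup.eq_top_of_card_eq S hHS
    exact ⟨(Subgroup.topEquiv.symm.trans (MulEquiv.subgroupCongr htop.symm)).trans e⟩
  · right; left
    refine ⟨by rw [hV, hQ]; norm_num, ?_⟩
    haveI : Fact (Nat.Prime 7) := ⟨by norm_num⟩
    exact iso_prod S e 7 (by norm_num) (by rw [hc]) (by rw [hH, hc, hr'])
  · right; right
    refine ⟨by rw [hV, hQ]; norm_num, ?_⟩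
    haveI : Fact (Nat.Prime 29) := ⟨by norm_num⟩
    exact iso_prod S e 29 (by norm_num) (by rw [hc]) (by rw [hH, hc, hr'])
  · exfalso
    exact not_pow_119 p j hp (hj ▸ hQ)

end Reg

end Cfsg.Agent.Lib.Helper25.Sharp
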