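import Mathlib
import Cfsg.Prelude.Def_GeometricClasses
import Cfsg.Agent.Lib.Helper25.SpinDefs
import Cfsg.Agent.Lib.Helper25.SpinL1a
import Cfsg.Agent.Lib.Helper25.SpinL1b
import Cfsg.Agent.Lib.Helper25.SpinL1c
import Cfsg.Agent.Lib.Helper25.SpinL2a
import Cfsg.Agent.Lib.Helper25.SpinL2b

/-!
# S5707 layer SpinL3a (helper25) -- see notes/S5707_plan_helper25.md
L3a: the unipotents are involutions; entries of LL (all proved)
-/

set_option autoImplicit false
set_option linter.unusedSectionVars false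

namespace Cfsg.Agent.Lib.Helper25.Spin

open Matrix

section pm

variable {F : Type*} [Field F]

variable {S : Type} [Fintype S] [DecidableEq S] {m : ℕ}

/-- the pure tensor with `A` at the sites of `T` and `1` elsewhere -/
def pm (T : Finset S) (A : Matrix (Fin m) (Fin m) F) : Matrix (S → Fin m) (S → Fin m) F :=
  pureMat (fun s => if s ∈ T then A else 1)

theorem pm_mul (T : Finset S) (A B : Matrix (Fin m) (Fin m) F) : pm T A * pm T B = pm T (A * B) := by
  unfold pm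
  rw [pureMat_mul]
  congr 1
  funext s
  by_cases h : s ∈ T
  · simp only [if_pos h]
  · simp only [if_neg h, Matrix.mul_one]

theorem pureMat_eq_zero (gs : S → Matrix (Fin m) (Fin m) F) (s : S) (h : gs s = 0) : pureMat gs = 0 := by
  ext x y
  unfold pureMat
  exact Finset.prod_eq_zero (Finset.mem_univ s) (by rw [h]; rfl)

theorem pm_zero {T : Finset S} (hT : T.Nonempty) : pm T (0 : Matrix (Fin m) (Fin m) F) = 0 := by
  obtain ⟨s, hs⟩ := hT
  exact pureMat_eq_zero _ s (by simp only [if_pos hs])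

theorem op_eq_pm (s : S) (A : Matrix (Fin m) (Fin m) F) : op s A = pm {s} A := by
  unfold op pm
  congr 1
  funext r
  by_cases h : r = s
  · subst h; simp
  · rw [Function.update_of_ne h, if_neg (by simpa using h)]

theorem pm_mul_pm_disjoint {T T' : Finset S} (h : Disjoint T T') (A : Matrix (Fin m) (Fin m) F) :
    pm T A * pm T' A = pm (T ∪ T') A := by
  unfold pm
  rw [pureMat_mul]
  congr 1
  funext s
  by_cases h1 : s ∈ T
  · have h2 : s ∉ T' := Finset.disjoint_left.mp h h1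
    rw [if_pos h1, if_neg h2, if_pos (Finset.mem_union_left _ h1), Matrix.mul_one]
  · by_cases h2 : s ∈ T'
    · rw [if_neg h1, if_pos h2, if_pos (Finset.mem_union_right _ h2), Matrix.one_mul]
    · rw [if_neg h1, if_neg h2, if_neg (by simp [h1, h2]), Matrix.one_mul]

theorem op_mul_op_eq_pm {s1 s2 : S} (h : s1 ≠ s2) (A : Matrix (Fin m) (Fin m) F) :
    op s1 A * op s2 A = pm {s1, s2} A := by
  rw [op_eq_pm, op_eq_pm, pm_mul_pm_disjoint (by simpa using h)]
  rfl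

theorem op_mul_op_mul_op_eq_pm {s1 s2 s3 : S} (h12 : s1 ≠ s2) (h13 : s1 ≠ s3) (h23 : s2 ≠ s3)
    (A : Matrix (Fin m) (Fin m) F) :
    op s1 A * op s2 A * op s3 A = pm {s1, s2, s3} A := by
  rw [op_mul_op_eq_pm h12, op_eq_pm s3, pm_mul_pm_disjoint]
  · congr 1
    ext r
    simp only [Finset.mem_union, Finset.mem_insert, Finset.mem_singleton]
    tauto
  · rw [Finset.disjoint_singleton_right]
    simp only [Finset.mem_insert, Finset.mem_singleton, not_or]
    exact ⟨fun h => h13 h.symm, fun h => h23 h.symm⟩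

theorem E01_E10_E01 : (E01 : Matrix (Fin 2) (Fin 2) F) * E10 * E01 = E01 := by
  ext i j; fin_cases i <;> fin_cases j <;> simp [E01, E10, Matrix.mul_apply, Fin.sum_univ_two]

theorem E10_E01_E10 : (E10 : Matrix (Fin 2) (Fin 2) F) * E01 * E10 = E10 := by
  ext i j; fin_cases i <;> fin_cases j <;> simp [E01, E10, Matrix.mul_apply, Fin.sum_univ_two]

end pm

section ring

/-- in characteristic two, for `a² = b² = 0`, `aba = a`, `bab = b`: `((1+a)(1+b))² = 1 + ba + a + b` -/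
theorem comm_sq {R : Type*} [Ring R] (h2 : ∀ r : R, r + r = 0) (a b : R) (haa : a * a = 0) (hbb : b * b = 0)
    (haba : a * b * a = a) (hbab : b * a * b = b) :
    (1 + a) * (1 + b) * (1 + a) * (1 + b) = 1 + b * a + a + b := by
  have key : (1 + a) * (1 + b) * (1 + a) * (1 + b) =
      (1 + b * a + a * b * a + b * a * b) + ((a + a) + (b + b) + (a * b + a * b) + (a * b + (a * b * a) * b)) +
        (a * a + b * b + a * (b * b) + (a * a) * b) := by
    noncomm_ring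
  rw [key, haa, hbb, haba, hbab, h2 a, h2 b, h2 (a * b)]
  simp

/-- in characteristic two: `(1 + u)² = 1` when `u² = 0` -/
theorem one_add_sq {R : Type*} [Ring R] (h2 : ∀ r : R, r + r = 0) (u : R) (huu : u * u = 0) :
    (1 + u) * (1 + u) = 1 := by
  have key : (1 + u) * (1 + u) = 1 + (u + u) + u * u := by noncomm_ring
  rw [key, huu, h2 u]
  simp

/-- `(1 + x₁x₂) y₁ (1 + x₁x₂) = y₁ + x₂` -/
theorem conj_one_add {R : Type*} [Ring R] (x1 x2 y1 : R) (h12 : x1 * x2 = x2 * x1) (h2y : x2 * y1 = y1 * x2)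
    (h1 : x1 * y1 + y1 * x1 = 1) (h22 : x2 * x2 = 0) :
    (1 + x1 * x2) * y1 * (1 + x1 * x2) = y1 + x2 := by
  have key : (1 + x1 * x2) * y1 * (1 + x1 * x2) =
      y1 + (x1 * (x2 * y1) + y1 * x1 * x2) + x1 * (x2 * y1) * x1 * x2 := by
    noncomm_ring
  have e1 : x1 * (y1 * x2) + y1 * x1 * x2 = (x1 * y1 + y1 * x1) * x2 := by noncomm_ring
  have e2 : x1 * (y1 * x2) * x1 * x2 = x1 * y1 * (x2 * x1) * x2 := by noncomm_ring
  have e3 : x1 * y1 * (x1 * x2) * x2 = x1 * y1 * x1 * (x2 * x2) := by noncomm_ring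
  rw [key, h2y, e1, h1, e2, ← h12, e3, h22]
  simp

end ring

variable {F : Type*} [Field F] [CharP F 2]

variable {S : Type} [Fintype S] [DecidableEq S]

theorem mat_add_self {ι : Type} (M : Matrix ι ι F) : M + M = 0 := by
  ext i j
  exact CharTwo.add_self_eq_zero _

theorem Xop2_eq_pm {s1 s2 : S} (h : s1 ≠ s2) : Xop (F := F) s1 * Xop s2 = pm {s1, s2} E01 :=
  op_mul_op_eq_pm h _

theorem Yop2_eq_pm {s1 s2 : S} (h : s1 ≠ s2) : Yop (F := F) s1 * Yop s2 = pm {s1, s2} E10 :=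
  op_mul_op_eq_pm h _

theorem Xop3_eq_pm {s1 s2 s3 : S} (h12 : s1 ≠ s2) (h13 : s1 ≠ s3) (h23 : s2 ≠ s3) :
    Xop (F := F) s1 * Xop s2 * Xop s3 = pm {s1, s2, s3} E01 :=
  op_mul_op_mul_op_eq_pm h12 h13 h23 _

theorem Yop3_eq_pm {s1 s2 s3 : S} (h12 : s1 ≠ s2) (h13 : s1 ≠ s3) (h23 : s2 ≠ s3) :
    Yop (F := F) s1 * Yop s2 * Yop s3 = pm {s1, s2, s3} E10 :=
  op_mul_op_mul_op_eq_pm h12 h13 h23 _

theorem pm_E01_sq {T : Finset S} (hT : T.Nonempty) : pm T (E01 : Matrix (Fin 2) (Fin 2) F) * pm T E01 = 0 := by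
  rw [pm_mul, E01_mul_E01, pm_zero hT]

theorem pm_E10_sq {T : Finset S} (hT : T.Nonempty) : pm T (E10 : Matrix (Fin 2) (Fin 2) F) * pm T E10 = 0 := by
  rw [pm_mul, E10_mul_E10, pm_zero hT]

/-- EL-UNIT: `(1 + X₁X₂)² = 1` (char 2, `X₁² = 0`) -/
theorem tX2_mul_self {s1 s2 : S} (h : s1 ≠ s2) : tX2 (F := F) s1 s2 * tX2 s1 s2 = 1 := by
  unfold tX2
  rw [Xop2_eq_pm h]
  exact one_add_sq mat_add_self _ (pm_E01_sq ⟨s1, by simp⟩)

/-- EL-UNIT -/
theorem tY2_mul_self {s1 s2 : S} (h : s1 ≠ s2) : tY2 (F := F) s1 s2 * tY2 s1 s2 = 1 := by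
  unfold tY2
  rw [Yop2_eq_pm h]
  exact one_add_sq mat_add_self _ (pm_E10_sq ⟨s1, by simp⟩)

/-- EL-UNIT -/
theorem tX3_mul_self {s1 s2 s3 : S} (h12 : s1 ≠ s2) (h13 : s1 ≠ s3) (h23 : s2 ≠ s3) :
    tX3 (F := F) s1 s2 s3 * tX3 s1 s2 s3 = 1 := by
  unfold tX3
  rw [Xop3_eq_pm h12 h13 h23]
  exact one_add_sq mat_add_self _ (pm_E01_sq ⟨s1, by simp⟩)

/-- EL-UNIT -/
theorem tY3_mul_self {s1 s2 s3 : S} (h12 : s1 ≠ s2) (h13 : s1 ≠ s3) (h23 : s2 ≠ s3) :
    tY3 (F := F) s1 s2 s3 * tY3 s1 s2 s3 = 1 := by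
  unfold tY3
  rw [Yop3_eq_pm h12 h13 h23]
  exact one_add_sq mat_add_self _ (pm_E10_sq ⟨s1, by simp⟩)

/-- EL-H: every element of `LL` has zero entries at pairs of indices differing in two sites -/
theorem LL_apply_eq_zero (M : Matrix (S → Fin 2) (S → Fin 2) F) (hM : M ∈ LL) (x y : S → Fin 2) {s s' : S}
    (hss' : s ≠ s') (hs : x s ≠ y s) (hs' : x s' ≠ y s') : M x y = 0 := by
  unfold LL at hM
  induction hM using Submodule.span_induction with
  | mem M hM =>
    obtain ⟨r, A, _, rfl⟩ := hM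
    rw [op_apply, if_neg]
    intro h
    by_cases h1 : s = r
    · subst h1
      exact hs' (h s' (Ne.symm hss'))
    · exact hs (h s h1)
  | zero => rfl
  | add M N _ _ hM hN => rw [Matrix.add_apply, hM, hN, add_zero]
  | smul c M _ hM => rw [Matrix.smul_apply, hM, smul_zero]

end Cfsg.Agent.Lib.Helper25.Spin
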