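import Mathlib
import Cfsg.Prelude.Def_GeometricClasses
import Cfsg.Agent.Lib.Helper25.SpinDefs
import Cfsg.Agent.Lib.Helper25.SpinL1a
import Cfsg.Agent.Lib.Helper25.SpinL1b
import Cfsg.Agent.Lib.Helper25.SpinL1c
import Cfsg.Agent.Lib.Helper25.SpinL2a
import Cfsg.Agent.Lib.Helper25.SpinL2b
import Cfsg.Agent.Lib.Helper25.SpinL3a

/-!
# S5707 layer SpinL3b (helper25) -- see notes/S5707_plan_helper25.md
L3b: isometries, normalising, gElt, hElt (all proved)
-/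

set_option autoImplicit false
set_option linter.unusedSectionVars false

namespace Cfsg.Agent.Lib.Helper25.Spin

open Matrix

variable {F : Type*} [Field F] [CharP F 2]

variable {S : Type} [Fintype S] [DecidableEq S]

theorem isUnit_of_sq {ι : Type} [Fintype ι] [DecidableEq ι] (M : Matrix ι ι F) (h : M * M = 1) : IsUnit M :=
  ⟨⟨M, M, h, h⟩, rfl⟩

theorem toGL_inv_val_of_sq {ι : Type} [Fintype ι] [DecidableEq ι] (M : Matrix ι ι F) (h : M * M = 1) :
    (((toGL M)⁻¹ : GL ι F) : Matrix ι ι F) = M := by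
  have hu := isUnit_of_sq M h
  have : (toGL M)⁻¹ = toGL M := by
    apply inv_eq_of_mul_eq_one_right
    apply Units.ext
    rw [Units.val_mul, toGL_val hu, h]
    rfl
  rw [this, toGL_val hu]

theorem vec_add_self {ι : Type} (v : ι → F) : v + v = 0 := by
  funext i
  exact CharTwo.add_self_eq_zero _

/-- `P` maps every scaled basis vector to `0` or to the scaled basis vector at `f x` -/
def IsMono (P : Matrix (S → Fin 2) (S → Fin 2) F) (f : (S → Fin 2) → (S → Fin 2)) : Prop :=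
  ∀ (x : S → Fin 2) (a : F), P *ᵥ Pi.single x a = 0 ∨ P *ᵥ Pi.single x a = Pi.single (f x) a

theorem IsMono.mul {P P' : Matrix (S → Fin 2) (S → Fin 2) F} {f f' : (S → Fin 2) → (S → Fin 2)}
    (h : IsMono P f) (h' : IsMono P' f') : IsMono (P * P') (f ∘ f') := by
  intro x a
  rw [← Matrix.mulVec_mulVec]
  rcases h' x a with h1 | h1
  · left; rw [h1, Matrix.mulVec_zero]
  · rw [h1]
    exact h (f' x) a

theorem isMono_Xop (s : S) : IsMono (Xop (F := F) s) (flp s) := by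
  intro x a
  rw [Xop_mulVec_single]
  by_cases h : x s = 1
  · right; rw [if_pos h]
  · left; rw [if_neg h]

theorem isMono_Yop (s : S) : IsMono (Yop (F := F) s) (flp s) := by
  intro x a
  rw [Yop_mulVec_single]
  by_cases h : x s = 0
  · right; rw [if_pos h]
  · left; rw [if_neg h]

theorem Q0_single_add_single_of_agree (s0 : S) (x y : S → Fin 2) (a : F) (s : S) (hs : y s = x s) :
    Q0 (F := F) s0 (Pi.single x a + Pi.single y a) = 0 := by
  rw [Q0_add, Q0_single, Q0_single, B0_single_single, if_neg]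
  · ring
  · intro h
    have := congrFun h s
    rw [hs, cpl_apply] at this
    exact rev2_ne _ this.symm

theorem hsing_of_isMono (s0 : S) {U : Matrix (S → Fin 2) (S → Fin 2) F} {f : (S → Fin 2) → (S → Fin 2)}
    (hU : IsMono U f) (hf : ∀ x, ∃ s, f x s = x s) (x : S → Fin 2) (a : F) :
    Q0 s0 (Pi.single x a + U *ᵥ Pi.single x a) = 0 := by
  rcases hU x a with h | h
  · rw [h, add_zero, Q0_single]
  · rw [h]
    obtain ⟨s, hs⟩ := hf x
    exact Q0_single_add_single_of_agree s0 x (f x) a s hs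

theorem one_add_mem_iso (s0 : S) (U : Matrix (S → Fin 2) (S → Fin 2) F) (hUU : U * U = 0)
    (hadj : ∀ v w, B0 (U *ᵥ v) w = B0 v (U *ᵥ w))
    (hsing : ∀ x a, Q0 s0 (Pi.single x a + U *ᵥ Pi.single x a) = 0) :
    toGL (1 + U) ∈ Cfsg.isometryGroup F (Q0 (F := F) s0) := by
  have hsq : (1 + U) * (1 + U) = 1 := one_add_sq mat_add_self U hUU
  have hu := isUnit_of_sq _ hsq
  apply mem_isometryGroup_of s0
  · intro v w
    rw [toGL_val hu]
    have hadj' : ∀ v w, B0 ((1 + U) *ᵥ v) w = B0 v ((1 + U) *ᵥ w) := by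
      intro v w
      rw [Matrix.add_mulVec, Matrix.add_mulVec, Matrix.one_mulVec, Matrix.one_mulVec,
        B0_isBilinear.add_left, B0_isBilinear.add_right, hadj]
    rw [hadj', Matrix.mulVec_mulVec, hsq, Matrix.one_mulVec]
  · intro x a
    rw [toGL_val hu, Matrix.add_mulVec, Matrix.one_mulVec]
    exact hsing x a

theorem Xop_comm_Xop' (s s' : S) : Xop (F := F) s * Xop s' = Xop s' * Xop s := by
  by_cases h : s = s'
  · subst h; rfl
  · exact Xop_comm_Xop h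

theorem Yop_comm_Yop' (s s' : S) : Yop (F := F) s * Yop s' = Yop s' * Yop s := by
  by_cases h : s = s'
  · subst h; rfl
  · exact Yop_comm_Yop h

theorem B0_adj_mul {P P' : Matrix (S → Fin 2) (S → Fin 2) F}
    (hP : ∀ v w, B0 (P *ᵥ v) w = B0 v (P *ᵥ w)) (hP' : ∀ v w, B0 (P' *ᵥ v) w = B0 v (P' *ᵥ w))
    (hc : P * P' = P' * P) (v w : (S → Fin 2) → F) : B0 ((P * P') *ᵥ v) w = B0 v ((P * P') *ᵥ w) := by
  rw [← Matrix.mulVec_mulVec, hP, hP', Matrix.mulVec_mulVec, hc]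

/-- EL-ISO: `1 + X₁X₂` is an isometry of `Q0` (a third site is needed).
Proof: `mem_isometryGroup_of`; `B0`: self-adjoint, commuting, square one; `Q0 (τ e_x) = Q0 (e_x + [x s1 = 1 ∧ x s2 = 1] e_y)`,
`y = flp s1 (flp s2 x) ≠ cpl x` (they differ at `s3`), `Q0_single_add_single`. -/
theorem tX2_mem_iso (s0 : S) {s1 s2 s3 : S} (h12 : s1 ≠ s2) (h13 : s1 ≠ s3) (h23 : s2 ≠ s3) :
    toGL (tX2 (F := F) s1 s2) ∈ Cfsg.isometryGroup F (Q0 (F := F) s0) := by
  unfold tX2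
  apply one_add_mem_iso s0
  · rw [Xop2_eq_pm h12]
    exact pm_E01_sq ⟨s1, by simp⟩
  · exact B0_adj_mul (B0_Xop s1) (B0_Xop s2) (Xop_comm_Xop h12)
  · apply hsing_of_isMono s0 ((isMono_Xop s1).mul (isMono_Xop s2))
    intro x
    refine ⟨s3, ?_⟩
    rw [Function.comp_apply, flp_apply_of_ne (Ne.symm h13), flp_apply_of_ne (Ne.symm h23)]

/-- EL-ISO -/
theorem tY2_mem_iso (s0 : S) {s1 s2 s3 : S} (h12 : s1 ≠ s2) (h13 : s1 ≠ s3) (h23 : s2 ≠ s3) :
    toGL (tY2 (F := F) s1 s2) ∈ Cfsg.isometryGroup F (Q0 (F := F) s0) := by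
  unfold tY2
  apply one_add_mem_iso s0
  · rw [Yop2_eq_pm h12]
    exact pm_E10_sq ⟨s1, by simp⟩
  · exact B0_adj_mul (B0_Yop s1) (B0_Yop s2) (Yop_comm_Yop h12)
  · apply hsing_of_isMono s0 ((isMono_Yop s1).mul (isMono_Yop s2))
    intro x
    refine ⟨s3, ?_⟩
    rw [Function.comp_apply, flp_apply_of_ne (Ne.symm h13), flp_apply_of_ne (Ne.symm h23)]

/-- EL-ISO: `1 + X₁X₂X₃` is an isometry of `Q0` (a fourth site is needed) -/
theorem tX3_mem_iso (s0 : S) {s1 s2 s3 s4 : S} (h12 : s1 ≠ s2) (h13 : s1 ≠ s3) (h23 : s2 ≠ s3)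
    (h14 : s1 ≠ s4) (h24 : s2 ≠ s4) (h34 : s3 ≠ s4) :
    toGL (tX3 (F := F) s1 s2 s3) ∈ Cfsg.isometryGroup F (Q0 (F := F) s0) := by
  unfold tX3
  apply one_add_mem_iso s0
  · rw [Xop3_eq_pm h12 h13 h23]
    exact pm_E01_sq ⟨s1, by simp⟩
  · refine B0_adj_mul (B0_adj_mul (B0_Xop s1) (B0_Xop s2) (Xop_comm_Xop h12)) (B0_Xop s3) ?_
    rw [Matrix.mul_assoc, Xop_comm_Xop h23, ← Matrix.mul_assoc, Xop_comm_Xop h13, Matrix.mul_assoc]
  · apply hsing_of_isMono s0 (((isMono_Xop s1).mul (isMono_Xop s2)).mul (isMono_Xop s3))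
    intro x
    refine ⟨s4, ?_⟩
    rw [Function.comp_apply, Function.comp_apply, flp_apply_of_ne (Ne.symm h14),
      flp_apply_of_ne (Ne.symm h24), flp_apply_of_ne (Ne.symm h34)]

/-- EL-ISO -/
theorem tY3_mem_iso (s0 : S) {s1 s2 s3 s4 : S} (h12 : s1 ≠ s2) (h13 : s1 ≠ s3) (h23 : s2 ≠ s3)
    (h14 : s1 ≠ s4) (h24 : s2 ≠ s4) (h34 : s3 ≠ s4) :
    toGL (tY3 (F := F) s1 s2 s3) ∈ Cfsg.isometryGroup F (Q0 (F := F) s0) := by
  unfold tY3
  apply one_add_mem_iso s0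
  · rw [Yop3_eq_pm h12 h13 h23]
    exact pm_E10_sq ⟨s1, by simp⟩
  · refine B0_adj_mul (B0_adj_mul (B0_Yop s1) (B0_Yop s2) (Yop_comm_Yop h12)) (B0_Yop s3) ?_
    rw [Matrix.mul_assoc, Yop_comm_Yop h23, ← Matrix.mul_assoc, Yop_comm_Yop h13, Matrix.mul_assoc]
  · apply hsing_of_isMono s0 (((isMono_Yop s1).mul (isMono_Yop s2)).mul (isMono_Yop s3))
    intro x
    refine ⟨s4, ?_⟩
    rw [Function.comp_apply, Function.comp_apply, flp_apply_of_ne (Ne.symm h14),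
      flp_apply_of_ne (Ne.symm h24), flp_apply_of_ne (Ne.symm h34)]

theorem mem_NormLL_of_sq (τ : Matrix (S → Fin 2) (S → Fin 2) F) (hsq : τ * τ = 1)
    (hX : ∀ s, τ * Xop s * τ ∈ LL) (hY : ∀ s, τ * Yop s * τ ∈ LL) : toGL τ ∈ NormLL := by
  have hu := isUnit_of_sq _ hsq
  rw [mem_NormLL_iff, toGL_val hu, toGL_inv_val_of_sq _ hsq]
  have key := conj_mem_LL_of τ τ hsq hX hY
  exact ⟨key, key⟩

theorem conj_of_comm {R : Type*} [Ring R] (τ M : R) (hsq : τ * τ = 1) (hc : τ * M = M * τ) :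
    τ * M * τ = M := by
  rw [hc, mul_assoc, hsq, mul_one]

theorem comm_one_add_mul {R : Type*} [Ring R] (x1 x2 M : R) (h1 : x1 * M = M * x1) (h2 : x2 * M = M * x2) :
    (1 + x1 * x2) * M = M * (1 + x1 * x2) := by
  have : Commute (1 + x1 * x2) M :=
    (Commute.one_left M).add_left (Commute.mul_left (show Commute x1 M from h1) (show Commute x2 M from h2))
  exact this

/-- EL-NORM: `τ = 1 + X₁X₂` normalises `LL`: `τ Y₁ τ = Y₁ + X₂`, `τ Y₂ τ = Y₂ + X₁`, `τ` commutes with everything else.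
(`conj_mem_LL_of` from layer 1.) -/
theorem tX2_mem_Norm {s1 s2 : S} (h : s1 ≠ s2) : toGL (tX2 (F := F) s1 s2) ∈ NormLL := by
  have hsq := tX2_mul_self (F := F) h
  apply mem_NormLL_of_sq _ hsq
  · intro s
    rw [conj_of_comm _ _ hsq]
    · exact Xop_mem_LL s
    · exact comm_one_add_mul _ _ _ (Xop_comm_Xop' s1 s) (Xop_comm_Xop' s2 s)
  · intro s
    by_cases hs1 : s = s1
    · subst hs1
      unfold tX2
      rw [conj_one_add _ _ _ (Xop_comm_Xop h) (Xop_comm_Yop (Ne.symm h)) (Xop_mul_Yop_add s) (Xop_mul_self s2)]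
      exact Submodule.add_mem _ (Yop_mem_LL s) (Xop_mem_LL s2)
    · by_cases hs2 : s = s2
      · subst hs2
        unfold tX2
        rw [Xop_comm_Xop h,
          conj_one_add _ _ _ (Xop_comm_Xop (Ne.symm h)) (Xop_comm_Yop h) (Xop_mul_Yop_add s) (Xop_mul_self s1)]
        exact Submodule.add_mem _ (Yop_mem_LL s) (Xop_mem_LL s1)
      · rw [conj_of_comm _ _ hsq]
        · exact Yop_mem_LL s
        · exact comm_one_add_mul _ _ _ (Xop_comm_Yop (Ne.symm hs1)) (Xop_comm_Yop (Ne.symm hs2))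

/-- EL-NORM -/
theorem tY2_mem_Norm {s1 s2 : S} (h : s1 ≠ s2) : toGL (tY2 (F := F) s1 s2) ∈ NormLL := by
  have hsq := tY2_mul_self (F := F) h
  apply mem_NormLL_of_sq _ hsq
  · intro s
    by_cases hs1 : s = s1
    · subst hs1
      unfold tY2
      rw [conj_one_add _ _ _ (Yop_comm_Yop h) (Xop_comm_Yop h).symm
        (by rw [add_comm]; exact Xop_mul_Yop_add s) (Yop_mul_self s2)]
      exact Submodule.add_mem _ (Xop_mem_LL s) (Yop_mem_LL s2)
    · by_cases hs2 : s = s2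
      · subst hs2
        unfold tY2
        rw [Yop_comm_Yop h,
          conj_one_add _ _ _ (Yop_comm_Yop (Ne.symm h)) (Xop_comm_Yop (Ne.symm h)).symm
            (by rw [add_comm]; exact Xop_mul_Yop_add s) (Yop_mul_self s1)]
        exact Submodule.add_mem _ (Xop_mem_LL s) (Yop_mem_LL s1)
      · rw [conj_of_comm _ _ hsq]
        · exact Xop_mem_LL s
        · exact comm_one_add_mul _ _ _ (Xop_comm_Yop hs1).symm (Xop_comm_Yop hs2).symm
  · intro s
    rw [conj_of_comm _ _ hsq]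
    · exact Yop_mem_LL s
    · exact comm_one_add_mul _ _ _ (Yop_comm_Yop' s1 s) (Yop_comm_Yop' s2 s)

theorem comm_val_of_sq {ι : Type} [Fintype ι] [DecidableEq ι] (A B : Matrix ι ι F) (hA : A * A = 1) (hB : B * B = 1) :
    ((toGL A * toGL B * (toGL A)⁻¹ * (toGL B)⁻¹ : GL ι F) : Matrix ι ι F) = A * B * A * B := by
  rw [Units.val_mul, Units.val_mul, Units.val_mul, toGL_val (isUnit_of_sq A hA), toGL_val (isUnit_of_sq B hB),
    toGL_inv_val_of_sq A hA, toGL_inv_val_of_sq B hB]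

theorem comm_inv_val_of_sq {ι : Type} [Fintype ι] [DecidableEq ι] (A B : Matrix ι ι F) (hA : A * A = 1)
    (hB : B * B = 1) :
    (((toGL A * toGL B * (toGL A)⁻¹ * (toGL B)⁻¹)⁻¹ : GL ι F) : Matrix ι ι F) = B * A * B * A := by
  have : (toGL A * toGL B * (toGL A)⁻¹ * (toGL B)⁻¹)⁻¹ = toGL B * toGL A * (toGL B)⁻¹ * (toGL A)⁻¹ := by
    group
  rw [this, comm_val_of_sq B A hB hA]

theorem pm_comm_sq {T : Finset S} (hT : T.Nonempty) :
    (1 + pm T (E01 : Matrix (Fin 2) (Fin 2) F)) * (1 + pm T E10) * (1 + pm T E01) * (1 + pm T E10) =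
      1 + pm T (E10 * E01) + pm T E01 + pm T E10 := by
  rw [comm_sq mat_add_self _ _ (pm_E01_sq hT) (pm_E10_sq hT), pm_mul]
  · rw [pm_mul, pm_mul, E01_E10_E01]
  · rw [pm_mul, pm_mul, E10_E01_E10]

theorem pm_comm_sq' {T : Finset S} (hT : T.Nonempty) :
    (1 + pm T (E10 : Matrix (Fin 2) (Fin 2) F)) * (1 + pm T E01) * (1 + pm T E10) * (1 + pm T E01) =
      1 + pm T (E01 * E10) + pm T E10 + pm T E01 := by
  rw [comm_sq mat_add_self _ _ (pm_E10_sq hT) (pm_E01_sq hT), pm_mul]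
  · rw [pm_mul, pm_mul, E10_E01_E10]
  · rw [pm_mul, pm_mul, E01_E10_E01]

/-- EL-G: matrix of `gElt`: with `U = X₁X₂`, `D = Y₁Y₂`: `((1+U)(1+D))² = 1 + DU + U + D`, `DU = Y₁X₁Y₂X₂`. -/
theorem gElt_val {s1 s2 : S} (h : s1 ≠ s2) :
    ((gElt (F := F) s1 s2 : GL (S → Fin 2) F) : Matrix (S → Fin 2) (S → Fin 2) F) =
      1 + Yop s1 * Xop s1 * (Yop s2 * Xop s2) + Xop s1 * Xop s2 + Yop s1 * Yop s2 := by
  unfold gElt
  rw [comm_val_of_sq _ _ (tX2_mul_self h) (tY2_mul_self h)]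
  unfold tX2 tY2
  rw [Xop2_eq_pm h, Yop2_eq_pm h, pm_comm_sq ⟨s1, by simp⟩]
  unfold Xop Yop
  rw [op_mul, op_mul, op_mul_op_eq_pm h]

/-- EL-G: `g e_{00z} = e_{00z} + e_{11z}` -/
theorem gElt_mulVec_single {s1 s2 : S} (h : s1 ≠ s2) (x : S → Fin 2) (hx1 : x s1 = 0) (hx2 : x s2 = 0) :
    ((gElt (F := F) s1 s2 : GL (S → Fin 2) F) : Matrix (S → Fin 2) (S → Fin 2) F) *ᵥ Pi.single x 1 =
      Pi.single x 1 + Pi.single (flp s1 (flp s2 x)) 1 := by
  rw [gElt_val h, Matrix.add_mulVec, Matrix.add_mulVec, Matrix.add_mulVec, Matrix.one_mulVec]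
  have hX2 : Xop (F := F) s2 *ᵥ Pi.single x 1 = 0 := by
    rw [Xop_mulVec_single, if_neg (by rw [hx2]; decide)]
  have e1 : (Yop (F := F) s1 * Xop s1 * (Yop s2 * Xop s2)) *ᵥ Pi.single x (1 : F) = 0 := by
    rw [← Matrix.mulVec_mulVec, ← Matrix.mulVec_mulVec (Pi.single x (1 : F)) (Yop s2), hX2, Matrix.mulVec_zero,
      Matrix.mulVec_zero]
  have e2 : (Xop (F := F) s1 * Xop s2) *ᵥ Pi.single x (1 : F) = 0 := by
    rw [← Matrix.mulVec_mulVec, hX2, Matrix.mulVec_zero]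
  have e3 : (Yop (F := F) s1 * Yop s2) *ᵥ Pi.single x (1 : F) = Pi.single (flp s1 (flp s2 x)) 1 := by
    rw [← Matrix.mulVec_mulVec, Yop_mulVec_single, if_pos hx2, Yop_mulVec_single, if_pos]
    rw [flp_apply_of_ne h, hx1]
  rw [e1, e2, e3, add_zero, add_zero]

/-- EL-H: matrix of `hElt` and of its inverse: `h = 1 + Y₁X₁Y₂X₂Y₃X₃ + U + D`, `h⁻¹ = 1 + X₁Y₁X₂Y₂X₃Y₃ + U + D`,
`U = X₁X₂X₃`, `D = Y₁Y₂Y₃`. -/
theorem hElt_val {s1 s2 s3 : S} (h12 : s1 ≠ s2) (h13 : s1 ≠ s3) (h23 : s2 ≠ s3) :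
    ((hElt (F := F) s1 s2 s3 : GL (S → Fin 2) F) : Matrix (S → Fin 2) (S → Fin 2) F) =
      1 + Yop s1 * Xop s1 * (Yop s2 * Xop s2) * (Yop s3 * Xop s3) + Xop s1 * Xop s2 * Xop s3 + Yop s1 * Yop s2 * Yop s3 ∧
    (((hElt (F := F) s1 s2 s3)⁻¹ : GL (S → Fin 2) F) : Matrix (S → Fin 2) (S → Fin 2) F) =
      1 + Xop s1 * Yop s1 * (Xop s2 * Yop s2) * (Xop s3 * Yop s3) + Xop s1 * Xop s2 * Xop s3 + Yop s1 * Yop s2 * Yop s3 := by
  have hT : ({s1, s2, s3} : Finset S).Nonempty := ⟨s1, by simp⟩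
  constructor
  · unfold hElt
    rw [comm_val_of_sq _ _ (tX3_mul_self h12 h13 h23) (tY3_mul_self h12 h13 h23)]
    unfold tX3 tY3
    rw [Xop3_eq_pm h12 h13 h23, Yop3_eq_pm h12 h13 h23, pm_comm_sq hT]
    unfold Xop Yop
    rw [op_mul, op_mul, op_mul, op_mul_op_mul_op_eq_pm h12 h13 h23]
  · unfold hElt
    rw [comm_inv_val_of_sq _ _ (tX3_mul_self h12 h13 h23) (tY3_mul_self h12 h13 h23)]
    unfold tX3 tY3
    rw [Xop3_eq_pm h12 h13 h23, Yop3_eq_pm h12 h13 h23, pm_comm_sq' hT]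
    unfold Xop Yop
    rw [op_mul, op_mul, op_mul, op_mul_op_mul_op_eq_pm h12 h13 h23]
    abel

theorem flp_apply (s r : S) (x : S → Fin 2) : flp s x r = if r = s then Fin.rev (x r) else x r := by
  by_cases h : r = s
  · subst h; rw [if_pos rfl, flp_apply_self]
  · rw [if_neg h, flp_apply_of_ne h]

theorem YX_mulVec_single (s : S) (x : S → Fin 2) (a : F) :
    (Yop s * Xop s) *ᵥ Pi.single x a = if x s = 1 then Pi.single x a else 0 := by
  rw [← Matrix.mulVec_mulVec, Xop_mulVec_single]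
  by_cases h : x s = 1
  · rw [if_pos h, if_pos h, Yop_mulVec_single, if_pos, flp_flp]
    rw [flp_apply_self, h]; rfl
  · rw [if_neg h, if_neg h, Matrix.mulVec_zero]

/-- EL-H: `hElt` does not normalise `LL`: the entry of `h Y₁ h⁻¹` at `(x, y)`, `x = 000w`, `y = 011w` is `1`
(`h⁻¹ e_{011w} = e_{011w}`, `Y₁ e_{011w} = e_{111w}`, `h e_{111w} = e_{000w}`), and `x`, `y` differ at `s2`, `s3`. -/
theorem hElt_not_mem_Norm {s1 s2 s3 : S} (h12 : s1 ≠ s2) (h13 : s1 ≠ s3) (h23 : s2 ≠ s3) :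
    hElt (F := F) s1 s2 s3 ∉ NormLL := by
  intro hmem
  rw [mem_NormLL_iff] at hmem
  have h1 := hmem.1 (Yop s1) (Yop_mem_LL s1)
  obtain ⟨hv, hvi⟩ := hElt_val (F := F) h12 h13 h23
  have h21 := Ne.symm h12
  have h31 := Ne.symm h13
  have h32 := Ne.symm h23
  let x : S → Fin 2 := fun _ => 0
  let y : S → Fin 2 := flp s2 (flp s3 x)
  let y' : S → Fin 2 := flp s1 y
  have hy1 : y s1 = 0 := by simp [y, x, flp_apply, h12, h13]
  have hy2 : y s2 = 1 := by simp [y, x, flp_apply, h23]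
  have hy3 : y s3 = 1 := by simp [y, x, flp_apply, h32]
  have hy'1 : y' s1 = 1 := by simp [y', flp_apply, hy1]
  have hy'2 : y' s2 = 1 := by simp [y', flp_apply, hy2, h21]
  have hy'3 : y' s3 = 1 := by simp [y', flp_apply, hy3, h31]
  have hz : flp s1 (flp s2 (flp s3 y')) = x := by
    funext r
    by_cases hr1 : r = s1
    · subst hr1; simp [y', y, x, flp_apply, h12, h13]
    · by_cases hr2 : r = s2
      · subst hr2; simp [y', y, x, flp_apply, h23, hr1]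
      · by_cases hr3 : r = s3
        · subst hr3; simp [y', y, x, flp_apply, hr1, hr2]
        · simp [y', y, x, flp_apply, hr1, hr2, hr3]
  have hzero := LL_apply_eq_zero _ h1 x y h23 (by rw [hy2]; decide) (by rw [hy3]; decide)
  -- h⁻¹ e_y = e_y
  have hY3y : Yop (F := F) s3 *ᵥ Pi.single y 1 = 0 := by
    rw [Yop_mulVec_single, if_neg (by rw [hy3]; decide)]
  have e1 : (((hElt (F := F) s1 s2 s3)⁻¹ : GL (S → Fin 2) F) : Matrix (S → Fin 2) (S → Fin 2) F) *ᵥ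
      Pi.single y 1 = Pi.single y 1 := by
    rw [hvi, Matrix.add_mulVec, Matrix.add_mulVec, Matrix.add_mulVec, Matrix.one_mulVec]
    have a1 : (Xop (F := F) s1 * Yop s1 * (Xop s2 * Yop s2) * (Xop s3 * Yop s3)) *ᵥ Pi.single y (1 : F) = 0 := by
      rw [← Matrix.mulVec_mulVec, ← Matrix.mulVec_mulVec (Pi.single y (1 : F)) (Xop s3), hY3y,
        Matrix.mulVec_zero, Matrix.mulVec_zero]
    have a2 : (Xop (F := F) s1 * Xop s2 * Xop s3) *ᵥ Pi.single y (1 : F) = 0 := by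
      rw [← Matrix.mulVec_mulVec, ← Matrix.mulVec_mulVec, Xop_mulVec_single, if_pos hy3, Xop_mulVec_single,
        if_pos (by rw [flp_apply_of_ne h23, hy2]), Xop_mulVec_single,
        if_neg (by rw [flp_apply_of_ne h12, flp_apply_of_ne h13, hy1]; decide)]
    have a3 : (Yop (F := F) s1 * Yop s2 * Yop s3) *ᵥ Pi.single y (1 : F) = 0 := by
      rw [← Matrix.mulVec_mulVec, hY3y, Matrix.mulVec_zero]
    rw [a1, a2, a3, add_zero, add_zero, add_zero]
  -- Y₁ e_y = e_{y'}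
  have e2 : Yop (F := F) s1 *ᵥ Pi.single y 1 = Pi.single y' 1 := by
    rw [Yop_mulVec_single, if_pos hy1]
  -- h e_{y'} = e_x
  have e3 : ((hElt (F := F) s1 s2 s3 : GL (S → Fin 2) F) : Matrix (S → Fin 2) (S → Fin 2) F) *ᵥ
      Pi.single y' 1 = Pi.single x 1 := by
    rw [hv, Matrix.add_mulVec, Matrix.add_mulVec, Matrix.add_mulVec, Matrix.one_mulVec]
    have a1 : (Yop (F := F) s1 * Xop s1 * (Yop s2 * Xop s2) * (Yop s3 * Xop s3)) *ᵥ Pi.single y' (1 : F) =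
        Pi.single y' 1 := by
      rw [← Matrix.mulVec_mulVec, ← Matrix.mulVec_mulVec, YX_mulVec_single, if_pos hy'3, YX_mulVec_single,
        if_pos hy'2, YX_mulVec_single, if_pos hy'1]
    have a2 : (Xop (F := F) s1 * Xop s2 * Xop s3) *ᵥ Pi.single y' (1 : F) = Pi.single x 1 := by
      rw [← Matrix.mulVec_mulVec, ← Matrix.mulVec_mulVec, Xop_mulVec_single, if_pos hy'3, Xop_mulVec_single,
        if_pos (by rw [flp_apply_of_ne h23, hy'2]), Xop_mulVec_single,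
        if_pos (by rw [flp_apply_of_ne h12, flp_apply_of_ne h13, hy'1]), hz]
    have a3 : (Yop (F := F) s1 * Yop s2 * Yop s3) *ᵥ Pi.single y' (1 : F) = 0 := by
      rw [← Matrix.mulVec_mulVec, Yop_mulVec_single, if_neg (by rw [hy'3]; decide), Matrix.mulVec_zero]
    rw [a1, a2, a3, vec_add_self, zero_add, add_zero]
  have hone : ((((hElt (F := F) s1 s2 s3 : GL (S → Fin 2) F) : Matrix (S → Fin 2) (S → Fin 2) F) * Yop s1 *
      (((hElt (F := F) s1 s2 s3)⁻¹ : GL (S → Fin 2) F) : Matrix (S → Fin 2) (S → Fin 2) F) :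
        Matrix (S → Fin 2) (S → Fin 2) F)) x y = 1 := by
    have e4 : (((hElt (F := F) s1 s2 s3 : GL (S → Fin 2) F) : Matrix (S → Fin 2) (S → Fin 2) F) * Yop s1 *
      (((hElt (F := F) s1 s2 s3)⁻¹ : GL (S → Fin 2) F) : Matrix (S → Fin 2) (S → Fin 2) F)) *ᵥ Pi.single y 1 =
        Pi.single x 1 := by
      rw [← Matrix.mulVec_mulVec, ← Matrix.mulVec_mulVec, e1, e2, e3]
    have e5 := congrFun e4 x
    rw [Matrix.mulVec_single_one, Matrix.col_apply, Pi.single_eq_same] at e5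
    exact e5
  rw [hzero] at hone
  exact zero_ne_one hone

end Cfsg.Agent.Lib.Helper25.Spin
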