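import Mathlib
import Cfsg.Prelude.Def_GeometricClasses
import Cfsg.Agent.Lib.Helper25.SpinDefs
import Cfsg.Agent.Lib.Helper25.SpinL1a
import Cfsg.Agent.Lib.Helper25.SpinL1b
import Cfsg.Agent.Lib.Helper25.SpinL1c
import Cfsg.Agent.Lib.Helper25.SpinL2a

/-!
# S5707 (helper25): proofs for layer L4a, part 1 -- wreath normal form, non-purity, rigidity
-/

set_option autoImplicit false
set_option linter.unusedSectionVars false

namespace Cfsg.Agent.Lib.Helper25.Spin

open Matrix

variable {F : Type*} [Field F]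

section nf

variable {m t : ℕ}

theorem permMat_mul_inv (σ : Equiv.Perm (Fin t)) :
    (permMat σ : Matrix (Fin t → Fin m) (Fin t → Fin m) F) * permMat σ⁻¹ = 1 := by
  rw [permMat_mul, mul_inv_cancel, permMat_one]

theorem permMat_inv_mul (σ : Equiv.Perm (Fin t)) :
    (permMat σ⁻¹ : Matrix (Fin t → Fin m) (Fin t → Fin m) F) * permMat σ = 1 := by
  rw [permMat_mul, inv_mul_cancel, permMat_one]

theorem permMat_mul_pureMat (σ : Equiv.Perm (Fin t)) (gs : Fin t → Matrix (Fin m) (Fin m) F) :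
    permMat σ * pureMat gs = pureMat (fun s => gs (σ⁻¹ s)) * permMat σ := by
  rw [← permMat_conj_pureMat, Matrix.mul_assoc, permMat_inv_mul, Matrix.mul_one]

/-- the normal form predicate -/
def NF (n : GL (Fin t → Fin m) F) : Prop :=
  ∃ (gs gs' : Fin t → Matrix (Fin m) (Fin m) F) (σ : Equiv.Perm (Fin t)), (∀ i, gs i * gs' i = 1) ∧
      (n : Matrix (Fin t → Fin m) (Fin t → Fin m) F) = pureMat gs * permMat σ ∧
      ((n⁻¹ : GL (Fin t → Fin m) F) : Matrix (Fin t → Fin m) (Fin t → Fin m) F) = permMat σ⁻¹ * pureMat gs'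

theorem NF_one : NF (m := m) (t := t) (F := F) 1 := by
  refine ⟨fun _ => 1, fun _ => 1, 1, fun i => by simp, ?_, ?_⟩
  · rw [pureMat_one, permMat_one, Matrix.mul_one]; rfl
  · rw [inv_one, inv_one, pureMat_one, permMat_one, Matrix.mul_one]; rfl

theorem NF_mul {a b : GL (Fin t → Fin m) F} (ha : NF a) (hb : NF b) : NF (a * b) := by
  obtain ⟨gs1, gs1', σ1, h1, ha1, ha2⟩ := ha
  obtain ⟨gs2, gs2', σ2, h2, hb1, hb2⟩ := hb
  refine ⟨fun s => gs1 s * gs2 (σ1⁻¹ s), fun s => gs2' (σ1⁻¹ s) * gs1' s, σ1 * σ2, ?_, ?_, ?_⟩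
  · intro i
    rw [Matrix.mul_assoc, ← Matrix.mul_assoc (gs2 _), h2, Matrix.one_mul, h1]
  · rw [Units.val_mul, ha1, hb1, Matrix.mul_assoc, ← Matrix.mul_assoc (permMat σ1), permMat_mul_pureMat,
      Matrix.mul_assoc, permMat_mul, ← Matrix.mul_assoc, pureMat_mul]
  · rw [_root_.mul_inv_rev, Units.val_mul, ha2, hb2, _root_.mul_inv_rev, ← permMat_mul]
    have e := permMat_mul_pureMat (F := F) (m := m) σ1⁻¹ (fun s => gs2' (σ1⁻¹ s))
    have e' : (fun s => gs2' (σ1⁻¹ (σ1⁻¹⁻¹ s))) = gs2' := by funext s; simp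
    rw [e'] at e
    have e2 : pureMat (fun s => gs2' (σ1⁻¹ s) * gs1' s) = pureMat (fun s => gs2' (σ1⁻¹ s)) * pureMat gs1' :=
      (pureMat_mul _ _).symm
    rw [e2]
    calc permMat σ2⁻¹ * pureMat gs2' * (permMat σ1⁻¹ * pureMat gs1')
        = permMat σ2⁻¹ * (pureMat gs2' * permMat σ1⁻¹) * pureMat gs1' := by simp only [Matrix.mul_assoc]
      _ = permMat σ2⁻¹ * (permMat σ1⁻¹ * pureMat (fun s => gs2' (σ1⁻¹ s))) * pureMat gs1' := by rw [e]
      _ = _ := by simp only [Matrix.mul_assoc]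

theorem NF_inv {a : GL (Fin t → Fin m) F} (ha : NF a) : NF a⁻¹ := by
  obtain ⟨gs, gs', σ, h, ha1, ha2⟩ := ha
  have h' : ∀ i, gs' i * gs i = 1 := fun i => _root_.mul_eq_one_comm.mp (h i)
  refine ⟨fun s => gs' (σ s), fun s => gs (σ s), σ⁻¹, fun i => h' _, ?_, ?_⟩
  · rw [ha2, permMat_mul_pureMat]
    simp
  · rw [inv_inv, inv_inv, ha1]
    have := permMat_mul_pureMat (F := F) (m := m) σ (fun s => gs (σ s))
    rw [this]
    congr 2
    funext s
    simp

end nf

/-- WR-NF: normal form of the elements of the frozen tensor-wreath subgroup. -/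
theorem exists_normal_form' (m t : ℕ) (n : GL (Fin t → Fin m) F)
    (hn : n ∈ Cfsg.Geo.tensorWreathStandard m t F) :
    ∃ (gs gs' : Fin t → Matrix (Fin m) (Fin m) F) (σ : Equiv.Perm (Fin t)), (∀ i, gs i * gs' i = 1) ∧
      (n : Matrix (Fin t → Fin m) (Fin t → Fin m) F) = pureMat gs * permMat σ ∧
      ((n⁻¹ : GL (Fin t → Fin m) F) : Matrix (Fin t → Fin m) (Fin t → Fin m) F) = permMat σ⁻¹ * pureMat gs' := by
  change NF n
  unfold Cfsg.Geo.tensorWreathStandard at hn
  induction hn using Subgroup.closure_induction with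
  | mem x hx =>
    rcases hx with ⟨gs, hgs⟩ | ⟨σ, hσ⟩
    · have hx : (x : Matrix (Fin t → Fin m) (Fin t → Fin m) F) =
          pureMat (fun i => (gs i : Matrix (Fin m) (Fin m) F)) := by
        ext a b
        rw [hgs]; rfl
      refine ⟨fun i => (gs i : Matrix (Fin m) (Fin m) F), fun i => ((gs i)⁻¹ : GL (Fin m) F).val, 1,
        fun i => by rw [← Units.val_mul, mul_inv_cancel, Units.val_one], ?_, ?_⟩
      · rw [permMat_one, Matrix.mul_one, hx]
      · rw [inv_one, permMat_one, Matrix.one_mul]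
        apply Units.inv_eq_of_mul_eq_one_right
        rw [hx, pureMat_mul]
        have : (fun s => (gs s : Matrix (Fin m) (Fin m) F) * ((gs s)⁻¹ : GL (Fin m) F).val) = fun _ => 1 := by
          funext s
          rw [← Units.val_mul, mul_inv_cancel, Units.val_one]
        rw [this, pureMat_one]
    · have hx : (x : Matrix (Fin t → Fin m) (Fin t → Fin m) F) = permMat σ := by
        ext a b
        rw [hσ]; rfl
      refine ⟨fun _ => 1, fun _ => 1, σ, fun i => by simp, ?_, ?_⟩
      · rw [pureMat_one, Matrix.one_mul, hx]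
      · rw [pureMat_one, Matrix.mul_one]
        apply Units.inv_eq_of_mul_eq_one_right
        rw [hx, permMat_mul_inv]
  | one => exact NF_one
  | mul x y _ _ hx hy => exact NF_mul hx hy
  | inv x _ hx => exact NF_inv hx

/-- WR-NF: pure tensors of invertible matrices belong to the frozen subgroup -/
theorem pureMat_mem_wreath' (m t : ℕ) (b b' : Matrix (Fin m) (Fin m) F) (hbb' : b * b' = 1)
    (g : GL (Fin t → Fin m) F)
    (hg : (g : Matrix (Fin t → Fin m) (Fin t → Fin m) F) = pureMat (fun _ => b)) :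
    g ∈ Cfsg.Geo.tensorWreathStandard m t F := by
  unfold Cfsg.Geo.tensorWreathStandard
  apply Subgroup.subset_closure
  left
  refine ⟨fun _ => ⟨b, b', hbb', _root_.mul_eq_one_comm.mp hbb'⟩, fun x y => ?_⟩
  rw [hg]
  rfl

/-- WR-PURE: `e_{y0} + e_{y1}` is not a pure tensor when `y0`, `y1` differ in two sites. -/
theorem pureVec_ne_single_add_single' {S : Type} [Fintype S] [DecidableEq S] {m : ℕ} (y0 y1 : S → Fin m)
    {i1 i2 : S} (h12 : i1 ≠ i2) (h1 : y0 i1 ≠ y1 i1) (h2 : y0 i2 ≠ y1 i2) (vs : S → Fin m → F) :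
    pureVec vs ≠ Pi.single y0 (1 : F) + Pi.single y1 1 := by
  intro h
  have hne : y0 ≠ y1 := fun h' => h1 (congrFun h' i1)
  set z : S → Fin m := Function.update y0 i1 (y1 i1) with hz
  set z' : S → Fin m := Function.update y1 i1 (y0 i1) with hz'
  have key : pureVec vs y0 * pureVec vs y1 = pureVec vs z * pureVec vs z' := by
    unfold pureVec
    rw [← Finset.prod_mul_distrib, ← Finset.prod_mul_distrib]
    refine Finset.prod_congr rfl fun s _ => ?_
    by_cases hs : s = i1
    · subst hs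
      simp only [hz, hz', Function.update_self]
      ring
    · simp only [hz, hz', Function.update_of_ne hs]
  have hzy0 : z ≠ y0 := by
    intro h'
    have := congrFun h' i1
    simp only [hz, Function.update_self] at this
    exact h1 this.symm
  have hzy1 : z ≠ y1 := by
    intro h'
    have := congrFun h' i2
    simp only [hz, Function.update_of_ne (Ne.symm h12)] at this
    exact h2 this
  rw [h] at key
  simp only [Pi.add_apply, Pi.single_eq_same, Pi.single_eq_of_ne hne, Pi.single_eq_of_ne (Ne.symm hne),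
    Pi.single_eq_of_ne hzy0, Pi.single_eq_of_ne hzy1, add_zero, zero_add, mul_one, zero_mul] at key
  exact one_ne_zero key

theorem pureMat_update_apply {S : Type} [Fintype S] [DecidableEq S] {m : ℕ}
    (gs : S → Matrix (Fin m) (Fin m) F) (a0 b0 : Fin m) (i : S) (α β : Fin m) :
    pureMat gs (Function.update (fun _ => a0) i α) (Function.update (fun _ => b0) i β) =
      gs i α β * ∏ s ∈ Finset.univ.erase i, gs s a0 b0 := by
  unfold pureMat
  rw [← Finset.mul_prod_erase Finset.univ _ (Finset.mem_univ i), Function.update_self, Function.update_self]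
  congr 1
  refine Finset.prod_congr rfl fun s hs => ?_
  rw [Function.update_of_ne (Finset.ne_of_mem_erase hs), Function.update_of_ne (Finset.ne_of_mem_erase hs)]

theorem matrix_eq_of_dot {ι : Type} [Fintype ι] [DecidableEq ι] (A B : Matrix ι ι F)
    (h : ∀ x y : ι → F, x ⬝ᵥ (A *ᵥ y) = x ⬝ᵥ (B *ᵥ y)) : A = B := by
  ext i j
  have := h (Pi.single i 1) (Pi.single j 1)
  simpa using this

/-- C4-RIG: rigidity -/
theorem rigidity' (m t : ℕ) (G : Matrix (Fin m) (Fin m) F) (hG : G ≠ 0) (gs : Fin t → Matrix (Fin m) (Fin m) F)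
    (σ : Equiv.Perm (Fin t))
    (hpres : ∀ x y : (Fin t → Fin m) → F,
      formG G ((pureMat gs * permMat σ) *ᵥ x) ((pureMat gs * permMat σ) *ᵥ y) = formG G x y) :
    ∀ i, ∃ lam : F, (gs i)ᵀ * G * gs i = lam • G := by
  have hmat : (pureMat gs * permMat σ)ᵀ * pureMat (fun _ : Fin t => G) * (pureMat gs * permMat σ) =
      pureMat (fun _ : Fin t => G) := by
    apply matrix_eq_of_dot
    intro x y
    rw [← formG_mulVec, hpres, formG_eq]
  have hmat2 : pureMat (fun s => (gs (σ s))ᵀ * G * gs (σ s)) = pureMat (fun _ : Fin t => G) := by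
    have e := permMat_conj_pureMat (F := F) (m := m) σ⁻¹ (fun s => (gs s)ᵀ * G * gs s)
    rw [inv_inv] at e
    rw [← e, ← hmat, Matrix.transpose_mul, permMat_transpose, pureMat_transpose]
    have e2 : pureMat (fun s => (gs s)ᵀ * G * gs s) =
        pureMat (fun s => (gs s)ᵀ) * pureMat (fun _ : Fin t => G) * pureMat gs := by
      rw [pureMat_mul, pureMat_mul]
    rw [e2]
    simp only [Matrix.mul_assoc]
  obtain ⟨a0, b0, hab⟩ : ∃ a0 b0, G a0 b0 ≠ 0 := by
    by_contra hcon
    push Not at hcon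
    apply hG
    ext a b
    exact hcon a b
  set H : Fin t → Matrix (Fin m) (Fin m) F := fun s => (gs (σ s))ᵀ * G * gs (σ s) with hH
  have hent : ∀ (i : Fin t) (α β : Fin m),
      H i α β * ∏ s ∈ Finset.univ.erase i, H s a0 b0 = G α β * ∏ s ∈ Finset.univ.erase i, G a0 b0 := by
    intro i α β
    rw [← pureMat_update_apply H a0 b0 i α β, ← pureMat_update_apply (fun _ => G) a0 b0 i α β, hmat2]
  have hne : ∀ i : Fin t, (∏ s ∈ Finset.univ.erase i, H s a0 b0) ≠ 0 := by
    intro i hz
    have := hent i a0 b0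
    rw [hz, mul_zero] at this
    have h2 : G a0 b0 * ∏ s ∈ Finset.univ.erase i, G a0 b0 ≠ 0 := by
      apply mul_ne_zero hab
      rw [Finset.prod_const]
      exact pow_ne_zero _ hab
    exact h2 this.symm
  intro j
  refine ⟨(∏ s ∈ Finset.univ.erase (σ⁻¹ j), G a0 b0) / (∏ s ∈ Finset.univ.erase (σ⁻¹ j), H s a0 b0), ?_⟩
  have hj : σ (σ⁻¹ j) = j := by simp
  ext α β
  have := hent (σ⁻¹ j) α β
  simp only [hH, hj] at this
  rw [Matrix.smul_apply, smul_eq_mul]
  have hne' := hne (σ⁻¹ j)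
  simp only [hH] at hne'
  rw [div_mul_eq_mul_div, eq_div_iff hne']
  linear_combination this

end Cfsg.Agent.Lib.Helper25.Spin
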