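import Mathlib
import Cfsg.Prelude.Def_GeometricClasses
import Cfsg.Agent.Lib.Helper25.SpinDefs
import Cfsg.Agent.Lib.Helper25.SpinL1a
import Cfsg.Agent.Lib.Helper25.SpinL1b
import Cfsg.Agent.Lib.Helper25.SpinL1c
import Cfsg.Agent.Lib.Helper25.SpinL2a

/-!
# S5707 (helper25): proofs for layer L4a, part 2 -- digits, the reindexing `beta`, `l4 = sl_2 ⊗ 1 + 1 ⊗ sl_2`
-/

set_option autoImplicit false
set_option linter.unusedSectionVars false

namespace Cfsg.Agent.Lib.Helper25.Spin

open Matrix

variable {F : Type*} [Field F]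

theorem dig_inj : ∀ a b : Fin 4, dig a 0 = dig b 0 → dig a 1 = dig b 1 → a = b := by decide

theorem dig_rev : ∀ (a : Fin 4) (j : Fin 2), dig (Fin.rev a) j = Fin.rev (dig a j) := by decide

theorem beta_apply (t : ℕ) (x : Fin t → Fin 4) (p : Fin t × Fin 2) : beta t x p = dig (x p.1) p.2 := rfl

theorem reindex_eq_of {α β : Type} [Fintype α] [Fintype β] [DecidableEq α] [DecidableEq β] (e : α ≃ β)
    (M : Matrix α α F) (N : Matrix β β F) (h : ∀ x y, M x y = N (e x) (e y)) : Matrix.reindex e e M = N := by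
  ext x' y'
  rw [Matrix.reindex_apply, Matrix.submatrix_apply, h, Equiv.apply_symm_apply, Equiv.apply_symm_apply]

theorem hi4_apply (A : Matrix (Fin 2) (Fin 2) F) (a b : Fin 4) :
    hi4 A a b = if dig a 1 = dig b 1 then A (dig a 0) (dig b 0) else 0 := rfl

theorem lo4_apply (A : Matrix (Fin 2) (Fin 2) F) (a b : Fin 4) :
    lo4 A a b = if dig a 0 = dig b 0 then A (dig a 1) (dig b 1) else 0 := rfl

/-- C4-BETA: reindexing a block operator on the high digit -/
theorem reindex_op_hi' (t : ℕ) (i : Fin t) (A : Matrix (Fin 2) (Fin 2) F) :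
    Matrix.reindex (beta t) (beta t) (op i (hi4 A)) = op ((i, 0) : Fin t × Fin 2) A := by
  apply reindex_eq_of
  intro x y
  rw [op_apply, op_apply, hi4_apply]
  by_cases h1 : ∀ s', s' ≠ i → x s' = y s'
  · rw [if_pos h1]
    by_cases h2 : dig (x i) 1 = dig (y i) 1
    · rw [if_pos h2, if_pos]
      · rfl
      · rintro ⟨s', j⟩ hp
        rw [beta_apply, beta_apply]
        by_cases hs : s' = i
        · subst hs
          have hj : j = 1 := by
            rcases fin2_cases j with h | h
            · exfalso; apply hp; rw [h]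
            · exact h
          subst hj
          exact h2
        · show dig (x s') j = dig (y s') j
          rw [h1 s' hs]
    · rw [if_neg h2, if_neg]
      intro h
      apply h2
      have := h (i, 1) (by intro h'; have := congrArg Prod.snd h'; simp at this)
      exact this
  · rw [if_neg h1, if_neg]
    intro h
    apply h1
    intro s' hs
    apply dig_inj
    · exact h (s', 0) (by intro h'; exact hs (congrArg Prod.fst h'))
    · exact h (s', 1) (by intro h'; exact hs (congrArg Prod.fst h'))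

/-- C4-BETA: reindexing a block operator on the low digit -/
theorem reindex_op_lo' (t : ℕ) (i : Fin t) (A : Matrix (Fin 2) (Fin 2) F) :
    Matrix.reindex (beta t) (beta t) (op i (lo4 A)) = op ((i, 1) : Fin t × Fin 2) A := by
  apply reindex_eq_of
  intro x y
  rw [op_apply, op_apply, lo4_apply]
  by_cases h1 : ∀ s', s' ≠ i → x s' = y s'
  · rw [if_pos h1]
    by_cases h2 : dig (x i) 0 = dig (y i) 0
    · rw [if_pos h2, if_pos]
      · rfl
      · rintro ⟨s', j⟩ hp
        rw [beta_apply, beta_apply]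
        by_cases hs : s' = i
        · subst hs
          have hj : j = 0 := by
            rcases fin2_cases j with h | h
            · exact h
            · exfalso; apply hp; rw [h]
          subst hj
          exact h2
        · show dig (x s') j = dig (y s') j
          rw [h1 s' hs]
    · rw [if_neg h2, if_neg]
      intro h
      apply h2
      have := h (i, 0) (by intro h'; have := congrArg Prod.snd h'; simp at this)
      exact this
  · rw [if_neg h1, if_neg]
    intro h
    apply h1
    intro s' hs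
    apply dig_inj
    · exact h (s', 0) (by intro h'; exact hs (congrArg Prod.fst h'))
    · exact h (s', 1) (by intro h'; exact hs (congrArg Prod.fst h'))

theorem J4_prod {S : Type} [Fintype S] (a b : S → Fin 4) :
    (∏ i, (J4 (F := F)) (a i) (b i)) = if b = (fun i => Fin.rev (a i)) then 1 else 0 := by
  unfold J4
  rw [Finset.prod_ite_zero]
  simp only [Finset.mem_univ, forall_true_left, Finset.prod_const_one]
  by_cases h : b = (fun i => Fin.rev (a i))
  · rw [if_pos h, if_pos]
    intro i; rw [h]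
  · rw [if_neg h, if_neg]
    intro h'
    apply h
    funext i
    exact h' i

/-- C4-BETA: the forms correspond -/
theorem formG_J4_beta' (t : ℕ) (v w : (Fin t × Fin 2 → Fin 2) → F) :
    formG (J4 (F := F)) (v ∘ beta t) (w ∘ beta t) = B0 v w := by
  unfold formG B0
  rw [← Equiv.sum_comp (beta t)]
  refine Finset.sum_congr rfl fun a _ => ?_
  rw [Finset.sum_eq_single (fun i => Fin.rev (a i))]
  · rw [J4_prod, if_pos rfl, mul_one, Function.comp_apply, Function.comp_apply]
    congr 2
    funext p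
    rw [beta_apply, cpl_apply, beta_apply]
    exact dig_rev _ _
  · intro b _ hb
    rw [J4_prod, if_neg hb, mul_zero, zero_mul]
  · intro h; exact absurd (Finset.mem_univ _) h

theorem hi4_eq (A : Matrix (Fin 2) (Fin 2) F) :
    hi4 A = !![A 0 0, 0, A 0 1, 0; 0, A 0 0, 0, A 0 1; A 1 0, 0, A 1 1, 0; 0, A 1 0, 0, A 1 1] := by
  ext a b
  fin_cases a <;> fin_cases b <;> rfl

theorem lo4_eq (A : Matrix (Fin 2) (Fin 2) F) :
    lo4 A = !![A 0 0, A 0 1, 0, 0; A 1 0, A 1 1, 0, 0; 0, 0, A 0 0, A 0 1; 0, 0, A 1 0, A 1 1] := by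
  ext a b
  fin_cases a <;> fin_cases b <;> rfl

theorem mem_l4_iff_entries (X : Matrix (Fin 4) (Fin 4) F) :
    X ∈ l4 (F := F) ↔ (∀ a, X (Fin.rev a) a = 0) ∧ (∀ a b, X (Fin.rev b) a = X (Fin.rev a) b) ∧ X 0 0 + X 1 1 = 0 :=
  Iff.rfl

/-- C4-L4: `l4 = sl_2 ⊗ 1 + 1 ⊗ sl_2` (char 2) -/
theorem mem_l4_iff' [CharP F 2] (X : Matrix (Fin 4) (Fin 4) F) :
    X ∈ l4 (F := F) ↔ ∃ A A' : Matrix (Fin 2) (Fin 2) F, A.trace = 0 ∧ A'.trace = 0 ∧ X = hi4 A + lo4 A' := by
  rw [mem_l4_iff_entries]
  constructor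
  · rintro ⟨h1, h2, h3⟩
    have e30 : X 3 0 = 0 := h1 0
    have e21 : X 2 1 = 0 := h1 1
    have e12 : X 1 2 = 0 := h1 2
    have e03 : X 0 3 = 0 := h1 3
    have e13 : X 0 2 = X 1 3 := h2 2 3
    have e31 : X 2 0 = X 3 1 := h2 0 1
    have e23 : X 0 1 = X 2 3 := h2 1 3
    have e32 : X 1 0 = X 3 2 := h2 0 2
    have e33 : X 0 0 = X 3 3 := h2 0 3
    have e22 : X 1 1 = X 2 2 := h2 1 2
    have e11 : X 1 1 = X 0 0 := by
      have h := CharTwo.add_self_eq_zero (X 0 0)
      linear_combination h3 - h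
    refine ⟨!![X 0 0, X 0 2; X 2 0, X 0 0], !![0, X 0 1; X 1 0, 0], ?_, ?_, ?_⟩
    · rw [Matrix.trace_fin_two]
      exact CharTwo.add_self_eq_zero (X 0 0)
    · rw [Matrix.trace_fin_two]
      simp
    · rw [hi4_eq, lo4_eq]
      ext a b
      fin_cases a <;> fin_cases b <;> simp [e30, e21, e12, e03, ← e13, ← e31, ← e23, ← e32, ← e33, ← e22, e11]
  · rintro ⟨A, A', hA, hA', rfl⟩
    rw [Matrix.trace_fin_two] at hA hA'
    have hA1 : A 1 1 = A 0 0 := by
      have h := CharTwo.add_self_eq_zero (A 0 0)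
      linear_combination hA - h
    have hA1' : A' 1 1 = A' 0 0 := by
      have h := CharTwo.add_self_eq_zero (A' 0 0)
      linear_combination hA' - h
    rw [hi4_eq, lo4_eq]
    refine ⟨?_, ?_, ?_⟩
    · intro a
      fin_cases a <;> simp
    · intro a b
      fin_cases a <;> fin_cases b <;> simp [hA1, hA1']
    · simp [hA1']
      have h := CharTwo.add_self_eq_zero (A 0 0 + A' 0 0)
      linear_combination h

end Cfsg.Agent.Lib.Helper25.Spin
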