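import Mathlib
import Cfsg.Prelude.Def_GeometricClasses
import Cfsg.Agent.Lib.Helper25.SpinDefs
import Cfsg.Agent.Lib.Helper25.SpinP4a3

/-!
# S5707 (helper25): proofs for layer L4a, part 4 -- symplectic basis in dimension 4, similitudes normalise `l4`
-/

set_option autoImplicit false
set_option linter.unusedSectionVars false

namespace Cfsg.Agent.Lib.Helper25.Spin

open Matrix

variable {F : Type*} [Field F]

theorem J4_eq : (J4 : Matrix (Fin 4) (Fin 4) F) = !![0, 0, 0, 1; 0, 0, 1, 0; 0, 1, 0, 0; 1, 0, 0, 0] := by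
  ext a b
  fin_cases a <;> fin_cases b <;> rfl

theorem J4_mul_J4 : (J4 : Matrix (Fin 4) (Fin 4) F) * J4 = 1 := by
  rw [J4_eq]
  ext a b
  fin_cases a <;> fin_cases b <;> simp [Matrix.mul_apply, Fin.sum_univ_four]

theorem J4_det_ne_zero : (J4 : Matrix (Fin 4) (Fin 4) F).det ≠ 0 := by
  intro h
  have := congrArg Matrix.det (J4_mul_J4 (F := F))
  rw [Matrix.det_mul, h, mul_zero, Matrix.det_one] at this
  exact zero_ne_one this

section basis

variable [CharP F 2]

/-- C4-SB: a symplectic basis: the Gram matrix of a symplectic form on `F^4` is congruent to `J4` (char 2) -/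
theorem exists_symplectic_basis4' (f₁ : (Fin 4 → F) → (Fin 4 → F) → F)
    (hf₁ : Cfsg.Geo.IsSymplecticForm f₁) :
    ∃ b b' : Matrix (Fin 4) (Fin 4) F, b * b' = 1 ∧ b' * b = 1 ∧ bᵀ * Cfsg.Geo.gramMatrix f₁ * b = J4 (F := F) := by
  have hb := hf₁.bilinear
  have hsym : ∀ v w, f₁ v w = f₁ w v := fun v w => by rw [hf₁.skew, CharTwo.neg_eq]
  have halt := hf₁.alternating
  -- first hyperbolic pair
  set u0 : Fin 4 → F := Pi.single 0 1 with hu0
  obtain ⟨x, hx⟩ := (hf₁.nondegenerate u0 (single_ne_zero' 0)).2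
  set u3 : Fin 4 → F := (f₁ u0 x)⁻¹ • x with hu3
  have h03 : f₁ u0 u3 = 1 := by rw [hu3, hb.smul_right, inv_mul_cancel₀ hx]
  have h30 : f₁ u3 u0 = 1 := by rw [hsym, h03]
  -- the projection onto the perp of the pair
  set π : (Fin 4 → F) → (Fin 4 → F) := fun v => v + f₁ v u3 • u0 + f₁ v u0 • u3 with hπ
  have hπ0 : ∀ v, f₁ (π v) u0 = 0 := by
    intro v
    simp only [hπ, hb.add_left, hb.smul_left, halt, h30, mul_zero, add_zero, mul_one]
    exact CharTwo.add_self_eq_zero _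
  have hπ3 : ∀ v, f₁ (π v) u3 = 0 := by
    intro v
    simp only [hπ, hb.add_left, hb.smul_left, halt, h03, mul_zero, add_zero, mul_one]
    exact CharTwo.add_self_eq_zero _
  have hπr : ∀ w v, f₁ w u0 = 0 → f₁ w u3 = 0 → f₁ w (π v) = f₁ w v := by
    intro w v h0 h3
    simp only [hπ, hb.add_right, hb.smul_right, h0, h3, mul_zero, add_zero]
  -- a non-zero vector in the perp
  have hex : ∃ v, π v ≠ 0 := by
    by_contra hcon
    push Not at hcon
    have hspan : ∀ v : Fin 4 → F, v ∈ Submodule.span F ({u0, u3} : Set (Fin 4 → F)) := by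
      intro v
      have h := hcon v
      have hv : v = f₁ v u3 • u0 + f₁ v u0 • u3 := by
        have h' : v + (f₁ v u3 • u0 + f₁ v u0 • u3) = 0 := by rw [← add_assoc]; exact h
        have h2 : (f₁ v u3 • u0 + f₁ v u0 • u3) + (f₁ v u3 • u0 + f₁ v u0 • u3) = 0 := by
          funext i; exact CharTwo.add_self_eq_zero _
        calc v = v + ((f₁ v u3 • u0 + f₁ v u0 • u3) + (f₁ v u3 • u0 + f₁ v u0 • u3)) := by rw [h2, add_zero]
          _ = (v + (f₁ v u3 • u0 + f₁ v u0 • u3)) + (f₁ v u3 • u0 + f₁ v u0 • u3) := (add_assoc _ _ _).symm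
          _ = _ := by rw [h', zero_add]
      rw [hv]
      apply Submodule.add_mem
      · exact Submodule.smul_mem _ _ (Submodule.subset_span (by simp))
      · exact Submodule.smul_mem _ _ (Submodule.subset_span (by simp))
    have htop : Submodule.span F ({u0, u3} : Set (Fin 4 → F)) = ⊤ := by
      rw [eq_top_iff]
      intro v _
      exact hspan v
    classical
    have h1 : Module.finrank F (Submodule.span F (({u0, u3} : Finset (Fin 4 → F)) : Set (Fin 4 → F))) ≤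
        ({u0, u3} : Finset (Fin 4 → F)).card := finrank_span_finset_le_card (R := F) ({u0, u3} : Finset (Fin 4 → F))
    have h2 : (({u0, u3} : Finset (Fin 4 → F)) : Set (Fin 4 → F)) = {u0, u3} := by simp
    rw [h2, htop, finrank_top, Module.finrank_fin_fun] at h1
    have h3 : ({u0, u3} : Finset (Fin 4 → F)).card ≤ 2 := Finset.card_le_two
    omega
  obtain ⟨v, hv⟩ := hex
  set u1 : Fin 4 → F := π v with hu1
  have h10 : f₁ u1 u0 = 0 := hπ0 v
  have h13 : f₁ u1 u3 = 0 := hπ3 v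
  obtain ⟨y, hy⟩ := (hf₁.nondegenerate u1 hv).2
  have hy' : f₁ u1 (π y) ≠ 0 := by rw [hπr u1 y h10 h13]; exact hy
  set u2 : Fin 4 → F := (f₁ u1 (π y))⁻¹ • π y with hu2
  have h12 : f₁ u1 u2 = 1 := by rw [hu2, hb.smul_right, inv_mul_cancel₀ hy']
  have h20 : f₁ u2 u0 = 0 := by rw [hu2, hb.smul_left, hπ0, mul_zero]
  have h23 : f₁ u2 u3 = 0 := by rw [hu2, hb.smul_left, hπ3, mul_zero]
  have h21 : f₁ u2 u1 = 1 := by rw [hsym, h12]
  have h01 : f₁ u0 u1 = 0 := by rw [hsym, h10]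
  have h31 : f₁ u3 u1 = 0 := by rw [hsym, h13]
  have h02 : f₁ u0 u2 = 0 := by rw [hsym, h20]
  have h32 : f₁ u3 u2 = 0 := by rw [hsym, h23]
  -- the matrix of the basis
  set u : Fin 4 → Fin 4 → F := ![u0, u1, u2, u3] with hu
  set b : Matrix (Fin 4) (Fin 4) F := Matrix.of (fun i a => u a i) with hbdef
  have hgram : bᵀ * Cfsg.Geo.gramMatrix f₁ * b = J4 (F := F) := by
    ext a c
    have e : (bᵀ * Cfsg.Geo.gramMatrix f₁ * b) a c = f₁ (u a) (u c) := by
      rw [form_eq_gram hb, Matrix.mul_apply]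
      simp only [Matrix.mul_apply, Matrix.transpose_apply, hbdef, Matrix.of_apply, Finset.sum_mul]
      rw [Finset.sum_comm]
    rw [e, J4_eq]
    fin_cases a <;> fin_cases c <;> simp [hu, halt, h03, h30, h10, h13, h12, h20, h23, h21, h01, h31, h02, h32]
  have hdet : b.det ≠ 0 := by
    intro h
    have := congrArg Matrix.det hgram
    rw [Matrix.det_mul, Matrix.det_mul, h, mul_zero] at this
    exact J4_det_ne_zero this.symm
  have hunit : IsUnit b.det := isUnit_iff_ne_zero.mpr hdet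
  exact ⟨b, b⁻¹, Matrix.mul_nonsing_inv b hunit, Matrix.nonsing_inv_mul b hunit, hgram⟩

end basis

/-- alternating `4 × 4` matrices with zero contraction against `J4` -/
def Alt4 (M : Matrix (Fin 4) (Fin 4) F) : Prop :=
  (∀ c, M c c = 0) ∧ (∀ c d, M c d = M d c) ∧ M 0 3 + M 1 2 = 0

theorem mul_J4_apply (A : Matrix (Fin 4) (Fin 4) F) (a b : Fin 4) :
    (A * J4 : Matrix (Fin 4) (Fin 4) F) a b = A a (Fin.rev b) := by
  rw [Matrix.mul_apply, Finset.sum_eq_single (Fin.rev b)]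
  · unfold J4
    rw [if_pos (Fin.rev_rev b).symm, mul_one]
  · intro c _ hc
    unfold J4
    rw [if_neg, mul_zero]
    intro h
    apply hc
    rw [h, Fin.rev_rev]
  · intro h; exact absurd (Finset.mem_univ _) h

theorem mem_l4_iff_alt (A : Matrix (Fin 4) (Fin 4) F) :
    A ∈ l4 (F := F) ↔ Alt4 (A * J4 : Matrix (Fin 4) (Fin 4) F) := by
  constructor
  · rintro ⟨h1, h2, h3⟩
    refine ⟨fun c => ?_, fun c d => ?_, ?_⟩
    · rw [mul_J4_apply]
      have := h1 (Fin.rev c)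
      rwa [Fin.rev_rev] at this
    · rw [mul_J4_apply, mul_J4_apply]
      have := h2 (Fin.rev d) (Fin.rev c)
      rw [Fin.rev_rev, Fin.rev_rev] at this
      exact this
    · rw [mul_J4_apply, mul_J4_apply]
      exact h3
  · rintro ⟨h1, h2, h3⟩
    refine ⟨fun a => ?_, fun a b => ?_, ?_⟩
    · have := h1 (Fin.rev a)
      rwa [mul_J4_apply, Fin.rev_rev] at this
    · have := h2 (Fin.rev b) (Fin.rev a)
      rw [mul_J4_apply, mul_J4_apply, Fin.rev_rev, Fin.rev_rev] at this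
      exact this
    · rw [mul_J4_apply, mul_J4_apply] at h3
      exact h3

theorem alt4_smul (c : F) {M : Matrix (Fin 4) (Fin 4) F} (hM : Alt4 M) : Alt4 (c • M) := by
  obtain ⟨h1, h2, h3⟩ := hM
  refine ⟨fun a => ?_, fun a b => ?_, ?_⟩
  · rw [Matrix.smul_apply, h1, smul_zero]
  · rw [Matrix.smul_apply, Matrix.smul_apply, h2]
  · rw [Matrix.smul_apply, Matrix.smul_apply, ← smul_add, h3, smul_zero]

theorem congr_apply (g M : Matrix (Fin 4) (Fin 4) F) (a b : Fin 4) :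
    (g * M * gᵀ) a b = ∑ i, ∑ j, g a i * M i j * g b j := by
  rw [Matrix.mul_apply]
  simp only [Matrix.mul_apply, Matrix.transpose_apply, Finset.sum_mul]
  rw [Finset.sum_comm]

theorem sim_apply (g : Matrix (Fin 4) (Fin 4) F) (i j : Fin 4) :
    (gᵀ * J4 * g : Matrix (Fin 4) (Fin 4) F) i j = g 0 i * g 3 j + g 1 i * g 2 j + g 2 i * g 1 j + g 3 i * g 0 j := by
  rw [Matrix.mul_apply]
  simp only [mul_J4_apply, Matrix.transpose_apply, Fin.sum_univ_four]
  have e0 : Fin.rev (0 : Fin 4) = 3 := rfl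
  have e1 : Fin.rev (1 : Fin 4) = 2 := rfl
  have e2 : Fin.rev (2 : Fin 4) = 1 := rfl
  have e3 : Fin.rev (3 : Fin 4) = 0 := rfl
  rw [e0, e1, e2, e3]
  ring

theorem alt4_congr [CharP F 2] (g M : Matrix (Fin 4) (Fin 4) F) (lam : F) (hsim : gᵀ * J4 * g = lam • J4 (F := F))
    (hM : Alt4 M) : Alt4 (g * M * gᵀ) := by
  obtain ⟨h1, h2, h3⟩ := hM
  have h2F : (2 : F) = 0 := CharTwo.two_eq_zero
  refine ⟨fun a => ?_, fun a b => ?_, ?_⟩
  · rw [congr_apply]
    simp only [Fin.sum_univ_four, h1, h2 1 0, h2 2 0, h2 3 0, h2 2 1, h2 3 1, h2 3 2]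
    linear_combination (g a 0 * M 0 1 * g a 1 + g a 0 * M 0 2 * g a 2 + g a 0 * M 0 3 * g a 3 +
      g a 1 * M 1 2 * g a 2 + g a 1 * M 1 3 * g a 3 + g a 2 * M 2 3 * g a 3) * h2F
  · rw [congr_apply, congr_apply, Finset.sum_comm]
    refine Finset.sum_congr rfl fun i _ => Finset.sum_congr rfl fun j _ => ?_
    rw [h2 j i]
    ring
  · rw [congr_apply, congr_apply]
    have hK : ∀ i j, g 0 i * g 3 j + g 1 i * g 2 j + g 2 i * g 1 j + g 3 i * g 0 j = lam * J4 (F := F) i j := by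
      intro i j
      rw [← sim_apply, hsim, Matrix.smul_apply, smul_eq_mul]
    have k01 := hK 0 1
    have k02 := hK 0 2
    have k03 := hK 0 3
    have k12 := hK 1 2
    have k13 := hK 1 3
    have k23 := hK 2 3
    rw [J4_eq] at k01 k02 k03 k12 k13 k23
    simp at k01 k02 k03 k12 k13 k23
    simp only [Fin.sum_univ_four, h1, h2 1 0, h2 2 0, h2 3 0, h2 2 1, h2 3 1, h2 3 2]
    linear_combination M 0 1 * k01 + M 0 2 * k02 + M 0 3 * k03 + M 1 2 * k12 + M 1 3 * k13 + M 2 3 * k23 +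
      lam * h3

/-- C4-GSP: similitudes of `J4` normalise `l4` (char 2). -/
theorem l4_conj' [CharP F 2] (g g' : Matrix (Fin 4) (Fin 4) F) (hgg' : g * g' = 1) (lam : F)
    (hsim : gᵀ * J4 * g = lam • J4 (F := F)) (A : Matrix (Fin 4) (Fin 4) F) (hA : A ∈ l4 (F := F)) :
    g * A * g' ∈ l4 (F := F) := by
  have hg'g : g' * g = 1 := _root_.mul_eq_one_comm.mp hgg'
  have hlam : lam ≠ 0 := by
    intro h0
    rw [h0, zero_smul] at hsim
    have : (J4 : Matrix (Fin 4) (Fin 4) F) = 0 := by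
      calc (J4 : Matrix (Fin 4) (Fin 4) F) = (g * g')ᵀ * J4 * (g * g') := by rw [hgg']; simp
        _ = g'ᵀ * (gᵀ * J4 * g) * g' := by rw [Matrix.transpose_mul]; simp only [Matrix.mul_assoc]
        _ = 0 := by rw [hsim]; simp
    have h03 := congrFun (congrFun this 0) 3
    rw [J4_eq] at h03
    simp at h03
  have hg' : g' = lam⁻¹ • (J4 * gᵀ * J4) := by
    have e1 : (J4 * gᵀ * J4) * g = lam • (1 : Matrix (Fin 4) (Fin 4) F) := by
      rw [Matrix.mul_assoc, Matrix.mul_assoc, ← Matrix.mul_assoc gᵀ, hsim, Matrix.mul_smul, J4_mul_J4]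
    calc g' = (lam⁻¹ • (lam • (1 : Matrix (Fin 4) (Fin 4) F))) * g' := by
          rw [smul_smul, inv_mul_cancel₀ hlam, one_smul, Matrix.one_mul]
      _ = lam⁻¹ • ((J4 * gᵀ * J4) * (g * g')) := by rw [← e1, Matrix.smul_mul, Matrix.mul_assoc (J4 * gᵀ * J4)]
      _ = _ := by rw [hgg', Matrix.mul_one]
  rw [mem_l4_iff_alt] at hA ⊢
  have e2 : g * A * g' * J4 = lam⁻¹ • (g * (A * J4) * gᵀ) := by
    rw [hg', Matrix.mul_smul, Matrix.smul_mul]
    congr 1
    simp only [Matrix.mul_assoc]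
    rw [J4_mul_J4, Matrix.mul_one]
  rw [e2]
  exact alt4_smul _ (alt4_congr g _ lam hsim hA)

end Cfsg.Agent.Lib.Helper25.Spin
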