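import Mathlib
import Cfsg.Prelude.Def_GeometricClasses
import Cfsg.Agent.Lib.Helper25.SpinDefs
import Cfsg.Agent.Lib.Helper25.SpinL1a
import Cfsg.Agent.Lib.Helper25.SpinL1b
import Cfsg.Agent.Lib.Helper25.SpinL1c
import Cfsg.Agent.Lib.Helper25.SpinL2a
import Cfsg.Agent.Lib.Helper25.SpinL2b
import Cfsg.Agent.Lib.Helper25.SpinL3a
import Cfsg.Agent.Lib.Helper25.SpinL3b
import Cfsg.Agent.Lib.Helper25.SpinP4a1
import Cfsg.Agent.Lib.Helper25.SpinP4a2
import Cfsg.Agent.Lib.Helper25.SpinP4a3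
import Cfsg.Agent.Lib.Helper25.SpinP4a4

/-!
# S5707 layer SpinL4a (helper25), all proved (proofs in SpinP4a1..4) -- see notes/S5707_plan_helper25.md
L4a: wreath normal form, non-purity, k = 2 Gram, k = 4 lemmas
-/

set_option autoImplicit false

namespace Cfsg.Agent.Lib.Helper25.Spin

open Matrix

variable {F : Type*} [Field F]

/-- WR-NF: normal form of the elements of the frozen tensor-wreath subgroup.
Proof: `Subgroup.closure_induction`; generators are `pureMat` (invertible factors) resp. `permMat`; products by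
`permMat_conj_pureMat`, `pureMat_mul`, `permMat_mul`; inverses. -/
theorem exists_normal_form (m t : ℕ) (n : GL (Fin t → Fin m) F)
    (hn : n ∈ Cfsg.Geo.tensorWreathStandard m t F) :
    ∃ (gs gs' : Fin t → Matrix (Fin m) (Fin m) F) (σ : Equiv.Perm (Fin t)), (∀ i, gs i * gs' i = 1) ∧
      (n : Matrix (Fin t → Fin m) (Fin t → Fin m) F) = pureMat gs * permMat σ ∧
      ((n⁻¹ : GL (Fin t → Fin m) F) : Matrix (Fin t → Fin m) (Fin t → Fin m) F) = permMat σ⁻¹ * pureMat gs' :=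
  exists_normal_form' m t n hn

/-- WR-NF: pure tensors of invertible matrices belong to the frozen subgroup -/
theorem pureMat_mem_wreath (m t : ℕ) (b b' : Matrix (Fin m) (Fin m) F) (hbb' : b * b' = 1)
    (g : GL (Fin t → Fin m) F)
    (hg : (g : Matrix (Fin t → Fin m) (Fin t → Fin m) F) = pureMat (fun _ => b)) :
    g ∈ Cfsg.Geo.tensorWreathStandard m t F :=
  pureMat_mem_wreath' m t b b' hbb' g hg

/-- WR-PURE: `e_{y0} + e_{y1}` is not a pure tensor when `y0`, `y1` differ in two sites.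
Proof: for a pure `v`, `v y0 * v y1 = v z * v z'` with `z = update y0 i1 (y1 i1)`, `z' = update y1 i1 (y0 i1)`. -/
theorem pureVec_ne_single_add_single {S : Type} [Fintype S] [DecidableEq S] {m : ℕ} (y0 y1 : S → Fin m)
    {i1 i2 : S} (h12 : i1 ≠ i2) (h1 : y0 i1 ≠ y1 i1) (h2 : y0 i2 ≠ y1 i2) (vs : S → Fin m → F) :
    pureVec vs ≠ Pi.single y0 (1 : F) + Pi.single y1 1 :=
  pureVec_ne_single_add_single' y0 y1 h12 h1 h2 vs

/-- C2-GRAM: a symplectic form on `F^2` in characteristic 2 has Gram matrix `γ • J2`, `γ ≠ 0` -/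
theorem gram_two [CharP F 2] (f₁ : (Fin 2 → F) → (Fin 2 → F) → F) (hf₁ : Cfsg.Geo.IsSymplecticForm f₁) :
    ∃ γ : F, γ ≠ 0 ∧ Cfsg.Geo.gramMatrix f₁ = γ • J2 (F := F) :=
  gram_two' f₁ hf₁

/-- C4-GSP: similitudes of `J4` normalise `l4` (char 2).
Proof: `g' = lam⁻¹ • J4 * gᵀ * J4`; `(g A g')ᵀ J4`-conditions: with `S := Aᵀ-form`, `(g * A * g') * J4 = lam⁻¹ • g * (A * J4) * gᵀ`;
congruence preserves "symmetric with zero diagonal" (char 2), and `∑_{a<b, b = rev a} (g S gᵀ)_{ab} = lam * ∑ S_{ab}` by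
`gᵀ J4 g = lam J4`. -/
theorem l4_conj [CharP F 2] (g g' : Matrix (Fin 4) (Fin 4) F) (hgg' : g * g' = 1) (lam : F)
    (hsim : gᵀ * J4 * g = lam • J4 (F := F)) (A : Matrix (Fin 4) (Fin 4) F) (hA : A ∈ l4 (F := F)) :
    g * A * g' ∈ l4 (F := F) :=
  l4_conj' g g' hgg' lam hsim A hA

/-- C4-L4: `l4 = sl_2 ⊗ 1 + 1 ⊗ sl_2` (char 2) -/
theorem mem_l4_iff [CharP F 2] (X : Matrix (Fin 4) (Fin 4) F) :
    X ∈ l4 (F := F) ↔ ∃ A A' : Matrix (Fin 2) (Fin 2) F, A.trace = 0 ∧ A'.trace = 0 ∧ X = hi4 A + lo4 A' :=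
  mem_l4_iff' X

/-- C4-RIG: rigidity: if `(⊗ gs) * perm` preserves `formG G`, `G ≠ 0`, then every `gs i` is a similitude of `G`.
Proof: `formG_permMat`, `formG_eq`, `pureMat_transpose`, `pureMat_mul`: `pureMat (fun i => (gs i)ᵀ * G * gs i) = pureMat (fun _ => G)`;
evaluate at `update (const a0) i α`, `update (const b0) i β` with `G a0 b0 ≠ 0`. -/
theorem rigidity (m t : ℕ) (G : Matrix (Fin m) (Fin m) F) (hG : G ≠ 0) (gs : Fin t → Matrix (Fin m) (Fin m) F)
    (σ : Equiv.Perm (Fin t))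
    (hpres : ∀ x y : (Fin t → Fin m) → F,
      formG G ((pureMat gs * permMat σ) *ᵥ x) ((pureMat gs * permMat σ) *ᵥ y) = formG G x y) :
    ∀ i, ∃ lam : F, (gs i)ᵀ * G * gs i = lam • G :=
  rigidity' m t G hG gs σ hpres

/-- C4-BETA: reindexing a block operator on the high digit -/
theorem reindex_op_hi (t : ℕ) (i : Fin t) (A : Matrix (Fin 2) (Fin 2) F) :
    Matrix.reindex (beta t) (beta t) (op i (hi4 A)) = op ((i, 0) : Fin t × Fin 2) A :=
  reindex_op_hi' t i A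

/-- C4-BETA: reindexing a block operator on the low digit -/
theorem reindex_op_lo (t : ℕ) (i : Fin t) (A : Matrix (Fin 2) (Fin 2) F) :
    Matrix.reindex (beta t) (beta t) (op i (lo4 A)) = op ((i, 1) : Fin t × Fin 2) A :=
  reindex_op_lo' t i A

/-- C4-BETA: the forms correspond -/
theorem formG_J4_beta (t : ℕ) (v w : (Fin t × Fin 2 → Fin 2) → F) :
    formG (J4 (F := F)) (v ∘ beta t) (w ∘ beta t) = B0 v w :=
  formG_J4_beta' t v w

/-- C4-SB: a symplectic basis: the Gram matrix of a symplectic form on `F^4` is congruent to `J4` (char 2) -/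
theorem exists_symplectic_basis4 [CharP F 2] (f₁ : (Fin 4 → F) → (Fin 4 → F) → F)
    (hf₁ : Cfsg.Geo.IsSymplecticForm f₁) :
    ∃ b b' : Matrix (Fin 4) (Fin 4) F, b * b' = 1 ∧ b' * b = 1 ∧ bᵀ * Cfsg.Geo.gramMatrix f₁ * b = J4 (F := F) :=
  exists_symplectic_basis4' f₁ hf₁

/-- C4-ODD: there is no symplectic form on `F^1` or `F^3` -/
theorem not_symplectic_odd (k : ℕ) (hk : k = 1 ∨ k = 3) (f₁ : (Fin k → F) → (Fin k → F) → F) :
    ¬ Cfsg.Geo.IsSymplecticForm f₁ :=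
  not_symplectic_odd' k hk f₁


end Cfsg.Agent.Lib.Helper25.Spin
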