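import Mathlib
import Cfsg.Prelude.Def_GeometricClasses
import Cfsg.Agent.Lib.Helper25.SpinDefs
import Cfsg.Agent.Lib.Helper25.SpinL1a
import Cfsg.Agent.Lib.Helper25.SpinL1b
import Cfsg.Agent.Lib.Helper25.SpinL1c
import Cfsg.Agent.Lib.Helper25.SpinL2a
import Cfsg.Agent.Lib.Helper25.SpinL2b
import Cfsg.Agent.Lib.Helper25.SpinL3a
import Cfsg.Agent.Lib.Helper25.SpinL3b
import Cfsg.Agent.Lib.Helper25.SpinL4a

/-!
# S5707 layer SpinL4b (helper25) -- see notes/S5707_plan_helper25.md
L4b: purity of the wreath action; normalising the Clifford space (all proved)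
-/

set_option autoImplicit false
set_option linter.unusedSectionVars false

namespace Cfsg.Agent.Lib.Helper25.Spin

open Matrix

variable {F : Type*} [Field F]

/-- WR-PURE: the tensor-wreath subgroup maps pure tensors to pure tensors -/
theorem wreath_mulVec_pure (m t : ℕ) (n : GL (Fin t → Fin m) F)
    (hn : n ∈ Cfsg.Geo.tensorWreathStandard m t F) (vs : Fin t → Fin m → F) :
    ∃ vs' : Fin t → Fin m → F,
      (n : Matrix (Fin t → Fin m) (Fin t → Fin m) F) *ᵥ pureVec vs = pureVec vs' := by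
  obtain ⟨gs, gs', σ, _, h1, _⟩ := exists_normal_form m t n hn
  refine ⟨fun s => gs s *ᵥ vs (σ⁻¹ s), ?_⟩
  rw [h1, ← Matrix.mulVec_mulVec, permMat_mulVec, pureMat_mulVec]

theorem trace_conj_eq {ι : Type} [Fintype ι] [DecidableEq ι] (g g' A : Matrix ι ι F) (h : g * g' = 1) :
    (g * A * g').trace = A.trace := by
  rw [Matrix.trace_mul_comm, ← Matrix.mul_assoc, _root_.mul_eq_one_comm.mp h, Matrix.one_mul]

/-- conjugation by an element in normal form, on a single-site operator -/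
theorem nf_conj_op {m t : ℕ} (gs gs' : Fin t → Matrix (Fin m) (Fin m) F) (σ : Equiv.Perm (Fin t))
    (h : ∀ i, gs i * gs' i = 1) (s : Fin t) (A : Matrix (Fin m) (Fin m) F) :
    (pureMat gs * permMat σ) * op s A * (permMat σ⁻¹ * pureMat gs') =
      op (σ s) (gs (σ s) * A * gs' (σ s)) := by
  rw [← pureMat_conj_op gs gs' h, ← permMat_conj_op]
  simp only [Matrix.mul_assoc]

theorem wreath2_conj [CharP F 2] (t : ℕ) (n : GL (Fin t → Fin 2) F)
    (hn : n ∈ Cfsg.Geo.tensorWreathStandard 2 t F) :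
    ∀ M ∈ LL (F := F) (S := Fin t), (n : Matrix (Fin t → Fin 2) (Fin t → Fin 2) F) * M *
      ((n⁻¹ : GL (Fin t → Fin 2) F) : Matrix (Fin t → Fin 2) (Fin t → Fin 2) F) ∈ LL := by
  obtain ⟨gs, gs', σ, h, h1, h2⟩ := exists_normal_form 2 t n hn
  intro M hM
  unfold LL at hM
  induction hM using Submodule.span_induction with
  | mem M hM =>
    obtain ⟨s, A, hA, rfl⟩ := hM
    rw [h1, h2, nf_conj_op gs gs' σ h]
    refine Submodule.subset_span ⟨σ s, _, ?_, rfl⟩
    rw [trace_conj_eq _ _ _ (h _), hA]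
  | zero => simp
  | add M N _ _ hM hN =>
    rw [Matrix.mul_add, Matrix.add_mul]
    exact Submodule.add_mem _ hM hN
  | smul c M _ hM =>
    rw [Matrix.mul_smul, Matrix.smul_mul]
    exact Submodule.smul_mem _ _ hM

/-- C2-NORM: the tensor-wreath subgroup for `m = 2` normalises the Clifford space -/
theorem wreath2_le_Norm [CharP F 2] (t : ℕ) :
    Cfsg.Geo.tensorWreathStandard 2 t F ≤ NormLL (F := F) (S := Fin t) := by
  intro n hn
  rw [mem_NormLL_iff]
  refine ⟨wreath2_conj t n hn, ?_⟩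
  have := wreath2_conj t n⁻¹ (inv_mem hn)
  rwa [inv_inv] at this

theorem J4_ne_zero : (J4 : Matrix (Fin 4) (Fin 4) F) ≠ 0 := by
  intro h
  have h03 := congrFun (congrFun h 0) 3
  rw [J4_eq] at h03
  simp at h03

theorem wreath4_conj_aux [CharP F 2] (t : ℕ) (n : GL (Fin t → Fin 4) F)
    (hn : n ∈ Cfsg.Geo.tensorWreathStandard 4 t F)
    (hpres : ∀ x y : (Fin t → Fin 4) → F,
      formG (J4 (F := F)) ((n : Matrix (Fin t → Fin 4) (Fin t → Fin 4) F) *ᵥ x)
        ((n : Matrix (Fin t → Fin 4) (Fin t → Fin 4) F) *ᵥ y) = formG J4 x y) :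
    ∀ M ∈ LL4 (F := F) t, (n : Matrix (Fin t → Fin 4) (Fin t → Fin 4) F) * M *
        ((n⁻¹ : GL (Fin t → Fin 4) F) : Matrix (Fin t → Fin 4) (Fin t → Fin 4) F) ∈ LL4 (F := F) t := by
  obtain ⟨gs, gs', σ, h, h1, h2⟩ := exists_normal_form 4 t n hn
  have hrig := rigidity 4 t (J4 (F := F)) J4_ne_zero gs σ (by rw [← h1]; exact hpres)
  intro M hM
  unfold LL4 at hM
  induction hM using Submodule.span_induction with
  | mem M hM =>
    obtain ⟨s, A, hA, rfl⟩ := hM
    rw [h1, h2, nf_conj_op gs gs' σ h]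
    obtain ⟨lam, hlam⟩ := hrig (σ s)
    exact Submodule.subset_span ⟨σ s, _, l4_conj _ _ (h _) lam hlam A hA, rfl⟩
  | zero => simp
  | add M N _ _ hM hN =>
    rw [Matrix.mul_add, Matrix.add_mul]
    exact Submodule.add_mem _ hM hN
  | smul c M _ hM =>
    rw [Matrix.mul_smul, Matrix.smul_mul]
    exact Submodule.smul_mem _ _ hM

/-- C4-NORM: an element of the tensor-wreath subgroup (`m = 4`) preserving `formG J4` normalises `LL4`. -/
theorem wreath4_conj_LL4 [CharP F 2] (t : ℕ) (n : GL (Fin t → Fin 4) F)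
    (hn : n ∈ Cfsg.Geo.tensorWreathStandard 4 t F)
    (hpres : ∀ x y : (Fin t → Fin 4) → F,
      formG (J4 (F := F)) ((n : Matrix (Fin t → Fin 4) (Fin t → Fin 4) F) *ᵥ x)
        ((n : Matrix (Fin t → Fin 4) (Fin t → Fin 4) F) *ᵥ y) = formG J4 x y) :
    (∀ M ∈ LL4 (F := F) t, (n : Matrix (Fin t → Fin 4) (Fin t → Fin 4) F) * M *
        ((n⁻¹ : GL (Fin t → Fin 4) F) : Matrix (Fin t → Fin 4) (Fin t → Fin 4) F) ∈ LL4 (F := F) t) ∧
    (∀ M ∈ LL4 (F := F) t, ((n⁻¹ : GL (Fin t → Fin 4) F) : Matrix (Fin t → Fin 4) (Fin t → Fin 4) F) * M *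
        (n : Matrix (Fin t → Fin 4) (Fin t → Fin 4) F) ∈ LL4 (F := F) t) := by
  refine ⟨wreath4_conj_aux t n hn hpres, ?_⟩
  have hinv : ∀ x y : (Fin t → Fin 4) → F,
      formG (J4 (F := F)) (((n⁻¹ : GL (Fin t → Fin 4) F) : Matrix (Fin t → Fin 4) (Fin t → Fin 4) F) *ᵥ x)
        (((n⁻¹ : GL (Fin t → Fin 4) F) : Matrix (Fin t → Fin 4) (Fin t → Fin 4) F) *ᵥ y) = formG J4 x y := by
    intro x y
    rw [← hpres, Matrix.mulVec_mulVec, Matrix.mulVec_mulVec, ← Units.val_mul, mul_inv_cancel, Units.val_one,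
      Matrix.one_mulVec, Matrix.one_mulVec]
  have := wreath4_conj_aux t n⁻¹ (inv_mem hn) hinv
  rwa [inv_inv] at this

theorem reindex_add' {α β : Type} (e : α ≃ β) (M N : Matrix α α F) :
    Matrix.reindex e e (M + N) = Matrix.reindex e e M + Matrix.reindex e e N := rfl

theorem reindex_smul' {α β : Type} (e : α ≃ β) (c : F) (M : Matrix α α F) :
    Matrix.reindex e e (c • M) = c • Matrix.reindex e e M := rfl

theorem reindex_zero' {α β : Type} (e : α ≃ β) :
    Matrix.reindex e e (0 : Matrix α α F) = 0 := rfl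

theorem reindex_symm_reindex {α β : Type} (e : α ≃ β) (M : Matrix α α F) :
    Matrix.reindex e.symm e.symm (Matrix.reindex e e M) = M := by
  ext a b
  simp [Matrix.reindex_apply, Matrix.submatrix_apply]

theorem hi4_mem_l4 [CharP F 2] (A : Matrix (Fin 2) (Fin 2) F) (hA : A.trace = 0) : hi4 A ∈ l4 (F := F) := by
  rw [mem_l4_iff]
  refine ⟨A, 0, hA, by simp, ?_⟩
  ext a b
  simp [lo4]

theorem lo4_mem_l4 [CharP F 2] (A : Matrix (Fin 2) (Fin 2) F) (hA : A.trace = 0) : lo4 A ∈ l4 (F := F) := by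
  rw [mem_l4_iff]
  refine ⟨0, A, by simp, hA, ?_⟩
  ext a b
  simp [hi4]

/-- C4-BETA: the Clifford spaces correspond (`mem_l4_iff`, `reindex_op_hi/lo`, `op_add`) -/
theorem reindex_mem_LL_iff [CharP F 2] (t : ℕ) (M : Matrix (Fin t → Fin 4) (Fin t → Fin 4) F) :
    Matrix.reindex (beta t) (beta t) M ∈ LL (F := F) (S := Fin t × Fin 2) ↔ M ∈ LL4 (F := F) t := by
  constructor
  · intro hN
    have key : ∀ N ∈ LL (F := F) (S := Fin t × Fin 2),
        Matrix.reindex (beta t).symm (beta t).symm N ∈ LL4 (F := F) t := by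
      intro N hN
      unfold LL at hN
      induction hN using Submodule.span_induction with
      | mem N hN =>
        obtain ⟨⟨i, j⟩, A, hA, rfl⟩ := hN
        rcases fin2_cases j with rfl | rfl
        · rw [← reindex_op_hi, reindex_symm_reindex]
          exact Submodule.subset_span ⟨i, _, hi4_mem_l4 A hA, rfl⟩
        · rw [← reindex_op_lo, reindex_symm_reindex]
          exact Submodule.subset_span ⟨i, _, lo4_mem_l4 A hA, rfl⟩
      | zero => rw [reindex_zero']; exact Submodule.zero_mem _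
      | add M N _ _ hM hN => rw [reindex_add']; exact Submodule.add_mem _ hM hN
      | smul c M _ hM => rw [reindex_smul']; exact Submodule.smul_mem _ _ hM
    have := key _ hN
    rwa [reindex_symm_reindex] at this
  · intro hM
    unfold LL4 at hM
    induction hM using Submodule.span_induction with
    | mem M hM =>
      obtain ⟨i, A, hA, rfl⟩ := hM
      obtain ⟨A1, A2, h1, h2, rfl⟩ := (mem_l4_iff A).mp hA
      rw [op_add, reindex_add', reindex_op_hi, reindex_op_lo]
      exact Submodule.add_mem _ (Submodule.subset_span ⟨(i, 0), A1, h1, rfl⟩)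
        (Submodule.subset_span ⟨(i, 1), A2, h2, rfl⟩)
    | zero => rw [reindex_zero']; exact Submodule.zero_mem _
    | add M N _ _ hM hN => rw [reindex_add']; exact Submodule.add_mem _ hM hN
    | smul c M _ hM => rw [reindex_smul']; exact Submodule.smul_mem _ _ hM

end Cfsg.Agent.Lib.Helper25.Spin
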