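import Mathlib
import Cfsg.Prelude.Def_GeometricClasses
import Cfsg.Agent.Lib.Helper25.SpinDefs
import Cfsg.Agent.Lib.Helper25.SpinL1a
import Cfsg.Agent.Lib.Helper25.SpinL1b
import Cfsg.Agent.Lib.Helper25.SpinL1c
import Cfsg.Agent.Lib.Helper25.SpinL2a
import Cfsg.Agent.Lib.Helper25.SpinL2b
import Cfsg.Agent.Lib.Helper25.SpinL3a
import Cfsg.Agent.Lib.Helper25.SpinL3b
import Cfsg.Agent.Lib.Helper25.SpinL4a
import Cfsg.Agent.Lib.Helper25.SpinL4b

/-!
# S5707 layer SpinL4c (helper25), proved -- see notes/S5707_plan_helper25.md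
L4c: gElt is not in the wreath subgroup (k = 2)
-/

set_option autoImplicit false

namespace Cfsg.Agent.Lib.Helper25.Spin

open Matrix

variable {F : Type*} [Field F]

/-- C2-G: `gElt ∉` wreath (`wreath_mulVec_pure`, `pureVec_single`, `gElt_mulVec_single`, `pureVec_ne_single_add_single`) -/
theorem gElt_not_mem_wreath2 [CharP F 2] (t : ℕ) {s1 s2 : Fin t} (h : s1 ≠ s2) :
    gElt (F := F) s1 s2 ∉ Cfsg.Geo.tensorWreathStandard 2 t F := by
  intro hmem
  set x : Fin t → Fin 2 := fun _ => 0 with hx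
  obtain ⟨vs', hvs'⟩ := wreath_mulVec_pure 2 t _ hmem (fun s => (Pi.single (x s) (1 : F) : Fin 2 → F))
  rw [pureVec_single, gElt_mulVec_single h x rfl rfl] at hvs'
  refine pureVec_ne_single_add_single x (flp s1 (flp s2 x)) h ?_ ?_ vs' hvs'.symm
  · rw [flp_apply_self, flp_apply_of_ne h]
    exact (rev2_ne _).symm
  · rw [flp_apply_of_ne (Ne.symm h), flp_apply_self]
    exact (rev2_ne _).symm


end Cfsg.Agent.Lib.Helper25.Spin
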