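import Mathlib
import Cfsg.Prelude.Def_GeometricClasses
import Cfsg.Agent.Lib.Helper25.SpinDefs
import Cfsg.Agent.Lib.Helper25.SpinL3
import Cfsg.Agent.Lib.Helper18.TensOmegaBridge

/-!
# S5707: the model theorem on `(S → Fin 2) → F`
-/

set_option autoImplicit false

namespace Cfsg.Agent.Lib.Helper25.Spin

open Matrix

variable {F : Type*} [Field F] [CharP F 2]

variable {S : Type} [Fintype S] [DecidableEq S]

omit [CharP F 2] in
theorem isUnit_of_mul_self {ι : Type} [Fintype ι] [DecidableEq ι] {M : Matrix ι ι F} (h : M * M = 1) : IsUnit M :=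
  ⟨⟨M, M, h, h⟩, rfl⟩

theorem gElt_mem_omega (s0 : S) {s1 s2 s3 : S} (h12 : s1 ≠ s2) (h13 : s1 ≠ s3) (h23 : s2 ≠ s3) :
    gElt (F := F) s1 s2 ∈ Cfsg.Geo.omegaGL (Q0 (F := F) s0) := by
  rw [Cfsg.Agent.Lib.Helper18.TensOmegaBridge.omegaGL_eq_commutator]
  exact Subgroup.commutator_mem_commutator (tX2_mem_iso s0 h12 h13 h23) (tY2_mem_iso s0 h12 h13 h23)

theorem gElt_mem_Norm {s1 s2 : S} (h12 : s1 ≠ s2) : gElt (F := F) s1 s2 ∈ NormLL := by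
  unfold gElt
  exact Subgroup.mul_mem _ (Subgroup.mul_mem _ (Subgroup.mul_mem _ (tX2_mem_Norm h12) (tY2_mem_Norm h12))
    (Subgroup.inv_mem _ (tX2_mem_Norm h12))) (Subgroup.inv_mem _ (tY2_mem_Norm h12))

theorem hElt_mem_omega (s0 : S) {s1 s2 s3 s4 : S} (h12 : s1 ≠ s2) (h13 : s1 ≠ s3) (h23 : s2 ≠ s3)
    (h14 : s1 ≠ s4) (h24 : s2 ≠ s4) (h34 : s3 ≠ s4) :
    hElt (F := F) s1 s2 s3 ∈ Cfsg.Geo.omegaGL (Q0 (F := F) s0) := by
  rw [Cfsg.Agent.Lib.Helper18.TensOmegaBridge.omegaGL_eq_commutator]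
  exact Subgroup.commutator_mem_commutator (tX3_mem_iso s0 h12 h13 h23 h14 h24 h34)
    (tY3_mem_iso s0 h12 h13 h23 h14 h24 h34)

/-- the model theorem -/
theorem model_main (s0 : S) {s1 s2 s3 s4 : S} (h12 : s1 ≠ s2) (h13 : s1 ≠ s3) (h23 : s2 ≠ s3)
    (h14 : s1 ≠ s4) (h24 : s2 ≠ s4) (h34 : s3 ≠ s4) (W : Subgroup (GL (S → Fin 2) F))
    (hW1 : ∀ n ∈ W, n ∈ Cfsg.isometryGroup F (Q0 (F := F) s0) → n ∈ NormLL)
    (hW2 : gElt (F := F) s1 s2 ∉ W) :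
    W ⊓ Cfsg.Geo.omegaGL (Q0 (F := F) s0) < KK s0 ∧ KK (F := F) s0 < Cfsg.Geo.omegaGL (Q0 (F := F) s0) := by
  have hΩle : Cfsg.Geo.omegaGL (Q0 (F := F) s0) ≤ Cfsg.isometryGroup F (Q0 (F := F) s0) := by
    rw [Cfsg.Agent.Lib.Helper18.TensOmegaBridge.omegaGL_eq_commutator]
    exact Subgroup.commutator_le.mpr (fun a ha b hb =>
      Subgroup.mul_mem _ (Subgroup.mul_mem _ (Subgroup.mul_mem _ ha hb) (Subgroup.inv_mem _ ha)) (Subgroup.inv_mem _ hb))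
  constructor
  · refine lt_of_le_of_ne ?_ ?_
    · rintro n ⟨hnW, hnΩ⟩
      exact ⟨hnΩ, hW1 n hnW (hΩle hnΩ)⟩
    · intro heq
      have hg : gElt (F := F) s1 s2 ∈ KK (F := F) s0 := ⟨gElt_mem_omega s0 h12 h13 h23, gElt_mem_Norm h12⟩
      rw [← heq] at hg
      exact hW2 hg.1
  · refine lt_of_le_of_ne inf_le_left ?_
    intro heq
    have hh : hElt (F := F) s1 s2 s3 ∈ KK (F := F) s0 := by
      rw [heq]
      exact hElt_mem_omega s0 h12 h13 h23 h14 h24 h34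
    exact hElt_not_mem_Norm h12 h13 h23 hh.2

end Cfsg.Agent.Lib.Helper25.Spin
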