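import Mathlib
import Cfsg.Prelude.Def_GeometricClasses
import Cfsg.Agent.Lib.Helper25.SpinDefs
import Cfsg.Agent.Lib.Helper25.SpinL4
import Cfsg.Agent.Lib.Helper25.SpinMain
import Cfsg.Agent.Lib.Helper18.TensOmegaBridge

/-!
# S5707: bridges from the frozen statement to the model; the case `k = 2`
-/

set_option autoImplicit false

namespace Cfsg.Agent.Lib.Helper25.Spin

open Matrix
open Cfsg.Agent.Lib.Helper18.TensOmegaBridge

variable {F : Type*} [Field F]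

/-- characteristic 2 from an even number of elements -/
theorem charP_two_of_not_odd [Fintype F] (hchar : ¬ Odd (Fintype.card F)) : CharP F 2 := by
  have hev : Even (Fintype.card F) := Nat.not_odd_iff_even.mp hchar
  have h2 : ringChar F = 2 := by
    rw [FiniteField.even_card_iff_char_two]
    exact Nat.even_iff.mp hev
  exact ringChar.of_eq h2

section pull

variable {ι : Type} [Fintype ι] [DecidableEq ι] {κ : Type} [Fintype κ] [DecidableEq κ]

theorem mulVec_comp_add (e : ι ≃ κ) (P : GL ι F) (v w : κ → F) :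
    (P : Matrix ι ι F) *ᵥ ((v + w) ∘ e) = (P : Matrix ι ι F) *ᵥ (v ∘ e) + (P : Matrix ι ι F) *ᵥ (w ∘ e) := by
  rw [← Matrix.mulVec_add]
  rfl

theorem mulVec_comp_smul (e : ι ≃ κ) (P : GL ι F) (a : F) (v : κ → F) :
    (P : Matrix ι ι F) *ᵥ ((a • v) ∘ e) = a • ((P : Matrix ι ι F) *ᵥ (v ∘ e)) := by
  rw [← Matrix.mulVec_smul]
  rfl

theorem polar_pullQ (Q : (ι → F) → F) (e : ι ≃ κ) (P : GL ι F) (v w : κ → F) :
    QuadraticMap.polar (pullQ Q e P) v w =
      QuadraticMap.polar Q ((P : Matrix ι ι F) *ᵥ (v ∘ e)) ((P : Matrix ι ι F) *ᵥ (w ∘ e)) := by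
  unfold QuadraticMap.polar
  rw [pullQ_apply, pullQ_apply, pullQ_apply, mulVec_comp_add]

theorem pullQ_smul (Q : (ι → F) → F) (hQ : ∀ (c : F) (v : ι → F), Q (c • v) = c ^ 2 * Q v) (e : ι ≃ κ) (P : GL ι F)
    (a : F) (v : κ → F) : pullQ Q e P (a • v) = a ^ 2 * pullQ Q e P v := by
  rw [pullQ_apply, pullQ_apply, mulVec_comp_smul, hQ]

/-- transport of a chain of strict inclusions along `tr` -/
theorem exists_of_pull (Q : (ι → F) → F) (e : ι ≃ κ) (P : GL ι F) (W K' : Subgroup (GL κ F))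
    (h1 : W ⊓ Cfsg.Geo.omegaGL (pullQ Q e P) < K') (h2 : K' < Cfsg.Geo.omegaGL (pullQ Q e P)) :
    W.map (tr e P).toMonoidHom ⊓ Cfsg.Geo.omegaGL Q < K'.map (tr e P).toMonoidHom ∧
      K'.map (tr e P).toMonoidHom < Cfsg.Geo.omegaGL Q := by
  have hinj : Function.Injective (tr (F := F) e P).toMonoidHom := (tr e P).injective
  constructor
  · rw [← map_omegaGL Q e P, ← Subgroup.map_inf _ _ _ hinj]
    exact (Subgroup.map_lt_map_iff_of_injective hinj).mpr h1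
  · rw [← map_omegaGL Q e P]
    exact (Subgroup.map_lt_map_iff_of_injective hinj).mpr h2

theorem omegaGL_congr (Q Q' : (κ → F) → F) (h : Cfsg.isometryGroup F Q' = Cfsg.isometryGroup F Q) :
    Cfsg.Geo.omegaGL Q' = Cfsg.Geo.omegaGL Q := by
  rw [omegaGL_eq_commutator, omegaGL_eq_commutator, h]

end pull

theorem tensorWreathSubgroup_eq_map {ι : Type} [Fintype ι] [DecidableEq ι] (k t : ℕ) (e : ι ≃ (Fin t → Fin k))
    (P : GL ι F) :
    Cfsg.Geo.tensorWreathSubgroup k t e P =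
      (Cfsg.Geo.tensorWreathStandard k t F).map (tr e P).toMonoidHom := by
  unfold Cfsg.Geo.tensorWreathSubgroup
  rw [Subgroup.map_map]
  rfl

/-- the frozen form hypothesis in terms of `formG` -/
theorem polar_pullQ_eq {ι : Type} [Fintype ι] [DecidableEq ι] (Q : (ι → F) → F) {k t : ℕ}
    (e : ι ≃ (Fin t → Fin k)) (P : GL ι F) (f₁ : (Fin k → F) → (Fin k → F) → F)
    (hT : Cfsg.Geo.IsTensorPowerFormStructure id (QuadraticMap.polar Q) f₁ e P) :
    ∃ c : F, c ≠ 0 ∧ ∀ v w : (Fin t → Fin k) → F,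
      QuadraticMap.polar (pullQ Q e P) v w = c * formG (Cfsg.Geo.gramMatrix f₁) v w := by
  obtain ⟨c, hc, h⟩ := hT
  refine ⟨c, hc, fun v w => ?_⟩
  rw [polar_pullQ, h v w]
  rfl

/-- the frozen purity hypothesis on basis vectors -/
theorem pullQ_single {ι : Type} [Fintype ι] [DecidableEq ι] (Q : (ι → F) → F)
    (hQ : ∀ (c : F) (v : ι → F), Q (c • v) = c ^ 2 * Q v) {k t : ℕ}
    (e : ι ≃ (Fin t → Fin k)) (P : GL ι F)
    (hpure : ∀ xs : Fin t → (Fin k → F),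
      Q (Matrix.mulVec (P : Matrix ι ι F) ((fun a : Fin t → Fin k => ∏ i, xs i (a i)) ∘ e)) = 0)
    (x : Fin t → Fin k) (a : F) : pullQ Q e P (Pi.single x a) = 0 := by
  have h1 : (Pi.single x a : (Fin t → Fin k) → F) = a • Pi.single x 1 := by
    rw [← Pi.single_smul, smul_eq_mul, mul_one]
  rw [h1, pullQ_smul Q hQ, ← pureVec_single, pullQ_apply]
  have := hpure (fun i => Pi.single (x i) (1 : F))
  unfold pureVec
  rw [this, mul_zero]

/-- **the case `k = 2`** -/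
theorem case_two [Fintype F] {n : ℕ} (Q : (Fin n → F) → F) (hQ : Cfsg.Geo.IsNondegenerateQuadraticForm Q)
    (hchar : ¬ Odd (Fintype.card F)) (t : ℕ) (ht : 4 ≤ t) (e : Fin n ≃ (Fin t → Fin 2)) (P : GL (Fin n) F)
    (f₁ : (Fin 2 → F) → (Fin 2 → F) → F) (hf₁ : Cfsg.Geo.IsSymplecticForm f₁)
    (hT : Cfsg.Geo.IsTensorPowerFormStructure id (QuadraticMap.polar Q) f₁ e P)
    (hpure : ∀ xs : Fin t → (Fin 2 → F),
      Q (Matrix.mulVec (P : Matrix (Fin n) (Fin n) F) ((fun a : Fin t → Fin 2 => ∏ i, xs i (a i)) ∘ e)) = 0) :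
    ∃ K : Subgroup (GL (Fin n) F), Cfsg.Geo.tensorWreathSubgroup 2 t e P ⊓ Cfsg.Geo.omegaGL Q < K ∧
      K < Cfsg.Geo.omegaGL Q := by
  haveI : CharP F 2 := charP_two_of_not_odd hchar
  let s0 : Fin t := ⟨0, by omega⟩
  let s1 : Fin t := ⟨1, by omega⟩
  let s2 : Fin t := ⟨2, by omega⟩
  let s3 : Fin t := ⟨3, by omega⟩
  obtain ⟨c, hc, hpol⟩ := polar_pullQ_eq Q e P f₁ hT
  obtain ⟨γ, hγ, hG⟩ := gram_two f₁ hf₁
  have hQ' : ∀ v, pullQ Q e P v = (c * γ ^ t) * Q0 s0 v := by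
    apply eq_smul_Q0 s0 (pullQ Q e P) (c * γ ^ t)
    · intro v w
      rw [hpol, hG, formG_smul, formG_J2, Fintype.card_fin, mul_assoc]
    · intro x a
      exact pullQ_single Q hQ.smul e P hpure x a
  have hcγ : c * γ ^ t ≠ 0 := mul_ne_zero hc (pow_ne_zero _ hγ)
  have hiso : Cfsg.isometryGroup F (pullQ Q e P) = Cfsg.isometryGroup F (Q0 (F := F) s0) :=
    isometryGroup_smul (Q0 s0) (pullQ Q e P) (c * γ ^ t) hcγ hQ'
  have hΩ : Cfsg.Geo.omegaGL (pullQ Q e P) = Cfsg.Geo.omegaGL (Q0 (F := F) s0) := omegaGL_congr _ _ hiso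
  have h01 : s0 ≠ s1 := by simp [s0, s1, Fin.ext_iff]
  have h02 : s0 ≠ s2 := by simp [s0, s2, Fin.ext_iff]
  have h03 : s0 ≠ s3 := by simp [s0, s3, Fin.ext_iff]
  have h12 : s1 ≠ s2 := by simp [s1, s2, Fin.ext_iff]
  have h13 : s1 ≠ s3 := by simp [s1, s3, Fin.ext_iff]
  have h23 : s2 ≠ s3 := by simp [s2, s3, Fin.ext_iff]
  obtain ⟨hm1, hm2⟩ := model_main (F := F) s0 h01 h02 h12 h03 h13 h23 (Cfsg.Geo.tensorWreathStandard 2 t F)
    (fun n hn _ => wreath2_le_Norm t hn) (gElt_not_mem_wreath2 t h01)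
  rw [← hΩ] at hm1 hm2
  obtain ⟨r1, r2⟩ := exists_of_pull Q e P _ _ hm1 hm2
  rw [tensorWreathSubgroup_eq_map]
  exact ⟨_, r1, r2⟩

end Cfsg.Agent.Lib.Helper25.Spin
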