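import Mathlib
import Cfsg.Prelude.Def_GeometricClasses
import Cfsg.Agent.Lib.Helper25.SpinDefs
import Cfsg.Agent.Lib.Helper25.SpinL4
import Cfsg.Agent.Lib.Helper25.SpinMain
import Cfsg.Agent.Lib.Helper25.SpinCase2
import Cfsg.Agent.Lib.Helper18.TensOmegaBridge

/-!
# S5707: the case `k = 4`
-/

set_option autoImplicit false
set_option linter.unusedSectionVars false

namespace Cfsg.Agent.Lib.Helper25.Spin

open Matrix
open Cfsg.Agent.Lib.Helper18.TensOmegaBridge

variable {F : Type*} [Field F]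

section reindex

variable {ι : Type} [Fintype ι] [DecidableEq ι] {κ : Type} [Fintype κ] [DecidableEq κ]

/-- `glReindex e.symm x` acts through `e` -/
theorem glReindex_mulVec (e : ι ≃ κ) (x : GL κ F) (v : κ → F) :
    ((Cfsg.Geo.glReindex (F := F) e.symm x : GL ι F) : Matrix ι ι F) *ᵥ (v ∘ e) =
      ((x : Matrix κ κ F) *ᵥ v) ∘ e := by
  rw [glReindex_val]
  ext i
  simp only [Matrix.mulVec, dotProduct, Matrix.submatrix_apply, Function.comp_apply]
  exact (Equiv.sum_comp e (fun j => (x : Matrix κ κ F) (e i) j * v j))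

theorem glReindex_inv_val (e : ι ≃ κ) (x : GL κ F) :
    (((Cfsg.Geo.glReindex (F := F) e.symm x)⁻¹ : GL ι F) : Matrix ι ι F) =
      ((x⁻¹ : GL κ F) : Matrix κ κ F).submatrix e e := by
  rw [← map_inv, glReindex_val]

theorem single_comp (e : ι ≃ κ) (x : κ) (a : F) :
    (Pi.single x a : κ → F) ∘ e = Pi.single (e.symm x) a := by
  ext i
  simp only [Function.comp_apply, Pi.single_apply]
  by_cases h : e i = x
  · rw [if_pos h, if_pos (by rw [← h, Equiv.symm_apply_apply])]
  · rw [if_neg h, if_neg (fun h' => h (by rw [h', Equiv.apply_symm_apply]))]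

theorem submatrix_mul_three (e : ι ≃ κ) (A B C : Matrix κ κ F) :
    (A * B * C).submatrix e e = A.submatrix e e * B.submatrix e e * C.submatrix e e := by
  rw [Matrix.submatrix_mul_equiv (e₂ := e), Matrix.submatrix_mul_equiv (e₂ := e)]

end reindex

/-- **the case `k = 4`** -/
theorem case_four [Fintype F] {n : ℕ} (Q : (Fin n → F) → F) (hQ : Cfsg.Geo.IsNondegenerateQuadraticForm Q)
    (hchar : ¬ Odd (Fintype.card F)) (t : ℕ) (ht : 2 ≤ t) (e : Fin n ≃ (Fin t → Fin 4)) (P : GL (Fin n) F)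
    (f₁ : (Fin 4 → F) → (Fin 4 → F) → F) (hf₁ : Cfsg.Geo.IsSymplecticForm f₁)
    (hT : Cfsg.Geo.IsTensorPowerFormStructure id (QuadraticMap.polar Q) f₁ e P)
    (hpure : ∀ xs : Fin t → (Fin 4 → F),
      Q (Matrix.mulVec (P : Matrix (Fin n) (Fin n) F) ((fun a : Fin t → Fin 4 => ∏ i, xs i (a i)) ∘ e)) = 0) :
    ∃ K : Subgroup (GL (Fin n) F), Cfsg.Geo.tensorWreathSubgroup 4 t e P ⊓ Cfsg.Geo.omegaGL Q < K ∧
      K < Cfsg.Geo.omegaGL Q := by
  have hcharP : CharP F 2 := charP_two_of_not_odd hchar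
  set W := Cfsg.Geo.tensorWreathStandard 4 t F with hWdef
  set Q' := pullQ Q e P with hQ'def
  obtain ⟨c, hc, hpol⟩ := polar_pullQ_eq Q e P f₁ hT
  obtain ⟨b, b', hbb', hb'b, hbJ⟩ := exists_symplectic_basis4 f₁ hf₁
  -- the basis change as an element of `GL`
  let Bmat : GL (Fin t → Fin 4) F :=
    ⟨pureMat (fun _ => b), pureMat (fun _ => b'), by rw [pureMat_mul]; simp only [hbb']; exact pureMat_one,
      by rw [pureMat_mul]; simp only [hb'b]; exact pureMat_one⟩
  have hBval : (Bmat : Matrix (Fin t → Fin 4) (Fin t → Fin 4) F) = pureMat (fun _ => b) := rfl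
  have hBW : Bmat ∈ W := pureMat_mem_wreath 4 t b b' hbb' Bmat hBval
  set Q'' := pullQ Q' (beta t) Bmat with hQ''def
  let s0 : Fin t × Fin 2 := (⟨0, by omega⟩, 0)
  let s1 : Fin t × Fin 2 := (⟨1, by omega⟩, 0)
  let s2 : Fin t × Fin 2 := (⟨0, by omega⟩, 1)
  let s3 : Fin t × Fin 2 := (⟨1, by omega⟩, 1)
  have h01 : s0 ≠ s1 := by simp [s0, s1, Fin.ext_iff]
  have h02 : s0 ≠ s2 := by simp [s0, s2]
  have h03 : s0 ≠ s3 := by simp [s0, s3]
  have h12 : s1 ≠ s2 := by simp [s1, s2]
  have h13 : s1 ≠ s3 := by simp [s1, s3]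
  have h23 : s2 ≠ s3 := by simp [s2, s3, Fin.ext_iff]
  -- `Q'' = c • Q0`
  have hQ''eq : ∀ v, Q'' v = c * Q0 s0 v := by
    apply eq_smul_Q0 s0 Q'' c
    · intro v w
      rw [hQ''def, polar_pullQ, hpol, hBval, formG_pureMat, hbJ, formG_J4_beta]
    · intro x a
      have h1 : (Pi.single x a : (Fin t × Fin 2 → Fin 2) → F) = a • Pi.single x 1 := by
        rw [← Pi.single_smul, smul_eq_mul, mul_one]
      have hsm : ∀ (a : F) (v : (Fin t → Fin 4) → F), Q' (a • v) = a ^ 2 * Q' v :=
        fun a v => pullQ_smul Q hQ.smul e P a v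
      rw [h1, hQ''def, pullQ_smul Q' hsm, pullQ_apply, single_comp, ← pureVec_single, hBval, pureMat_mulVec,
        hQ'def, pullQ_apply]
      have := hpure (fun i => b *ᵥ (Pi.single ((beta t).symm x i) (1 : F) : Fin 4 → F))
      unfold pureVec
      rw [this, mul_zero]
  have hiso : Cfsg.isometryGroup F Q'' = Cfsg.isometryGroup F (Q0 (F := F) s0) :=
    isometryGroup_smul (Q0 s0) Q'' c hc hQ''eq
  have hΩ : Cfsg.Geo.omegaGL Q'' = Cfsg.Geo.omegaGL (Q0 (F := F) s0) := omegaGL_congr _ _ hiso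
  -- the wreath subgroup in site coordinates
  set W'' := W.comap (tr (F := F) (beta t) Bmat).toMonoidHom with hW''def
  -- elements of `W''` give elements of `W` after reindexing
  have hre : ∀ n'' : GL (Fin t × Fin 2 → Fin 2) F, n'' ∈ W'' →
      Cfsg.Geo.glReindex (F := F) (beta t).symm n'' ∈ W := by
    intro n'' hn''
    have h1 : tr (beta t) Bmat n'' ∈ W := hn''
    rw [tr_apply] at h1
    have h2 := W.mul_mem (W.mul_mem (W.inv_mem hBW) h1) hBW
    simpa [mul_assoc] using h2
  have hW1 : ∀ n'' ∈ W'', n'' ∈ Cfsg.isometryGroup F (Q0 (F := F) s0) → n'' ∈ NormLL := by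
    intro n'' hn'' hiso''
    set n0 := Cfsg.Geo.glReindex (F := F) (beta t).symm n'' with hn0def
    have hn0W : n0 ∈ W := hre n'' hn''
    have hpres : ∀ x y : (Fin t → Fin 4) → F,
        formG (J4 (F := F)) ((n0 : Matrix (Fin t → Fin 4) (Fin t → Fin 4) F) *ᵥ x)
          ((n0 : Matrix (Fin t → Fin 4) (Fin t → Fin 4) F) *ᵥ y) = formG J4 x y := by
      intro x y
      have hx : x = (x ∘ (beta t).symm) ∘ beta t := by
        ext a; simp
      have hy : y = (y ∘ (beta t).symm) ∘ beta t := by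
        ext a; simp
      rw [hx, hy, glReindex_mulVec, glReindex_mulVec, formG_J4_beta, formG_J4_beta,
        B0_of_mem_isometryGroup s0 n'' hiso'']
    obtain ⟨hc1, hc2⟩ := wreath4_conj_LL4 t n0 hn0W hpres
    rw [mem_NormLL_iff]
    constructor
    · intro M'' hM''
      set M := M''.submatrix (beta t) (beta t) with hMdef
      have hMM'' : Matrix.reindex (beta t) (beta t) M = M'' := by
        ext x y
        simp [hMdef]
      have hM4 : M ∈ LL4 (F := F) t := (reindex_mem_LL_iff t M).mp (by rw [hMM'']; exact hM'')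
      have h3 := (reindex_mem_LL_iff t _).mpr (hc1 M hM4)
      have h4 : Matrix.reindex (beta t) (beta t)
          ((n0 : Matrix (Fin t → Fin 4) (Fin t → Fin 4) F) * M *
            ((n0⁻¹ : GL (Fin t → Fin 4) F) : Matrix (Fin t → Fin 4) (Fin t → Fin 4) F)) =
          (n'' : Matrix _ _ F) * M'' * ((n''⁻¹ : GL _ F) : Matrix _ _ F) := by
        rw [hn0def, glReindex_inv_val, glReindex_val, hMdef, ← submatrix_mul_three]
        ext x y
        simp
      rw [h4] at h3
      exact h3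
    · intro M'' hM''
      set M := M''.submatrix (beta t) (beta t) with hMdef
      have hMM'' : Matrix.reindex (beta t) (beta t) M = M'' := by
        ext x y
        simp [hMdef]
      have hM4 : M ∈ LL4 (F := F) t := (reindex_mem_LL_iff t M).mp (by rw [hMM'']; exact hM'')
      have h3 := (reindex_mem_LL_iff t _).mpr (hc2 M hM4)
      have h4 : Matrix.reindex (beta t) (beta t)
          (((n0⁻¹ : GL (Fin t → Fin 4) F) : Matrix (Fin t → Fin 4) (Fin t → Fin 4) F) * M *
            (n0 : Matrix (Fin t → Fin 4) (Fin t → Fin 4) F)) =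
          ((n''⁻¹ : GL _ F) : Matrix _ _ F) * M'' * (n'' : Matrix _ _ F) := by
        rw [hn0def, glReindex_inv_val, glReindex_val, hMdef, ← submatrix_mul_three]
        ext x y
        simp
      rw [h4] at h3
      exact h3
  have hW2 : gElt (F := F) s0 s1 ∉ W'' := by
    intro hg
    have hn0W := hre _ hg
    set x0 : Fin t × Fin 2 → Fin 2 := fun _ => 0 with hx0
    obtain ⟨vs', hvs'⟩ := wreath_mulVec_pure 4 t _ hn0W
      (fun i => (Pi.single ((beta t).symm x0 i) (1 : F) : Fin 4 → F))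
    rw [pureVec_single, ← single_comp, glReindex_mulVec, gElt_mulVec_single h01 x0 rfl rfl] at hvs'
    have h5 : ((Pi.single x0 (1 : F) + Pi.single (flp s0 (flp s1 x0)) 1 : (Fin t × Fin 2 → Fin 2) → F)) ∘ beta t =
        Pi.single ((beta t).symm x0) 1 + Pi.single ((beta t).symm (flp s0 (flp s1 x0))) 1 := by
      rw [← single_comp, ← single_comp]
      rfl
    rw [h5] at hvs'
    refine pureVec_ne_single_add_single ((beta t).symm x0) ((beta t).symm (flp s0 (flp s1 x0)))
      (i1 := (⟨0, by omega⟩ : Fin t)) (i2 := (⟨1, by omega⟩ : Fin t)) (by simp [Fin.ext_iff]) ?_ ?_ vs' hvs'.symm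
    · intro h
      have h6 : beta t ((beta t).symm x0) s0 = beta t ((beta t).symm (flp s0 (flp s1 x0))) s0 := by
        show dig (((beta t).symm x0) s0.1) s0.2 = dig (((beta t).symm (flp s0 (flp s1 x0))) s0.1) s0.2
        rw [h]
      rw [Equiv.apply_symm_apply, Equiv.apply_symm_apply] at h6
      simp [flp, x0, Function.update_apply, h01, h01.symm] at h6
    · intro h
      have h6 : beta t ((beta t).symm x0) s1 = beta t ((beta t).symm (flp s0 (flp s1 x0))) s1 := by
        show dig (((beta t).symm x0) s1.1) s1.2 = dig (((beta t).symm (flp s0 (flp s1 x0))) s1.1) s1.2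
        rw [h]
      rw [Equiv.apply_symm_apply, Equiv.apply_symm_apply] at h6
      simp [flp, x0, Function.update_apply, h01, h01.symm] at h6
  obtain ⟨hm1, hm2⟩ := model_main (F := F) s0 h01 h02 h12 h03 h13 h23 W'' hW1 hW2
  rw [← hΩ] at hm1 hm2
  obtain ⟨r1, r2⟩ := exists_of_pull Q' (beta t) Bmat _ _ hm1 hm2
  have hsurj : Function.Surjective (tr (F := F) (beta t) Bmat).toMonoidHom := (tr (beta t) Bmat).surjective
  rw [hW''def, Subgroup.map_comap_eq_self_of_surjective hsurj] at r1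
  obtain ⟨q1, q2⟩ := exists_of_pull Q e P _ _ r1 r2
  rw [tensorWreathSubgroup_eq_map]
  exact ⟨_, q1, q2⟩

end Cfsg.Agent.Lib.Helper25.Spin
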