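import Cfsg.Agent.Lib.Helper28.Srg77.Psd

set_option autoImplicit false
set_option linter.unusedSectionVars false
set_option linter.unusedVariables false

/-!
S0429 piece [B]: in a graph with the parameters `(77,16,0,4)`, a `⊥`-pair has exactly three
collinear partners.  Indicator algebra: with `a z` the number of common neighbours of `x, y, z`,
`∑ a = 64`, `∑ a² = 112`, and `(a-1)(a-2)` is `2·[Col x y z] + 6[z=x] + 6[z=y] + 2[z ∈ Γx ∪ Γy]`.
-/

namespace Cfsg.Agent.Lib.Helper28.Srg77

open Finset Classical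

variable {V : Type*} [Fintype V] {G : SimpleGraph V}

namespace Helper25

theorem ad_mul_self (u v : V) : ad G u v * ad G u v = ad G u v := by
  unfold ad; split_ifs <;> simp

theorem ad_eq_one {u v : V} (h : G.Adj u v) : ad G u v = 1 := by
  unfold ad; rw [if_pos h]

theorem ad_eq_zero {u v : V} (h : ¬ G.Adj u v) : ad G u v = 0 := by
  unfold ad; rw [if_neg h]

theorem ad_cases (u v : V) : (G.Adj u v ∧ ad G u v = 1) ∨ (¬ G.Adj u v ∧ ad G u v = 0) := by
  by_cases h : G.Adj u v
  · exact Or.inl ⟨h, ad_eq_one h⟩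
  · exact Or.inr ⟨h, ad_eq_zero h⟩

theorem dl_self (u : V) : dl u u = 1 := by
  unfold dl; simp

theorem dl_ne {u v : V} (h : u ≠ v) : dl u v = 0 := by
  unfold dl; rw [if_neg h]

/-- weight: indicator of the common neighbours of `x`, `y` -/
noncomputable def ww (G : SimpleGraph V) (x y m : V) : ℤ := ad G x m * ad G y m

/-- number of common neighbours of `x`, `y`, `z` -/
noncomputable def aa (G : SimpleGraph V) (x y z : V) : ℤ := ∑ m, ww G x y m * ad G z m

theorem ww_mul_self (x y m : V) : ww G x y m * ww G x y m = ww G x y m := by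
  unfold ww
  have h1 := ad_mul_self (G := G) x m
  have h2 := ad_mul_self (G := G) y m
  calc ad G x m * ad G y m * (ad G x m * ad G y m)
      = (ad G x m * ad G x m) * (ad G y m * ad G y m) := by ring
    _ = ad G x m * ad G y m := by rw [h1, h2]

theorem aa_eq_card (x y z : V) :
    aa G x y z = ((univ.filter (fun m => G.Adj x m ∧ G.Adj y m ∧ G.Adj z m)).card : ℤ) := by
  unfold aa ww ad
  have : ∀ m, ((if G.Adj x m then (1:ℤ) else 0) * (if G.Adj y m then (1:ℤ) else 0)) *
      (if G.Adj z m then (1:ℤ) else 0) =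
      if (G.Adj x m ∧ G.Adj y m ∧ G.Adj z m) then 1 else 0 := by
    intro m
    by_cases h1 : G.Adj x m <;> by_cases h2 : G.Adj y m <;> by_cases h3 : G.Adj z m <;>
      simp [h1, h2, h3]
  simp_rw [this]
  rw [Finset.sum_boole]

section

variable (hG : M22Like G)
include hG

theorem sum_ww {x y : V} (hxy : Perp G x y) : ∑ m, ww G x y m = 4 := by
  unfold ww
  have : ∀ m, ad G x m * ad G y m = ad G x m * ad G m y := fun m => by rw [ad_symm y m]
  simp_rw [this]
  rw [sum_ad_mul_ad, cnn_eq hG, dl_ne hxy.1, ad_eq_zero hxy.2]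
  norm_num

theorem sum_aa {x y : V} (hxy : Perp G x y) : ∑ z, aa G x y z = 64 := by
  unfold aa
  rw [Finset.sum_comm]
  have : ∀ m, ∑ z, ww G x y m * ad G z m = ww G x y m * 16 := by
    intro m
    rw [← Finset.mul_sum, sum_ad' hG]
  simp_rw [this]
  rw [← Finset.sum_mul, sum_ww hG hxy]
  norm_num

theorem ww_ww_ad {x y : V} (m m' : V) : ww G x y m * ww G x y m' * ad G m m' = 0 := by
  unfold ww
  rcases ad_cases (G := G) x m with ⟨h1, e1⟩ | ⟨h1, e1⟩
  · rcases ad_cases (G := G) x m' with ⟨h2, e2⟩ | ⟨h2, e2⟩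
    · have : ¬ G.Adj m m' := hG.tri x m m' h1 h2
      rw [ad_eq_zero this]; ring
    · rw [e2]; ring
  · rw [e1]; ring

theorem sum_aa_sq {x y : V} (hxy : Perp G x y) : ∑ z, aa G x y z * aa G x y z = 112 := by
  have h1 : ∀ z, aa G x y z * aa G x y z =
      ∑ m, ∑ m', ww G x y m * ww G x y m' * (ad G m z * ad G z m') := by
    intro z
    unfold aa
    rw [Finset.sum_mul_sum]
    refine Finset.sum_congr rfl fun m _ => Finset.sum_congr rfl fun m' _ => ?_
    rw [ad_symm m z]
    ring
  simp_rw [h1]
  rw [Finset.sum_comm]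
  have h2 : ∀ m, ∑ z, ∑ m', ww G x y m * ww G x y m' * (ad G m z * ad G z m') =
      ∑ m', ww G x y m * ww G x y m' * cnn G m m' := by
    intro m
    rw [Finset.sum_comm]
    refine Finset.sum_congr rfl fun m' _ => ?_
    rw [← Finset.mul_sum, sum_ad_mul_ad]
  simp_rw [h2]
  have h3 : ∀ m m', ww G x y m * ww G x y m' * cnn G m m' =
      12 * (ww G x y m * (dl m m' * ww G x y m')) + 4 * (ww G x y m * ww G x y m') := by
    intro m m'
    rw [cnn_eq hG]
    have := ww_ww_ad hG (x := x) (y := y) m m'
    linear_combination (-4 : ℤ) * this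
  simp_rw [h3]
  simp_rw [Finset.sum_add_distrib, ← Finset.mul_sum, sum_dl_mul, ww_mul_self]
  rw [← Finset.sum_mul, sum_ww hG hxy]
  norm_num

theorem aa_left {x y : V} (hxy : Perp G x y) : aa G x y x = 4 := by
  unfold aa
  have : ∀ m, ww G x y m * ad G x m = ww G x y m := by
    intro m
    unfold ww
    calc ad G x m * ad G y m * ad G x m = (ad G x m * ad G x m) * ad G y m := by ring
      _ = ad G x m * ad G y m := by rw [ad_mul_self]
  simp_rw [this]
  exact sum_ww hG hxy

theorem aa_right {x y : V} (hxy : Perp G x y) : aa G x y y = 4 := by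
  unfold aa
  have : ∀ m, ww G x y m * ad G y m = ww G x y m := by
    intro m
    unfold ww
    calc ad G x m * ad G y m * ad G y m = ad G x m * (ad G y m * ad G y m) := by ring
      _ = ad G x m * ad G y m := by rw [ad_mul_self]
  simp_rw [this]
  exact sum_ww hG hxy

theorem aa_of_adj_left {x y z : V} (h : G.Adj x z) : aa G x y z = 0 := by
  unfold aa
  refine Finset.sum_eq_zero fun m _ => ?_
  unfold ww
  rcases ad_cases (G := G) x m with ⟨h1, e1⟩ | ⟨h1, e1⟩
  · have : ¬ G.Adj z m := hG.tri x z m h h1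
    rw [ad_eq_zero this]; ring
  · rw [e1]; ring

theorem aa_of_adj_right {x y z : V} (h : G.Adj y z) : aa G x y z = 0 := by
  unfold aa
  refine Finset.sum_eq_zero fun m _ => ?_
  unfold ww
  rcases ad_cases (G := G) y m with ⟨h1, e1⟩ | ⟨h1, e1⟩
  · have : ¬ G.Adj z m := hG.tri y z m h h1
    rw [ad_eq_zero this]; ring
  · rw [e1]; ring

end

end Helper25

open Helper25

/-- [B] -/
theorem p2 (hG : M22Like G) (h1 : P1 G) : P2 G := by
  intro x y hxy
  -- pointwise identity
  have hpt : ∀ z, (aa G x y z - 1) * (aa G x y z - 2) =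
      2 * (if Col G x y z then (1:ℤ) else 0) + 6 * dl x z + 6 * dl y z +
        2 * (ad G x z + ad G y z - ad G x z * ad G y z) := by
    intro z
    by_cases hzx : z = x
    · subst hzx
      have hc : ¬ Col G z y z := fun h => h.2.1.1 rfl
      rw [aa_left hG hxy, if_neg hc, dl_self, dl_ne hxy.1.symm,
        ad_eq_zero (G.loopless.irrefl z), ad_eq_zero (fun h => hxy.2 h.symm)]
      norm_num
    by_cases hzy : z = y
    · subst hzy
      have hc : ¬ Col G x z z := fun h => h.2.2.1.1 rfl
      rw [aa_right hG hxy, if_neg hc, dl_self, dl_ne hxy.1,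
        ad_eq_zero (G.loopless.irrefl z), ad_eq_zero hxy.2]
      norm_num
    have hxz : x ≠ z := fun h => hzx h.symm
    have hyz : y ≠ z := fun h => hzy h.symm
    rw [dl_ne hxz, dl_ne hyz]
    by_cases hax : G.Adj x z
    · have hc : ¬ Col G x y z := fun h => h.2.1.2 hax
      rw [aa_of_adj_left hG hax, if_neg hc, ad_eq_one hax]
      ring
    by_cases hay : G.Adj y z
    · have hc : ¬ Col G x y z := fun h => h.2.2.1.2 hay
      rw [aa_of_adj_right hG hay, if_neg hc, ad_eq_one hay, ad_eq_zero hax]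
      ring
    rw [ad_eq_zero hax, ad_eq_zero hay]
    have hle := h1 x y z hxy ⟨hxz, hax⟩ ⟨hyz, hay⟩
    have hcard := aa_eq_card (G := G) x y z
    have hcol : Col G x y z ↔ aa G x y z = 0 := by
      rw [hcard]
      constructor
      · intro h
        have : (univ.filter (fun m => G.Adj x m ∧ G.Adj y m ∧ G.Adj z m)) = ∅ := by
          ext m
          simp only [mem_filter, mem_univ, true_and, notMem_empty, iff_false, not_and]
          intro h3 h4
          exact h.2.2.2 m h3 h4
        rw [this]; simp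
      · intro h
        have h0 : (univ.filter (fun m => G.Adj x m ∧ G.Adj y m ∧ G.Adj z m)).card = 0 := by
          exact_mod_cast h
        rw [Finset.card_eq_zero] at h0
        refine ⟨hxy, ⟨hxz, hax⟩, ⟨hyz, hay⟩, ?_⟩
        intro m h3 h4 h5
        have : m ∈ (univ.filter (fun m => G.Adj x m ∧ G.Adj y m ∧ G.Adj z m)) := by
          simp [h3, h4, h5]
        rw [h0] at this
        simp at this
    have hnn : 0 ≤ aa G x y z := by rw [hcard]; positivity
    have hle2 : aa G x y z ≤ 2 := by rw [hcard]; exact_mod_cast hle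
    by_cases h0 : aa G x y z = 0
    · rw [if_pos (hcol.2 h0), h0]; norm_num
    · rw [if_neg (fun h => h0 (hcol.1 h))]
      have : aa G x y z = 1 ∨ aa G x y z = 2 := by omega
      rcases this with h | h <;> rw [h] <;> norm_num
  -- sum it
  have hsum := Finset.sum_congr (s₁ := (univ : Finset V)) rfl (fun z _ => hpt z)
  have hL : ∑ z, (aa G x y z - 1) * (aa G x y z - 2) = 74 := by
    have : ∀ z, (aa G x y z - 1) * (aa G x y z - 2) =
        aa G x y z * aa G x y z - 3 * aa G x y z + 2 := fun z => by ring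
    simp_rw [this]
    rw [Finset.sum_add_distrib, Finset.sum_sub_distrib, ← Finset.mul_sum, sum_aa_sq hG hxy,
      sum_aa hG hxy]
    simp [hG.card]
  have hR : ∑ z, (2 * (if Col G x y z then (1:ℤ) else 0) + 6 * dl x z + 6 * dl y z +
        2 * (ad G x z + ad G y z - ad G x z * ad G y z)) =
      2 * (∑ z, if Col G x y z then (1:ℤ) else 0) + 68 := by
    have hmul : ∑ z, ad G x z * ad G y z = 4 := by
      have : ∀ z, ad G x z * ad G y z = ad G x z * ad G z y := fun z => by rw [ad_symm y z]
      simp_rw [this]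
      rw [sum_ad_mul_ad, cnn_eq hG, dl_ne hxy.1, ad_eq_zero hxy.2]
      norm_num
    simp_rw [Finset.sum_add_distrib, ← Finset.mul_sum, Finset.sum_sub_distrib,
      Finset.sum_add_distrib]
    rw [sum_dl, sum_dl, sum_ad hG, sum_ad hG, hmul]
    ring
  rw [hL, hR] at hsum
  have h3 : (∑ z, if Col G x y z then (1:ℤ) else 0) = 3 := by linarith
  rw [Finset.sum_boole] at h3
  have h4 : ((univ.filter (fun z => Col G x y z)).card : ℤ) = 3 := by
    convert h3 using 2
  exact_mod_cast h4

end Cfsg.Agent.Lib.Helper28.Srg77
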