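import Mathlib
import Cfsg.Agent.H5.PSolvable

/-!
Derived length of Sylow subgroups: transfer along quotients.
-/

set_option autoImplicit false
set_option linter.style.haveILetI false
set_option linter.unusedSectionVars false

namespace Cfsg.Agent.Lib.Helper25.SylDer

universe u

section Derived

variable {A : Type*} [Group A]

theorem derivedSeries_eq_bot_of_le {k k' : ℕ} (h : derivedSeries A k = ⊥) (hk : k ≤ k') :
    derivedSeries A k' = ⊥ := by
  rw [eq_bot_iff, ← h]
  exact derivedSeries_antitone A hk

theorem derivedSeries_add_le_map (M : Subgroup A) (k : ℕ) (h : derivedSeries A k ≤ M) (j : ℕ) :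
    derivedSeries A (k + j) ≤ (derivedSeries M j).map M.subtype := by
  induction j with
  | zero =>
    rw [add_zero, derivedSeries_zero, ← MonoidHom.range_eq_map, Subgroup.range_subtype]
    exact h
  | succ j ih =>
    rw [← add_assoc, derivedSeries_succ, derivedSeries_succ, Subgroup.map_commutator]
    exact Subgroup.commutator_mono ih ih

theorem derivedSeries_add_eq_bot (M : Subgroup A) (k m : ℕ) (h : derivedSeries A k ≤ M)
    (hM : derivedSeries M m = ⊥) : derivedSeries A (k + m) = ⊥ := by
  have h1 := derivedSeries_add_le_map M k h m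
  rw [hM, Subgroup.map_bot] at h1
  exact eq_bot_iff.2 h1

theorem derivedSeries_one_eq_bot_of_comm (hc : ∀ a b : A, a * b = b * a) :
    derivedSeries A 1 = ⊥ := by
  rw [derivedSeries_one, eq_bot_iff, commutator_def, Subgroup.commutator_le]
  intro a _ b _
  rw [Subgroup.mem_bot, commutatorElement_eq_one_iff_commute]
  exact hc a b

theorem derivedSeries_eq_bot_of_subsingleton [Subsingleton A] (k : ℕ) :
    derivedSeries A k = ⊥ := Subsingleton.elim _ _

end Derived

section Syl

variable {G : Type u} [Group G] [Finite G] {p : ℕ} [Fact p.Prime]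

/-- All Sylow `p`-subgroups have derived length at most `k`. -/
def SylDL (p : ℕ) (G : Type u) [Group G] (k : ℕ) : Prop :=
  ∀ P : Sylow p G, derivedSeries (P : Subgroup G) k = ⊥

theorem SylDL.mono {k k' : ℕ} (h : SylDL p G k) (hk : k ≤ k') : SylDL p G k' :=
  fun P => derivedSeries_eq_bot_of_le (h P) hk

/-- Lifting from a quotient. -/
theorem SylDL.lift (N : Subgroup G) [N.Normal] {k m : ℕ} (hq : SylDL p (G ⧸ N) k)
    (hN : ∀ P : Sylow p G, derivedSeries (N.subgroupOf (P : Subgroup G)) m = ⊥) :
    SylDL p G (k + m) := by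
  intro P
  have hsurj := QuotientGroup.mk'_surjective N
  set Pb : Sylow p (G ⧸ N) := P.mapSurjective hsurj with hPb
  have hmem : ∀ x : (P : Subgroup G), (QuotientGroup.mk' N) (x : G) ∈ (Pb : Subgroup (G ⧸ N)) := by
    intro x
    rw [hPb, Sylow.coe_mapSurjective]
    exact Subgroup.mem_map_of_mem _ x.2
  let f : (P : Subgroup G) →* (Pb : Subgroup (G ⧸ N)) :=
    ((QuotientGroup.mk' N).comp (P : Subgroup G).subtype).codRestrict _ hmem
  have h1 := map_derivedSeries_le_derivedSeries f k
  rw [hq Pb] at h1
  have h2 : derivedSeries (P : Subgroup G) k ≤ N.subgroupOf (P : Subgroup G) := by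
    intro x hx
    have h3 : f x ∈ (⊥ : Subgroup (Pb : Subgroup (G ⧸ N))) := h1 (Subgroup.mem_map_of_mem f hx)
    rw [Subgroup.mem_bot] at h3
    have h4 : (QuotientGroup.mk' N) (x : G) = 1 := congrArg Subtype.val h3
    rw [Subgroup.mem_subgroupOf]
    exact (QuotientGroup.eq_one_iff _).1 h4
  exact derivedSeries_add_eq_bot _ k m h2 (hN P)

/-- Lifting from a quotient by an abelian normal subgroup. -/
theorem SylDL.lift_comm (N : Subgroup G) [N.Normal] (hc : ∀ a ∈ N, ∀ b ∈ N, a * b = b * a)
    {k : ℕ} (hq : SylDL p (G ⧸ N) k) : SylDL p G (k + 1) := by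
  apply SylDL.lift N hq
  intro P
  apply derivedSeries_one_eq_bot_of_comm
  intro a b
  apply Subtype.ext
  apply Subtype.ext
  exact hc _ (Subgroup.mem_subgroupOf.1 a.2) _ (Subgroup.mem_subgroupOf.1 b.2)

/-- Lifting from a quotient by a normal `p'`-subgroup. -/
theorem SylDL.lift_coprime (N : Subgroup G) [N.Normal] (hN : (Nat.card N).Coprime p)
    {k : ℕ} (hq : SylDL p (G ⧸ N) k) : SylDL p G k := by
  have h := SylDL.lift (m := 0) N hq (by
    intro P
    haveI : Subsingleton (N.subgroupOf (P : Subgroup G)) := by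
      constructor
      intro a b
      have key : ∀ c : N.subgroupOf (P : Subgroup G), c = 1 := by
        intro c
        apply Subtype.ext
        apply Subtype.ext
        have hcN : ((c : (P : Subgroup G)) : G) ∈ N := Subgroup.mem_subgroupOf.1 c.2
        exact Cfsg.H5.eq_one_of_coprime_of_mem_pgroup
          (Cfsg.H5.coprime_orderOf_of_mem hN hcN) P.isPGroup' (c : (P : Subgroup G)).2
      rw [key a, key b]
    exact derivedSeries_eq_bot_of_subsingleton 0)
  rwa [add_zero] at h

theorem sylDL_of_subsingleton [Subsingleton G] (k : ℕ) : SylDL p G k := by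
  intro P
  exact derivedSeries_eq_bot_of_subsingleton k

end Syl

end Cfsg.Agent.Lib.Helper25.SylDer
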