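import Mathlib
import Cfsg.Agent.Lib.Helper25.ItoMichler
import Cfsg.Agent.Lib.Helper25.LinearChar

/-!
Character-theoretic lemmas for the bound on the derived length of a Sylow `p`-subgroup of a
`p`-solvable group by the number of irreducible characters of degree divisible by `p`.
-/

set_option autoImplicit false
set_option linter.style.haveILetI false
set_option linter.unusedSectionVars false

namespace Cfsg.Agent.Lib.Helper25.SylDer

open Cfsg Cfsg.Agent.Lib.Helper2 Cfsg.Agent.Lib.Helper25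
open scoped ComplexConjugate

universe u

section Count

variable {G : Type u} [Group G] [Finite G]

/-- The number of irreducible characters of degree divisible by `p`. -/
noncomputable def nP (p : ℕ) (G : Type u) [Group G] : ℕ :=
  Nat.card {χ : IrrCharacter G // p ∣ charDegree (χ : G → ℂ)}

theorem charDegree_inflIrr (N : Subgroup G) [N.Normal] (ψ : IrrCharacter (G ⧸ N)) :
    charDegree (inflIrr N ψ : G → ℂ) = charDegree (ψ : G ⧸ N → ℂ) := by
  unfold charDegree
  rw [inflIrr_apply, QuotientGroup.mk_one]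

/-- the map on `p`-singular characters induced by inflation -/
noncomputable def inflP (p : ℕ) (N : Subgroup G) [N.Normal] :
    {ψ : IrrCharacter (G ⧸ N) // p ∣ charDegree (ψ : G ⧸ N → ℂ)} →
      {χ : IrrCharacter G // p ∣ charDegree (χ : G → ℂ)} :=
  fun ψ => ⟨inflIrr N ψ.1, by rw [charDegree_inflIrr]; exact ψ.2⟩

theorem inflP_injective (p : ℕ) (N : Subgroup G) [N.Normal] :
    Function.Injective (inflP p N) := by
  intro a b h
  apply Subtype.ext
  apply inflIrr_injective N
  exact congrArg Subtype.val h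

theorem nP_quotient_le (p : ℕ) (N : Subgroup G) [N.Normal] : nP p (G ⧸ N) ≤ nP p G := by
  unfold nP
  exact Nat.card_le_card_of_injective _ (inflP_injective p N)

theorem nP_quotient_lt (p : ℕ) (N : Subgroup G) [N.Normal] (χ : IrrCharacter G)
    (hp : p ∣ charDegree (χ : G → ℂ)) (n : G) (hn : n ∈ N)
    (hχ : (χ : G → ℂ) n ≠ (χ : G → ℂ) 1) : nP p (G ⧸ N) + 1 ≤ nP p G := by
  classical
  unfold nP
  haveI : Fintype {ψ : IrrCharacter (G ⧸ N) // p ∣ charDegree (ψ : G ⧸ N → ℂ)} :=
    Fintype.ofFinite _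
  haveI : Fintype {χ : IrrCharacter G // p ∣ charDegree (χ : G → ℂ)} := Fintype.ofFinite _
  rw [Nat.card_eq_fintype_card, Nat.card_eq_fintype_card]
  apply Nat.succ_le_of_lt
  apply Fintype.card_lt_of_injective_of_notMem (inflP p N) (inflP_injective p N)
    (b := ⟨χ, hp⟩)
  rintro ⟨ψ, hψ⟩
  apply hχ
  have h1 : inflIrr N ψ.1 = χ := congrArg Subtype.val hψ
  rw [← h1, inflIrr_apply, inflIrr_apply]
  have h2 : ((n : G) : G ⧸ N) = ((1 : G) : G ⧸ N) := by
    rw [QuotientGroup.mk_one]
    exact (QuotientGroup.eq_one_iff n).2 hn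
  rw [h2]

end Count

section Clifford

variable {G : Type u} [Group G] [Finite G] (N : Subgroup G) [N.Normal]

attribute [local instance] conjIrrAction

/-- Clifford's degree formula for a given constituent. -/
theorem degree_of_constituent [Fintype G] [Fintype N] (χ : IrrCharacter G) (θ : IrrCharacter N)
    (hχ : classInner (fun n : N => (χ : G → ℂ) n) (θ : N → ℂ) ≠ 0) :
    ∃ m : ℕ, charDegree (χ : G → ℂ) =
      m * (MulAction.stabilizer G θ).index * charDegree (θ : N → ℂ) := by
  classical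
  have hcl := clifford_restriction N χ.2 θ.2 hχ
  obtain ⟨m, hm⟩ := classInner_isCharacter_nat
    (IsCharacter.restrict (isCharacter_of_irr χ.2) N) (isCharacter_of_irr θ.2)
  set S : Set (N → ℂ) := {ψ : N → ℂ | ∃ g : G, ψ = conjFun N g (θ : N → ℂ)} with hS
  have hfin : S.Finite := finite_conjugates N (θ : N → ℂ)
  rw [finsum_mem_eq_finite_toFinset_sum _ hfin, hm] at hcl
  have h1 := congrFun hcl 1
  simp only [Pi.smul_apply, Finset.sum_apply, smul_eq_mul] at h1
  have hval : ∀ ψ ∈ hfin.toFinset, ψ 1 = (θ : N → ℂ) 1 := by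
    intro ψ hψ
    rw [Set.Finite.mem_toFinset] at hψ
    obtain ⟨g, rfl⟩ := hψ
    rw [conjFun_apply]
    exact congrArg (θ : N → ℂ) (Subtype.ext (by simp))
  rw [Finset.sum_congr rfl hval, Finset.sum_const, nsmul_eq_mul] at h1
  have hSimg : S = (fun μ : IrrCharacter N => (μ : N → ℂ)) '' (MulAction.orbit G θ) := by
    ext ψ
    constructor
    · rintro ⟨g, rfl⟩
      refine ⟨g⁻¹ • θ, ⟨g⁻¹, rfl⟩, ?_⟩
      show conjFun N g⁻¹⁻¹ (θ : N → ℂ) = conjFun N g (θ : N → ℂ)
      rw [inv_inv]
    · rintro ⟨μ, ⟨g, rfl⟩, rfl⟩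
      exact ⟨g⁻¹, rfl⟩
  have hcard : hfin.toFinset.card = (MulAction.stabilizer G θ).index := by
    rw [← Set.ncard_eq_toFinset_card S hfin, hSimg,
      Set.ncard_image_of_injective _ Subtype.val_injective, MulAction.index_stabilizer]
  rw [hcard] at h1
  refine ⟨m, ?_⟩
  have h2 : ((charDegree (χ : G → ℂ) : ℕ) : ℂ) =
      ((m * (MulAction.stabilizer G θ).index * charDegree (θ : N → ℂ) : ℕ) : ℂ) := by
    rw [← char_one_eq_charDegree (isCharacter_of_irr χ.2)]
    push_cast
    rw [← char_one_eq_charDegree (isCharacter_of_irr θ.2)]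
    have h3 : (χ : G → ℂ) 1 = (χ : G → ℂ) ((1 : N) : G) := rfl
    rw [h3, h1]
    ring
  exact_mod_cast h2

/-- A class function with `ψ z ≠ ψ 1` has an irreducible constituent with `φ z ≠ φ 1`. -/
theorem exists_constituent_apply_ne' {K : Type u} [Group K] [Fintype K] {ψ : K → ℂ}
    (hψ : IsClassFunction K ψ) {z : K} (hz : ψ z ≠ ψ 1) :
    ∃ φ : IrrCharacter K, (φ : K → ℂ) z ≠ (φ : K → ℂ) 1 ∧ classInner ψ (φ : K → ℂ) ≠ 0 := by
  classical
  haveI : Fintype (IrrCharacter K) := Fintype.ofFinite _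
  by_contra hcon
  have hall : ∀ φ : IrrCharacter K, classInner ψ (φ : K → ℂ) ≠ 0 →
      (φ : K → ℂ) z = (φ : K → ℂ) 1 := by
    intro φ h3
    by_contra h2
    exact hcon ⟨φ, h2, h3⟩
  have hexp := Cfsg.Agent.Lib.Helper2.classFunction_expansion ψ hψ
  apply hz
  have e1 := congrFun hexp z
  have e2 := congrFun hexp 1
  rw [e1, e2]
  simp only [Finset.sum_apply, Pi.smul_apply, smul_eq_mul]
  apply Finset.sum_congr rfl
  intro φ _
  by_cases h : classInner ψ (φ : K → ℂ) = 0
  · rw [h, zero_mul, zero_mul]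
  · rw [hall φ h]

end Clifford

section KeyA

variable {G : Type u} [Group G] [Finite G] {p : ℕ} [Fact p.Prime]

attribute [local instance] conjIrrAction

/-- If `Q` is a normal `p`-subgroup and `χ` does not contain `n ∈ [Q,Q]` in its kernel, then
`p` divides `χ(1)`. -/
theorem dvd_degree_of_apply_ne (Q : Subgroup G) [Q.Normal] (hQ : IsPGroup p Q)
    (χ : IrrCharacter G) (n : G) (hn : n ∈ ⁅Q, Q⁆)
    (hχ : (χ : G → ℂ) n ≠ (χ : G → ℂ) 1) : p ∣ charDegree (χ : G → ℂ) := by
  classical
  have hp : p.Prime := Fact.out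
  haveI : Fintype G := Fintype.ofFinite G
  haveI : Fintype Q := Fintype.ofFinite _
  have hnQ : n ∈ Q := (Subgroup.commutator_le_right Q Q) hn
  set z : Q := ⟨n, hnQ⟩ with hz
  have hzc : z ∈ commutator Q := by
    have h1 : n ∈ (commutator Q).map Q.subtype := by
      rw [Subgroup.map_subtype_commutator]
      exact hn
    obtain ⟨y, hy, hyn⟩ := h1
    have : y = z := Subtype.ext hyn
    rw [← this]
    exact hy
  have hcf : IsClassFunction Q (fun q : Q => (χ : G → ℂ) q) := by
    intro a b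
    exact isClassFunction_of_char (isCharacter_of_irr χ.2) a b
  have hne : (fun q : Q => (χ : G → ℂ) q) z ≠ (fun q : Q => (χ : G → ℂ) q) 1 := hχ
  obtain ⟨φ, hφz, hφc⟩ := exists_constituent_apply_ne' hcf hne
  obtain ⟨m, hm⟩ := degree_of_constituent Q χ φ hφc
  have h1 : charDegree (φ : Q → ℂ) ∣ charDegree (χ : G → ℂ) := by
    rw [hm]
    exact Dvd.intro_left _ rfl
  have h2 : charDegree (φ : Q → ℂ) ∣ Nat.card Q := charDegree_dvd_card φ.2
  obtain ⟨k, hk⟩ := (IsPGroup.iff_card).1 hQ
  rw [hk] at h2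
  obtain ⟨b, -, hb⟩ := (Nat.dvd_prime_pow hp).1 h2
  rcases b with _ | b
  · exfalso
    apply hφz
    have h3 : (φ : Q → ℂ) 1 = 1 := by
      rw [char_one_eq_charDegree (isCharacter_of_irr φ.2), hb]
      simp
    have h4 : (1 : Q)⁻¹ * z ∈ commutator Q := by
      rw [inv_one, one_mul]
      exact hzc
    exact (linear_char_eq_of_mem_commutator (isCharacter_of_irr φ.2) h3 h4).symm
  · apply dvd_trans _ h1
    rw [hb]
    exact dvd_pow_self p (Nat.succ_ne_zero b)

end KeyA

end Cfsg.Agent.Lib.Helper25.SylDer
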