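import Mathlib
import Cfsg.Agent.Lib.Helper25.SylDLb

/-!
The key lemmas for groups without nontrivial normal `p`-subgroups.
-/

set_option autoImplicit false
set_option linter.style.haveILetI false
set_option linter.unusedSectionVars false

namespace Cfsg.Agent.Lib.Helper25.SylDer

open Cfsg Cfsg.Agent.Lib.Helper2 Cfsg.Agent.Lib.Helper25
open scoped ComplexConjugate

universe u

section Index

variable {G : Type u} [Group G] [Finite G]

theorem card_eq_card_mul_relIndex' {H X : Subgroup G} (h : H ≤ X) :
    Nat.card X = Nat.card H * H.relIndex X := by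
  rw [Subgroup.relIndex, ← Subgroup.card_mul_index (H.subgroupOf X)]
  congr 1
  exact Nat.card_congr (Subgroup.subgroupOfEquivOfLe h).toEquiv

theorem relIndex_dvd_index_right' (Y N : Subgroup G) [N.Normal] : Y.relIndex N ∣ Y.index := by
  have h1 : Y.relIndex (Y ⊔ N) ∣ Y.index := Subgroup.relIndex_dvd_index_of_le le_sup_left
  have h2 : Y.relIndex (Y ⊔ N) = Y.relIndex N := by
    have e1 := card_eq_card_mul_relIndex' (inf_le_left : Y ⊓ N ≤ Y)
    have e2 := card_eq_card_mul_relIndex' (inf_le_right : Y ⊓ N ≤ N)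
    have e3 := card_eq_card_mul_relIndex' (le_sup_right : N ≤ Y ⊔ N)
    have e4 := card_eq_card_mul_relIndex' (le_sup_left : Y ≤ Y ⊔ N)
    rw [Subgroup.inf_relIndex_left] at e1
    rw [Subgroup.inf_relIndex_right] at e2
    rw [Subgroup.relIndex_sup_right] at e3
    have hpos : 0 < Nat.card (Y ⊓ N : Subgroup G) := Nat.card_pos
    have hr1 : 0 < N.relIndex Y := Nat.pos_of_ne_zero Subgroup.index_ne_zero_of_finite
    generalize Nat.card (Y ⊓ N : Subgroup G) = a at *
    generalize N.relIndex Y = r₁ at *
    generalize Y.relIndex N = r₂ at *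
    generalize Y.relIndex (Y ⊔ N) = t at *
    rw [e2] at e3
    rw [e1] at e4
    have h3 : a * r₁ * t = a * r₁ * r₂ := by rw [← e4, e3]; ring
    exact Nat.eq_of_mul_eq_mul_left (Nat.mul_pos hpos hr1) h3
  rw [← h2]
  exact h1

end Index

section KeyB

variable {G : Type u} [Group G] [Finite G] {p : ℕ} [Fact p.Prime]

attribute [local instance] conjIrrAction

/-- If every irreducible character of degree divisible by `p` has the normal subgroup `R` in its
kernel, then a normal subgroup `U ≥ R` with `U/R` a `p`-group fixes every irreducible character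
of `R`. -/
theorem fix_of_kernels (R U : Subgroup G) [R.Normal] [U.Normal] (hRU : R ≤ U) (a : ℕ)
    (ha : R.relIndex U = p ^ a)
    (hker : ∀ χ : IrrCharacter G, p ∣ charDegree (χ : G → ℂ) →
      ∀ r ∈ R, (χ : G → ℂ) r = (χ : G → ℂ) 1) :
    ∀ x ∈ U, ∀ θ : IrrCharacter R, conjFun R x (θ : R → ℂ) = θ := by
  classical
  have hp : p.Prime := Fact.out
  intro x hx θ
  haveI : Fintype G := Fintype.ofFinite G
  haveI : Fintype R := Fintype.ofFinite _
  obtain ⟨χ, hχ⟩ := Cfsg.Agent.Lib.Helper7.exists_irr_over R θ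
  obtain ⟨m, hm⟩ := degree_of_constituent R χ θ hχ
  have hidx : ¬ p ∣ (MulAction.stabilizer G θ).index := by
    intro h
    have hpχ : p ∣ charDegree (χ : G → ℂ) := by
      rw [hm]
      exact Dvd.dvd.mul_right (Dvd.dvd.mul_left h m) _
    have hk := hker χ hpχ
    have hres : (fun n : R => (χ : G → ℂ) n) = ((χ : G → ℂ) 1) • (fun _ : R => (1 : ℂ)) := by
      funext n
      rw [Pi.smul_apply, smul_eq_mul, mul_one]
      exact hk n n.2
    rw [hres, classInner_smul_left] at hχ
    have hone : (θ : R → ℂ) = fun _ => (1 : ℂ) := by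
      by_contra hne
      apply hχ
      have h1 := irr_classInner (isIrrCharacter_one (G := R)) θ.2
      rw [if_neg (fun h2 => hne h2.symm)] at h1
      rw [h1, mul_zero]
    have htop : MulAction.stabilizer G θ = ⊤ := by
      rw [eq_top_iff]
      intro g _
      rw [mem_stabilizer_conjIrr_iff, hone]
      rfl
    rw [htop, Subgroup.index_top] at h
    exact hp.one_lt.ne' (Nat.dvd_one.1 h)
  have hle : R ≤ MulAction.stabilizer G θ := le_stabilizer_conjIrr R θ
  have h1 : (MulAction.stabilizer G θ).relIndex U ∣ R.relIndex U :=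
    Subgroup.relIndex_dvd_of_le_left U hle
  have h2 : (MulAction.stabilizer G θ).relIndex U ∣ (MulAction.stabilizer G θ).index :=
    relIndex_dvd_index_right' _ U
  rw [ha] at h1
  have h3 := eq_one_of_dvd_pow_of_dvd hp h1 h2 hidx
  have hUS : U ≤ MulAction.stabilizer G θ := Subgroup.relIndex_eq_one.1 h3
  exact (mem_stabilizer_conjIrr_iff R x θ).1 (hUS hx)

/-- If a normal subgroup `U ≥ R` with `U/R` a nontrivial `p`-group fixes every irreducible
character of the normal `p'`-subgroup `R`, then `G` has a nontrivial normal `p`-subgroup. -/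
theorem exists_normal_pgroup_of_fix (R U : Subgroup G) [R.Normal] [U.Normal] (hRU : R ≤ U)
    (hpR : ¬ p ∣ Nat.card R) (a : ℕ) (ha : R.relIndex U = p ^ (a + 1))
    (hfix : ∀ x ∈ U, ∀ θ : IrrCharacter R, conjFun R x (θ : R → ℂ) = θ) :
    ∃ K : Subgroup G, K.Normal ∧ IsPGroup p K ∧ K ≠ ⊥ := by
  classical
  have hp : p.Prime := Fact.out
  set C : Subgroup G := U ⊓ Subgroup.centralizer (R : Set G) with hC
  haveI hCn : C.Normal := inferInstance
  -- p-elements of `U` lie in `C`
  have hpel : ∀ x ∈ U, orderOf x = p → x ∈ C := by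
    intro x hx hox
    refine Subgroup.mem_inf.2 ⟨hx, ?_⟩
    have hzp : IsPGroup p (Subgroup.zpowers x) := by
      apply IsPGroup.of_card (n := 1)
      rw [Nat.card_zpowers, hox, pow_one]
    have hzU : Subgroup.zpowers x ≤ U := (Subgroup.zpowers_le).2 hx
    have hcent := le_centralizer_of_fix_irr R hpR (Subgroup.zpowers x) hzp
      (fun y hy θ => hfix y (hzU hy) θ)
    rw [Subgroup.mem_centralizer_iff]
    intro r hr
    have h1 := hcent hr
    rw [Subgroup.mem_centralizer_iff] at h1
    exact (h1 x (Subgroup.mem_zpowers x)).symm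
  -- `p` divides `|C|`
  have hpU : p ∣ Nat.card U := by
    have h1 : R.relIndex U ∣ Nat.card U := Subgroup.relIndex_dvd_card R U
    rw [ha] at h1
    exact dvd_trans (dvd_pow_self p (Nat.succ_ne_zero a)) h1
  obtain ⟨x, hx⟩ := exists_prime_orderOf_dvd_card' p hpU
  have hxC : (x : G) ∈ C := hpel x x.2 (by rw [Subgroup.orderOf_coe]; exact hx)
  have hpC : p ∣ Nat.card C := by
    have h1 : orderOf (x : G) ∣ Nat.card C := Subgroup.orderOf_dvd_natCard C hxC
    rw [Subgroup.orderOf_coe, hx] at h1
    exact h1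
  -- `C` is nilpotent
  set Ub : Subgroup (G ⧸ R) := U.map (QuotientGroup.mk' R) with hUb
  have hUbp : IsPGroup p Ub := by
    apply IsPGroup.of_card (n := a + 1)
    rw [hUb, Cfsg.H5.card_map_mk', ha]
  haveI hUbnil : Group.IsNilpotent Ub := hUbp.isNilpotent
  let f : C →* Ub := ((QuotientGroup.mk' R).comp C.subtype).codRestrict Ub
    (fun c => Subgroup.mem_map_of_mem _ (Subgroup.mem_inf.1 c.2).1)
  have hker : f.ker ≤ Subgroup.center C := by
    intro c hc
    rw [MonoidHom.mem_ker] at hc
    have h1 : (QuotientGroup.mk' R) (c : G) = 1 := congrArg Subtype.val hc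
    have hcR : (c : G) ∈ R := (QuotientGroup.eq_one_iff _).1 h1
    rw [Subgroup.mem_center_iff]
    intro d
    apply Subtype.ext
    have hd := (Subgroup.mem_inf.1 d.2).2
    rw [Subgroup.mem_centralizer_iff] at hd
    have := hd (c : G) hcR
    rw [Subgroup.coe_mul, Subgroup.coe_mul]
    exact this.symm
  haveI hnil : Group.IsNilpotent C := Subgroup.isNilpotent_of_ker_le_center f hker
  obtain ⟨S⟩ : Nonempty (Sylow p C) := inferInstance
  haveI hSn : (S : Subgroup C).Normal := inferInstance
  haveI hSc : (S : Subgroup C).Characteristic := Sylow.characteristic_of_normal S hSn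
  refine ⟨(S : Subgroup C).map C.subtype, inferInstance, S.isPGroup'.map _, ?_⟩
  intro hbot
  apply S.ne_bot_of_dvd_card hpC
  exact (Subgroup.map_eq_bot_iff_of_injective _ C.subtype_injective).1 hbot

end KeyB

end Cfsg.Agent.Lib.Helper25.SylDer
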