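import Mathlib
import Cfsg.Agent.Lib.Helper25.SylDLa
import Cfsg.Agent.Lib.Helper25.SylDLc
import Cfsg.Agent.H5.Cores

/-!
In a `p`-solvable group the derived length of a Sylow `p`-subgroup is at most one more than
the number of irreducible characters of degree divisible by `p`.
-/

set_option autoImplicit false
set_option linter.style.haveILetI false
set_option linter.unusedSectionVars false

namespace Cfsg.Agent.Lib.Helper25.SylDer

open Cfsg Cfsg.Agent.Lib.Helper2 Cfsg.Agent.Lib.Helper25
open scoped ComplexConjugate

universe u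

/-- No nontrivial normal `p`-subgroup. -/
def NoNormalP (p : ℕ) (G : Type u) [Group G] : Prop :=
  ∀ K : Subgroup G, K.Normal → IsPGroup p K → K = ⊥

section Aux

variable {G : Type u} [Group G] [Finite G] {p : ℕ} [Fact p.Prime]

theorem card_quotient_lt (L : Subgroup G) [L.Normal] (hL : L ≠ ⊥) :
    Nat.card (G ⧸ L) < Nat.card G := by
  rw [Subgroup.card_eq_card_quotient_mul_card_subgroup L]
  have h1 : 1 < Nat.card L := (Subgroup.one_lt_card_iff_ne_bot L).2 hL
  have hpos : 0 < Nat.card (G ⧸ L) := Nat.card_pos
  nlinarith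

theorem noNormalP_quotient_pCore : NoNormalP p (G ⧸ Cfsg.pCore p G) := by
  haveI : (Cfsg.pCore p G).Normal := Cfsg.H5.pCore_normal p G
  intro Kb hKbn hKbp
  set K : Subgroup G := Kb.comap (QuotientGroup.mk' (Cfsg.pCore p G)) with hK
  have hKn : K.Normal := hKbn.comap _
  have hKp : IsPGroup p K := by
    apply hKbp.comap_of_ker_isPGroup
    rw [QuotientGroup.ker_mk']
    exact Cfsg.H5.pCore_isPGroup p G
  have hle : K ≤ Cfsg.pCore p G := Cfsg.H5.le_pCore hKn hKp
  have h1 : K.map (QuotientGroup.mk' (Cfsg.pCore p G)) = Kb :=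
    Subgroup.map_comap_eq_self_of_surjective (QuotientGroup.mk'_surjective _) Kb
  rw [eq_bot_iff, ← h1]
  rintro _ ⟨x, hx, rfl⟩
  rw [Subgroup.mem_bot]
  exact (QuotientGroup.eq_one_iff x).2 (hle hx)

end Aux

theorem main (p : ℕ) [Fact p.Prime] : ∀ (n : ℕ) (G : Type u) [Group G] [Finite G],
    Nat.card G = n → IsPSolvable p G →
      SylDL p G (nP p G + 1) ∧ (NoNormalP p G → SylDL p G (nP p G)) := by
  intro n
  induction n using Nat.strong_induction_on with
  | _ n ih =>
  intro G _ _ hcard hsolv
  have hp : p.Prime := Fact.out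
  have hB : NoNormalP p G → SylDL p G (nP p G) := by
    intro hno
    rcases subsingleton_or_nontrivial G with hs | hnt
    · exact sylDL_of_subsingleton _
    · obtain ⟨L, -, hLn, hL1, hL⟩ :=
        Cfsg.H5.exists_normal_p_or_pPrime_le hsolv ⊤ inferInstance top_ne_bot
      rcases hL with hLp | hLc
      · exact absurd (hno L hLn hLp) hL1
      · haveI := hLn
        have hlt : Nat.card (G ⧸ L) < n := by
          rw [← hcard]
          exact card_quotient_lt L hL1
        obtain ⟨hA', hB'⟩ := ih _ hlt (G ⧸ L) rfl (Cfsg.H5.isPSolvable_quotient L hsolv)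
        have hpL : ¬ p ∣ Nat.card L := (Nat.Prime.coprime_iff_not_dvd hp).1 hLc.symm
        by_cases hq : NoNormalP p (G ⧸ L)
        · exact (SylDL.lift_coprime L hLc (hB' hq)).mono (nP_quotient_le p L)
        · unfold NoNormalP at hq
          push Not at hq
          obtain ⟨Kb, hKbn, hKbp, hKb1⟩ := hq
          set U : Subgroup G := Kb.comap (QuotientGroup.mk' L) with hU
          haveI hUn : U.Normal := hKbn.comap _
          have hLU : L ≤ U := by
            intro x hx
            rw [hU, Subgroup.mem_comap]
            have h1 : (QuotientGroup.mk' L) x = 1 := (QuotientGroup.eq_one_iff x).2 hx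
            rw [h1]
            exact one_mem _
          obtain ⟨k, hk⟩ := (IsPGroup.iff_card).1 hKbp
          have hrel : L.relIndex U = p ^ k := by
            have h1 := Cfsg.H5.card_map_mk' L U
            have h2 : U.map (QuotientGroup.mk' L) = Kb :=
              Subgroup.map_comap_eq_self_of_surjective (QuotientGroup.mk'_surjective L) Kb
            rw [h2] at h1
            rw [← h1, hk]
          by_cases hex : ∃ χ : IrrCharacter G, p ∣ charDegree (χ : G → ℂ) ∧
              ∃ r ∈ L, (χ : G → ℂ) r ≠ (χ : G → ℂ) 1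
          · obtain ⟨χ, hpχ, r, hr, hχr⟩ := hex
            have h1 := nP_quotient_lt p L χ hpχ r hr hχr
            exact (SylDL.lift_coprime L hLc hA').mono h1
          · exfalso
            push Not at hex
            have hfix := fix_of_kernels L U hLU k hrel hex
            rcases k with _ | k
            · apply hKb1
              apply Subgroup.eq_bot_of_card_eq
              rw [hk, pow_zero]
            · obtain ⟨K, hKn, hKp, hK1⟩ := exists_normal_pgroup_of_fix L U hLU hpL k hrel hfix
              exact hK1 (hno K hKn hKp)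
  refine ⟨?_, hB⟩
  set Q : Subgroup G := Cfsg.pCore p G with hQdef
  haveI hQn : Q.Normal := Cfsg.H5.pCore_normal p G
  have hQp : IsPGroup p Q := Cfsg.H5.pCore_isPGroup p G
  by_cases hQ : Q = ⊥
  · have hno : NoNormalP p G := by
      intro K hKn hKp
      have h1 : K ≤ Q := Cfsg.H5.le_pCore hKn hKp
      rw [hQ] at h1
      exact eq_bot_iff.2 h1
    exact (hB hno).mono (Nat.le_succ _)
  · by_cases hab : ∀ a ∈ Q, ∀ b ∈ Q, a * b = b * a
    · have hlt : Nat.card (G ⧸ Q) < n := by
        rw [← hcard]
        exact card_quotient_lt Q hQ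
      obtain ⟨-, hB'⟩ := ih _ hlt (G ⧸ Q) rfl (Cfsg.H5.isPSolvable_quotient Q hsolv)
      have h1 := SylDL.lift_comm Q hab (hB' noNormalP_quotient_pCore)
      exact h1.mono (Nat.succ_le_succ (nP_quotient_le p Q))
    · set Qd : Subgroup G := ⁅Q, Q⁆ with hQd
      haveI hQdn : Qd.Normal := inferInstance
      set N : Subgroup G := Qd ⊓ Subgroup.centralizer (Qd : Set G) with hN
      haveI hNn : N.Normal := inferInstance
      have hNab : ∀ a ∈ N, ∀ b ∈ N, a * b = b * a := by
        intro a ha b hb
        have h1 := (Subgroup.mem_inf.1 ha).2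
        rw [Subgroup.mem_centralizer_iff] at h1
        exact (h1 b (Subgroup.mem_inf.1 hb).1).symm
      have hQd1 : Qd ≠ ⊥ := by
        intro h
        apply hab
        rw [hQd, Subgroup.commutator_eq_bot_iff_le_centralizer] at h
        intro a ha b hb
        have h1 := h ha
        rw [Subgroup.mem_centralizer_iff] at h1
        exact (h1 b hb).symm
      have hQdQ : Qd ≤ Q := Subgroup.commutator_le_right Q Q
      have hQdp : IsPGroup p Qd := hQp.to_le hQdQ
      haveI : Nontrivial Qd := (Subgroup.nontrivial_iff_ne_bot Qd).2 hQd1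
      haveI := hQdp.center_nontrivial
      obtain ⟨z, hz⟩ := exists_ne (1 : Subgroup.center Qd)
      set n0 : G := ((z : Qd) : G) with hn0
      have hn0Qd : n0 ∈ Qd := (z : Qd).2
      have hn0N : n0 ∈ N := by
        refine Subgroup.mem_inf.2 ⟨hn0Qd, ?_⟩
        rw [Subgroup.mem_centralizer_iff]
        intro h hh
        have h1 := Subgroup.mem_center_iff.1 z.2 ⟨h, hh⟩
        exact congrArg Subtype.val h1
      have hn01 : n0 ≠ 1 := by
        intro h
        apply hz
        apply Subtype.ext
        apply Subtype.ext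
        exact h
      obtain ⟨χ, hχ⟩ : ∃ χ : IrrCharacter G, (χ : G → ℂ) n0 ≠ (χ : G → ℂ) 1 := by
        by_contra hcon
        push Not at hcon
        haveI : Fintype G := Fintype.ofFinite G
        have h1 := (isConj_iff_forall_irrCharacter n0 1).2 hcon
        exact hn01 (isConj_one_left.1 h1)
      have hpχ := dvd_degree_of_apply_ne Q hQp χ n0 hn0Qd hχ
      have h1 := nP_quotient_lt p N χ hpχ n0 hn0N hχ
      have hN1 : N ≠ ⊥ := by
        intro h
        rw [h, Subgroup.mem_bot] at hn0N
        exact hn01 hn0N
      have hlt : Nat.card (G ⧸ N) < n := by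
        rw [← hcard]
        exact card_quotient_lt N hN1
      obtain ⟨hA', -⟩ := ih _ hlt (G ⧸ N) rfl (Cfsg.H5.isPSolvable_quotient N hsolv)
      have h2 := SylDL.lift_comm N hNab hA'
      exact h2.mono (by omega)

end Cfsg.Agent.Lib.Helper25.SylDer
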