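import Mathlib
import Cfsg.Prelude
import Cfsg.Agent.Lib.Helper25.TTFischerA
import Cfsg.Agent.Lib.Helper25.TTFischerB

/-!
# Fischer's 3-transposition groups whose solvable normal subgroups are central

Standing hypotheses (`FW`): `G` finite, not solvable, every solvable normal subgroup central,
perfect derived group, `D` a generating conjugacy class of 3-transpositions.  We derive the
interface `FI`: maximality of `⟨C_D(d)⟩` among `D`-subgroups, incomparability of commuting sets,
no member of `D` is central.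
-/

set_option autoImplicit false

namespace Cfsg.Agent.Lib.Helper25.TTRank

open Cfsg Cfsg.Agent.Lib.Helper27.TT Cfsg.Agent.Lib.Helper25.TTFischer

/-- Standing hypotheses (weak form: solvable normal subgroups are central). -/
structure FW {G : Type*} [Group G] (D : Set G) : Prop where
  hcen : ∀ N : Subgroup G, N.Normal → Group.IsSolvable ↥N → N ≤ Subgroup.center G
  hperf : ⁅commutator G, commutator G⁆ = commutator G
  hD : Cfsg.IsThreeTranspositionClass D
  hns : ¬ Group.IsSolvable G

/-- The interface used by the orbit arguments. -/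
structure FI {G : Type*} [Group G] (D : Set G) : Prop where
  hD : Cfsg.IsThreeTranspositionClass D
  hmax : ∀ d ∈ D, ∀ S : Set G, S ⊆ D → (∀ y ∈ D, Commute d y → y ∈ S) →
    ∀ e ∈ S, ¬ Commute d e → Subgroup.closure S = ⊤
  hperp : ∀ a ∈ D, ∀ b ∈ D, (∀ y ∈ D, Commute a y → Commute b y) → a = b
  hncen : ∀ d ∈ D, d ∉ Subgroup.center G
  hcomm : ∃ a ∈ D, ∃ b ∈ D, a ≠ b ∧ Commute a b

namespace FW

variable {G : Type*} [Group G] [Finite G] {D : Set G}

theorem pCore_le_center (h : FW D) (p : ℕ) [Fact p.Prime] :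
    Cfsg.pCore p G ≤ Subgroup.center G :=
  h.hcen _ Cfsg.Agent.Lib.Helper16.pCore_normal
    (isSolvable_of_isPGroup Cfsg.Agent.Lib.Helper16.pCore_isPGroup)

theorem nonempty (h : FW D) : ∃ d, d ∈ D := by
  obtain ⟨d, hd, -⟩ := h.hD.2.1
  exact ⟨d, hd⟩

theorem conj_mem (h : FW D) (g : G) {x : G} (hx : x ∈ D) : g * x * g⁻¹ ∈ D :=
  conj_mem_of_class h.hD g hx

theorem isGroup (h : FW D) : Cfsg.IsThreeTranspositionGroup D :=
  ⟨h.hD.1, fun g _ hd => h.conj_mem g hd, h.hD.2.2⟩

theorem exists_two (h : FW D) : ∃ a ∈ D, ∃ b ∈ D, a ≠ b := by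
  by_contra hcon
  push Not at hcon
  obtain ⟨d, hd⟩ := h.nonempty
  apply h.hns
  have hDd : D ⊆ {d} := fun a ha => hcon a ha d hd
  have htop : Subgroup.zpowers d = ⊤ := by
    rw [eq_top_iff, ← h.hD.2.2, Subgroup.closure_le]
    intro a ha
    rw [hDd ha]
    exact Subgroup.mem_zpowers d
  have hcomm : ∀ a b : G, a * b = b * a := by
    intro a b
    have ha : a ∈ Subgroup.zpowers d := htop ▸ Subgroup.mem_top a
    have hb : b ∈ Subgroup.zpowers d := htop ▸ Subgroup.mem_top b
    obtain ⟨m, rfl⟩ := Subgroup.mem_zpowers_iff.mp ha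
    obtain ⟨n, rfl⟩ := Subgroup.mem_zpowers_iff.mp hb
    rw [← zpow_add, ← zpow_add, add_comm]
  exact Group.isSolvable_of_comm hcomm

/-- No member of `D` is central. -/
theorem not_mem_center (h : FW D) {d : G} (hd : d ∈ D) : d ∉ Subgroup.center G := by
  intro hc
  obtain ⟨a, ha, b, hb, hab⟩ := h.exists_two
  have key : ∀ e ∈ D, e = d := by
    intro e he
    obtain ⟨g, hg⟩ := class_trans h.hD d hd e he
    rw [← hg, (Subgroup.mem_center_iff.mp hc g), mul_inv_cancel_right]
  exact hab ((key a ha).trans (key b hb).symm)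

/-- Some two different members of `D` commute. -/
theorem exists_commute (h : FW D) : ∃ a ∈ D, ∃ b ∈ D, a ≠ b ∧ Commute a b := by
  by_contra hcon
  push Not at hcon
  obtain ⟨d, hd⟩ := h.nonempty
  apply h.hns
  have hw : Cfsg.commutingWidth D = 1 := by
    rw [Cfsg.Agent.Lib.Helper27.W1.width_eq_one_iff hd]
    intro a ha b hb hab
    by_contra hne
    exact hcon a ha b hb hne hab
  have htop := (Cfsg.Agent.S5346.result h.isGroup hd).mp hw
  haveI : Fact (Nat.Prime 3) := ⟨Nat.prime_three⟩
  haveI : (Cfsg.pCore 3 G).Normal := Cfsg.Agent.Lib.Helper16.pCore_normal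
  exact FHyp.isSolvable_of_zpowers_sup d (Cfsg.pCore 3 G)
    (isSolvable_of_isPGroup Cfsg.Agent.Lib.Helper16.pCore_isPGroup) htop

/-- The perfect derived group lies in every normal subgroup with solvable quotient. -/
theorem commutator_le_of_solvable_quotient (h : FW D) (L : Subgroup G) [L.Normal]
    (hq : Group.IsSolvable (G ⧸ L)) : commutator G ≤ L := by
  have hle : ∀ n : ℕ, commutator G ≤ derivedSeries G n := by
    intro n
    induction n with
    | zero => exact le_top
    | succ n ih =>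
      rw [derivedSeries_succ]
      calc commutator G = ⁅commutator G, commutator G⁆ := h.hperf.symm
        _ ≤ ⁅derivedSeries G n, derivedSeries G n⁆ := Subgroup.commutator_mono ih ih
  obtain ⟨n, hn⟩ := hq.solvable
  have h1 := map_derivedSeries_eq (QuotientGroup.mk'_surjective L) n
  rw [hn] at h1
  intro x hx
  have h2 : (QuotientGroup.mk' L) x ∈ Subgroup.map (QuotientGroup.mk' L) (derivedSeries G n) :=
    Subgroup.mem_map_of_mem _ (hle n hx)
  rw [h1, Subgroup.mem_bot] at h2
  exact (QuotientGroup.eq_one_iff x).mp h2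

/-- The quasisimple normal subgroup `L` of S5352 has index at most two. -/
theorem exists_ctx (h : FW D) : ∃ L : Subgroup G, Ctx D L ∧ L.index ≤ 2 := by
  have hD2 := h.exists_two
  haveI : Fact (Nat.Prime 2) := ⟨Nat.prime_two⟩
  haveI : Fact (Nat.Prime 3) := ⟨Nat.prime_three⟩
  have h2 : Cfsg.pCore 2 G ≤ Subgroup.center G := h.pCore_le_center 2
  have h3 : Cfsg.pCore 3 G ≤ Subgroup.center G := h.pCore_le_center 3
  obtain ⟨L, hLn, hL, hF, hL2⟩ := Cfsg.Agent.S5352.result h.hD hD2 h2 h3
  have c : Ctx D L := ⟨h.hD, hD2, h2, h3, hLn, hL, hF⟩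
  refine ⟨L, c, ?_⟩
  haveI := hLn
  obtain ⟨d, hd⟩ := h.nonempty
  have key : commutator G ≤ L → L.index ≤ 2 := by
    intro hle
    apply c.index_le_two_of_sup_eq_top hd
    rw [eq_top_iff, ← h.hD.2.2, Subgroup.closure_le]
    intro e he
    obtain ⟨g, hg⟩ := class_trans h.hD d hd e he
    have h1 : g * d * g⁻¹ * d⁻¹ ∈ L := by
      apply hle
      rw [commutator_def]
      exact Subgroup.commutator_mem_commutator (Subgroup.mem_top g) (Subgroup.mem_top d)
    have e1 : e = (g * d * g⁻¹ * d⁻¹) * d := by rw [← hg]; group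
    rw [SetLike.mem_coe, e1]
    exact Subgroup.mul_mem _ (Subgroup.mem_sup_left h1)
      (Subgroup.mem_sup_right (Subgroup.mem_zpowers d))
  rcases hL2 with htop | hw
  · rw [htop, Subgroup.index_top]; norm_num
  by_cases hDL : ∃ d' ∈ D, d' ∈ L
  · obtain ⟨d', hd', hd'L⟩ := hDL
    have : L = ⊤ := by
      rw [eq_top_iff, ← h.hD.2.2, Subgroup.closure_le]
      intro e he
      obtain ⟨g, hg⟩ := class_trans h.hD d' hd' e he
      rw [SetLike.mem_coe, ← hg]
      exact hLn.conj_mem _ hd'L g
    rw [this, Subgroup.index_top]; norm_num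
  push Not at hDL
  apply key
  apply h.commutator_le_of_solvable_quotient L
  have hDbar : Cfsg.IsThreeTranspositionGroup ((QuotientGroup.mk' L) '' D) := by
    refine ⟨⟨?_, ?_⟩, ?_, ?_⟩
    · rintro _ ⟨x, hx, rfl⟩
      apply orderOf_eq_prime
      · rw [← map_pow, pow_two, mul_self_of_mem h.hD.1 hx, map_one]
      · intro h1
        exact hDL x hx ((QuotientGroup.eq_one_iff x).mp h1)
    · rintro _ ⟨x, hx, rfl⟩ _ ⟨y, hy, rfl⟩
      rcases h.hD.1.2 x hx y hy with h1 | h1
      · left; rw [← map_mul, ← map_pow, h1, map_one]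
      · right; rw [← map_mul, ← map_pow, h1, map_one]
    · rintro g _ ⟨x, hx, rfl⟩
      obtain ⟨g0, rfl⟩ := QuotientGroup.mk'_surjective L g
      exact ⟨g0 * x * g0⁻¹, h.conj_mem g0 hx, by rw [map_mul, map_mul, map_inv]⟩
    · rw [← MonoidHom.map_closure, h.hD.2.2]
      exact Subgroup.map_top_of_surjective _ (QuotientGroup.mk'_surjective L)
  have hdbar : (QuotientGroup.mk' L) d ∈ (QuotientGroup.mk' L) '' D := ⟨d, hd, rfl⟩
  have hw1 : Cfsg.commutingWidth ((QuotientGroup.mk' L) '' D) = 1 := by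
    rw [Cfsg.Agent.Lib.Helper27.W1.width_eq_one_iff hdbar]
    rintro _ ⟨x, hx, rfl⟩ _ ⟨y, hy, rfl⟩ hxy
    have h1 : x * y * x⁻¹ * y⁻¹ ∈ L := by
      rw [← QuotientGroup.eq_one_iff]
      show (QuotientGroup.mk' L) (x * y * x⁻¹ * y⁻¹) = 1
      rw [map_mul, map_mul, map_mul, map_inv, map_inv, hxy.eq]; group
    have h2 := hw x hx y hy h1
    exact QuotientGroup.eq.mpr h2
  have htop := (Cfsg.Agent.S5346.result hDbar hdbar).mp hw1
  haveI : (Cfsg.pCore 3 (G ⧸ L)).Normal := Cfsg.Agent.Lib.Helper16.pCore_normal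
  exact FHyp.isSolvable_of_zpowers_sup ((QuotientGroup.mk' L) d) (Cfsg.pCore 3 (G ⧸ L))
    (isSolvable_of_isPGroup Cfsg.Agent.Lib.Helper16.pCore_isPGroup) htop

/-- `G` acts primitively on `D`. -/
theorem primitive (h : FW D) : Cfsg.IsPrimitiveUnderConj D := by
  obtain ⟨L, c, hidx⟩ := h.exists_ctx
  exact c.primitive_of_index_le_two hidx

/-- `⟨C_D(d)⟩` is a maximal `D`-subgroup. -/
theorem closure_eq_top (h : FW D) {d : G} (hd : d ∈ D) {S : Set G} (hSD : S ⊆ D)
    (hS : ∀ y ∈ D, Commute d y → y ∈ S) {e : G} (heS : e ∈ S) (hde : ¬ Commute d e) :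
    Subgroup.closure S = ⊤ := by
  have hmax := (Cfsg.Agent.S5354.result h.isGroup h.primitive h.exists_commute).2.2 d hd
  have hDS : Cfsg.IsDSubgroup D (Subgroup.closure S) := by
    unfold Cfsg.IsDSubgroup
    apply le_antisymm
    · rw [Subgroup.closure_le]
      intro x hx
      exact hx.2
    · apply Subgroup.closure_mono
      intro x hx
      exact ⟨hSD hx, Subgroup.subset_closure hx⟩
  have hle : Subgroup.closure {y : G | y ∈ D ∧ Commute d y} ≤ Subgroup.closure S := by
    apply Subgroup.closure_mono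
    intro y hy
    exact hS y hy.1 hy.2
  rcases hmax.2 _ hDS hle with h1 | h1
  · exfalso
    apply hde
    have hcen : Subgroup.closure {y : G | y ∈ D ∧ Commute d y} ≤
        Subgroup.centralizer ({d} : Set G) := by
      rw [Subgroup.closure_le]
      intro y hy
      rw [SetLike.mem_coe, Subgroup.mem_centralizer_iff]
      intro x hx
      rw [Set.mem_singleton_iff] at hx
      rw [hx]
      exact hy.2.eq
    have he : e ∈ Subgroup.centralizer ({d} : Set G) := by
      apply hcen
      rw [← h1]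
      exact Subgroup.subset_closure heS
    rw [Subgroup.mem_centralizer_iff] at he
    exact he d rfl
  · exact h1

/-- Different members of `D` have incomparable commuting sets. -/
theorem eq_of_perp_subset (h : FW D) {a b : G} (ha : a ∈ D) (hb : b ∈ D)
    (hsub : ∀ y ∈ D, Commute a y → Commute b y) : a = b := by
  haveI : Fact (Nat.Prime 2) := ⟨Nat.prime_two⟩
  obtain ⟨g, hg⟩ := class_trans h.hD a ha b hb
  have hfin : ∀ S : Set G, S.Finite := fun S => Set.toFinite S
  have hcj : {y : G | y ∈ D ∧ Commute b y} = cjs g {y : G | y ∈ D ∧ Commute a y} := by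
    ext y
    rw [mem_cjs]
    constructor
    · rintro ⟨hy, hby⟩
      refine ⟨?_, ?_⟩
      · have := h.conj_mem g⁻¹ hy
        rwa [inv_inv] at this
      · rw [← hg] at hby
        have := (commute_conj_inv_iff g (g * a * g⁻¹) y).mpr hby
        have e1 : g⁻¹ * (g * a * g⁻¹) * g = a := by group
        rwa [e1] at this
    · rintro ⟨hy, hay⟩
      refine ⟨?_, ?_⟩
      · have := h.conj_mem g hy
        have e1 : g * (g⁻¹ * y * g) * g⁻¹ = y := by group
        rwa [e1] at this
      · rw [← hg]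
        apply (commute_conj_inv_iff g (g * a * g⁻¹) y).mp
        have e1 : g⁻¹ * (g * a * g⁻¹) * g = a := by group
        rwa [e1]
  have hss : {y : G | y ∈ D ∧ Commute a y} ⊆ {y : G | y ∈ D ∧ Commute b y} :=
    fun y hy => ⟨hy.1, hsub y hy.1 hy.2⟩
  have hcard : {y : G | y ∈ D ∧ Commute b y}.ncard ≤ {y : G | y ∈ D ∧ Commute a y}.ncard := by
    rw [hcj, ncard_cjs]
  have heq := Set.eq_of_subset_of_ncard_le hss hcard (hfin _)
  have hS := (Cfsg.Agent.S5349.result h.hD h.exists_two ha).2
  have hbm : b ∈ {v : G | v ∈ D ∧ ∀ e ∈ D, Commute v e ↔ Commute a e} := by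
    refine ⟨hb, fun e he => ?_⟩
    constructor
    · intro hbe
      have : e ∈ {y : G | y ∈ D ∧ Commute a y} := by rw [heq]; exact ⟨he, hbe⟩
      exact this.2
    · intro hae
      exact hsub e he hae
  rw [hS] at hbm
  obtain ⟨k, hk, hbk⟩ := hbm
  have hkc := h.pCore_le_center 2 hk
  rw [hbk, ← Subgroup.mem_center_iff.mp hkc a, mul_inv_cancel_right]

/-- The interface holds. -/
theorem toFI (h : FW D) : FI D where
  hD := h.hD
  hmax := fun _ hd _ hSD hS _ heS hde => h.closure_eq_top hd hSD hS heS hde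
  hperp := fun _ ha _ hb hsub => h.eq_of_perp_subset ha hb hsub
  hncen := fun _ hd => h.not_mem_center hd
  hcomm := h.exists_commute

end FW

end Cfsg.Agent.Lib.Helper25.TTRank
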