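import Mathlib
import Cfsg.Prelude
import Cfsg.Agent.Lib.Helper25.TTRankA

/-!
# Fischer's 3-transposition groups: `⟨D_a⟩` is transitive on `D_a` (interface version)

The argument of `TTFischerB`, redone over the interface `FI` (which allows a non-trivial centre).
-/

set_option autoImplicit false

namespace Cfsg.Agent.Lib.Helper25.TTRank

open Cfsg Cfsg.Agent.Lib.Helper27.TT Cfsg.Agent.Lib.Helper25.TTFischer

variable {G : Type*} [Group G] {D : Set G}

namespace FI

theorem conj_mem (h : FI D) (g : G) {x : G} (hx : x ∈ D) : g * x * g⁻¹ ∈ D :=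
  conj_mem_of_class h.hD g hx

end FI

section

variable [Finite G]

theorem conj_mem_Dset (h : FI D) {a y g : G} (hg : g ∈ X D a) (hy : y ∈ Dset D a) :
    g * y * g⁻¹ ∈ Dset D a := by
  have hga := commute_of_mem_X hg
  refine ⟨h.conj_mem g hy.1, ?_, ?_⟩
  · intro h1
    apply hy.2.1
    have : g * y * g⁻¹ = g * a * g⁻¹ := by
      rw [h1, hga.eq, mul_inv_cancel_right]
    exact (conj_inj g) this
  · have h2 : Commute (g * a * g⁻¹) (g * y * g⁻¹) := (Commute.conj_iff g).mpr hy.2.2
    rwa [hga.eq, mul_inv_cancel_right] at h2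

theorem orb_subset (h : FI D) {a y : G} (hy : y ∈ Dset D a) : Orb D a y ⊆ Dset D a := by
  rintro _ ⟨g, hg, rfl⟩
  exact conj_mem_Dset h hg hy

/-- Non-commuting members of `D_a` are conjugate under `X_a`. -/
theorem mem_orb_of_not_commute (h : FI D) {a y z : G} (hy : y ∈ Dset D a) (hz : z ∈ Dset D a)
    (hyz : ¬ Commute y z) : z ∈ Orb D a y := by
  refine ⟨y * z, Subgroup.mul_mem _ (mem_X_of_mem hy) (mem_X_of_mem hz), ?_⟩
  have hD3 := h.hD.1
  have hb := braid hD3 hy.1 hz.1 hyz
  have iy := inv_of_mem hD3 hy.1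
  have iz := inv_of_mem hD3 hz.1
  have yy := mul_self_of_mem hD3 hy.1
  rw [mul_inv_rev, iy, iz]
  calc y * z * y * (z * y) = y * (z * y * z) * y := by simp only [mul_assoc]
    _ = y * (y * z * y) * y := by rw [hb]
    _ = (y * y) * z * (y * y) := by simp only [mul_assoc]
    _ = z := by rw [yy, one_mul, mul_one]

/-- A set of involutions generating `G` which preserves a set `Δ` under conjugation: all of `G`
preserves `Δ`. -/
theorem conj_invariant_of_closure_eq_top {S Δ : Set G} (hS : Subgroup.closure S = ⊤)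
    (hinv2 : ∀ s ∈ S, s * s = 1) (hΔ : ∀ s ∈ S, ∀ u ∈ Δ, s * u * s⁻¹ ∈ Δ) :
    ∀ g : G, ∀ u ∈ Δ, g * u * g⁻¹ ∈ Δ := by
  have key : ∀ g ∈ Subgroup.closure S, ∀ u : G, g * u * g⁻¹ ∈ Δ ↔ u ∈ Δ := by
    intro g hg
    induction hg using Subgroup.closure_induction with
    | mem s hs =>
      intro u
      have hsi : s⁻¹ = s := inv_eq_of_mul_eq_one_left (hinv2 s hs)
      constructor
      · intro h1
        have := hΔ s hs _ h1
        rw [hsi] at this
        have e1 : s * (s * u * s) * s = (s * s) * u * (s * s) := by simp only [mul_assoc]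
        rw [e1, hinv2 s hs, one_mul, mul_one] at this
        exact this
      · exact hΔ s hs u
    | one => intro u; rw [one_mul, inv_one, mul_one]
    | mul x y _ _ hx hy =>
      intro u
      have e1 : x * y * u * (x * y)⁻¹ = x * (y * u * y⁻¹) * x⁻¹ := by group
      rw [e1, hx, hy]
    | inv x _ hx =>
      intro u
      rw [← hx (x⁻¹ * u * x⁻¹⁻¹)]
      have e1 : x * (x⁻¹ * u * x⁻¹⁻¹) * x⁻¹ = u := by group
      rw [e1]
  intro g u hu
  exact (key g (hS ▸ Subgroup.mem_top g) u).mpr hu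

/-- Key lemma: a member of `D` centralizing a non-empty `D_a`-invariant subset of `D_a` commutes
with `a`. -/
theorem commute_of_centralizes (h : FI D) {a : G} (ha : a ∈ D) {P : Set G}
    (hP : P ⊆ Dset D a) (hne : P.Nonempty)
    (hinv : ∀ z ∈ Dset D a, ∀ p ∈ P, z * p * z⁻¹ ∈ P) {e : G} (he : e ∈ D)
    (hcen : ∀ p ∈ P, Commute e p) : Commute a e := by
  by_contra hae
  have hD3 := h.hD.1
  -- `S = C_D(a) ∪ {e}` generates `G`
  have htop : Subgroup.closure ({y : G | y ∈ D ∧ Commute a y} ∪ {e}) = ⊤ := by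
    apply h.hmax a ha _ _ _ e
    · exact Or.inr rfl
    · exact hae
    · rintro y (hy | hy)
      · exact hy.1
      · rw [Set.mem_singleton_iff] at hy; rw [hy]; exact he
    · intro y hy hay
      exact Or.inl ⟨hy, hay⟩
  -- every member of `S` normalizes `N = ⟨P⟩`
  have hSn : ∀ s ∈ ({y : G | y ∈ D ∧ Commute a y} ∪ {e} : Set G),
      ∀ n ∈ Subgroup.closure P, s * n * s⁻¹ ∈ Subgroup.closure P := by
    intro s hs
    apply conj_closure_mem
    intro p hp
    rcases hs with hs | hs
    · by_cases hsa : s = a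
      · rw [hsa, (hP hp).2.2.eq, mul_inv_cancel_right]
        exact Subgroup.subset_closure hp
      · exact Subgroup.subset_closure (hinv s ⟨hs.1, hsa, hs.2⟩ p hp)
    · rw [Set.mem_singleton_iff] at hs
      rw [hs, (hcen p hp).eq, mul_inv_cancel_right]
      exact Subgroup.subset_closure hp
  have hSD : ∀ s ∈ ({y : G | y ∈ D ∧ Commute a y} ∪ {e} : Set G), s ∈ D := by
    rintro s (hs | hs)
    · exact hs.1
    · rw [Set.mem_singleton_iff] at hs; rw [hs]; exact he
  have hN : ∀ g : G, ∀ n ∈ ((Subgroup.closure P : Subgroup G) : Set G),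
      g * n * g⁻¹ ∈ ((Subgroup.closure P : Subgroup G) : Set G) :=
    conj_invariant_of_closure_eq_top htop (fun s hs => mul_self_of_mem hD3 (hSD s hs)) hSn
  -- `a` centralizes `N`
  have haN : ∀ n ∈ Subgroup.closure P, Commute a n := by
    have hle : Subgroup.closure P ≤ Subgroup.centralizer ({a} : Set G) := by
      rw [Subgroup.closure_le]
      intro p hp
      rw [SetLike.mem_coe, Subgroup.mem_centralizer_iff]
      intro x hx
      rw [Set.mem_singleton_iff] at hx
      rw [hx]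
      exact (hP hp).2.2.eq
    intro n hn
    have := hle hn
    rw [Subgroup.mem_centralizer_iff] at this
    exact this a rfl
  -- hence every member of `D` does, and `N` is central
  have hcenter : ∀ n ∈ Subgroup.closure P, n ∈ Subgroup.center G := by
    intro n hn
    have hle : (⊤ : Subgroup G) ≤ Subgroup.centralizer ({n} : Set G) := by
      rw [← h.hD.2.2, Subgroup.closure_le]
      intro d hd
      rw [SetLike.mem_coe, Subgroup.mem_centralizer_iff]
      intro x hx
      rw [Set.mem_singleton_iff] at hx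
      rw [hx]
      obtain ⟨g, hg⟩ := class_trans h.hD a ha d hd
      have h1 : g⁻¹ * n * g ∈ Subgroup.closure P := by
        have := hN g⁻¹ n hn
        rwa [inv_inv] at this
      have h2 : Commute (g * a * g⁻¹) (g * (g⁻¹ * n * g) * g⁻¹) :=
        (Commute.conj_iff g).mpr (haN _ h1)
      have e1 : g * (g⁻¹ * n * g) * g⁻¹ = n := by group
      rw [hg, e1] at h2
      exact h2.symm.eq
    rw [Subgroup.mem_center_iff]
    intro g
    have := hle (Subgroup.mem_top g)
    rw [Subgroup.mem_centralizer_iff] at this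
    exact (this n rfl).symm
  obtain ⟨p, hp⟩ := hne
  exact h.hncen p (hP hp).1 (hcenter p (Subgroup.subset_closure hp))

theorem conj_mem_Dset' (h : FI D) {a y : G} (k : G) (hy : y ∈ Dset D a) :
    k * y * k⁻¹ ∈ Dset D (k * a * k⁻¹) := by
  refine ⟨h.conj_mem k hy.1, ?_, (Commute.conj_iff k).mpr hy.2.2⟩
  intro h1
  exact hy.2.1 (conj_inj k h1)

theorem conj_mem_X (h : FI D) {a g : G} (k : G) (hg : g ∈ X D a) :
    k * g * k⁻¹ ∈ X D (k * a * k⁻¹) := by
  have hle : X D a ≤ (X D (k * a * k⁻¹)).comap (MulAut.conj k).toMonoidHom := by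
    unfold X
    rw [Subgroup.closure_le]
    intro y hy
    rw [SetLike.mem_coe, Subgroup.mem_comap]
    exact Subgroup.subset_closure (conj_mem_Dset' h k hy)
  exact hle hg

theorem trans_conj (h : FI D) {a : G} (k : G) (ht : Trans D a) : Trans D (k * a * k⁻¹) := by
  intro y hy z hz
  have e0 : k⁻¹ * (k * a * k⁻¹) * k⁻¹⁻¹ = a := by group
  have hy' : k⁻¹ * y * k⁻¹⁻¹ ∈ Dset D a := by
    have := conj_mem_Dset' h k⁻¹ hy
    rwa [e0] at this
  have hz' : k⁻¹ * z * k⁻¹⁻¹ ∈ Dset D a := by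
    have := conj_mem_Dset' h k⁻¹ hz
    rwa [e0] at this
  obtain ⟨g, hg, hgy⟩ := ht _ hy' _ hz'
  refine ⟨k * g * k⁻¹, conj_mem_X h k hg, ?_⟩
  have e1 : k * g * k⁻¹ * y * (k * g * k⁻¹)⁻¹ = k * (g * (k⁻¹ * y * k⁻¹⁻¹) * g⁻¹) * k⁻¹ := by
    group
  rw [e1, hgy]
  group

/-- The descent: an orbit of `X_a` on `D_a` which is not all of `D_a` yields a smaller such orbit
of `X_y` on `D_y`, for `y` in the orbit. -/
theorem descent (h : FI D) (hbad : ∀ a ∈ D, ¬ Trans D a) :
    ∀ n : ℕ, ∀ a ∈ D, ∀ y ∈ Dset D a, (Orb D a y).ncard = n → Orb D a y ≠ Dset D a → False := by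
  intro n
  induction n using Nat.strong_induction_on with
  | _ n ih =>
  intro a ha y hy hn hne
  have hyD : y ∈ D := hy.1
  have hex : ∃ e ∈ D, Commute y e ∧ ¬ Commute a e := by
    by_contra hcon
    push Not at hcon
    exact hy.2.1 (h.hperp y hyD a ha hcon)
  obtain ⟨e, he, hye, hae⟩ := hex
  have haDy : a ∈ Dset D y := ⟨ha, fun h1 => hy.2.1 h1.symm, hy.2.2.symm⟩
  have heDy : e ∈ Dset D y := ⟨he, fun h1 => hae (h1 ▸ hy.2.2), hye⟩
  have heR : e ∈ Orb D y a := mem_orb_of_not_commute h haDy heDy hae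
  have hw : ∃ w ∈ Dset D y, w ∉ Orb D y a := by
    by_contra hcon
    push Not at hcon
    apply hbad y hyD
    intro y1 hy1 y2 hy2
    exact orb_trans (orb_symm (hcon y1 hy1)) (hcon y2 hy2)
  obtain ⟨w, hw, hwR⟩ := hw
  have hPfacts : ∀ z ∈ Orb D a y, ∀ c ∈ Dset D a, c ∉ Orb D a y → Commute z c := by
    intro z hz c hc hcP
    by_contra hzc
    exact hcP (orb_trans hz (mem_orb_of_not_commute h (orb_subset h hy hz) hc hzc))
  have hQy : ∀ c ∈ Dset D a, c ∉ Orb D a y → c ∈ Dset D y := by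
    intro c hc hcP
    refine ⟨hc.1, ?_, hPfacts y (orb_refl a y) c hc hcP⟩
    intro h1
    exact hcP (by rw [h1]; exact orb_refl a y)
  have hsub : ∀ v ∈ Orb D y w, v ∈ Orb D a y := by
    intro v hv
    have hvDy : v ∈ Dset D y := orb_subset h hw hv
    have hvR : v ∉ Orb D y a := fun h1 => hwR (orb_trans h1 (orb_symm hv))
    have hva : Commute a v := by
      by_contra h1
      exact hvR (mem_orb_of_not_commute h haDy hvDy h1)
    have hvne : v ≠ a := fun h1 => hvR (by rw [h1]; exact orb_refl y a)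
    have hvDa : v ∈ Dset D a := ⟨hvDy.1, hvne, hva⟩
    by_contra hvP
    have hCsub : {c | c ∈ Orb D a v ∧ c ∉ Orb D y a} ⊆ Dset D a :=
      fun c hc => orb_subset h hvDa hc.1
    have hCP : ∀ c ∈ {c | c ∈ Orb D a v ∧ c ∉ Orb D y a}, c ∉ Orb D a y := by
      intro c hc hcP
      exact hvP (orb_trans hcP (orb_symm hc.1))
    have hCne : {c | c ∈ Orb D a v ∧ c ∉ Orb D y a}.Nonempty := ⟨v, orb_refl a v, hvR⟩
    have hCinv : ∀ z ∈ Dset D a, ∀ c ∈ {c | c ∈ Orb D a v ∧ c ∉ Orb D y a},
        z * c * z⁻¹ ∈ {c | c ∈ Orb D a v ∧ c ∉ Orb D y a} := by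
      intro z hz c hc
      refine ⟨orb_conj (mem_X_of_mem hz) hc.1, ?_⟩
      by_cases hzP : z ∈ Orb D a y
      · have := hPfacts z hzP c (hCsub hc) (hCP c hc)
        rw [this.eq, mul_inv_cancel_right]
        exact hc.2
      · intro h1
        have hzy : z ∈ X D y := mem_X_of_mem (hQy z hz hzP)
        have := orb_conj (Subgroup.inv_mem _ hzy) h1
        have e1 : z⁻¹ * (z * c * z⁻¹) * z⁻¹⁻¹ = c := by group
        rw [e1] at this
        exact hc.2 this
    have hex2 : ∃ c ∈ {c | c ∈ Orb D a v ∧ c ∉ Orb D y a}, ¬ Commute e c := by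
      by_contra hcon
      push Not at hcon
      exact hae (commute_of_centralizes h ha hCsub hCne hCinv he hcon)
    obtain ⟨c, hc, hec⟩ := hex2
    have hcDy : c ∈ Dset D y := hQy c (hCsub hc) (hCP c hc)
    exact hc.2 (orb_trans heR (mem_orb_of_not_commute h heDy hcDy hec))
  have hyP : y ∉ Orb D y w := fun h1 => (orb_subset h hw h1).2.1 rfl
  have hlt : (Orb D y w).ncard < n := by
    rw [← hn]
    apply Set.ncard_lt_ncard _ (Set.toFinite _)
    exact ⟨hsub, fun h1 => hyP (h1 (orb_refl a y))⟩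
  have hne' : Orb D y w ≠ Dset D y := by
    intro h1
    have : a ∈ Orb D y w := by rw [h1]; exact haDy
    exact hwR (orb_symm this)
  exact ih _ hlt y hyD w hw rfl hne'

/-- **Fischer**: `X_a = ⟨D_a⟩` is transitive on `D_a`. -/
theorem FI.trans (h : FI D) {a : G} (ha : a ∈ D) : Trans D a := by
  by_contra hbad
  have hall : ∀ b ∈ D, ¬ Trans D b := by
    intro b hb hTb
    obtain ⟨k, hk⟩ := class_trans h.hD b hb a ha
    apply hbad
    rw [← hk]
    exact trans_conj h k hTb
  unfold TTFischer.Trans at hbad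
  push Not at hbad
  obtain ⟨y, hy, z, hz, hzy⟩ := hbad
  apply descent h hall _ a ha y hy rfl
  intro h1
  exact hzy (h1 ▸ hz)

end

end Cfsg.Agent.Lib.Helper25.TTRank
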