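import Mathlib
import Cfsg.Prelude
import Cfsg.Agent.Lib.Helper25.TTRankB

/-!
# Fischer's 3-transposition groups: the centralizer of `a` is transitive on `A_a`

`A_a` is the set of members of `D` not commuting with `a`.  Over the interface `FI` we show that
`C_G(a)` is transitive on `A_a` by conjugation (`rel_of_mem_Aset`).
-/

set_option autoImplicit false

namespace Cfsg.Agent.Lib.Helper25.TTRank

open Cfsg Cfsg.Agent.Lib.Helper27.TT Cfsg.Agent.Lib.Helper25.TTFischer

variable {G : Type*} [Group G] {D : Set G}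

/-- `A_a`: the members of `D` not commuting with `a`. -/
def Aset (D : Set G) (a : G) : Set G := {u : G | u ∈ D ∧ ¬ Commute a u}

/-- Conjugacy under the centralizer of `a`. -/
def Rel (a u v : G) : Prop := ∃ g : G, Commute g a ∧ g * u * g⁻¹ = v

/-- Invariance under the centralizer of `a`. -/
def Inv (a : G) (Δ : Set G) : Prop := ∀ g : G, Commute g a → ∀ u ∈ Δ, g * u * g⁻¹ ∈ Δ

/-- Common neighbours of `a` and `x` in the commuting graph. -/
def Gam (D : Set G) (a x : G) : Set G := {y : G | y ∈ D ∧ Commute a y ∧ Commute x y}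

theorem rel_refl (a u : G) : Rel a u u := ⟨1, Commute.one_left a, by group⟩

theorem rel_symm {a u v : G} (h : Rel a u v) : Rel a v u := by
  obtain ⟨g, hg, rfl⟩ := h
  exact ⟨g⁻¹, hg.inv_left, by group⟩

theorem rel_trans {a u v w : G} (h1 : Rel a u v) (h2 : Rel a v w) : Rel a u w := by
  obtain ⟨g, hg, rfl⟩ := h1
  obtain ⟨k, hk, rfl⟩ := h2
  exact ⟨k * g, hk.mul_left hg, by group⟩

theorem word1 {x y : G} (hxx : x * x = 1) (hyy : y * y = 1) (hb : x * y * x = y * x * y) :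
    y * x * y * x * (y * x * y) = y := by
  calc y * x * y * x * (y * x * y) = x * y * x * x * (y * x * y) := by rw [hb]
    _ = x * y * (x * x) * (y * x * y) := by simp only [mul_assoc]
    _ = x * (y * y) * x * y := by rw [hxx, mul_one]; simp only [mul_assoc]
    _ = y := by rw [hyy, mul_one, hxx, one_mul]

theorem word3 {a u v : G} (haa : a * a = 1) (hau : a * u * a = u * a * u)
    (hav : a * v * a = v * a * v) (huv : u * v = v * u) :
    a * (a * v * a * u * (a * v * a)) * a = u * (a * v * a) * u := by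
  calc a * (a * v * a * u * (a * v * a)) * a
      = (a * a) * v * (a * u * a) * v * (a * a) := by simp only [mul_assoc]
    _ = v * (u * a * u) * v := by rw [haa, one_mul, mul_one, hau]
    _ = (v * u) * a * (u * v) := by simp only [mul_assoc]
    _ = (u * v) * a * (v * u) := by rw [huv]
    _ = u * (v * a * v) * u := by simp only [mul_assoc]
    _ = u * (a * v * a) * u := by rw [hav]

theorem word4 {u v y : G} (hyy : y * y = 1) (hb : v * y * v = y * v * y) (hyu : y * u = u * y) :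
    v * (y * (v * u * v) * y) * v = y * (v * u * v) * y := by
  calc v * (y * (v * u * v) * y) * v = (v * y * v) * u * (v * y * v) := by simp only [mul_assoc]
    _ = (y * v * y) * u * (y * v * y) := by rw [hb]
    _ = y * v * (y * u * y) * v * y := by simp only [mul_assoc]
    _ = y * v * (u * (y * y)) * v * y := by rw [hyu, mul_assoc u y y]
    _ = y * (v * u * v) * y := by rw [hyy, mul_one]; simp only [mul_assoc]

section

variable [Finite G]

theorem conj_mem_Aset (h : FI D) {a u g : G} (hg : Commute g a) (hu : u ∈ Aset D a) :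
    g * u * g⁻¹ ∈ Aset D a := by
  refine ⟨h.conj_mem g hu.1, ?_⟩
  intro h1
  apply hu.2
  have h2 : Commute (g * a * g⁻¹) (g * u * g⁻¹) := by rwa [hg.eq, mul_inv_cancel_right]
  exact (Commute.conj_iff g).mp h2

theorem inv_compl (h : FI D) {a : G} {Δ : Set G} (hΔ : Inv a Δ) :
    Inv a {u | u ∈ Aset D a ∧ u ∉ Δ} := by
  intro g hg u hu
  refine ⟨conj_mem_Aset h hg hu.1, ?_⟩
  intro h1
  apply hu.2
  have := hΔ g⁻¹ hg.inv_left _ h1
  have e1 : g⁻¹ * (g * u * g⁻¹) * g⁻¹⁻¹ = u := by group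
  rwa [e1] at this

/-- F1. -/
theorem rel_of_commute_conj (h : FI D) {a u v : G} (hu : u ∈ Aset D a) (hv : v ∈ Aset D a)
    (huv : ¬ Commute u v) (hw : Commute a (v * u * v)) : Rel a u v := by
  have hD3 := h.hD.1
  refine ⟨v * u * v, hw.symm, ?_⟩
  have hb := braid hD3 hu.1 hv.1 huv
  have e := word1 (mul_self_of_mem hD3 hu.1) (mul_self_of_mem hD3 hv.1) hb
  have hinv : (v * u * v)⁻¹ = v * u * v := by
    rw [mul_inv_rev, mul_inv_rev, inv_of_mem hD3 hu.1, inv_of_mem hD3 hv.1, ← mul_assoc]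
  rw [hinv]
  exact e

theorem conj_mem_Aset_of_not_rel (h : FI D) {a u v : G} (hu : u ∈ Aset D a) (hv : v ∈ Aset D a)
    (huv : ¬ Commute u v) (hrel : ¬ Rel a u v) : v * u * v ∈ Aset D a := by
  refine ⟨?_, fun hw => hrel (rel_of_commute_conj h hu hv huv hw)⟩
  have := h.conj_mem v hu.1
  rwa [inv_of_mem h.hD.1 hv.1] at this

/-- F3: commuting members of `A_a` are conjugate under `C(a)`. -/
theorem rel_of_commute (h : FI D) {a u v : G} (ha : a ∈ D) (hu : u ∈ Aset D a)
    (hv : v ∈ Aset D a) (huv : Commute u v) : Rel a u v := by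
  have hD3 := h.hD.1
  by_cases hne : u = v
  · rw [hne]; exact rel_refl a v
  have haa := mul_self_of_mem hD3 ha
  have huu := mul_self_of_mem hD3 hu.1
  have hau := braid hD3 ha hu.1 hu.2
  have hav := braid hD3 ha hv.1 hv.2
  have ia := inv_of_mem hD3 ha
  have hv' : a * v * a ∈ Aset D a := by
    have := conj_mem_Aset h (Commute.refl a) hv
    rwa [ia] at this
  have hvv' : Rel a v (a * v * a) := ⟨a, Commute.refl a, by rw [ia]⟩
  have key := word3 haa hau hav huv.eq
  have hv'v' := mul_self_of_mem hD3 hv'.1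
  by_cases hc : Commute u (a * v * a)
  · exfalso
    apply hne
    have h1 : a * v * a * u * (a * v * a) = u := by
      rw [← hc.eq, mul_assoc, hv'v', mul_one]
    have h2 : u * (a * v * a) * u = a * v * a := by
      rw [hc.eq, mul_assoc, huu, mul_one]
    rw [h1, h2] at key
    exact mul_left_cancel (mul_right_cancel key)
  · have hb := braid hD3 hu.1 hv'.1 hc
    have hw : Commute a (a * v * a * u * (a * v * a)) := by
      have e1 : a * (a * v * a * u * (a * v * a)) * a = a * v * a * u * (a * v * a) := by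
        rw [key, hb]
      show a * (a * v * a * u * (a * v * a)) = (a * v * a * u * (a * v * a)) * a
      calc a * (a * v * a * u * (a * v * a))
          = a * (a * v * a * u * (a * v * a)) * (a * a) := by rw [haa, mul_one]
        _ = (a * (a * v * a * u * (a * v * a)) * a) * a := by simp only [mul_assoc]
        _ = (a * v * a * u * (a * v * a)) * a := by rw [e1]
    exact rel_trans (rel_of_commute_conj h hu hv' hc hw) (rel_symm hvv')

/-- F2: no member of `D` commutes with all of a non-empty `C(a)`-invariant subset of `A_a`. -/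
theorem not_centralizes (h : FI D) {a : G} (ha : a ∈ D) {Δ : Set G} (hΔA : Δ ⊆ Aset D a)
    (hne : Δ.Nonempty) (hinv : Inv a Δ) {y : G} (hy : y ∈ D)
    (hcen : ∀ u ∈ Δ, Commute y u) : False := by
  have hD3 := h.hD.1
  obtain ⟨u0, hu0⟩ := hne
  have htop : Subgroup.closure ({y : G | y ∈ D ∧ Commute a y} ∪ Δ) = ⊤ := by
    apply h.hmax a ha _ _ _ u0 (Or.inr hu0) (hΔA hu0).2
    · rintro s (hs | hs)
      · exact hs.1
      · exact (hΔA hs).1
    · intro s hs has
      exact Or.inl ⟨hs, has⟩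
  have hSD : ∀ s ∈ ({y : G | y ∈ D ∧ Commute a y} ∪ Δ : Set G), s ∈ D := by
    rintro s (hs | hs)
    · exact hs.1
    · exact (hΔA hs).1
  have hSn : ∀ s ∈ ({y : G | y ∈ D ∧ Commute a y} ∪ Δ : Set G),
      ∀ n ∈ ((Subgroup.closure Δ : Subgroup G) : Set G),
        s * n * s⁻¹ ∈ ((Subgroup.closure Δ : Subgroup G) : Set G) := by
    intro s hs
    rcases hs with hs | hs
    · apply conj_closure_mem
      intro p hp
      exact Subgroup.subset_closure (hinv s hs.2.symm p hp)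
    · intro n hn
      have hsN : s ∈ Subgroup.closure Δ := Subgroup.subset_closure hs
      exact Subgroup.mul_mem _ (Subgroup.mul_mem _ hsN hn) (Subgroup.inv_mem _ hsN)
  have hN := conj_invariant_of_closure_eq_top htop
    (fun s hs => mul_self_of_mem hD3 (hSD s hs)) hSn
  have hDN : D ⊆ ((Subgroup.closure Δ : Subgroup G) : Set G) := by
    intro d hd
    obtain ⟨g, hg⟩ := class_trans h.hD u0 (hΔA hu0).1 d hd
    rw [← hg]
    exact hN g u0 (Subgroup.subset_closure hu0)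
  have hNtop : Subgroup.closure Δ = ⊤ := by
    rw [eq_top_iff, ← h.hD.2.2]
    exact (Subgroup.closure_le _).mpr hDN
  apply h.hncen y hy
  have hle : Subgroup.closure Δ ≤ Subgroup.centralizer ({y} : Set G) := by
    rw [Subgroup.closure_le]
    intro u hu
    rw [SetLike.mem_coe, Subgroup.mem_centralizer_iff]
    intro x hx
    rw [Set.mem_singleton_iff] at hx
    rw [hx]
    exact (hcen u hu).eq
  rw [Subgroup.mem_center_iff]
  intro g
  have := hle (hNtop ▸ Subgroup.mem_top g)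
  rw [Subgroup.mem_centralizer_iff] at this
  exact (this y rfl).symm

/-- F4. -/
theorem conj_not_mem (h : FI D) {a : G} (ha : a ∈ D) {Δ : Set G} (hΔA : Δ ⊆ Aset D a)
    (hinv : Inv a Δ) {u v y : G} (hu : u ∈ Δ) (hv : v ∈ Aset D a) (hvΔ : v ∉ Δ) (hy : y ∈ D)
    (hya : Commute a y) (hyu : Commute y u) (hyv : ¬ Commute y v) : v * u * v ∉ Δ := by
  intro hw
  have hD3 := h.hD.1
  have iy := inv_of_mem hD3 hy
  have hvv := mul_self_of_mem hD3 hv.1
  have hw' : y * (v * u * v) * y ∈ Δ := by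
    have := hinv y hya.symm _ hw
    rwa [iy] at this
  have hb := braid hD3 hy hv.1 hyv
  have e := word4 (u := u) (mul_self_of_mem hD3 hy) hb.symm hyu.eq
  have hc : Commute (y * (v * u * v) * y) v := by
    show y * (v * u * v) * y * v = v * (y * (v * u * v) * y)
    calc y * (v * u * v) * y * v = (v * (y * (v * u * v) * y) * v) * v := by rw [e]
      _ = v * (y * (v * u * v) * y) * (v * v) := by simp only [mul_assoc]
      _ = v * (y * (v * u * v) * y) := by rw [hvv, mul_one]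
  obtain ⟨g, hg, hgv⟩ := rel_of_commute h ha (hΔA hw') hv hc
  apply hvΔ
  rw [← hgv]
  exact hinv g hg _ hw'

/-- F5. -/
theorem gam_comparable (h : FI D) {a : G} (ha : a ∈ D) {Δ : Set G} (hΔA : Δ ⊆ Aset D a)
    (hinv : Inv a Δ) {u v : G} (hu : u ∈ Δ) (hv : v ∈ Aset D a) (hvΔ : v ∉ Δ) :
    Gam D a u ⊆ Gam D a v ∨ Gam D a v ⊆ Gam D a u := by
  by_contra hcon
  push Not at hcon
  obtain ⟨h1, h2⟩ := hcon
  rw [Set.not_subset] at h1 h2
  obtain ⟨y, hyu, hyv⟩ := h1
  obtain ⟨z, hzv, hzu⟩ := h2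
  have hD3 := h.hD.1
  have hnrel : ¬ Rel a u v := by
    rintro ⟨g, hg, hgv⟩
    exact hvΔ (hgv ▸ hinv g hg u hu)
  have hnc : ¬ Commute u v := fun hc => hnrel (rel_of_commute h ha (hΔA hu) hv hc)
  have hwA := conj_mem_Aset_of_not_rel h (hΔA hu) hv hnc hnrel
  have hw1 : v * u * v ∉ Δ :=
    conj_not_mem h ha hΔA hinv hu hv hvΔ hyu.1 hyu.2.1 hyu.2.2.symm
      (fun hc => hyv ⟨hyu.1, hyu.2.1, hc.symm⟩)
  have hw2 : u * v * u ∉ {x | x ∈ Aset D a ∧ x ∉ Δ} :=
    conj_not_mem h ha (fun x hx => hx.1) (inv_compl h hinv) ⟨hv, hvΔ⟩ (hΔA hu)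
      (fun hx => hx.2 hu) hzv.1 hzv.2.1 hzv.2.2.symm (fun hc => hzu ⟨hzv.1, hzv.2.1, hc.symm⟩)
  apply hw2
  rw [braid hD3 (hΔA hu).1 hv.1 hnc]
  exact ⟨hwA, hw1⟩

/-- F6: `a` and `u ∈ A_a` have a common neighbour. -/
theorem gam_nonempty (h : FI D) {a : G} (ha : a ∈ D) :
    ∀ u ∈ Aset D a, (Gam D a u).Nonempty := by
  intro u0 hu0
  by_contra hemp
  have hD3 := h.hD.1
  have hgamconj : ∀ g : G, Commute g a → ∀ u y : G, y ∈ Gam D a u →
      g * y * g⁻¹ ∈ Gam D a (g * u * g⁻¹) := by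
    intro g hg u y hy
    refine ⟨h.conj_mem g hy.1, ?_, (Commute.conj_iff g).mpr hy.2.2⟩
    have : Commute (g * a * g⁻¹) (g * y * g⁻¹) := (Commute.conj_iff g).mpr hy.2.1
    rwa [hg.eq, mul_inv_cancel_right] at this
  have hinv1 : Inv a {u | u ∈ Aset D a ∧ (Gam D a u).Nonempty} := by
    intro g hg u hu
    obtain ⟨y, hy⟩ := hu.2
    exact ⟨conj_mem_Aset h hg hu.1, ⟨_, hgamconj g hg u y hy⟩⟩
  have hinv0 : Inv a {u | u ∈ Aset D a ∧ ¬ (Gam D a u).Nonempty} := by
    intro g hg u hu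
    refine ⟨conj_mem_Aset h hg hu.1, ?_⟩
    rintro ⟨y, hy⟩
    apply hu.2
    have := hgamconj g⁻¹ hg.inv_left _ y hy
    have e1 : g⁻¹ * (g * u * g⁻¹) * g⁻¹⁻¹ = u := by group
    rw [e1] at this
    exact ⟨_, this⟩
  have hne1 : ({u | u ∈ Aset D a ∧ (Gam D a u).Nonempty} : Set G).Nonempty := by
    obtain ⟨a0, ha0, b0, hb0, hab, hcomm⟩ := h.hcomm
    obtain ⟨g, hg⟩ := class_trans h.hD a0 ha0 a ha
    have hyD : g * b0 * g⁻¹ ∈ D := h.conj_mem g hb0
    have hya : Commute a (g * b0 * g⁻¹) := by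
      rw [← hg]
      exact (Commute.conj_iff g).mpr hcomm
    have hyne : g * b0 * g⁻¹ ≠ a := by
      rw [← hg]
      intro h1
      exact hab (conj_inj g h1).symm
    have hex : ∃ z ∈ D, Commute (g * b0 * g⁻¹) z ∧ ¬ Commute a z := by
      by_contra hcon
      push Not at hcon
      exact hyne (h.hperp _ hyD a ha hcon)
    obtain ⟨z, hz, hyz, haz⟩ := hex
    exact ⟨z, ⟨hz, haz⟩, ⟨g * b0 * g⁻¹, hyD, hya, hyz.symm⟩⟩
  obtain ⟨v0, hv0⟩ := hne1
  have htop : Subgroup.closure ({y : G | y ∈ D ∧ Commute a y} ∪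
      {u | u ∈ Aset D a ∧ (Gam D a u).Nonempty}) = ⊤ := by
    apply h.hmax a ha _ _ _ v0 (Or.inr hv0) hv0.1.2
    · rintro s (hs | hs)
      · exact hs.1
      · exact hs.1.1
    · intro s hs has
      exact Or.inl ⟨hs, has⟩
  have hSD : ∀ s ∈ ({y : G | y ∈ D ∧ Commute a y} ∪
      {u | u ∈ Aset D a ∧ (Gam D a u).Nonempty} : Set G), s ∈ D := by
    rintro s (hs | hs)
    · exact hs.1
    · exact hs.1.1
  have hS0 : ∀ s ∈ ({y : G | y ∈ D ∧ Commute a y} ∪
      {u | u ∈ Aset D a ∧ (Gam D a u).Nonempty} : Set G),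
      ∀ u ∈ ({u | u ∈ Aset D a ∧ ¬ (Gam D a u).Nonempty} : Set G),
        s * u * s⁻¹ ∈ ({u | u ∈ Aset D a ∧ ¬ (Gam D a u).Nonempty} : Set G) := by
    intro s hs u hu
    rcases hs with hs | hs
    · exact hinv0 s hs.2.symm u hu
    · obtain ⟨y, hy⟩ := hs.2
      have huΔ1 : u ∉ ({u | u ∈ Aset D a ∧ (Gam D a u).Nonempty} : Set G) :=
        fun h1 => hu.2 h1.2
      have hnrel : ¬ Rel a s u := by
        rintro ⟨g, hg, hgu⟩
        exact huΔ1 (hgu ▸ hinv1 g hg s hs)
      have hnc : ¬ Commute s u := fun hc => hnrel (rel_of_commute h ha hs.1 hu.1 hc)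
      have hwA : u * s * u ∈ Aset D a := conj_mem_Aset_of_not_rel h hs.1 hu.1 hnc hnrel
      have hw1 : u * s * u ∉ ({u | u ∈ Aset D a ∧ (Gam D a u).Nonempty} : Set G) :=
        conj_not_mem h ha (fun x hx => hx.1) hinv1 hs hu.1 huΔ1 hy.1 hy.2.1 hy.2.2.symm
          (fun hc => hu.2 ⟨y, hy.1, hy.2.1, hc.symm⟩)
      rw [inv_of_mem hD3 hs.1.1, braid hD3 hs.1.1 hu.1.1 hnc]
      exact ⟨hwA, fun hne => hw1 ⟨hwA, hne⟩⟩
  have hall := conj_invariant_of_closure_eq_top htop
    (fun s hs => mul_self_of_mem hD3 (hSD s hs)) hS0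
  obtain ⟨g, hg⟩ := class_trans h.hD u0 hu0.1 a ha
  have hmem : a ∈ ({u | u ∈ Aset D a ∧ ¬ (Gam D a u).Nonempty} : Set G) := by
    have := hall g u0 ⟨hu0, hemp⟩
    rwa [hg] at this
  exact hmem.1.2 (Commute.refl a)

/-- F7: `C(a)` is transitive on `A_a`. -/
theorem rel_of_mem_Aset (h : FI D) {a : G} (ha : a ∈ D) :
    ∀ u ∈ Aset D a, ∀ v ∈ Aset D a, Rel a u v := by
  by_cases hA : (Aset D a).Nonempty
  swap
  · intro u hu
    exact absurd ⟨u, hu⟩ hA
  obtain ⟨us, hus, hmin⟩ : ∃ us ∈ Aset D a, ∀ v ∈ Aset D a,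
      (Gam D a us).ncard ≤ (Gam D a v).ncard :=
    Set.exists_min_image (Aset D a) (fun u => (Gam D a u).ncard) (Set.toFinite _) hA
  suffices hall : ∀ v ∈ Aset D a, Rel a us v by
    intro u hu v hv
    exact rel_trans (rel_symm (hall u hu)) (hall v hv)
  by_contra hcon
  push Not at hcon
  obtain ⟨v1, hv1, hv1rel⟩ := hcon
  have hinv : Inv a {x | x ∈ Aset D a ∧ Rel a us x} := by
    intro g hg x hx
    exact ⟨conj_mem_Aset h hg hx.1, rel_trans hx.2 ⟨g, hg, rfl⟩⟩
  have husΔ : us ∈ ({x | x ∈ Aset D a ∧ Rel a us x} : Set G) := ⟨hus, rel_refl a us⟩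
  obtain ⟨y, hy⟩ := gam_nonempty h ha us hus
  have hsub : ∀ v ∈ ({x | x ∈ Aset D a ∧ x ∉ ({x | x ∈ Aset D a ∧ Rel a us x} : Set G)} : Set G),
      Gam D a us ⊆ Gam D a v := by
    intro v hv
    rcases gam_comparable h ha (fun x hx => hx.1) hinv husΔ hv.1 hv.2 with h1 | h1
    · exact h1
    · have := Set.eq_of_subset_of_ncard_le h1 (hmin v hv.1) (Set.toFinite _)
      exact this.symm.subset
  apply not_centralizes h ha
    (Δ := {x | x ∈ Aset D a ∧ x ∉ ({x | x ∈ Aset D a ∧ Rel a us x} : Set G)})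
    (fun x hx => hx.1) ⟨v1, hv1, fun h1 => hv1rel h1.2⟩ (inv_compl h hinv) hy.1
  intro v hv
  exact (hsub v hv hy).2.2.symm

end

end Cfsg.Agent.Lib.Helper25.TTRank
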