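import Mathlib
import Cfsg.Prelude
import Cfsg.Agent.Lib.Helper25.TTRankC

/-!
# Fischer's 3-transposition groups: non-central odd core of `⟨D_d⟩` forces `D_d` to be a coclique

Over the interface `FI` we show: if `⟨D_d⟩` has a normal subgroup without involutions which is not
centralized by `D_d`, then no two different members of `D_d` commute (`lam0_at`).
-/

set_option autoImplicit false

namespace Cfsg.Agent.Lib.Helper25.TTDx

open Cfsg Cfsg.Agent.Lib.Helper27.TT Cfsg.Agent.Lib.Helper25.TTFischer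
  Cfsg.Agent.Lib.Helper25.TTRank

variable {G : Type*} [Group G] {D : Set G}

/-! ### Words in involutions -/

theorem inv_mul_invol {x y : G} (hx : x * x = 1) (hy : y * y = 1) : (x * y)⁻¹ = y * x := by
  rw [mul_inv_rev, inv_eq_of_mul_eq_one_left hx, inv_eq_of_mul_eq_one_left hy]

theorem rot1 {x y : G} (hx : x * x = 1) (hy : y * y = 1) (hb : x * y * x = y * x * y) :
    x * y * x * (x * y)⁻¹ = y := by
  rw [inv_mul_invol hx hy]
  calc x * y * x * (y * x) = (x * y * x) * y * x := by simp only [mul_assoc]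
    _ = (y * x * y) * y * x := by rw [hb]
    _ = y * (x * ((y * y) * x)) := by simp only [mul_assoc]
    _ = y := by rw [hy, one_mul, hx, mul_one]

theorem rot2 {x y : G} (hx : x * x = 1) (hy : y * y = 1) (hb : x * y * x = y * x * y) :
    x * y * (x * y * x) * (x * y)⁻¹ = x := by
  rw [inv_mul_invol hx hy]
  calc x * y * (x * y * x) * (y * x) = x * y * (y * x * y) * (y * x) := by rw [hb]
    _ = x * ((y * y) * (x * ((y * y) * x))) := by simp only [mul_assoc]
    _ = x := by rw [hy, one_mul, one_mul, hx, mul_one]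

theorem rot3' {x y : G} (hx : x * x = 1) (hy : y * y = 1) :
    (x * y)⁻¹ * x * (x * y) = y * x * y := by
  rw [inv_mul_invol hx hy]
  calc y * x * x * (x * y) = y * ((x * x) * (x * y)) := by simp only [mul_assoc]
    _ = y * x * y := by rw [hx, one_mul, mul_assoc]

theorem rot4 {x y z : G} (hx : x * x = 1) (hy : y * y = 1) (hzx : z * x = x * z)
    (hzy : z * y = y * z) : x * y * z * (x * y)⁻¹ = z := by
  rw [inv_mul_invol hx hy]
  calc x * y * z * (y * x) = x * (y * z) * y * x := by simp only [mul_assoc]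
    _ = x * (z * y) * y * x := by rw [hzy]
    _ = (x * z) * ((y * y) * x) := by simp only [mul_assoc]
    _ = (z * x) * ((y * y) * x) := by rw [hzx]
    _ = z * (x * x) := by rw [hy, one_mul, mul_assoc]
    _ = z := by rw [hx, mul_one]

/-- Conjugating by an involution commuting with `x` fixes `x`. -/
theorem conj_of_commute_invol {s x : G} (hs : s * s = 1) (hc : Commute s x) : s * x * s = x := by
  rw [hc.eq, mul_assoc, hs, mul_one]

/-! ### The `W(D₅)` argument -/

/-- The key configuration: `a — b — e — d` a path of non-commuting members of `D` (all other pairs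
commuting), `p` commuting with `a`, `b`, `d`; if every member of `D` commuting with `d` and `a`
(other than these) commutes with `b`, then `p` commutes with `e`. -/
theorem star (hD3 : IsThreeTranspositionSet D) (hconj : ∀ g x : G, x ∈ D → g * x * g⁻¹ ∈ D)
    {a b e d p : G} (ha : a ∈ D) (hb : b ∈ D) (he : e ∈ D) (hd : d ∈ D) (hp : p ∈ D)
    (hab : ¬ Commute a b) (hbe : ¬ Commute b e) (hed : ¬ Commute e d)
    (hae : Commute a e) (had : Commute a d) (hbd : Commute b d)
    (hpa : Commute p a) (hpb : Commute p b) (hpd : Commute p d) (hpd' : p ≠ d) (hpb' : p ≠ b)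
    (hblock : ∀ y ∈ D, y ≠ d → Commute y d → y ≠ a → Commute y a → Commute y b) :
    Commute p e := by
  have aa := mul_self_of_mem hD3 ha
  have bb := mul_self_of_mem hD3 hb
  have ee := mul_self_of_mem hD3 he
  have dd := mul_self_of_mem hD3 hd
  have hde_br : d * e * d = e * d * e := braid hD3 hd he (fun c => hed c.symm)
  have heb_br : e * b * e = b * e * b := braid hD3 he hb (fun c => hbe c.symm)
  have hba_br : b * a * b = a * b * a := braid hD3 hb ha (fun c => hab c.symm)
  -- the three conjugations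
  have q1 : d * e * b * (d * e)⁻¹ = d * (e * b * e) * d := by
    rw [inv_mul_invol dd ee]
    simp only [mul_assoc]
  have q2a : e * b * d * (e * b)⁻¹ = e * d * e := by
    rw [inv_mul_invol ee bb]
    calc e * b * d * (b * e) = e * (b * d) * b * e := by simp only [mul_assoc]
      _ = e * (d * b) * b * e := by rw [hbd.eq]
      _ = e * d * ((b * b) * e) := by simp only [mul_assoc]
      _ = e * d * e := by rw [bb, one_mul]
  have q2b : (e * d * e) * e * (e * d * e) = d := by
    calc (e * d * e) * e * (e * d * e) = e * d * ((e * e) * (e * (d * e))) := by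
          simp only [mul_assoc]
      _ = e * (d * e * d) * e := by rw [ee, one_mul]; simp only [mul_assoc]
      _ = e * (e * d * e) * e := by rw [hde_br]
      _ = (e * e) * d * (e * e) := by simp only [mul_assoc]
      _ = d := by rw [ee, one_mul, mul_one]
  have q2 : e * b * (d * (e * b * e) * d) * (e * b)⁻¹ = d := by
    have e1 : e * b * (d * (e * b * e) * d) * (e * b)⁻¹ =
        (e * b * d * (e * b)⁻¹) * (e * b * (e * b * e) * (e * b)⁻¹) * (e * b * d * (e * b)⁻¹) := by
      group
    rw [e1, q2a, rot2 ee bb heb_br, q2b]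
  have q3 : b * a * d * (b * a)⁻¹ = d := rot4 bb aa hbd.symm.eq had.symm.eq
  have q4 : (e * b)⁻¹ * (a * b * a) * (e * b) = (a * b * a) * e * (a * b * a) := by
    rw [inv_mul_invol ee bb]
    calc b * e * (a * b * a) * (e * b) = b * (e * a) * b * (a * e) * b := by
          simp only [mul_assoc]
      _ = b * (a * e) * b * (e * a) * b := by rw [hae.eq]
      _ = b * a * (e * b * e) * a * b := by simp only [mul_assoc]
      _ = b * a * (b * e * b) * a * b := by rw [heb_br]
      _ = (b * a * b) * e * (b * a * b) := by simp only [mul_assoc]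
      _ = (a * b * a) * e * (a * b * a) := by rw [hba_br]
  -- the conjugate `y` of `p`
  have hp1 : d * e * p * (d * e)⁻¹ ∈ D := hconj _ _ hp
  have hp2 : e * b * (d * e * p * (d * e)⁻¹) * (e * b)⁻¹ ∈ D := hconj _ _ hp1
  have hy : b * a * (e * b * (d * e * p * (d * e)⁻¹) * (e * b)⁻¹) * (b * a)⁻¹ ∈ D :=
    hconj _ _ hp2
  -- `y` commutes with `a`
  have hya : Commute (b * a * (e * b * (d * e * p * (d * e)⁻¹) * (e * b)⁻¹) * (b * a)⁻¹) a := by
    have h1 : Commute (d * e * p * (d * e)⁻¹) e := by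
      have := (Commute.conj_iff (d * e)).mpr hpd
      rwa [rot1 dd ee hde_br] at this
    have h2 : Commute (e * b * (d * e * p * (d * e)⁻¹) * (e * b)⁻¹) b := by
      have := (Commute.conj_iff (e * b)).mpr h1
      rwa [rot1 ee bb heb_br] at this
    have := (Commute.conj_iff (b * a)).mpr h2
    rwa [rot1 bb aa hba_br] at this
  -- `y` commutes with `d`
  have hyd : Commute (b * a * (e * b * (d * e * p * (d * e)⁻¹) * (e * b)⁻¹) * (b * a)⁻¹) d := by
    have h1 : Commute (d * e * p * (d * e)⁻¹) (d * (e * b * e) * d) := by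
      have := (Commute.conj_iff (d * e)).mpr hpb
      rwa [q1] at this
    have h2 : Commute (e * b * (d * e * p * (d * e)⁻¹) * (e * b)⁻¹) d := by
      have := (Commute.conj_iff (e * b)).mpr h1
      rwa [q2] at this
    have := (Commute.conj_iff (b * a)).mpr h2
    rwa [q3] at this
  -- `y ≠ d`
  have hyd' : b * a * (e * b * (d * e * p * (d * e)⁻¹) * (e * b)⁻¹) * (b * a)⁻¹ ≠ d := by
    intro h1
    have h2 : e * b * (d * e * p * (d * e)⁻¹) * (e * b)⁻¹ = d := by
      apply conj_inj (b * a)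
      show b * a * (e * b * (d * e * p * (d * e)⁻¹) * (e * b)⁻¹) * (b * a)⁻¹ =
        b * a * d * (b * a)⁻¹
      rw [h1, q3]
    have h3 : d * e * p * (d * e)⁻¹ = d * (e * b * e) * d := by
      apply conj_inj (e * b)
      show e * b * (d * e * p * (d * e)⁻¹) * (e * b)⁻¹ =
        e * b * (d * (e * b * e) * d) * (e * b)⁻¹
      rw [h2, q2]
    apply hpb'
    apply conj_inj (d * e)
    show d * e * p * (d * e)⁻¹ = d * e * b * (d * e)⁻¹
    rw [h3, q1]
  -- `y ≠ a`
  have hya' : b * a * (e * b * (d * e * p * (d * e)⁻¹) * (e * b)⁻¹) * (b * a)⁻¹ ≠ a := by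
    intro h1
    have h2 : e * b * (d * e * p * (d * e)⁻¹) * (e * b)⁻¹ = b := by
      apply conj_inj (b * a)
      show b * a * (e * b * (d * e * p * (d * e)⁻¹) * (e * b)⁻¹) * (b * a)⁻¹ =
        b * a * b * (b * a)⁻¹
      rw [h1, rot1 bb aa hba_br]
    have h3 : d * e * p * (d * e)⁻¹ = e := by
      apply conj_inj (e * b)
      show e * b * (d * e * p * (d * e)⁻¹) * (e * b)⁻¹ = e * b * e * (e * b)⁻¹
      rw [h2, rot1 ee bb heb_br]
    apply hpd'
    apply conj_inj (d * e)
    show d * e * p * (d * e)⁻¹ = d * e * d * (d * e)⁻¹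
    rw [h3, rot1 dd ee hde_br]
  -- hence `y` commutes with `b`
  have hyb := hblock _ hy hyd' hyd hya' hya
  -- pull back
  have hb'D : a * b * a ∈ D := by
    have := hconj a b hb
    rwa [inv_of_mem hD3 ha] at this
  have hb'b' : (a * b * a) * (a * b * a) = 1 := mul_self_of_mem hD3 hb'D
  have hb'e : ¬ Commute (a * b * a) e := by
    intro hc
    apply hbe
    have h1 : Commute (a * (a * b * a) * a⁻¹) (a * e * a⁻¹) := (Commute.conj_iff a).mpr hc
    have e1 : a * (a * b * a) * a⁻¹ = b := by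
      rw [inv_of_mem hD3 ha]
      calc a * (a * b * a) * a = (a * a) * b * (a * a) := by simp only [mul_assoc]
        _ = b := by rw [aa, one_mul, mul_one]
    have e2 : a * e * a⁻¹ = e := by
      rw [inv_of_mem hD3 ha]
      exact conj_of_commute_invol aa hae
    rwa [e1, e2] at h1
  have hbr' : (a * b * a) * e * (a * b * a) = e * (a * b * a) * e := braid hD3 hb'D he hb'e
  have h2 : Commute (e * b * (d * e * p * (d * e)⁻¹) * (e * b)⁻¹) (a * b * a) := by
    have := (commute_conj_inv_iff (b * a) _ _).mpr hyb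
    rw [rot3' bb aa] at this
    have e1 : (b * a)⁻¹ * (b * a * (e * b * (d * e * p * (d * e)⁻¹) * (e * b)⁻¹) * (b * a)⁻¹) *
        (b * a) = e * b * (d * e * p * (d * e)⁻¹) * (e * b)⁻¹ := by group
    rwa [e1] at this
  have h3 : Commute (d * e * p * (d * e)⁻¹) ((a * b * a) * e * (a * b * a)) := by
    have := (commute_conj_inv_iff (e * b) _ _).mpr h2
    rw [q4] at this
    have e1 : (e * b)⁻¹ * (e * b * (d * e * p * (d * e)⁻¹) * (e * b)⁻¹) * (e * b) =
        d * e * p * (d * e)⁻¹ := by group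
    rwa [e1] at this
  have h4 : Commute p (e * (d * ((a * b * a) * e * (a * b * a)) * d) * e) := by
    have := (commute_conj_inv_iff (d * e) _ _).mpr h3
    have e1 : (d * e)⁻¹ * (d * e * p * (d * e)⁻¹) * (d * e) = p := by group
    have e2 : (d * e)⁻¹ * ((a * b * a) * e * (a * b * a)) * (d * e) =
        e * (d * ((a * b * a) * e * (a * b * a)) * d) * e := by
      rw [inv_mul_invol dd ee]
      simp only [mul_assoc]
    rwa [e1, e2] at this
  -- `e` commutes with `d z' d`
  have hdb' : Commute d (a * b * a) :=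
    (had.symm.mul_right hbd.symm).mul_right had.symm
  have h5 : Commute e (d * ((a * b * a) * e * (a * b * a)) * d) := by
    have h6 : Commute (e * d * e⁻¹) (e * (a * b * a) * e⁻¹) := (Commute.conj_iff e).mpr hdb'
    rw [inv_of_mem hD3 he, ← hde_br, ← hbr'] at h6
    have h7 : Commute (d * (d * e * d) * d⁻¹) (d * ((a * b * a) * e * (a * b * a)) * d⁻¹) :=
      (Commute.conj_iff d).mpr h6
    rw [inv_of_mem hD3 hd] at h7
    have e1 : d * (d * e * d) * d = e := by
      calc d * (d * e * d) * d = (d * d) * e * (d * d) := by simp only [mul_assoc]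
        _ = e := by rw [dd, one_mul, mul_one]
    rwa [e1] at h7
  rw [conj_of_commute_invol ee h5] at h4
  -- remove `d`
  have h8 : Commute p ((a * b * a) * e * (a * b * a)) := by
    have h9 : Commute (d * p * d⁻¹)
        (d * (d * ((a * b * a) * e * (a * b * a)) * d) * d⁻¹) := (Commute.conj_iff d).mpr h4
    rw [inv_of_mem hD3 hd, conj_of_commute_invol dd hpd.symm] at h9
    have e1 : d * (d * ((a * b * a) * e * (a * b * a)) * d) * d =
        (a * b * a) * e * (a * b * a) := by
      calc d * (d * ((a * b * a) * e * (a * b * a)) * d) * d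
          = (d * d) * ((a * b * a) * e * (a * b * a)) * (d * d) := by simp only [mul_assoc]
        _ = (a * b * a) * e * (a * b * a) := by rw [dd, one_mul, mul_one]
    rwa [e1] at h9
  -- remove `b'`
  have hpb'' : Commute p (a * b * a) := (hpa.mul_right hpb).mul_right hpa
  have h10 : Commute ((a * b * a) * p * (a * b * a)⁻¹)
      ((a * b * a) * ((a * b * a) * e * (a * b * a)) * (a * b * a)⁻¹) :=
    (Commute.conj_iff (a * b * a)).mpr h8
  rw [inv_eq_of_mul_eq_one_left hb'b', conj_of_commute_invol hb'b' hpb''.symm] at h10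
  have e3 : (a * b * a) * ((a * b * a) * e * (a * b * a)) * (a * b * a) = e := by
    calc (a * b * a) * ((a * b * a) * e * (a * b * a)) * (a * b * a)
        = ((a * b * a) * (a * b * a)) * e * ((a * b * a) * (a * b * a)) := by
          simp only [mul_assoc]
      _ = e := by rw [hb'b', one_mul, mul_one]
  rwa [e3] at h10


/-! ### W-partners -/

/-- The `S₄` argument: if `ab` and its conjugate under `y` lie in a subgroup without involutions
and `y ≠ a` commutes with `a`, then `y` commutes with `b`. -/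
theorem s4_trick (hD3 : IsThreeTranspositionSet D) {K : Subgroup G}
    (hK3 : ∀ k ∈ K, k * k = 1 → k = 1) {a b y : G} (ha : a ∈ D) (hb : b ∈ D) (hy : y ∈ D)
    (hab : a * b ∈ K) (hyab : y * (a * b) * y⁻¹ ∈ K) (hay : Commute a y) (hya : y ≠ a) :
    Commute b y := by
  by_contra hby
  have aa := mul_self_of_mem hD3 ha
  have bb := mul_self_of_mem hD3 hb
  have yy := mul_self_of_mem hD3 hy
  have hbr : y * b * y = b * y * b := braid hD3 hy hb (fun c => hby c.symm)
  have h1 : y * b ∈ K := by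
    have e1 : y * b = (a * b)⁻¹ * (y * (a * b) * y⁻¹) := by
      rw [inv_mul_invol aa bb, inv_of_mem hD3 hy]
      symm
      calc (b * a) * (y * (a * b) * y) = b * (a * y * a) * b * y := by simp only [mul_assoc]
        _ = b * y * b * y := by rw [conj_of_commute_invol aa hay]
        _ = (y * b * y) * y := by rw [hbr]
        _ = y * b := by rw [mul_assoc, yy, mul_one]
    rw [e1]
    exact K.mul_mem (K.inv_mem hab) hyab
  have h2 : a * y ∈ K := by
    have e1 : a * y = (a * b) * (y * b)⁻¹ := by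
      rw [inv_mul_invol yy bb]
      symm
      calc (a * b) * (b * y) = a * ((b * b) * y) := by simp only [mul_assoc]
        _ = a * y := by rw [bb, one_mul]
    rw [e1]
    exact K.mul_mem hab (K.inv_mem h1)
  have h3 : a * y = 1 := by
    apply hK3 _ h2
    calc (a * y) * (a * y) = a * (y * a) * y := by simp only [mul_assoc]
      _ = a * (a * y) * y := by rw [hay.eq]
      _ = (a * a) * (y * y) := by simp only [mul_assoc]
      _ = 1 := by rw [aa, yy, one_mul]
  apply hya
  rw [eq_inv_of_mul_eq_one_right h3, inv_of_mem hD3 ha]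

section

variable [Finite G]

theorem dset_nonempty (h : FI D) {a : G} (ha : a ∈ D) : (Dset D a).Nonempty := by
  obtain ⟨a0, ha0, b0, hb0, hab, hcomm⟩ := h.hcomm
  obtain ⟨g, hg⟩ := class_trans h.hD a0 ha0 a ha
  refine ⟨g * b0 * g⁻¹, h.conj_mem g hb0, ?_, ?_⟩
  · rw [← hg]
    intro h1
    exact hab (conj_inj g h1).symm
  · rw [← hg]
    exact (Commute.conj_iff g).mpr hcomm

/-- Non-commuting members of `D` have incomparable sets of commuting partners. -/
theorem exists_commute_not (h : FI D) {a b : G} (ha : a ∈ D) (hb : b ∈ D)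
    (hab : ¬ Commute a b) : ∃ e ∈ D, e ≠ a ∧ Commute a e ∧ ¬ Commute b e := by
  by_contra hcon
  push Not at hcon
  apply hab
  apply TTRank.commute_of_centralizes h ha (P := Dset D a) (fun _ hx => hx)
    (dset_nonempty h ha) ?_ hb ?_
  · intro z hz p hp
    exact TTRank.conj_mem_Dset h (mem_X_of_mem hz) hp
  · intro p hp
    exact hcon p hp.1 hp.2.1 hp.2.2

/-- A normal subgroup `K` of `⟨D_d⟩` without involutions moving `a ∈ D_d` produces a W-partner. -/
theorem wpartner (h : FI D) {d : G} {K : Subgroup G} (hK1 : K ≤ X D d)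
    (hK2 : ∀ x ∈ X D d, ∀ k ∈ K, x * k * x⁻¹ ∈ K) (hK3 : ∀ k ∈ K, k * k = 1 → k = 1)
    {a k : G} (ha : a ∈ Dset D d) (hk : k ∈ K) (hne : k * a * k⁻¹ ≠ a) :
    k * a * k⁻¹ ∈ Dset D d ∧ ∀ y ∈ Dset D d,
      (y ≠ a ∧ Commute a y) ↔ (y ≠ k * a * k⁻¹ ∧ Commute (k * a * k⁻¹) y) := by
  have hD3 := h.hD.1
  have hb : k * a * k⁻¹ ∈ Dset D d := TTRank.conj_mem_Dset h (hK1 hk) ha
  have aa := mul_self_of_mem hD3 ha.1
  have bb := mul_self_of_mem hD3 hb.1
  have hab : a * (k * a * k⁻¹) ∈ K := by
    have e1 : a * (k * a * k⁻¹) = (a * k * a⁻¹) * k⁻¹ := by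
      rw [inv_of_mem hD3 ha.1]
      simp only [mul_assoc]
    rw [e1]
    exact K.mul_mem (hK2 a (mem_X_of_mem ha) k hk) (K.inv_mem hk)
  have hba : (k * a * k⁻¹) * a ∈ K := by
    rw [← inv_mul_invol aa bb]
    exact K.inv_mem hab
  have hnab : ¬ Commute a (k * a * k⁻¹) := by
    intro hc
    apply hne
    have h1 : a * (k * a * k⁻¹) = 1 := by
      apply hK3 _ hab
      calc (a * (k * a * k⁻¹)) * (a * (k * a * k⁻¹))
          = a * ((k * a * k⁻¹) * a) * (k * a * k⁻¹) := by simp only [mul_assoc]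
        _ = a * (a * (k * a * k⁻¹)) * (k * a * k⁻¹) := by rw [hc.eq]
        _ = (a * a) * ((k * a * k⁻¹) * (k * a * k⁻¹)) := by simp only [mul_assoc]
        _ = 1 := by rw [aa, bb, one_mul]
    rw [eq_inv_of_mul_eq_one_right h1, inv_of_mem hD3 ha.1]
  refine ⟨hb, ?_⟩
  intro y hy
  have hyX : y ∈ X D d := mem_X_of_mem hy
  constructor
  · rintro ⟨hya, hay⟩
    refine ⟨?_, s4_trick hD3 hK3 ha.1 hb.1 hy.1 hab (hK2 y hyX _ hab) hay hya⟩
    rintro rfl
    exact hnab hay
  · rintro ⟨hyb, hby⟩
    refine ⟨?_, s4_trick hD3 hK3 hb.1 ha.1 hy.1 hba (hK2 y hyX _ hba) hby hyb⟩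
    rintro rfl
    exact hnab hby.symm

/-- If `a, b ∈ D_d` are W-partners then no member of `D_d` other than `a` commutes with `a`. -/
theorem no_common (h : FI D) {d a b : G} (hd : d ∈ D) (ha : a ∈ Dset D d) (hb : b ∈ Dset D d)
    (hab : a ≠ b)
    (hW : ∀ y ∈ Dset D d, (y ≠ a ∧ Commute a y) ↔ (y ≠ b ∧ Commute b y)) :
    ∀ p ∈ Dset D d, Commute a p → p = a := by
  have hD3 := h.hD.1
  have hconj : ∀ g x : G, x ∈ D → g * x * g⁻¹ ∈ D := fun g x hx => h.conj_mem g hx
  have hnab : ¬ Commute a b := by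
    intro hc
    exact ((hW b hb).mp ⟨hab.symm, hc⟩).1 rfl
  intro p hp hap
  by_contra hpa
  obtain ⟨hpb, hbp⟩ := (hW p hp).mp ⟨hpa, hap⟩
  have blockab : ∀ y ∈ D, y ≠ d → Commute y d → y ≠ a → Commute y a → Commute y b := by
    intro y hy hyd hcd hya hca
    exact ((hW y ⟨hy, hyd, hcd.symm⟩).mp ⟨hya, hca.symm⟩).2.symm
  have blockba : ∀ y ∈ D, y ≠ d → Commute y d → y ≠ b → Commute y b → Commute y a := by
    intro y hy hyd hcd hyb hcb
    exact ((hW y ⟨hy, hyd, hcd.symm⟩).mpr ⟨hyb, hcb.symm⟩).2.symm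
  have starA : ∀ e ∈ D, e ≠ a → Commute a e → ¬ Commute b e → Commute p e := by
    intro e he hea hae hbe
    have hed : ¬ Commute e d := by
      intro hc
      have hne : e ≠ d := by
        rintro rfl
        exact hbe hb.2.2.symm
      exact hbe ((hW e ⟨he, hne, hc.symm⟩).mp ⟨hea, hae⟩).2
    exact star hD3 hconj ha.1 hb.1 he hd hp.1 hnab hbe hed hae ha.2.2.symm hb.2.2.symm
      hap.symm hbp.symm hp.2.2.symm hp.2.1 hpb blockab
  have starB : ∀ e ∈ D, e ≠ b → Commute b e → ¬ Commute a e → Commute p e := by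
    intro e he heb hbe hae
    have hed : ¬ Commute e d := by
      intro hc
      have hne : e ≠ d := by
        rintro rfl
        exact hae ha.2.2.symm
      exact hae ((hW e ⟨he, hne, hc.symm⟩).mpr ⟨heb, hbe⟩).2
    exact star hD3 hconj hb.1 ha.1 he hd hp.1 (fun c => hnab c.symm) hae hed hbe
      hb.2.2.symm ha.2.2.symm hbp.symm hap.symm hp.2.2.symm hp.2.1 hpa blockba
  -- the subgroup `U`
  have hpT : ∀ t ∈ ({a, b} ∪ {e | e ∈ D ∧ e ≠ a ∧ Commute a e ∧ ¬ Commute b e} ∪
      {e | e ∈ D ∧ e ≠ b ∧ Commute b e ∧ ¬ Commute a e} : Set G), Commute p t := by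
    rintro t ((ht | ht) | ht)
    · rcases ht with rfl | ht
      · exact hap.symm
      · rw [Set.mem_singleton_iff] at ht
        rw [ht]
        exact hbp.symm
    · exact starA t ht.1 ht.2.1 ht.2.2.1 ht.2.2.2
    · exact starB t ht.1 ht.2.1 ht.2.2.1 ht.2.2.2
  have haT : a ∈ ({a, b} ∪ {e | e ∈ D ∧ e ≠ a ∧ Commute a e ∧ ¬ Commute b e} ∪
      {e | e ∈ D ∧ e ≠ b ∧ Commute b e ∧ ¬ Commute a e} : Set G) := Or.inl (Or.inl (Or.inl rfl))
  have hbT : b ∈ ({a, b} ∪ {e | e ∈ D ∧ e ≠ a ∧ Commute a e ∧ ¬ Commute b e} ∪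
      {e | e ∈ D ∧ e ≠ b ∧ Commute b e ∧ ¬ Commute a e} : Set G) := Or.inl (Or.inl (Or.inr rfl))
  have htop : Subgroup.closure ({y : G | y ∈ D ∧ Commute a y} ∪ {b}) = ⊤ := by
    apply h.hmax a ha.1 _ _ _ b (Or.inr rfl) hnab
    · rintro s (hs | hs)
      · exact hs.1
      · rw [Set.mem_singleton_iff] at hs
        rw [hs]
        exact hb.1
    · intro s hs has
      exact Or.inl ⟨hs, has⟩
  have hSD : ∀ s ∈ ({y : G | y ∈ D ∧ Commute a y} ∪ {b} : Set G), s ∈ D := by
    rintro s (hs | hs)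
    · exact hs.1
    · rw [Set.mem_singleton_iff] at hs
      rw [hs]
      exact hb.1
  have hSn : ∀ s ∈ ({y : G | y ∈ D ∧ Commute a y} ∪ {b} : Set G),
      ∀ n ∈ ((Subgroup.closure ({a, b} ∪ {e | e ∈ D ∧ e ≠ a ∧ Commute a e ∧ ¬ Commute b e} ∪
        {e | e ∈ D ∧ e ≠ b ∧ Commute b e ∧ ¬ Commute a e}) : Subgroup G) : Set G),
      s * n * s⁻¹ ∈ ((Subgroup.closure ({a, b} ∪
        {e | e ∈ D ∧ e ≠ a ∧ Commute a e ∧ ¬ Commute b e} ∪
        {e | e ∈ D ∧ e ≠ b ∧ Commute b e ∧ ¬ Commute a e}) : Subgroup G) : Set G) := by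
    have inner : ∀ s, s ∈ Subgroup.closure ({a, b} ∪
        {e | e ∈ D ∧ e ≠ a ∧ Commute a e ∧ ¬ Commute b e} ∪
        {e | e ∈ D ∧ e ≠ b ∧ Commute b e ∧ ¬ Commute a e}) →
        ∀ n ∈ Subgroup.closure ({a, b} ∪ {e | e ∈ D ∧ e ≠ a ∧ Commute a e ∧ ¬ Commute b e} ∪
          {e | e ∈ D ∧ e ≠ b ∧ Commute b e ∧ ¬ Commute a e}),
        s * n * s⁻¹ ∈ Subgroup.closure ({a, b} ∪
          {e | e ∈ D ∧ e ≠ a ∧ Commute a e ∧ ¬ Commute b e} ∪
          {e | e ∈ D ∧ e ≠ b ∧ Commute b e ∧ ¬ Commute a e}) := by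
      intro s hs n hn
      exact Subgroup.mul_mem _ (Subgroup.mul_mem _ hs hn) (Subgroup.inv_mem _ hs)
    rintro s (hs | hs)
    · by_cases hsa : s = a
      · rw [hsa]
        exact inner a (Subgroup.subset_closure haT)
      by_cases hsb : Commute b s
      · -- `s` commutes with `a` and `b`: it permutes the generators
        apply conj_closure_mem
        have ss := mul_self_of_mem hD3 hs.1
        have hsa' : s * a * s⁻¹ = a := by
          rw [inv_of_mem hD3 hs.1]
          exact conj_of_commute_invol ss hs.2.symm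
        have hsb' : s * b * s⁻¹ = b := by
          rw [inv_of_mem hD3 hs.1]
          exact conj_of_commute_invol ss hsb.symm
        rintro t ((ht | ht) | ht)
        · rcases ht with rfl | ht
          · rw [hsa']
            exact Subgroup.subset_closure haT
          · rw [Set.mem_singleton_iff] at ht
            rw [ht, hsb']
            exact Subgroup.subset_closure hbT
        · apply Subgroup.subset_closure
          refine Or.inl (Or.inr ⟨h.conj_mem s ht.1, ?_, ?_, ?_⟩)
          · intro h1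
            apply ht.2.1
            apply conj_inj s
            show s * t * s⁻¹ = s * a * s⁻¹
            rw [h1, hsa']
          · have := (Commute.conj_iff s).mpr ht.2.2.1
            rwa [hsa'] at this
          · intro h1
            apply ht.2.2.2
            rw [← hsb'] at h1
            exact (Commute.conj_iff s).mp h1
        · apply Subgroup.subset_closure
          refine Or.inr ⟨h.conj_mem s ht.1, ?_, ?_, ?_⟩
          · intro h1
            apply ht.2.1
            apply conj_inj s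
            show s * t * s⁻¹ = s * b * s⁻¹
            rw [h1, hsb']
          · have := (Commute.conj_iff s).mpr ht.2.2.1
            rwa [hsb'] at this
          · intro h1
            apply ht.2.2.2
            rw [← hsa'] at h1
            exact (Commute.conj_iff s).mp h1
      · exact inner s (Subgroup.subset_closure (Or.inl (Or.inr ⟨hs.1, hsa, hs.2, hsb⟩)))
    · rw [Set.mem_singleton_iff] at hs
      rw [hs]
      exact inner b (Subgroup.subset_closure hbT)
  have hN := conj_invariant_of_closure_eq_top htop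
    (fun s hs => mul_self_of_mem hD3 (hSD s hs)) hSn
  have hDN : D ⊆ ((Subgroup.closure ({a, b} ∪
      {e | e ∈ D ∧ e ≠ a ∧ Commute a e ∧ ¬ Commute b e} ∪
      {e | e ∈ D ∧ e ≠ b ∧ Commute b e ∧ ¬ Commute a e}) : Subgroup G) : Set G) := by
    intro x hx
    obtain ⟨g, hg⟩ := class_trans h.hD a ha.1 x hx
    rw [← hg]
    exact hN g a (Subgroup.subset_closure haT)
  have hNtop : Subgroup.closure ({a, b} ∪
      {e | e ∈ D ∧ e ≠ a ∧ Commute a e ∧ ¬ Commute b e} ∪
      {e | e ∈ D ∧ e ≠ b ∧ Commute b e ∧ ¬ Commute a e}) = ⊤ := by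
    rw [eq_top_iff, ← h.hD.2.2]
    exact (Subgroup.closure_le _).mpr hDN
  apply h.hncen p hp.1
  have hle : Subgroup.closure ({a, b} ∪
      {e | e ∈ D ∧ e ≠ a ∧ Commute a e ∧ ¬ Commute b e} ∪
      {e | e ∈ D ∧ e ≠ b ∧ Commute b e ∧ ¬ Commute a e}) ≤
      Subgroup.centralizer ({p} : Set G) := by
    rw [Subgroup.closure_le]
    intro t ht
    rw [SetLike.mem_coe, Subgroup.mem_centralizer_iff]
    intro x hx
    rw [Set.mem_singleton_iff] at hx
    rw [hx]
    exact (hpT t ht).eq
  rw [Subgroup.mem_center_iff]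
  intro g
  have := hle (hNtop ▸ Subgroup.mem_top g)
  rw [Subgroup.mem_centralizer_iff] at this
  exact (this p rfl).symm

/-- **λ = 0 at `d`**: if a normal subgroup of `⟨D_d⟩` without involutions is not centralized by
`D_d`, then no two different members of `D_d` commute. -/
theorem lam0_at (h : FI D) {d : G} (hd : d ∈ D) {K : Subgroup G} (hK1 : K ≤ X D d)
    (hK2 : ∀ x ∈ X D d, ∀ k ∈ K, x * k * x⁻¹ ∈ K) (hK3 : ∀ k ∈ K, k * k = 1 → k = 1)
    {a k : G} (ha : a ∈ Dset D d) (hk : k ∈ K) (hne : k * a * k⁻¹ ≠ a) :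
    ∀ a' ∈ Dset D d, ∀ p ∈ Dset D d, Commute a' p → p = a' := by
  obtain ⟨hb, hW⟩ := wpartner h hK1 hK2 hK3 ha hk hne
  have key := no_common h hd ha hb (Ne.symm hne) hW
  intro a' ha' p hp hc
  obtain ⟨g, hg, hga⟩ := h.trans hd a ha a' ha'
  have hp' : g⁻¹ * p * g⁻¹⁻¹ ∈ Dset D d :=
    TTRank.conj_mem_Dset h (Subgroup.inv_mem _ hg) hp
  have hc' : Commute a (g⁻¹ * p * g⁻¹⁻¹) := by
    rw [← hga] at hc
    have := (Commute.conj_iff g⁻¹).mpr hc
    have e1 : g⁻¹ * (g * a * g⁻¹) * g⁻¹⁻¹ = a := by group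
    rwa [e1] at this
  have := key _ hp' hc'
  rw [← hga, ← this]
  group

end

end Cfsg.Agent.Lib.Helper25.TTDx
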