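import Mathlib
import Cfsg.Prelude
import Cfsg.Agent.Lib.Helper25.TTDxA

/-!
# Cocliques of 3-transpositions closed under their own conjugations have `3`-power size

`ncard_pow_three`: a non-empty set `S` of 3-transpositions, no two of which commute, closed under
conjugation by its own members, has `3 ^ j` members (via S5346: `⟨S⟩ = ⟨s⟩ O₃(⟨S⟩)`).
-/

set_option autoImplicit false

namespace Cfsg.Agent.Lib.Helper25.TTDx

open Cfsg Cfsg.Agent.Lib.Helper27.TT Cfsg.Agent.Lib.Helper25.TTFischer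
  Cfsg.Agent.Lib.Helper25.TTRank

/-- A generating class of 3-transpositions of width one has `3`-power size. -/
theorem card_pow_three_of_width_one {K : Type*} [Group K] [Finite K] {E : Set K}
    (hE : Cfsg.IsThreeTranspositionGroup E) {d : K} (hd : d ∈ E)
    (hclass : ∀ b ∈ E, ∃ g : K, g * d * g⁻¹ = b)
    (hnc : ∀ a ∈ E, ∀ b ∈ E, Commute a b → a = b) : ∃ j : ℕ, E.ncard = 3 ^ j := by
  haveI : Fact (Nat.Prime 3) := ⟨Nat.prime_three⟩
  have hw : Cfsg.commutingWidth E = 1 :=
    (Cfsg.Agent.Lib.Helper27.W1.width_eq_one_iff hd).mpr hnc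
  have htop := (Cfsg.Agent.S5346.result hE hd).mp hw
  haveI hN : (Cfsg.pCore 3 K).Normal := Cfsg.Agent.Lib.Helper16.pCore_normal
  have hP : IsPGroup 3 (Cfsg.pCore 3 K) := Cfsg.Agent.Lib.Helper16.pCore_isPGroup
  -- every member of `E` is conjugate to `d` under `O₃`
  have hEq : ∀ b ∈ E, ∃ n ∈ Cfsg.pCore 3 K, n * d * n⁻¹ = b := by
    intro b hb
    obtain ⟨g, hg⟩ := hclass b hb
    have hgtop : g ∈ Cfsg.pCore 3 K ⊔ Subgroup.zpowers d := by
      rw [sup_comm, htop]
      exact Subgroup.mem_top g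
    rw [← SetLike.mem_coe, Subgroup.normal_mul] at hgtop
    obtain ⟨n, hn, z, hz, rfl⟩ := hgtop
    refine ⟨n, hn, ?_⟩
    obtain ⟨m, rfl⟩ := Subgroup.mem_zpowers_iff.mp hz
    have hc : Commute (d ^ m) d := (Commute.refl d).zpow_left m
    rw [← hg]
    have e1 : n * d ^ m * d * (n * d ^ m)⁻¹ = n * (d ^ m * d * (d ^ m)⁻¹) * n⁻¹ := by group
    rw [e1, hc.eq, mul_inv_cancel_right]
  -- the orbit of `d` under `O₃` acting by conjugation
  have hP' : IsPGroup 3 ((Cfsg.pCore 3 K).map
      (ConjAct.toConjAct (G := K)).toMonoidHom) := hP.map _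
  obtain ⟨j, hj⟩ := hP'.card_orbit d
  refine ⟨j, ?_⟩
  have horb : MulAction.orbit ((Cfsg.pCore 3 K).map
      (ConjAct.toConjAct (G := K)).toMonoidHom) d = E := by
    ext x
    constructor
    · rintro ⟨⟨n', hn'⟩, rfl⟩
      obtain ⟨n, -, rfl⟩ := hn'
      show ConjAct.toConjAct n • d ∈ E
      rw [ConjAct.toConjAct_smul]
      exact hE.2.1 n d hd
    · intro hx
      obtain ⟨n, hn, rfl⟩ := hEq x hx
      refine ⟨⟨ConjAct.toConjAct n, ⟨n, hn, rfl⟩⟩, ?_⟩
      show ConjAct.toConjAct n • d = n * d * n⁻¹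
      rw [ConjAct.toConjAct_smul]
  rw [← hj, ← horb]
  exact (Nat.card_coe_set_eq _).symm

variable {G : Type*} [Group G] [Finite G] {D : Set G}

/-- A non-empty coclique of 3-transpositions closed under conjugation by its members has
`3`-power size. -/
theorem ncard_pow_three (hD3 : IsThreeTranspositionSet D) {S : Set G} (hS : S ⊆ D)
    (hne : S.Nonempty) (hinv : ∀ s ∈ S, ∀ t ∈ S, s * t * s⁻¹ ∈ S)
    (hnc : ∀ a ∈ S, ∀ b ∈ S, Commute a b → a = b) : ∃ j : ℕ, S.ncard = 3 ^ j := by
  obtain ⟨d, hd⟩ := hne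
  -- conjugation by `⟨S⟩` preserves `S`
  have hKinv : ∀ g ∈ Subgroup.closure S, ∀ t : G, g * t * g⁻¹ ∈ S ↔ t ∈ S := by
    intro g hg
    induction hg using Subgroup.closure_induction with
    | mem s hs =>
      intro t
      have ss := mul_self_of_mem hD3 (hS hs)
      have hsi : s⁻¹ = s := inv_of_mem hD3 (hS hs)
      constructor
      · intro h1
        have := hinv s hs _ h1
        rw [hsi] at this
        have e1 : s * (s * t * s) * s = (s * s) * t * (s * s) := by simp only [mul_assoc]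
        rw [e1, ss, one_mul, mul_one] at this
        exact this
      · exact hinv s hs t
    | one => intro t; rw [one_mul, inv_one, mul_one]
    | mul x y _ _ hx hy =>
      intro t
      have e1 : x * y * t * (x * y)⁻¹ = x * (y * t * y⁻¹) * x⁻¹ := by group
      rw [e1, hx, hy]
    | inv x _ hx =>
      intro t
      rw [← hx (x⁻¹ * t * x⁻¹⁻¹)]
      have e1 : x * (x⁻¹ * t * x⁻¹⁻¹) * x⁻¹ = t := by group
      rw [e1]
  -- the class in `↥⟨S⟩`
  have hE : Cfsg.IsThreeTranspositionGroup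
      ({x : ↥(Subgroup.closure S) | (x : G) ∈ S} : Set ↥(Subgroup.closure S)) := by
    refine ⟨⟨?_, ?_⟩, ?_, ?_⟩
    · intro x hx
      rw [← Subgroup.orderOf_coe]
      exact hD3.1 _ (hS hx)
    · intro x hx y hy
      rcases hD3.2 _ (hS hx) _ (hS hy) with h1 | h1
      · left
        apply Subtype.ext
        rw [Subgroup.coe_pow, Subgroup.coe_mul, h1, Subgroup.coe_one]
      · right
        apply Subtype.ext
        rw [Subgroup.coe_pow, Subgroup.coe_mul, h1, Subgroup.coe_one]
    · intro g x hx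
      show ((g * x * g⁻¹ : ↥(Subgroup.closure S)) : G) ∈ S
      rw [Subgroup.coe_mul, Subgroup.coe_mul, Subgroup.coe_inv]
      exact (hKinv g g.2 x).mpr hx
    · exact Subgroup.closure_closure_coe_preimage
  have hdK : d ∈ Subgroup.closure S := Subgroup.subset_closure hd
  have hclass : ∀ b ∈ ({x : ↥(Subgroup.closure S) | (x : G) ∈ S} : Set ↥(Subgroup.closure S)),
      ∃ g : ↥(Subgroup.closure S), g * (⟨d, hdK⟩ : ↥(Subgroup.closure S)) * g⁻¹ = b := by
    intro b hb
    by_cases hbd : (b : G) = d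
    · refine ⟨1, ?_⟩
      apply Subtype.ext
      rw [one_mul, inv_one, mul_one]
      exact hbd.symm
    · have hnc' : ¬ Commute d (b : G) := fun hc => hbd (hnc d hd _ hb hc).symm
      have hbr := braid hD3 (hS hd) (hS hb) hnc'
      have hg : (b : G) * d * (b : G) ∈ S := by
        have := hinv _ hb d hd
        rwa [inv_of_mem hD3 (hS hb)] at this
      refine ⟨⟨(b : G) * d * (b : G), Subgroup.subset_closure hg⟩, ?_⟩
      apply Subtype.ext
      rw [Subgroup.coe_mul, Subgroup.coe_mul, Subgroup.coe_inv]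
      show (b : G) * d * (b : G) * d * ((b : G) * d * (b : G))⁻¹ = (b : G)
      have hgi : ((b : G) * d * (b : G))⁻¹ = (b : G) * d * (b : G) := inv_of_mem hD3 (hS hg)
      rw [hgi]
      exact word1 (mul_self_of_mem hD3 (hS hd)) (mul_self_of_mem hD3 (hS hb)) hbr
  have hnc'' : ∀ a ∈ ({x : ↥(Subgroup.closure S) | (x : G) ∈ S} : Set ↥(Subgroup.closure S)),
      ∀ b ∈ ({x : ↥(Subgroup.closure S) | (x : G) ∈ S} : Set ↥(Subgroup.closure S)),
      Commute a b → a = b := by
    intro a ha b hb hc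
    apply Subtype.ext
    apply hnc _ ha _ hb
    have := congrArg Subtype.val hc.eq
    rw [Subgroup.coe_mul, Subgroup.coe_mul] at this
    exact this
  obtain ⟨j, hj⟩ := card_pow_three_of_width_one hE (d := ⟨d, hdK⟩) hd hclass hnc''
  refine ⟨j, ?_⟩
  rw [← hj]
  have hpre : ({x : ↥(Subgroup.closure S) | (x : G) ∈ S} : Set ↥(Subgroup.closure S)) =
      Subtype.val ⁻¹' S := rfl
  rw [hpre, Set.ncard_preimage_of_injective_subset_range Subtype.val_injective]
  intro s hs
  exact ⟨⟨s, Subgroup.subset_closure hs⟩, rfl⟩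

end Cfsg.Agent.Lib.Helper25.TTDx
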