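import Mathlib
import Cfsg.Prelude
import Cfsg.Agent.Lib.Helper25.TTDxB
import Cfsg.Agent.Lib.Helper25.SRGIntegral

/-!
# The commuting graph of a Fischer class with `λ = 0` is strongly regular

`srg_of_lam0` feeds the adjacency matrix of the commuting graph into `SRG.srg_integrality`.
-/

set_option autoImplicit false

namespace Cfsg.Agent.Lib.Helper25.TTDx

open Cfsg Cfsg.Agent.Lib.Helper27.TT Cfsg.Agent.Lib.Helper25.TTFischer
  Cfsg.Agent.Lib.Helper25.TTRank

variable {G : Type*} [Group G] [Finite G] {D : Set G}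

theorem count_eq (D : Set G) [Fintype ↥D] (q : G → Prop) [DecidablePred q] :
    (∑ w : ↥D, if q (w : G) then (1 : ℝ) else 0) = ({x : G | x ∈ D ∧ q x}.ncard : ℝ) := by
  rw [Finset.sum_boole]
  congr 1
  rw [← Fintype.card_subtype, ← Nat.card_eq_fintype_card, ← Nat.card_coe_set_eq]
  exact Nat.card_congr (Equiv.subtypeSubtypeEquivSubtypeInter (fun x => x ∈ D) q)

theorem boole_mul_boole (p q : Prop) [Decidable p] [Decidable q] :
    (if p then (1 : ℝ) else 0) * (if q then (1 : ℝ) else 0) = if p ∧ q then 1 else 0 := by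
  by_cases hp : p <;> by_cases hq : q <;> simp [hp, hq]

open Classical in
/-- The adjacency matrix of the commuting graph on `D`. -/
noncomputable def adjM (D : Set G) : Matrix ↥D ↥D ℝ :=
  Matrix.of fun y z => if ((y : G) ≠ (z : G) ∧ Commute (y : G) (z : G)) then (1 : ℝ) else 0

open Classical in
theorem adjM_apply (D : Set G) (y z : ↥D) :
    adjM D y z = if ((y : G) ≠ (z : G) ∧ Commute (y : G) (z : G)) then (1 : ℝ) else 0 := rfl

open Classical in
theorem srg_of_lam0 (hne : D.Nonempty) (k μ : ℕ) (hμk : μ ≤ k)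
    (hk : ∀ d ∈ D, (Dset D d).ncard = k)
    (hμ : ∀ d ∈ D, ∀ u ∈ Aset D d, (Gam D d u).ncard = μ)
    (hlam : ∀ d ∈ D, ∀ a ∈ Dset D d, ∀ p ∈ Dset D d, Commute a p → p = a) :
    (μ : ℝ) * (D.ncard : ℝ) = k * k - k + μ + μ * k ∧
    (IsSquare (μ ^ 2 + 4 * (k - μ)) ∨ (μ : ℝ) * ((D.ncard : ℝ) - 1) = 2 * k) := by
  letI : Fintype ↥D := Fintype.ofFinite _
  haveI : Nonempty ↥D := hne.to_subtype
  have hcard : (Fintype.card ↥D : ℝ) = (D.ncard : ℝ) := by
    rw [← Nat.card_eq_fintype_card, Nat.card_coe_set_eq]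
  have hrow : ∀ y : ↥D, (∑ w : ↥D,
      if ((y : G) ≠ (w : G) ∧ Commute (y : G) (w : G)) then (1 : ℝ) else 0) = k := by
    intro y
    rw [count_eq D (fun x => (y : G) ≠ x ∧ Commute (y : G) x)]
    congr 1
    rw [← hk y y.2]
    congr 1
    ext x
    constructor
    · rintro ⟨hx, hne', hc⟩
      exact ⟨hx, hne'.symm, hc⟩
    · rintro ⟨hx, hne', hc⟩
      exact ⟨hx, hne'.symm, hc⟩
  have hcol : ∀ z : ↥D, (∑ w : ↥D,
      if ((w : G) ≠ (z : G) ∧ Commute (w : G) (z : G)) then (1 : ℝ) else 0) = k := by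
    intro z
    rw [count_eq D (fun x => x ≠ (z : G) ∧ Commute x (z : G))]
    congr 1
    rw [← hk z z.2]
    congr 1
    ext x
    constructor
    · rintro ⟨hx, hne', hc⟩
      exact ⟨hx, hne', hc.symm⟩
    · rintro ⟨hx, hne', hc⟩
      exact ⟨hx, hne', hc.symm⟩
  have key := SRG.srg_integrality (adjM D) k μ hμk ?_ ?_ ?_ ?_
  · rwa [hcard] at key
  · -- A²
    ext y z
    rw [Matrix.mul_apply]
    simp only [adjM_apply, boole_mul_boole]
    rw [count_eq D (fun x => ((y : G) ≠ x ∧ Commute (y : G) x) ∧ (x ≠ (z : G) ∧ Commute x (z : G)))]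
    simp only [Matrix.sub_apply, Matrix.add_apply, Matrix.smul_apply, Matrix.one_apply,
      SRG.allOnes, smul_eq_mul, mul_one, adjM_apply]
    by_cases hyz : (y : G) = (z : G)
    · have hyz' : y = z := Subtype.ext hyz
      have hset : {x : G | x ∈ D ∧ ((y : G) ≠ x ∧ Commute (y : G) x) ∧
          (x ≠ (z : G) ∧ Commute x (z : G))} = Dset D (y : G) := by
        ext x
        constructor
        · rintro ⟨hx, ⟨hne', hc⟩, -⟩
          exact ⟨hx, hne'.symm, hc⟩
        · rintro ⟨hx, hne', hc⟩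
          exact ⟨hx, ⟨hne'.symm, hc⟩, ⟨hyz ▸ hne', hyz ▸ hc.symm⟩⟩
      rw [hset, hk y y.2, if_pos hyz', if_neg (fun hcon => hcon.1 hyz)]
      ring
    · have hyz' : y ≠ z := fun h1 => hyz (congrArg Subtype.val h1)
      by_cases hc : Commute (y : G) (z : G)
      · have hset : {x : G | x ∈ D ∧ ((y : G) ≠ x ∧ Commute (y : G) x) ∧
            (x ≠ (z : G) ∧ Commute x (z : G))} = ∅ := by
          ext x
          simp only [Set.mem_ofPred_eq, Set.mem_empty_iff_false, iff_false]
          rintro ⟨hx, ⟨hne', hc1⟩, ⟨hne'', hc2⟩⟩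
          apply hne''
          exact hlam y y.2 z ⟨z.2, fun h1 => hyz h1.symm, hc⟩ x ⟨hx, hne'.symm, hc1⟩ hc2.symm
        rw [hset, Set.ncard_empty, if_neg hyz', if_pos ⟨hyz, hc⟩]
        push_cast
        ring
      · have hset : {x : G | x ∈ D ∧ ((y : G) ≠ x ∧ Commute (y : G) x) ∧
            (x ≠ (z : G) ∧ Commute x (z : G))} = Gam D (y : G) (z : G) := by
          ext x
          constructor
          · rintro ⟨hx, ⟨-, hc1⟩, ⟨-, hc2⟩⟩
            exact ⟨hx, hc1, hc2.symm⟩
          · rintro ⟨hx, hc1, hc2⟩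
            refine ⟨hx, ⟨?_, hc1⟩, ⟨?_, hc2.symm⟩⟩
            · rintro rfl
              exact hc hc2.symm
            · rintro rfl
              exact hc hc1
        rw [hset, hμ y y.2 z ⟨z.2, hc⟩, if_neg hyz', if_neg (fun hcon => hc hcon.2)]
        ring
  · -- A J
    ext y z
    rw [Matrix.mul_apply]
    simp only [adjM_apply, SRG.allOnes, mul_one, Matrix.smul_apply, smul_eq_mul]
    exact hrow y
  · -- J A
    ext y z
    rw [Matrix.mul_apply]
    simp only [adjM_apply, SRG.allOnes, one_mul, Matrix.smul_apply, smul_eq_mul, mul_one]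
    exact hcol z
  · -- trace
    unfold Matrix.trace
    apply Finset.sum_eq_zero
    intro y _
    rw [Matrix.diag_apply, adjM_apply, if_neg]
    exact fun hcon => hcon.1 rfl

end Cfsg.Agent.Lib.Helper25.TTDx
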