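import Mathlib
import Cfsg.Prelude
import Cfsg.Agent.Lib.Helper25.TTDxC

/-!
# A Fischer class whose commuting graph is triangle-free has the parameters of `S₅`

`params`: under `FI` and `λ = 0`, `|D_d| = 3`, `|D_d ∩ D_u| = 1` and `|D| = 10`.
-/

set_option autoImplicit false

namespace Cfsg.Agent.Lib.Helper25.TTDx

open Cfsg Cfsg.Agent.Lib.Helper27.TT Cfsg.Agent.Lib.Helper25.TTFischer
  Cfsg.Agent.Lib.Helper25.TTRank

variable {G : Type*} [Group G] [Finite G] {D : Set G}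

theorem dset_conj (h : FI D) (g d : G) : Dset D (g * d * g⁻¹) = cjs g (Dset D d) := by
  ext y
  rw [mem_cjs]
  have e1 : g⁻¹ * (g * d * g⁻¹) * g = d := by group
  constructor
  · rintro ⟨hy, hne, hc⟩
    refine ⟨?_, ?_, ?_⟩
    · have := h.conj_mem g⁻¹ hy
      rwa [inv_inv] at this
    · intro h1
      apply hne
      rw [← h1]
      group
    · have := (commute_conj_inv_iff g (g * d * g⁻¹) y).mpr hc
      rwa [e1] at this
  · rintro ⟨hy, hne, hc⟩
    refine ⟨?_, ?_, ?_⟩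
    · have := h.conj_mem g hy
      have e2 : g * (g⁻¹ * y * g) * g⁻¹ = y := by group
      rwa [e2] at this
    · intro h1
      apply hne
      rw [h1]
      group
    · apply (commute_conj_inv_iff g (g * d * g⁻¹) y).mp
      rwa [e1]

theorem gam_conj (h : FI D) (g d u : G) :
    Gam D (g * d * g⁻¹) (g * u * g⁻¹) = cjs g (Gam D d u) := by
  ext y
  rw [mem_cjs]
  have e1 : g⁻¹ * (g * d * g⁻¹) * g = d := by group
  have e3 : g⁻¹ * (g * u * g⁻¹) * g = u := by group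
  constructor
  · rintro ⟨hy, hc, hc'⟩
    refine ⟨?_, ?_, ?_⟩
    · have := h.conj_mem g⁻¹ hy
      rwa [inv_inv] at this
    · have := (commute_conj_inv_iff g (g * d * g⁻¹) y).mpr hc
      rwa [e1] at this
    · have := (commute_conj_inv_iff g (g * u * g⁻¹) y).mpr hc'
      rwa [e3] at this
  · rintro ⟨hy, hc, hc'⟩
    refine ⟨?_, ?_, ?_⟩
    · have := h.conj_mem g hy
      have e2 : g * (g⁻¹ * y * g) * g⁻¹ = y := by group
      rwa [e2] at this
    · apply (commute_conj_inv_iff g (g * d * g⁻¹) y).mp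
      rwa [e1]
    · apply (commute_conj_inv_iff g (g * u * g⁻¹) y).mp
      rwa [e3]

theorem ncard_dset_eq (h : FI D) {d d' : G} (hd : d ∈ D) (hd' : d' ∈ D) :
    (Dset D d').ncard = (Dset D d).ncard := by
  obtain ⟨g, rfl⟩ := class_trans h.hD d hd d' hd'
  rw [dset_conj h, ncard_cjs]

theorem ncard_gam_eq (h : FI D) {d u d' u' : G} (hd : d ∈ D) (hu : u ∈ Aset D d)
    (hd' : d' ∈ D) (hu' : u' ∈ Aset D d') : (Gam D d' u').ncard = (Gam D d u).ncard := by
  obtain ⟨g, rfl⟩ := class_trans h.hD d hd d' hd'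
  have hu1 : g * u * g⁻¹ ∈ Aset D (g * d * g⁻¹) :=
    ⟨h.conj_mem g hu.1, fun hc => hu.2 ((Commute.conj_iff g).mp hc)⟩
  obtain ⟨c, hc, hcu⟩ := rel_of_mem_Aset h hd' _ hu1 _ hu'
  have e1 : c * (g * d * g⁻¹) * c⁻¹ = g * d * g⁻¹ := by rw [hc.eq, mul_inv_cancel_right]
  have e2 : Gam D (g * d * g⁻¹) u' =
      Gam D (c * (g * d * g⁻¹) * c⁻¹) (c * (g * u * g⁻¹) * c⁻¹) := by rw [e1, hcu]
  rw [e2, gam_conj h, ncard_cjs, gam_conj h, ncard_cjs]

theorem gam_subset_dset {d u : G} (hu : u ∈ Aset D d) : Gam D d u ⊆ Dset D d := by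
  rintro y ⟨hy, hc, hc'⟩
  refine ⟨hy, ?_, hc⟩
  rintro rfl
  exact hu.2 hc'.symm

theorem aset_nonempty (h : FI D) {d : G} (hd : d ∈ D) : (Aset D d).Nonempty := by
  obtain ⟨b, hb⟩ := dset_nonempty h hd
  by_contra hcon
  apply hb.2.1
  apply h.hperp b hb.1 d hd
  intro y hy _
  by_contra hdy
  exact hcon ⟨y, hy, hdy⟩

theorem params (h : FI D)
    (hlam : ∀ d ∈ D, ∀ a ∈ Dset D d, ∀ p ∈ Dset D d, Commute a p → p = a) :
    (∀ d ∈ D, (Dset D d).ncard = 3) ∧ (∀ d ∈ D, ∀ u ∈ Aset D d, (Gam D d u).ncard = 1) ∧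
      D.ncard = 10 := by
  have hD3 := h.hD.1
  obtain ⟨d0, hd0, -⟩ := h.hD.2.1
  obtain ⟨u0, hu0⟩ := aset_nonempty h hd0
  have hk : ∀ d ∈ D, (Dset D d).ncard = (Dset D d0).ncard := fun d hd => ncard_dset_eq h hd0 hd
  have hμ : ∀ d ∈ D, ∀ u ∈ Aset D d, (Gam D d u).ncard = (Gam D d0 u0).ncard :=
    fun d hd u hu => ncard_gam_eq h hd0 hu0 hd hu
  -- powers of three
  obtain ⟨j, hj⟩ := ncard_pow_three hD3 (S := Dset D d0) (fun x hx => hx.1)
    (dset_nonempty h hd0)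
    (fun s hs t ht => TTRank.conj_mem_Dset h (mem_X_of_mem hs) ht)
    (fun a ha b hb hc => (hlam d0 hd0 a ha b hb hc).symm)
  have hsub := gam_subset_dset hu0
  obtain ⟨i, hi⟩ := ncard_pow_three hD3 (S := Gam D d0 u0) (fun x hx => hx.1)
    (gam_nonempty h hd0 u0 hu0)
    (fun s hs t ht => by
      refine ⟨h.conj_mem s ht.1, ?_, ?_⟩
      · have := (Commute.conj_iff s).mpr ht.2.1
        rwa [hs.2.1.symm.eq, mul_inv_cancel_right] at this
      · have := (Commute.conj_iff s).mpr ht.2.2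
        rwa [hs.2.2.symm.eq, mul_inv_cancel_right] at this)
    (fun a ha b hb hc => (hlam d0 hd0 a (hsub ha) b (hsub hb) hc).symm)
  have hμk : (Gam D d0 u0).ncard ≤ (Dset D d0).ncard :=
    Set.ncard_le_ncard hsub (Set.toFinite _)
  -- `μ ≠ k`
  have hne : (Gam D d0 u0).ncard ≠ (Dset D d0).ncard := by
    intro heq
    obtain ⟨y, hy⟩ := dset_nonempty h hd0
    apply not_centralizes h hd0 (Δ := Aset D d0) (fun x hx => hx) ⟨u0, hu0⟩
      (fun g hg u hu => conj_mem_Aset h hg hu) hy.1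
    intro u hu
    have hsub' := gam_subset_dset hu
    have heq' : Gam D d0 u = Dset D d0 := by
      apply Set.eq_of_subset_of_ncard_le hsub' _ (Set.toFinite _)
      rw [hμ d0 hd0 u hu, heq]
    have : y ∈ Gam D d0 u := by rw [heq']; exact hy
    exact this.2.2.symm
  have hij : i < j := by
    have hlt : (3 : ℕ) ^ i < 3 ^ j := by
      rw [← hi, ← hj]
      exact lt_of_le_of_ne hμk hne
    exact (Nat.pow_lt_pow_iff_right (by norm_num)).mp hlt
  have hj1 : 1 ≤ j := by omega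
  have hk3 : 3 ≤ (Dset D d0).ncard := by
    rw [hj]
    calc 3 = 3 ^ 1 := by norm_num
      _ ≤ 3 ^ j := Nat.pow_le_pow_right (by norm_num) hj1
  have hμ1 : 1 ≤ (Gam D d0 u0).ncard := by
    rw [hi]
    exact Nat.one_le_pow _ _ (by norm_num)
  obtain ⟨hcount, hsq | hbad⟩ := srg_of_lam0 ⟨d0, hd0⟩ _ _ hμk hk hμ hlam
  · rw [hi, hj] at hsq
    obtain ⟨rfl, rfl⟩ := SRG.three_pow_case hij hsq
    rw [pow_zero] at hi
    rw [pow_one] at hj
    refine ⟨fun d hd => (hk d hd).trans hj, fun d hd u hu => (hμ d hd u hu).trans hi, ?_⟩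
    rw [hi, hj] at hcount
    have : (D.ncard : ℝ) = 10 := by
      push_cast at hcount
      linarith
    exact_mod_cast this
  · exfalso
    have h3 : (3 : ℝ) ≤ ((Dset D d0).ncard : ℝ) := by exact_mod_cast hk3
    have h1 : (1 : ℝ) ≤ ((Gam D d0 u0).ncard : ℝ) := by exact_mod_cast hμ1
    nlinarith

end Cfsg.Agent.Lib.Helper25.TTDx
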