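import Mathlib
import Cfsg.Prelude
import Cfsg.Agent.Lib.Helper25.TTDxD
import Cfsg.Agent.Lib.Helper18.S3Section
import Cfsg.Agent.Lib.Helper16.PCore

/-!
# Local structure of a triangle-free Fischer class with `|D_d| = 3`

`local_s3`: `⟨D_d⟩ ≅ S₃`; `card_pCore_three`: `|O_3(C_G(d))| = 3` when `Z(G) = 1`.
-/

set_option autoImplicit false

namespace Cfsg.Agent.Lib.Helper25.TTDx

open Cfsg Cfsg.Agent.Lib.Helper27.TT Cfsg.Agent.Lib.Helper25.TTFischer
  Cfsg.Agent.Lib.Helper25.TTRank

variable {G : Type*} [Group G] {D : Set G}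

/-- word identities in `S₃ = ⟨e, f⟩`. -/
theorem w_eg {e f : G} (hff : f * f = 1) (hb : e * f * e = f * e * f) :
    e * (f * e * f) = f * e := by
  calc e * (f * e * f) = (e * f * e) * f := by simp only [mul_assoc]
    _ = (f * e * f) * f := by rw [hb]
    _ = f * e * (f * f) := by simp only [mul_assoc]
    _ = f * e := by rw [hff, mul_one]

theorem w_ge {e f : G} (hff : f * f = 1) (hb : e * f * e = f * e * f) :
    (f * e * f) * e = e * f := by
  calc (f * e * f) * e = f * (e * f * e) := by simp only [mul_assoc]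
    _ = f * (f * e * f) := by rw [hb]
    _ = (f * f) * e * f := by simp only [mul_assoc]
    _ = e * f := by rw [hff, one_mul]

theorem w_fg {e f : G} (hff : f * f = 1) : f * (f * e * f) = e * f := by
  calc f * (f * e * f) = (f * f) * e * f := by simp only [mul_assoc]
    _ = e * f := by rw [hff, one_mul]

theorem w_gf {e f : G} (hff : f * f = 1) : (f * e * f) * f = f * e := by
  calc (f * e * f) * f = f * e * (f * f) := by simp only [mul_assoc]
    _ = f * e := by rw [hff, mul_one]

/-- An element of odd order preserving a pair `{u, u'}` under conjugation fixes `u`. -/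
theorem odd_fix {s u u' : G} {n : ℕ} (hn : Odd n) (hpow : s ^ n = 1)
    (h1 : s * u * s⁻¹ = u ∨ s * u * s⁻¹ = u') (h2 : s * u' * s⁻¹ = u ∨ s * u' * s⁻¹ = u') :
    s * u * s⁻¹ = u := by
  rcases h1 with h1 | h1
  · exact h1
  rcases h2 with h2 | h2
  · -- `s` swaps `u` and `u'`, so `s²` fixes `u`
    have hc2 : Commute (s ^ 2) u := by
      have : s ^ 2 * u * (s ^ 2)⁻¹ = u := by
        calc s ^ 2 * u * (s ^ 2)⁻¹ = s * (s * u * s⁻¹) * s⁻¹ := by
              rw [pow_two, mul_inv_rev]; simp only [mul_assoc]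
          _ = u := by rw [h1, h2]
      have h3 : s ^ 2 * u = u * s ^ 2 := by
        calc s ^ 2 * u = (s ^ 2 * u * (s ^ 2)⁻¹) * s ^ 2 := by
              rw [inv_mul_cancel_right]
          _ = u * s ^ 2 := by rw [this]
      exact h3
    obtain ⟨m, rfl⟩ := hn
    have hs : s⁻¹ = (s ^ 2) ^ m := by
      have : s * (s ^ 2) ^ m = 1 := by
        rw [← pow_mul, ← pow_succ']
        exact hpow
      exact inv_eq_of_mul_eq_one_right this
    have hc : Commute s⁻¹ u := by
      rw [hs]
      exact hc2.pow_left m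
    have hc' : Commute s u := by
      have := hc.inv_left
      rwa [inv_inv] at this
    rw [hc'.eq, mul_inv_cancel_right]
  · -- `s u' s⁻¹ = u' = s u s⁻¹` forces `u = u'`
    have : u' = u := by
      have h3 : s * u' * s⁻¹ = s * u * s⁻¹ := by rw [h1, h2]
      exact conj_inj s h3
    rw [h1, this]

/-- An element of odd order preserving a two-element set under conjugation fixes it pointwise. -/
theorem fix_of_pair {s : G} {n : ℕ} (hn : Odd n) (hpow : s ^ n = 1) {P : Set G}
    (hP : P.ncard = 2) (hinv : ∀ u ∈ P, s * u * s⁻¹ ∈ P) : ∀ u ∈ P, s * u * s⁻¹ = u := by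
  obtain ⟨a, b, hab, rfl⟩ := Set.ncard_eq_two.mp hP
  have ha := hinv a (by simp)
  have hb := hinv b (by simp)
  simp only [Set.mem_insert_iff, Set.mem_singleton_iff] at ha hb
  intro u hu
  simp only [Set.mem_insert_iff, Set.mem_singleton_iff] at hu
  rcases hu with rfl | rfl
  · exact odd_fix hn hpow ha hb
  · exact odd_fix hn hpow hb.symm ha.symm

variable [Finite G]

/-- The three elements of `D_d`. -/
theorem s3_data (h : FI D) {d : G}
    (hlam : ∀ a ∈ Dset D d, ∀ p ∈ Dset D d, Commute a p → p = a)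
    (hk : (Dset D d).ncard = 3) :
    ∃ e f : G, e ∈ Dset D d ∧ f ∈ Dset D d ∧ ¬ Commute e f ∧
      Dset D d = {e, f, f * e * f} := by
  obtain ⟨e, f, g, hef, heg, hfg, hset⟩ := Set.ncard_eq_three.mp hk
  have he : e ∈ Dset D d := by rw [hset]; simp
  have hf : f ∈ Dset D d := by rw [hset]; simp
  have hnc : ¬ Commute e f := fun hc => hef (hlam e he f hf hc).symm
  refine ⟨e, f, he, hf, hnc, ?_⟩
  have hfi : f⁻¹ = f := inv_of_mem h.hD.1 hf.1
  have hff : f * f = 1 := mul_self_of_mem h.hD.1 hf.1
  have hmem : f * e * f ∈ Dset D d := by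
    have := TTRank.conj_mem_Dset h (mem_X_of_mem hf) he
    rwa [hfi] at this
  rw [hset] at hmem
  simp only [Set.mem_insert_iff, Set.mem_singleton_iff] at hmem
  rcases hmem with h1 | h1 | h1
  · exfalso
    apply hnc
    have : f * e = e * f := by
      calc f * e = f * e * (f * f) := by rw [hff, mul_one]
        _ = (f * e * f) * f := by simp only [mul_assoc]
        _ = e * f := by rw [h1]
    exact this.symm
  · exfalso
    apply hef
    have h2 : f * (e * f) = f * 1 := by rw [mul_one, ← mul_assoc]; exact h1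
    have h3 : e * f = 1 := mul_left_cancel h2
    rw [eq_inv_of_mul_eq_one_left h3, hfi]
  · rw [hset, h1]

/-- `⟨D_d⟩ ≅ S₃`. -/
theorem local_s3 (h : FI D) {d : G}
    (hlam : ∀ a ∈ Dset D d, ∀ p ∈ Dset D d, Commute a p → p = a)
    (hk : (Dset D d).ncard = 3) :
    Nonempty (↥(X D d) ≃* Equiv.Perm (Fin 3)) := by
  obtain ⟨e, f, he, hf, hnc, hset⟩ := s3_data h hlam hk
  have hD3 := h.hD.1
  have hee := mul_self_of_mem hD3 he.1
  have hff := mul_self_of_mem hD3 hf.1
  have hei := inv_of_mem hD3 he.1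
  have hfi := inv_of_mem hD3 hf.1
  have hb := braid hD3 he.1 hf.1 hnc
  have hz3 : (f * e) ^ 3 = 1 :=
    pow_three_of_not_commute hD3 hf.1 he.1 (fun hc => hnc hc.symm)
  have hz1 : f * e ≠ 1 := by
    intro h1
    apply hnc
    have : f = e := by rw [← hei]; exact eq_inv_of_mul_eq_one_left h1
    rw [this]
  have hinv : e * (f * e) * e⁻¹ = (f * e)⁻¹ := by
    rw [mul_inv_rev, hei, hfi]
    simp only [mul_assoc, hee, mul_one]
  obtain ⟨φ⟩ := Cfsg.Agent.Lib.Helper18.S3Section.nonempty_closure_mulEquiv_perm_three e (f * e)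
    (by rw [pow_two]; exact hee) hz1 hz3 hinv
  have hg : (f * e) * e * (f * e)⁻¹ = f * e * f := by
    rw [mul_inv_rev, hei, hfi]
    calc f * e * e * (e * f) = f * e * (e * e) * f := by simp only [mul_assoc]
      _ = f * e * f := by rw [hee, mul_one]
  have hX : X D d = Subgroup.closure ({e, (f * e) * e * (f * e)⁻¹} : Set G) := by
    rw [hg]
    unfold X
    rw [hset]
    apply le_antisymm
    · rw [Subgroup.closure_le]
      intro y hy
      simp only [Set.mem_insert_iff, Set.mem_singleton_iff] at hy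
      rcases hy with hy | hy | hy
      · rw [hy]; exact Subgroup.subset_closure (by simp)
      · have hfe : f = e * (f * e * f) * e := by
          rw [w_eg hff hb, mul_assoc, hee, mul_one]
        rw [hy]
        have h1 : e ∈ Subgroup.closure ({e, f * e * f} : Set G) :=
          Subgroup.subset_closure (by simp)
        have h2 : f * e * f ∈ Subgroup.closure ({e, f * e * f} : Set G) :=
          Subgroup.subset_closure (by simp)
        have h3 := Subgroup.mul_mem _ (Subgroup.mul_mem _ h1 h2) h1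
        rwa [← hfe] at h3
      · rw [hy]; exact Subgroup.subset_closure (by simp)
    · apply Subgroup.closure_mono
      intro y hy
      simp only [Set.mem_insert_iff, Set.mem_singleton_iff] at hy ⊢
      rcases hy with hy | hy
      · exact Or.inl hy
      · exact Or.inr (Or.inr hy)
  exact ⟨(MulEquiv.subgroupCongr hX).trans φ⟩

/-- An element of odd order centralizing `d` and `D_d` is central. -/
theorem mem_center_of_fix (h : FI D) {d : G} (hd : d ∈ D)
    (hlam : ∀ d ∈ D, ∀ a ∈ Dset D d, ∀ p ∈ Dset D d, Commute a p → p = a)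
    (hk : ∀ d ∈ D, (Dset D d).ncard = 3)
    {s : G} {n : ℕ} (hn : Odd n) (hpow : s ^ n = 1) (hsd : Commute s d)
    (hs : ∀ y ∈ Dset D d, Commute s y) : s ∈ Subgroup.center G := by
  obtain ⟨e, he⟩ := dset_nonempty h hd
  have hde : d ∈ Dset D e := ⟨hd, fun h1 => he.2.1 h1.symm, he.2.2.symm⟩
  have hP : (Dset D e \ {d}).ncard = 2 := by
    rw [Set.ncard_sdiff_singleton_of_mem hde, hk e he.1]
  have hse : Commute s e := hs e he
  have hinv : ∀ u ∈ Dset D e \ {d}, s * u * s⁻¹ ∈ Dset D e \ {d} := by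
    rintro u ⟨⟨hu1, hu2, hu3⟩, hu4⟩
    refine ⟨⟨h.conj_mem s hu1, ?_, ?_⟩, ?_⟩
    · intro h1
      apply hu2
      have : s * u * s⁻¹ = s * e * s⁻¹ := by rw [h1, hse.eq, mul_inv_cancel_right]
      exact conj_inj s this
    · have := (Commute.conj_iff s).mpr hu3
      rwa [hse.eq, mul_inv_cancel_right] at this
    · intro h1
      apply hu4
      have h2 : s * u * s⁻¹ = d := h1
      have : s * u * s⁻¹ = s * d * s⁻¹ := by rw [h2, hsd.eq, mul_inv_cancel_right]
      exact conj_inj s this
  have hfix := fix_of_pair hn hpow hP hinv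
  have hne : (Dset D e \ {d}).Nonempty := by
    rw [← Set.ncard_pos (Set.toFinite _)]
    omega
  obtain ⟨u, hu⟩ := hne
  have hsu : Commute s u := by
    have h1 := hfix u hu
    have h2 : s * u = u * s := by
      calc s * u = (s * u * s⁻¹) * s := by rw [inv_mul_cancel_right]
        _ = u * s := by rw [h1]
    exact h2
  have hdu : ¬ Commute d u := by
    intro hc
    exact hu.2 (hlam e he.1 d hde u hu.1 hc)
  have htop := h.hmax d hd ({y | y ∈ D ∧ Commute d y} ∪ {u})
    (by
      rintro y (hy | hy)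
      · exact hy.1
      · rw [hy]; exact hu.1.1)
    (fun y hy hc => Or.inl ⟨hy, hc⟩) u (Or.inr rfl) hdu
  have hle : Subgroup.closure ({y | y ∈ D ∧ Commute d y} ∪ {u}) ≤
      Subgroup.centralizer ({s} : Set G) := by
    rw [Subgroup.closure_le]
    rintro y (hy | hy)
    · rw [SetLike.mem_coe, Subgroup.mem_centralizer_iff]
      intro t ht
      rw [Set.mem_singleton_iff] at ht
      rw [ht]
      by_cases hyd : y = d
      · rw [hyd]; exact hsd.eq
      · exact (hs y ⟨hy.1, hyd, hy.2⟩).eq
    · rw [SetLike.mem_coe, Subgroup.mem_centralizer_iff]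
      intro t ht
      rw [Set.mem_singleton_iff] at ht
      rw [ht, hy]
      exact hsu.eq
  rw [htop] at hle
  rw [Subgroup.mem_center_iff]
  intro g
  have hg := hle (Subgroup.mem_top g)
  rw [Subgroup.mem_centralizer_iff] at hg
  exact (hg s rfl).symm

/-- `|O_3(C_G(d))| = 3`. -/
theorem card_pCore_three (h : FI D) (hcen : Subgroup.center G = ⊥) {d : G} (hd : d ∈ D)
    (hlam : ∀ d ∈ D, ∀ a ∈ Dset D d, ∀ p ∈ Dset D d, Commute a p → p = a)
    (hk : ∀ d ∈ D, (Dset D d).ncard = 3) :
    Nat.card (Cfsg.pCore 3 ↥(Subgroup.centralizer ({d} : Set G))) = 3 := by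
  obtain ⟨e, f, he, hf, hnc, hset⟩ := s3_data h (hlam d hd) (hk d hd)
  have hD3 := h.hD.1
  have hee := mul_self_of_mem hD3 he.1
  have hff := mul_self_of_mem hD3 hf.1
  have hei := inv_of_mem hD3 he.1
  have hfi := inv_of_mem hD3 hf.1
  have hb := braid hD3 he.1 hf.1 hnc
  have hz3 : (f * e) ^ 3 = 1 :=
    pow_three_of_not_commute hD3 hf.1 he.1 (fun hc => hnc hc.symm)
  have hz1 : f * e ≠ 1 := by
    intro h1
    apply hnc
    have : f = e := by rw [← hei]; exact eq_inv_of_mul_eq_one_left h1
    rw [this]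
  have hzi : (f * e)⁻¹ = e * f := by rw [mul_inv_rev, hei, hfi]
  have hord : orderOf (f * e) = 3 := by
    haveI : Fact (Nat.Prime 3) := ⟨by norm_num⟩
    exact orderOf_eq_prime hz3 hz1
  haveI : Fact (Nat.Prime 3) := ⟨by norm_num⟩
  have hzm : f * e ∈ Subgroup.zpowers (f * e) := Subgroup.mem_zpowers _
  have hzim : e * f ∈ Subgroup.zpowers (f * e) := by rw [← hzi]; exact inv_mem hzm
  have hg : (f * e) * e * (f * e)⁻¹ = f * e * f := by
    rw [mul_inv_rev, hei, hfi]
    calc f * e * e * (e * f) = f * e * (e * e) * f := by simp only [mul_assoc]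
      _ = f * e * f := by rw [hee, mul_one]
  -- products of distinct elements of `D_d` lie in `⟨z⟩`
  have hprod : ∀ x ∈ Dset D d, ∀ y ∈ Dset D d, x ≠ y → x * y ∈ Subgroup.zpowers (f * e) := by
    intro x hx y hy hxy
    rw [hset] at hx hy
    simp only [Set.mem_insert_iff, Set.mem_singleton_iff] at hx hy
    rcases hx with hx | hx | hx
    · rcases hy with hy | hy | hy
      · exact absurd (hx.trans hy.symm) hxy
      · rw [hx, hy]; exact hzim
      · rw [hx, hy, w_eg hff hb]; exact hzm
    · rcases hy with hy | hy | hy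
      · rw [hx, hy]; exact hzm
      · exact absurd (hx.trans hy.symm) hxy
      · rw [hx, hy, w_fg hff]; exact hzim
    · rcases hy with hy | hy | hy
      · rw [hx, hy, w_ge hff hb]; exact hzim
      · rw [hx, hy, w_gf hff]; exact hzm
      · exact absurd (hx.trans hy.symm) hxy
  -- conjugation by `C(d)` preserves `D_d`
  have hconjD : ∀ c : G, Commute c d → ∀ y ∈ Dset D d, c * y * c⁻¹ ∈ Dset D d := by
    intro c hc y hy
    refine ⟨h.conj_mem c hy.1, ?_, ?_⟩
    · intro h1
      apply hy.2.1
      have : c * y * c⁻¹ = c * d * c⁻¹ := by rw [h1, hc.eq, mul_inv_cancel_right]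
      exact conj_inj c this
    · have := (Commute.conj_iff c).mpr hy.2.2
      rwa [hc.eq, mul_inv_cancel_right] at this
  have hnorm : ∀ c : G, Commute c d → ∀ n ∈ Subgroup.zpowers (f * e),
      c * n * c⁻¹ ∈ Subgroup.zpowers (f * e) := by
    intro c hc n hn
    obtain ⟨i, rfl⟩ := Subgroup.mem_zpowers_iff.mp hn
    have h1 : c * (f * e) * c⁻¹ ∈ Subgroup.zpowers (f * e) := by
      have : c * (f * e) * c⁻¹ = (c * f * c⁻¹) * (c * e * c⁻¹) := by group
      rw [this]
      apply hprod _ (hconjD c hc f hf) _ (hconjD c hc e he)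
      intro h2
      apply hnc
      rw [conj_inj c h2]
    rw [← conj_zpow]
    exact Subgroup.zpow_mem _ h1 i
  have hzd : Commute (f * e) d := Commute.mul_left hf.2.2.symm he.2.2.symm
  have hC : ∀ c ∈ Subgroup.centralizer ({d} : Set G), Commute c d := fun c hc =>
    ((Subgroup.mem_centralizer_iff.mp hc) d rfl).symm
  have hzC : f * e ∈ Subgroup.centralizer ({d} : Set G) := by
    rw [Subgroup.mem_centralizer_iff]
    intro t ht
    rw [Set.mem_singleton_iff] at ht
    rw [ht]
    exact hzd.eq.symm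
  have hzle : Subgroup.zpowers (f * e) ≤ Subgroup.centralizer ({d} : Set G) :=
    Subgroup.zpowers_le.mpr hzC
  have hNn : ((Subgroup.zpowers (f * e)).subgroupOf
      (Subgroup.centralizer ({d} : Set G))).Normal := by
    refine ⟨fun n hn c => ?_⟩
    rw [Subgroup.mem_subgroupOf] at hn ⊢
    simp only [Subgroup.coe_mul, InvMemClass.coe_inv]
    exact hnorm c (hC c c.2) n hn
  have hNp : IsPGroup 3 ((Subgroup.zpowers (f * e)).subgroupOf
      (Subgroup.centralizer ({d} : Set G))) := by
    intro n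
    refine ⟨1, ?_⟩
    have hn := n.2
    rw [Subgroup.mem_subgroupOf] at hn
    obtain ⟨i, hi⟩ := Subgroup.mem_zpowers_iff.mp hn
    apply Subtype.ext
    apply Subtype.ext
    simp only [pow_one, Subgroup.coe_pow, Subgroup.coe_one]
    rw [← hi, ← zpow_natCast, ← zpow_mul, mul_comm, zpow_mul, zpow_natCast, hz3, one_zpow]
  have hNle := Cfsg.Agent.Lib.Helper16.le_pCore _ hNn hNp
  have hTp : IsPGroup 3 (pCore 3 ↥(Subgroup.centralizer ({d} : Set G))) :=
    Cfsg.Agent.Lib.Helper16.pCore_isPGroup
  have hTle : pCore 3 ↥(Subgroup.centralizer ({d} : Set G)) ≤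
      (Subgroup.zpowers (f * e)).subgroupOf (Subgroup.centralizer ({d} : Set G)) := by
    intro t ht
    rw [Subgroup.mem_subgroupOf]
    have htd : Commute (t : G) d := hC t t.2
    have hte := hconjD t htd e he
    have hw : ∃ w ∈ Subgroup.zpowers (f * e), w * e * w⁻¹ = (t : G) * e * (t : G)⁻¹ := by
      rw [hset] at hte
      simp only [Set.mem_insert_iff, Set.mem_singleton_iff] at hte
      rcases hte with h1 | h1 | h1
      · exact ⟨1, one_mem _, by rw [h1]; group⟩
      · refine ⟨e * f, hzim, ?_⟩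
        rw [h1, mul_inv_rev, hei, hfi]
        calc e * f * e * (f * e) = e * (f * e * f) * e := by simp only [mul_assoc]
          _ = f := by rw [w_eg hff hb, mul_assoc, hee, mul_one]
      · refine ⟨f * e, hzm, ?_⟩
        rw [h1]
        exact hg
    obtain ⟨w, hwz, hwe⟩ := hw
    have hwC : w ∈ Subgroup.centralizer ({d} : Set G) := hzle hwz
    have hsT : (⟨w, hwC⟩ : ↥(Subgroup.centralizer ({d} : Set G)))⁻¹ * t ∈
        pCore 3 ↥(Subgroup.centralizer ({d} : Set G)) :=
      mul_mem (inv_mem (hNle (by rw [Subgroup.mem_subgroupOf]; exact hwz))) ht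
    obtain ⟨k, hk'⟩ := hTp ⟨_, hsT⟩
    obtain ⟨s, hs⟩ : ∃ s : G, s = w⁻¹ * (t : G) := ⟨_, rfl⟩
    have hspow : s ^ (3 ^ k) = 1 := by
      have := congrArg (fun x : ↥(pCore 3 ↥(Subgroup.centralizer ({d} : Set G))) =>
        ((x : ↥(Subgroup.centralizer ({d} : Set G))) : G)) hk'
      rw [hs]
      simpa using this
    have hodd : Odd (3 ^ k) := Odd.pow (by decide)
    have hsd : Commute s d := by
      rw [hs]
      exact (hC w hwC).inv_left.mul_left htd
    have hse : s * e * s⁻¹ = e := by
      rw [hs]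
      calc w⁻¹ * (t : G) * e * (w⁻¹ * (t : G))⁻¹ = w⁻¹ * ((t : G) * e * (t : G)⁻¹) * w := by
            group
        _ = w⁻¹ * (w * e * w⁻¹) * w := by rw [hwe]
        _ = e := by group
    have hP : (Dset D d \ {e}).ncard = 2 := by
      rw [Set.ncard_sdiff_singleton_of_mem he, hk d hd]
    have hinv : ∀ u ∈ Dset D d \ {e}, s * u * s⁻¹ ∈ Dset D d \ {e} := by
      rintro u ⟨hu1, hu2⟩
      refine ⟨hconjD _ hsd u hu1, ?_⟩
      intro h1
      apply hu2
      have h2 : s * u * s⁻¹ = e := h1
      have : s * u * s⁻¹ = s * e * s⁻¹ := by rw [h2, hse]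
      exact conj_inj s this
    have hfix := fix_of_pair hodd hspow hP hinv
    have hsall : ∀ y ∈ Dset D d, Commute s y := by
      intro y hy
      have h1 : s * y * s⁻¹ = y := by
        by_cases hye : y = e
        · rw [hye]; exact hse
        · exact hfix y ⟨hy, hye⟩
      have h2 : s * y = y * s := by
        calc s * y = (s * y * s⁻¹) * s := by rw [inv_mul_cancel_right]
          _ = y * s := by rw [h1]
      exact h2
    have hsc := mem_center_of_fix h hd hlam hk hodd hspow hsd hsall
    rw [hcen, Subgroup.mem_bot, hs] at hsc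
    rw [← inv_mul_eq_one.mp hsc]
    exact hwz
  have hTN := le_antisymm hTle hNle
  rw [hTN]
  have hcard : Nat.card ((Subgroup.zpowers (f * e)).subgroupOf
      (Subgroup.centralizer ({d} : Set G))) = Nat.card (Subgroup.zpowers (f * e)) :=
    Nat.card_congr (Subgroup.subgroupOfEquivOfLe hzle).toEquiv
  rw [hcard, Nat.card_zpowers, hord]

end Cfsg.Agent.Lib.Helper25.TTDx
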