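import Mathlib
import Cfsg.Prelude
import Cfsg.Agent.Lib.Helper25.TTFischerB

/-!
# Fischer's 3-transposition groups: commuting sets of transpositions of maximum size

A commuting subset `E` of `D` of maximum size is `D ∩ T` for every 2-subgroup `T ⊇ E`; hence its
normalizer contains a Sylow 2-subgroup, controls fusion of such sets inside any subgroup containing
them, and (with the transitivity of `X_a` on `D_a`) is 2-transitive on `E`.
-/

set_option autoImplicit false

namespace Cfsg.Agent.Lib.Helper25.TTFischer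

open Cfsg Cfsg.Agent.Lib.Helper27.TT

variable {G : Type*} [Group G] {D : Set G}

/-- A commuting subset of `D` of maximum size. -/
def IsMaxComm (D E : Set G) : Prop :=
  E ⊆ D ∧ (∀ a ∈ E, ∀ b ∈ E, Commute a b) ∧
    ∀ E' : Set G, E' ⊆ D → (∀ a ∈ E', ∀ b ∈ E', Commute a b) → E'.ncard ≤ E.ncard

/-- A set of pairwise commuting involutions generates a 2-group. -/
theorem isPGroup_closure_of_commute {E : Set G} (hinv : ∀ a ∈ E, a * a = 1)
    (hc : ∀ a ∈ E, ∀ b ∈ E, Commute a b) : IsPGroup 2 (Subgroup.closure E) := by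
  have h1 : Subgroup.closure E ≤ Subgroup.centralizer E := by
    rw [Subgroup.closure_le]
    intro e he
    rw [SetLike.mem_coe, Subgroup.mem_centralizer_iff]
    intro x hx
    exact (hc x hx e he).eq
  have h2 : Subgroup.closure E ≤ Subgroup.centralizer (Subgroup.closure E : Set G) := by
    rw [Subgroup.closure_le]
    intro e he
    rw [SetLike.mem_coe, Subgroup.mem_centralizer_iff]
    intro g hg
    have := h1 hg
    rw [Subgroup.mem_centralizer_iff] at this
    exact (this e he).symm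
  have h3 : ∀ g ∈ Subgroup.closure E, g * g = 1 := by
    intro g hg
    induction hg using Subgroup.closure_induction with
    | mem x hx => exact hinv x hx
    | one => rw [one_mul]
    | mul x y hx hy ihx ihy =>
      have hxy : x * y = y * x := by
        have := h2 hy
        rw [Subgroup.mem_centralizer_iff] at this
        exact this x hx
      calc x * y * (x * y) = x * (y * x) * y := by simp only [mul_assoc]
        _ = x * (x * y) * y := by rw [hxy]
        _ = (x * x) * (y * y) := by simp only [mul_assoc]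
        _ = 1 := by rw [ihx, ihy, one_mul]
    | inv x hx ih =>
      rw [← mul_inv_rev, ih, inv_one]
  intro g
  refine ⟨1, ?_⟩
  apply Subtype.ext
  rw [pow_one, pow_two]
  exact h3 g.1 g.2

/-- Two members of `D` in a 2-subgroup commute. -/
theorem commute_of_mem_two_group (hD : IsThreeTranspositionSet D) {T : Subgroup G}
    (hT : IsPGroup 2 T) {a b : G} (ha : a ∈ D) (hb : b ∈ D) (haT : a ∈ T) (hbT : b ∈ T) :
    Commute a b := by
  rcases hD.2 a ha b hb with h2 | h3
  · exact commute_of_sq hD ha hb h2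
  · obtain ⟨k, hk⟩ := hT ⟨a * b, T.mul_mem haT hbT⟩
    have hk' : (a * b) ^ 2 ^ k = 1 := by
      have := congrArg Subtype.val hk
      simpa using this
    have ho1 := orderOf_dvd_of_pow_eq_one hk'
    have ho2 := orderOf_dvd_of_pow_eq_one h3
    have hcop : Nat.Coprime (2 ^ k) 3 := Nat.Coprime.pow_left k (by norm_num)
    have h1 : a * b = 1 := orderOf_eq_one_iff.mp (Nat.eq_one_of_dvd_coprimes hcop ho1 ho2)
    have h4 : a = b⁻¹ := eq_inv_of_mul_eq_one_left h1
    rw [inv_of_mem hD hb] at h4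
    rw [h4]

section

variable [Finite G]

/-- A maximum commuting set is `D ∩ T` for every 2-subgroup `T` containing it. -/
theorem IsMaxComm.eq_inter (hD : IsThreeTranspositionSet D) {E : Set G} (hE : IsMaxComm D E)
    {T : Subgroup G} (hT : IsPGroup 2 T) (hET : E ⊆ T) : E = {x : G | x ∈ D ∧ x ∈ T} := by
  have hsub : E ⊆ {x : G | x ∈ D ∧ x ∈ T} := fun x hx => ⟨hE.1 hx, hET hx⟩
  have hcard : {x : G | x ∈ D ∧ x ∈ T}.ncard ≤ E.ncard := by
    apply hE.2.2
    · exact fun x hx => hx.1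
    · intro a ha b hb
      exact commute_of_mem_two_group hD hT ha.1 hb.1 ha.2 hb.2
  exact Set.eq_of_subset_of_ncard_le hsub hcard (Set.toFinite _)

theorem IsMaxComm.isPGroup (hD : IsThreeTranspositionSet D) {E : Set G} (hE : IsMaxComm D E) :
    IsPGroup 2 (Subgroup.closure E) :=
  isPGroup_closure_of_commute (fun a ha => mul_self_of_mem hD (hE.1 ha)) hE.2.1

/-- An element mapping the finite set `E` into itself by conjugation normalizes it. -/
theorem mem_normalizer_of_conj_mem {E : Set G} {n : G} (hn : ∀ x ∈ E, n * x * n⁻¹ ∈ E) :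
    n ∈ Subgroup.normalizer E := by
  rw [Subgroup.mem_set_normalizer_iff]
  intro x
  constructor
  · exact hn x
  · intro hx
    have hsub : (fun x => n * x * n⁻¹) '' E ⊆ E := by
      rintro _ ⟨y, hy, rfl⟩
      exact hn y hy
    have hcard : E.ncard ≤ ((fun x => n * x * n⁻¹) '' E).ncard := by
      rw [Set.ncard_image_of_injective E (conj_inj n)]
    have heq := Set.eq_of_subset_of_ncard_le hsub hcard (Set.toFinite _)
    rw [← heq] at hx
    obtain ⟨y, hy, hyx⟩ := hx
    have : y = x := conj_inj n hyx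
    rw [← this]
    exact hy

/-- The normalizer of a maximum commuting set contains a Sylow 2-subgroup. -/
theorem IsMaxComm.exists_sylow_le (h : FHyp D) {E : Set G} (hE : IsMaxComm D E) :
    ∃ P : Sylow 2 G, (P : Subgroup G) ≤ Subgroup.normalizer E := by
  haveI : Fact (Nat.Prime 2) := ⟨Nat.prime_two⟩
  obtain ⟨P, hP⟩ := (hE.isPGroup h.hD.1).exists_le_sylow
  refine ⟨P, ?_⟩
  have hEP : E ⊆ (P : Subgroup G) := fun x hx => hP (Subgroup.subset_closure hx)
  have heq := hE.eq_inter h.hD.1 P.2 hEP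
  intro g hg
  apply mem_normalizer_of_conj_mem
  intro x hx
  rw [heq] at hx ⊢
  exact ⟨h.conj_mem g hx.1, Subgroup.mul_mem _ (Subgroup.mul_mem _ hg hx.2) (Subgroup.inv_mem _ hg)⟩

/-- A conjugate of a maximum commuting set is a maximum commuting set. -/
theorem IsMaxComm.conj (h : FHyp D) {E : Set G} (hE : IsMaxComm D E) (g : G) :
    IsMaxComm D (cjs g E) := by
  refine ⟨?_, ?_, ?_⟩
  · intro y hy
    have := h.conj_mem g (hE.1 hy)
    have e1 : g * (g⁻¹ * y * g) * g⁻¹ = y := by group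
    rwa [e1] at this
  · intro a ha b hb
    exact (commute_conj_inv_iff g a b).mp (hE.2.1 _ ha _ hb)
  · intro E' h1 h2
    rw [ncard_cjs]
    exact hE.2.2 E' h1 h2

/-- Fusion of maximum commuting sets inside a subgroup `H` is controlled by `N(E)`. -/
theorem IsMaxComm.fusion (h : FHyp D) {E : Set G} (hE : IsMaxComm D E) (H : Subgroup G)
    (hEH : E ⊆ H) (g : G) (hgH : cjs g E ⊆ H) :
    ∃ k ∈ H, k⁻¹ * g ∈ Subgroup.normalizer E := by
  haveI : Fact (Nat.Prime 2) := ⟨Nat.prime_two⟩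
  have hD3 := h.hD.1
  have hE' := hE.conj h g
  -- Sylow 2-subgroups of `H` containing `⟨E⟩`, `⟨E'⟩`
  have hU : IsPGroup 2 ((Subgroup.closure E).subgroupOf H) :=
    (hE.isPGroup hD3).comap_subtype
  have hU' : IsPGroup 2 ((Subgroup.closure (cjs g E)).subgroupOf H) :=
    (hE'.isPGroup hD3).comap_subtype
  obtain ⟨S, hS⟩ := hU.exists_le_sylow
  obtain ⟨S', hS'⟩ := hU'.exists_le_sylow
  obtain ⟨k, hk⟩ := MulAction.exists_smul_eq (↥H) S S'
  have hT : IsPGroup 2 ((S : Subgroup ↥H).map H.subtype) := S.2.map _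
  have hT' : IsPGroup 2 ((S' : Subgroup ↥H).map H.subtype) := S'.2.map _
  have hET : E ⊆ ((S : Subgroup ↥H).map H.subtype) := by
    intro x hx
    refine ⟨⟨x, hEH hx⟩, ?_, rfl⟩
    apply hS
    rw [Subgroup.mem_subgroupOf]
    exact Subgroup.subset_closure hx
  have hET' : cjs g E ⊆ ((S' : Subgroup ↥H).map H.subtype) := by
    intro x hx
    refine ⟨⟨x, hgH hx⟩, ?_, rfl⟩
    apply hS'
    rw [Subgroup.mem_subgroupOf]
    exact Subgroup.subset_closure hx
  have heq := hE.eq_inter hD3 hT hET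
  have heq' := hE'.eq_inter hD3 hT' hET'
  have hconj : ∀ y ∈ ((S : Subgroup ↥H).map H.subtype),
      (k : G) * y * (k : G)⁻¹ ∈ ((S' : Subgroup ↥H).map H.subtype) := by
    rintro _ ⟨s, hs, rfl⟩
    refine ⟨k * s * k⁻¹, ?_, rfl⟩
    rw [← hk, SetLike.mem_coe, Sylow.coe_subgroup_smul]
    have : k * s * k⁻¹ = MulAut.conj k • s := by rw [MulAut.smul_def, MulAut.conj_apply]
    rw [this]
    exact Subgroup.smul_mem_pointwise_smul _ _ _ hs
  refine ⟨(k : G), k.2, ?_⟩
  have hn : g⁻¹ * (k : G) ∈ Subgroup.normalizer E := by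
    apply mem_normalizer_of_conj_mem
    intro x hx
    have hx1 : x ∈ {x : G | x ∈ D ∧ x ∈ (S : Subgroup ↥H).map H.subtype} := by
      rw [← heq]; exact hx
    have hx2 : (k : G) * x * (k : G)⁻¹ ∈ cjs g E := by
      rw [heq']
      exact ⟨h.conj_mem _ hx1.1, hconj x hx1.2⟩
    rw [mem_cjs] at hx2
    have e1 : g⁻¹ * (k : G) * x * (g⁻¹ * (k : G))⁻¹ = g⁻¹ * ((k : G) * x * (k : G)⁻¹) * g := by
      group
    rw [e1]
    exact hx2
  have := Subgroup.inv_mem _ hn
  rwa [mul_inv_rev, inv_inv] at this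

theorem inv_conj_eq_of_commute {k c : G} (hkc : Commute k c) : k⁻¹ * c * k = c := by
  rw [mul_assoc, ← hkc.eq, ← mul_assoc, inv_mul_cancel, one_mul]

theorem commute_of_mem_centralizer {S : Set G} {k c : G} (hk : k ∈ Subgroup.centralizer S)
    (hc : c ∈ S) : Commute k c := by
  rw [Subgroup.mem_centralizer_iff] at hk
  exact (hk c hc).symm

/-- **Fischer**: the normalizer of a maximum commuting set `E` of transpositions is 2-transitive
on `E`. -/
theorem IsMaxComm.two_transitive (h : FHyp D) {E : Set G} (hE : IsMaxComm D E) :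
    ∀ a ∈ E, ∀ b ∈ E, ∀ c ∈ E, ∀ d ∈ E, a ≠ b → c ≠ d →
      ∃ g ∈ Subgroup.normalizer E, g * a * g⁻¹ = c ∧ g * b * g⁻¹ = d := by
  intro a ha b hb c hc d hd hab hcd
  -- step 1: move `a` to `c`
  obtain ⟨g1, hg1⟩ := class_trans h.hD a (hE.1 ha) c (hE.1 hc)
  have hH1 : E ⊆ Subgroup.centralizer ({c} : Set G) := by
    intro x hx
    rw [SetLike.mem_coe, Subgroup.mem_centralizer_iff]
    intro y hy
    rw [Set.mem_singleton_iff] at hy
    rw [hy]
    exact (hE.2.1 c hc x hx).eq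
  have hH1' : cjs g1 E ⊆ Subgroup.centralizer ({c} : Set G) := by
    intro x hx
    rw [SetLike.mem_coe, Subgroup.mem_centralizer_iff]
    intro y hy
    rw [Set.mem_singleton_iff] at hy
    rw [hy]
    have h1 : Commute a (g1⁻¹ * x * g1) := hE.2.1 a ha _ hx
    have h2 : Commute (g1 * a * g1⁻¹) (g1 * (g1⁻¹ * x * g1) * g1⁻¹) :=
      (Commute.conj_iff g1).mpr h1
    have e1 : g1 * (g1⁻¹ * x * g1) * g1⁻¹ = x := by group
    rw [hg1, e1] at h2
    exact h2.eq
  obtain ⟨k1, hk1, hn1⟩ := hE.fusion h _ hH1 g1 hH1'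
  have hk1c : Commute k1 c := commute_of_mem_centralizer hk1 rfl
  have hn1a : (k1⁻¹ * g1) * a * (k1⁻¹ * g1)⁻¹ = c := by
    have e1 : (k1⁻¹ * g1) * a * (k1⁻¹ * g1)⁻¹ = k1⁻¹ * (g1 * a * g1⁻¹) * k1 := by group
    rw [e1, hg1]
    exact inv_conj_eq_of_commute hk1c
  have hb'E : (k1⁻¹ * g1) * b * (k1⁻¹ * g1)⁻¹ ∈ E :=
    (Subgroup.mem_set_normalizer_iff.mp hn1 b).mp hb
  have hb'c : (k1⁻¹ * g1) * b * (k1⁻¹ * g1)⁻¹ ≠ c := by
    intro h1
    rw [← hn1a] at h1
    exact hab (conj_inj _ h1).symm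
  -- step 2: fix `c`, move the image of `b` to `d`
  have hb'D : (k1⁻¹ * g1) * b * (k1⁻¹ * g1)⁻¹ ∈ Dset D c :=
    ⟨hE.1 hb'E, hb'c, hE.2.1 c hc _ hb'E⟩
  have hdD : d ∈ Dset D c := ⟨hE.1 hd, fun h1 => hcd h1.symm, hE.2.1 c hc d hd⟩
  obtain ⟨g2, hg2, hg2b⟩ := h.trans (hE.1 hc) _ hb'D d hdD
  have hg2c : g2 * c * g2⁻¹ = c := by
    have := commute_of_mem_X hg2
    rw [this.eq, mul_inv_cancel_right]
  have hH2 : E ⊆ Subgroup.centralizer ({c, d} : Set G) := by
    intro x hx
    rw [SetLike.mem_coe, Subgroup.mem_centralizer_iff]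
    intro y hy
    rcases hy with hy | hy
    · rw [hy]; exact (hE.2.1 c hc x hx).eq
    · rw [Set.mem_singleton_iff] at hy; rw [hy]; exact (hE.2.1 d hd x hx).eq
  have hH2' : cjs g2 E ⊆ Subgroup.centralizer ({c, d} : Set G) := by
    intro x hx
    rw [SetLike.mem_coe, Subgroup.mem_centralizer_iff]
    have e1 : g2 * (g2⁻¹ * x * g2) * g2⁻¹ = x := by group
    intro y hy
    rcases hy with hy | hy
    · rw [hy]
      have h1 : Commute c (g2⁻¹ * x * g2) := hE.2.1 c hc _ hx
      have h2 := (Commute.conj_iff g2).mpr h1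
      rw [hg2c, e1] at h2
      exact h2.eq
    · rw [Set.mem_singleton_iff] at hy; rw [hy]
      have h1 : Commute ((k1⁻¹ * g1) * b * (k1⁻¹ * g1)⁻¹) (g2⁻¹ * x * g2) :=
        hE.2.1 _ hb'E _ hx
      have h2 := (Commute.conj_iff g2).mpr h1
      rw [hg2b, e1] at h2
      exact h2.eq
  obtain ⟨k2, hk2, hn2⟩ := hE.fusion h _ hH2 g2 hH2'
  have hk2c : Commute k2 c := commute_of_mem_centralizer hk2 (Or.inl rfl)
  have hk2d : Commute k2 d := commute_of_mem_centralizer hk2 (Or.inr rfl)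
  refine ⟨(k2⁻¹ * g2) * (k1⁻¹ * g1), Subgroup.mul_mem _ hn2 hn1, ?_, ?_⟩
  · have e1 : (k2⁻¹ * g2) * (k1⁻¹ * g1) * a * ((k2⁻¹ * g2) * (k1⁻¹ * g1))⁻¹ =
        k2⁻¹ * (g2 * ((k1⁻¹ * g1) * a * (k1⁻¹ * g1)⁻¹) * g2⁻¹) * k2 := by group
    rw [e1, hn1a, hg2c]
    exact inv_conj_eq_of_commute hk2c
  · have e1 : (k2⁻¹ * g2) * (k1⁻¹ * g1) * b * ((k2⁻¹ * g2) * (k1⁻¹ * g1))⁻¹ =
        k2⁻¹ * (g2 * ((k1⁻¹ * g1) * b * (k1⁻¹ * g1)⁻¹) * g2⁻¹) * k2 := by group
    rw [e1, hg2b]
    exact inv_conj_eq_of_commute hk2d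

end

end Cfsg.Agent.Lib.Helper25.TTFischer
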